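import Mathlib
import Groth.Agent.H48.GeomRed
import Groth.Agent.H13.ReducedBC

set_option autoImplicit false

universe u

namespace Groth.Agent.H90

open CategoryTheory AlgebraicGeometry Limits

/-- Every field extension of a perfect field is geometrically reduced. -/
theorem isGeometricallyReduced_of_perfectField' (K L : Type u) [Field K] [PerfectField K]
    [Field L] [Algebra K L] : Algebra.IsGeometricallyReduced K L := by
  apply Groth.Agent.H48.GeomRed.isGeometricallyReduced_of_purelyInseparable
  intro k' _ _ _ _
  have : Algebra.IsSeparable K k' := Algebra.IsAlgebraic.isSeparable_of_perfectField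
  exact Groth.Agent.H48.GeomRed.isReduced_tensor_of_separable k'

/-- A reduced scheme over a perfect field is geometrically reduced. -/
theorem geometricallyReduced_of_perfectField (K : Type u) [Field K] [PerfectField K]
    {X : Scheme.{u}} [IsReduced X] (f : X ⟶ Spec (CommRingCat.of K)) :
    GeometricallyReduced f := by
  rw [geometricallyReduced_iff, geometrically_iff_of_commRing_of_isClosedUnderIsomorphisms]
  intro L _ _
  have : Algebra.IsGeometricallyReduced K L := isGeometricallyReduced_of_perfectField' K L
  exact Groth.Agent.H13.isReduced_pullback_specMap_of_isGeometricallyReduced K L f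

/-- A reduced group scheme locally of finite type over a perfect field is smooth. -/
theorem smooth_of_reduced_perfect (K : Type u) [Field K] [PerfectField K]
    (G : Over (Spec (CommRingCat.of K))) [GrpObj G] [LocallyOfFiniteType G.hom]
    [IsReduced G.left] : Smooth G.hom := by
  have h1 : GeometricallyReduced G.hom := geometricallyReduced_of_perfectField K G.hom
  have h2 : GrpObj (Over.mk G.hom) := ‹GrpObj G›
  exact smooth_of_grpObj G.hom

end Groth.Agent.H90
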