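import Mathlib

set_option autoImplicit false

universe u

namespace Groth.Agent.H90

open CategoryTheory AlgebraicGeometry Limits

/-- Universal openness can be checked after base change along a surjective closed immersion
(e.g. a nilpotent thickening). -/
lemma universallyOpen_of_surjective_closedImmersion {X S S₀ : Scheme.{u}} (f : X ⟶ S)
    (j : S₀ ⟶ S) [IsClosedImmersion j] [Surjective j]
    (h : UniversallyOpen (pullback.snd f j)) : UniversallyOpen f := by
  constructor
  intro X' Y' i₁ i₂ f' hsq V hV
  -- the homeomorphism `t`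
  have ht1 : IsClosedImmersion (pullback.fst i₂ j) := inferInstance
  have ht2 : Surjective (pullback.fst i₂ j) := inferInstance
  have htopen : IsOpenMap (pullback.fst i₂ j) := by
    have hce := (pullback.fst i₂ j).isClosedEmbedding
    have hsurj : Function.Surjective (pullback.fst i₂ j) := (pullback.fst i₂ j).surjective
    exact (hce.isEmbedding.toHomeomorphOfSurjective hsurj).isOpenMap
  -- the base change `q` of `f'` along `t`
  have hq : IsOpenMap (pullback.snd f' (pullback.fst i₂ j)) := by
    have hbig : IsPullback (pullback.fst f' (pullback.fst i₂ j) ≫ i₁)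
        (pullback.snd f' (pullback.fst i₂ j)) f (pullback.fst i₂ j ≫ i₂) :=
      (IsPullback.of_hasPullback f' (pullback.fst i₂ j)).paste_horiz hsq.flip
    have hcond : pullback.fst i₂ j ≫ i₂ = pullback.snd i₂ j ≫ j := pullback.condition
    rw [hcond] at hbig
    have hw : (pullback.fst f' (pullback.fst i₂ j) ≫ i₁) ≫ f =
        (pullback.snd f' (pullback.fst i₂ j) ≫ pullback.snd i₂ j) ≫ j := by
      rw [hbig.w, Category.assoc]
    have hlift : pullback.lift _ _ hw ≫ pullback.fst f j =
        pullback.fst f' (pullback.fst i₂ j) ≫ i₁ := pullback.lift_fst _ _ _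
    rw [← hlift] at hbig
    have hleft := IsPullback.of_right hbig (pullback.lift_snd _ _ hw)
      (IsPullback.of_hasPullback f j)
    exact h.universally_isOpenMap _ _ _ hleft.flip
  have himg : ⇑f' '' V = ⇑(pullback.fst i₂ j) ''
      (⇑(pullback.snd f' (pullback.fst i₂ j)) ''
        (⇑(pullback.fst f' (pullback.fst i₂ j)) ⁻¹' V)) := by
    ext y
    constructor
    · rintro ⟨x, hxV, rfl⟩
      obtain ⟨y₀, hy₀⟩ := (pullback.fst i₂ j).surjective (f' x)
      obtain ⟨p, hp1, hp2⟩ := Scheme.Pullback.exists_preimage_pullback
        (f := f') (g := pullback.fst i₂ j) x y₀ hy₀.symm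
      refine ⟨y₀, ⟨p, ?_, hp2⟩, hy₀⟩
      rw [Set.mem_preimage, hp1]
      exact hxV
    · rintro ⟨_, ⟨p, hpV, rfl⟩, rfl⟩
      refine ⟨pullback.fst f' (pullback.fst i₂ j) p, hpV, ?_⟩
      rw [← Scheme.Hom.comp_apply, ← Scheme.Hom.comp_apply, pullback.condition]
  rw [himg]
  apply htopen
  apply hq
  exact hV.preimage (pullback.fst f' (pullback.fst i₂ j)).continuous

/-- Every morphism to the spectrum of an Artinian local ring is universally open. -/
theorem universallyOpen_of_artinian_local (A : Type u) [CommRing A] [IsArtinianRing A]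
    [IsLocalRing A] {T : Scheme.{u}} (h : T ⟶ Spec (CommRingCat.of A)) : UniversallyOpen h := by
  have hj1 : IsClosedImmersion (Spec.map (CommRingCat.ofHom (IsLocalRing.residue A))) :=
    IsClosedImmersion.spec_of_surjective _ Ideal.Quotient.mk_surjective
  have hsub : Subsingleton ↥(Spec (CommRingCat.of A)) := by
    change Subsingleton (PrimeSpectrum A)
    infer_instance
  have hj2 : Surjective (Spec.map (CommRingCat.ofHom (IsLocalRing.residue A))) := by
    constructor
    intro y
    exact ⟨IsLocalRing.closedPoint _, Subsingleton.elim _ _⟩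
  apply universallyOpen_of_surjective_closedImmersion h
    (Spec.map (CommRingCat.ofHom (IsLocalRing.residue A)))
  infer_instance

end Groth.Agent.H90
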