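import Mathlib

set_option autoImplicit false

universe u

namespace Groth.Agent.H90

open CategoryTheory CategoryTheory.Limits AlgebraicGeometry

/-- Every morphism to a scheme isomorphic to the spectrum of a field is universally open. -/
lemma universallyOpen_of_iso_spec_field {B : Scheme.{u}} {k : Type u} [Field k]
    (e : B ≅ Spec (CommRingCat.of k)) {T : Scheme.{u}} (h : T ⟶ B) : UniversallyOpen h := by
  have : UniversallyOpen (h ≫ e.hom) := inferInstance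
  exact (MorphismProperty.cancel_right_of_respectsIso @UniversallyOpen h e.hom).mp this

/-- moving the second coordinate into a dense subset while keeping the first. -/
lemma exists_mem_of_mem_closure_snd {P X Y B : Scheme.{u}} {π₁ : P ⟶ X} {π₂ : P ⟶ Y} {f : X ⟶ B}
    {g : Y ⟶ B} (sq : IsPullback π₁ π₂ f g)
    (hB : ∀ {T : Scheme.{u}} (h : T ⟶ B), UniversallyOpen h)
    (p : P) (W : Set P) (hW : IsOpen W) (hp : p ∈ W) (B' : Set Y) (hB' : π₂ p ∈ closure B') :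
    ∃ p₁ ∈ W, π₁ p₁ = π₁ p ∧ π₂ p₁ ∈ B' := by
  obtain ⟨ξ, hξ⟩ : ∃ ξ : Spec (X.residueField (π₁ p)) ⟶ X, ξ = X.fromSpecResidueField (π₁ p) :=
    ⟨_, rfl⟩
  have hξpt : ∀ y, ξ y = π₁ p := by
    intro y; rw [hξ, Scheme.fromSpecResidueField_apply]
  have sq' : IsPullback (pullback.snd ξ π₁) (pullback.fst ξ π₁) π₁ ξ :=
    (IsPullback.of_hasPullback ξ π₁).flip
  have sq'' : IsPullback (pullback.fst ξ π₁) (pullback.snd ξ π₁ ≫ π₂) (ξ ≫ f) g :=
    (sq'.paste_horiz sq.flip).flip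
  have huo : UniversallyOpen (pullback.snd ξ π₁ ≫ π₂) :=
    MorphismProperty.of_isPullback (P := @UniversallyOpen) sq'' (hB (ξ ≫ f))
  obtain ⟨q, -, hq2⟩ := Scheme.Pullback.exists_preimage_pullback (f := ξ) (g := π₁)
    (IsLocalRing.closedPoint _) p (hξpt _)
  have hopen : IsOpen ((pullback.snd ξ π₁ ≫ π₂) '' ((pullback.snd ξ π₁) ⁻¹' W)) :=
    (pullback.snd ξ π₁ ≫ π₂).isOpenMap _ (hW.preimage (pullback.snd ξ π₁).continuous)
  have hmem : π₂ p ∈ (pullback.snd ξ π₁ ≫ π₂) '' ((pullback.snd ξ π₁) ⁻¹' W) := by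
    refine ⟨q, ?_, ?_⟩
    · rw [Set.mem_preimage, hq2]; exact hp
    · rw [Scheme.Hom.comp_apply, hq2]
  obtain ⟨y, hy1, hy2⟩ := mem_closure_iff.mp hB' _ hopen hmem
  obtain ⟨q', hq'W, rfl⟩ := hy1
  refine ⟨pullback.snd ξ π₁ q', hq'W, ?_, ?_⟩
  · rw [← Scheme.Hom.comp_apply, ← pullback.condition, Scheme.Hom.comp_apply, hξpt]
  · rw [← Scheme.Hom.comp_apply]; exact hy2

/-- Over a field-like base, the closure of a "product" of subsets is the product of closures. -/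
lemma mem_closure_inter_preimage {P X Y B : Scheme.{u}} {π₁ : P ⟶ X} {π₂ : P ⟶ Y} {f : X ⟶ B}
    {g : Y ⟶ B} (sq : IsPullback π₁ π₂ f g)
    (hB : ∀ {T : Scheme.{u}} (h : T ⟶ B), UniversallyOpen h)
    (p : P) (A : Set X) (B' : Set Y) (hA : π₁ p ∈ closure A) (hB' : π₂ p ∈ closure B') :
    p ∈ closure (π₁ ⁻¹' A ∩ π₂ ⁻¹' B') := by
  rw [mem_closure_iff]
  intro W hW hp
  obtain ⟨p₁, hp₁W, hp₁1, hp₁2⟩ := exists_mem_of_mem_closure_snd sq hB p W hW hp B' hB'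
  obtain ⟨p₂, hp₂W, hp₂1, hp₂2⟩ := exists_mem_of_mem_closure_snd sq.flip hB p₁ W hW hp₁W A
    (by rw [hp₁1]; exact hA)
  exact ⟨p₂, hp₂W, hp₂2, by rw [Set.mem_preimage, hp₂1]; exact hp₁2⟩

end Groth.Agent.H90
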