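import Mathlib

set_option autoImplicit false

universe u

namespace Groth.Agent.H90

open CategoryTheory MonoidalCategory CartesianMonoidalCategory MonObj GrpObj AlgebraicGeometry
open Limits

section
variable {C : Type*} [Category C] [CartesianMonoidalCategory C] {A T : C} [GrpObj A]

/-- the shear map `(t, a) ↦ (t, f t * a)` -/
def shearHom (f : T ⟶ A) : T ⊗ A ⟶ T ⊗ A :=
  lift (fst T A) (lift (fst T A ≫ f) (snd T A) ≫ μ)

lemma shearHom_fst (f : T ⟶ A) : shearHom f ≫ fst T A = fst T A := lift_fst _ _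

lemma shearHom_snd (f : T ⟶ A) :
    shearHom f ≫ snd T A = lift (fst T A ≫ f) (snd T A) ≫ μ := lift_snd _ _

lemma shearHom_comp_inv (f : T ⟶ A) : shearHom f ≫ shearHom (f ≫ ι) = 𝟙 _ := by
  apply CartesianMonoidalCategory.hom_ext
  · rw [Category.assoc, shearHom_fst, shearHom_fst, Category.id_comp]
  · rw [Category.assoc, shearHom_snd, comp_lift_assoc, ← Category.assoc, shearHom_fst,
      shearHom_snd, Category.id_comp, ← Category.assoc, lift_inv_left_eq]

lemma shearHom_inv_comp (f : T ⟶ A) : shearHom (f ≫ ι) ≫ shearHom f = 𝟙 _ := by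
  have := shearHom_comp_inv (f ≫ ι)
  rwa [Category.assoc, GrpObj.inv_comp_inv, Category.comp_id] at this

instance (f : T ⟶ A) : IsIso (shearHom f) :=
  ⟨shearHom (f ≫ ι), shearHom_comp_inv f, shearHom_inv_comp f⟩

lemma tensorHom_comp_mul (f : T ⟶ A) {W' : C} (w : W' ⟶ A) :
    (f ⊗ₘ w) ≫ μ = (T ◁ w) ≫ shearHom f ≫ snd T A := by
  rw [shearHom_snd, ← Category.assoc, comp_lift, whiskerLeft_fst_assoc, whiskerLeft_snd,
    lift_fst_comp_snd_comp]

end

theorem isOpen_range_translate (K : Type u) [Field K] (G : Over (Spec (CommRingCat.of K)))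
    [GrpObj G] (W : G.left.Opens) (T : Scheme.{u}) (f : T ⟶ G.left) :
    IsOpen (Set.range ⇑(((Over.homMk f rfl : Over.mk (f ≫ G.hom) ⟶ G) ⊗ₘ
      (Over.homMk W.ι rfl : Over.mk (W.ι ≫ G.hom) ⟶ G)) ≫ μ[G]).left) := by
  rw [tensorHom_comp_mul]
  obtain ⟨f', hf'⟩ : ∃ f' : Over.mk (f ≫ G.hom) ⟶ G, f' = Over.homMk f rfl := ⟨_, rfl⟩
  obtain ⟨w, hw⟩ : ∃ w : Over.mk (W.ι ≫ G.hom) ⟶ G, w = Over.homMk W.ι rfl := ⟨_, rfl⟩
  rw [← hf', ← hw]
  have h1 : IsOpenImmersion ((Over.mk (f ≫ G.hom)) ◁ w).left := by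
    rw [Over.whiskerLeft_left]
    have : IsOpenImmersion w.left := by rw [hw]; exact inferInstanceAs (IsOpenImmersion W.ι)
    infer_instance
  have h2 : IsIso (shearHom f').left :=
    inferInstanceAs (IsIso ((Over.forget _).map (shearHom f')))
  have h3 : UniversallyOpen (snd (Over.mk (f ≫ G.hom)) G).left := by
    rw [Over.snd_left]
    infer_instance
  have hrange : Set.range ⇑(((Over.mk (f ≫ G.hom)) ◁ w) ≫ shearHom f' ≫
      snd (Over.mk (f ≫ G.hom)) G).left =
      (snd (Over.mk (f ≫ G.hom)) G).left '' ((shearHom f').left ''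
        Set.range ((Over.mk (f ≫ G.hom)) ◁ w).left) := by
    ext x
    simp only [Over.comp_left, Scheme.Hom.comp_apply, Set.mem_range, Set.mem_image,
      exists_exists_eq_and]
  rw [hrange]
  apply (snd (Over.mk (f ≫ G.hom)) G).left.isOpenMap
  apply (shearHom f').left.homeomorph.isOpenMap
  exact ((Over.mk (f ≫ G.hom)) ◁ w).left.isOpenEmbedding.isOpen_range

section
variable {C : Type*} [Category C] [CartesianMonoidalCategory C] {A : C} [GrpObj A]

lemma mul_eq_shearHom_snd : μ[A] = shearHom (𝟙 A) ≫ snd A A := by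
  rw [shearHom_snd, Category.comp_id, lift_fst_snd, Category.id_comp]

end

theorem isOpenMap_mul (K : Type u) [Field K] (G : Over (Spec (CommRingCat.of K))) [GrpObj G] :
    IsOpenMap (μ[G].left : (G ⊗ G).left ⟶ G.left) := by
  rw [mul_eq_shearHom_snd]
  have h2 : IsIso (shearHom (𝟙 G)).left :=
    inferInstanceAs (IsIso ((Over.forget _).map (shearHom (𝟙 G))))
  have h3 : UniversallyOpen (snd G G).left := by
    rw [Over.snd_left]
    infer_instance
  rw [Over.comp_left]
  exact ((snd G G).left.isOpenMap).comp (shearHom (𝟙 G)).left.homeomorph.isOpenMap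

end Groth.Agent.H90
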