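import Mathlib
import Groth.Agent.H90.GrpTranslate

set_option autoImplicit false

universe u

namespace Groth.Agent.H90

open CategoryTheory MonoidalCategory CartesianMonoidalCategory MonObj GrpObj AlgebraicGeometry
open Limits

section
variable {C : Type*} [Category C] [CartesianMonoidalCategory C] {A T : C} [GrpObj A]

/-- `(t, h) ↦ (x(t) h, h⁻¹)` -/
def splitHom (x : T ⟶ A) : T ⊗ A ⟶ A ⊗ A :=
  lift (shearHom x ≫ snd T A) (snd T A ≫ ι)

lemma splitHom_fst (x : T ⟶ A) : splitHom x ≫ fst A A = shearHom x ≫ snd T A := lift_fst _ _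
lemma splitHom_snd (x : T ⟶ A) : splitHom x ≫ snd A A = snd T A ≫ ι := lift_snd _ _

lemma splitHom_mul (x : T ⟶ A) : splitHom x ≫ μ = fst T A ≫ x := by
  unfold splitHom
  rw [shearHom_snd, lift_lift_assoc, lift_comp_inv_right, lift_comp_one_right]

end

/-- In a group scheme over a field, the product of two dense open subsets is everything. -/
theorem exists_mul_of_dense (K : Type u) [Field K] (G : Over (Spec (CommRingCat.of K))) [GrpObj G]
    (U V : G.left.Opens) (hU : Dense (U : Set G.left)) (hV : Dense (V : Set G.left))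
    (g : G.left) :
    ∃ z : ↥(G ⊗ G).left, (fst G G).left z ∈ U ∧ (snd G G).left z ∈ V ∧ μ[G].left z = g := by
  obtain ⟨x, hx⟩ : ∃ x : Over.mk (G.left.fromSpecResidueField g ≫ G.hom) ⟶ G,
      x = Over.homMk (G.left.fromSpecResidueField g) rfl := ⟨_, rfl⟩
  have hxleft : ∀ y, x.left y = g := by
    intro y
    rw [hx]
    exact Scheme.fromSpecResidueField_apply _ _
  -- open maps
  have h2 : IsIso (shearHom x).left :=
    inferInstanceAs (IsIso ((Over.forget _).map (shearHom x)))
  have h3 : UniversallyOpen (snd (Over.mk (G.left.fromSpecResidueField g ≫ G.hom)) G).left := by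
    rw [Over.snd_left]
    infer_instance
  have h4 : IsIso (ι[G]).left := inferInstanceAs (IsIso ((Over.forget _).map ι[G]))
  have hp1 : IsOpenMap (splitHom x ≫ fst G G).left := by
    rw [splitHom_fst, Over.comp_left]
    exact ((snd _ G).left.isOpenMap).comp (shearHom x).left.homeomorph.isOpenMap
  have hp2 : IsOpenMap (splitHom x ≫ snd G G).left := by
    rw [splitHom_snd, Over.comp_left]
    exact ((ι[G]).left.homeomorph.isOpenMap).comp (snd _ G).left.isOpenMap
  have hA : Dense ((splitHom x ≫ fst G G).left ⁻¹' (U : Set G.left)) := hU.preimage hp1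
  have hB : Dense ((splitHom x ≫ snd G G).left ⁻¹' (V : Set G.left)) := hV.preimage hp2
  have hBo : IsOpen ((splitHom x ≫ snd G G).left ⁻¹' (V : Set G.left)) :=
    V.2.preimage (splitHom x ≫ snd G G).left.continuous
  -- nonempty
  have hne : Nonempty ↥(Over.mk (G.left.fromSpecResidueField g ≫ G.hom) ⊗ G).left := by
    have hsub : Subsingleton ↥(Spec (CommRingCat.of K)) :=
      inferInstanceAs (Subsingleton (PrimeSpectrum K))
    obtain ⟨w, -, -⟩ := Scheme.Pullback.exists_preimage_pullback
      (f := (Over.mk (G.left.fromSpecResidueField g ≫ G.hom)).hom) (g := G.hom)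
      (IsLocalRing.closedPoint _) g (Subsingleton.elim _ _)
    exact ⟨w⟩
  obtain ⟨w, hwB, hwA⟩ := hA.inter_open_nonempty _ hBo hB.nonempty
  refine ⟨(splitHom x).left w, ?_, ?_, ?_⟩
  · exact hwA
  · exact hwB
  · have h5 : (splitHom x ≫ μ[G]).left w = g := by
      rw [splitHom_mul, Over.comp_left, Scheme.Hom.comp_apply, hxleft]
    exact h5

theorem image_mul_dense_eq_univ (K : Type u) [Field K] (G : Over (Spec (CommRingCat.of K)))
    [GrpObj G] (U V : G.left.Opens) (hU : Dense (U : Set G.left)) (hV : Dense (V : Set G.left)) :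
    μ[G].left '' ((fst G G).left ⁻¹' (U : Set G.left) ∩ (snd G G).left ⁻¹' (V : Set G.left)) =
      Set.univ := by
  rw [Set.eq_univ_iff_forall]
  intro g
  obtain ⟨z, hz1, hz2, hz3⟩ := exists_mul_of_dense K G U V hU hV g
  exact ⟨z, ⟨hz1, hz2⟩, hz3⟩

/-- An irreducible group scheme over a field is quasi-compact. -/
theorem compactSpace_of_irreducible (K : Type u) [Field K] (G : Over (Spec (CommRingCat.of K)))
    [GrpObj G] [IrreducibleSpace G.left] : CompactSpace G.left := by
  obtain ⟨g⟩ := (inferInstance : Nonempty G.left)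
  obtain ⟨U, hU, hgU, -⟩ := exists_isAffineOpen_mem_and_subset (x := g) (U := ⊤) trivial
  have hUd : Dense (U : Set G.left) := U.2.dense ⟨g, hgU⟩
  have himg := image_mul_dense_eq_univ K G U U hUd hUd
  -- the source of the product map is affine, hence compact
  have hUaff : IsAffine (U : Scheme.{u}) := hU
  let W : Over (Spec (CommRingCat.of K)) := Over.mk (U.ι ≫ G.hom)
  let j : W ⟶ G := Over.homMk U.ι rfl
  have hrange : Set.range (j ⊗ₘ j).left =
      (fst G G).left ⁻¹' (U : Set G.left) ∩ (snd G G).left ⁻¹' (U : Set G.left) := by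
    rw [Over.tensorHom_left, Scheme.Pullback.range_map]
    have : Set.range j.left = (U : Set G.left) := Scheme.Opens.range_ι U
    rw [this]
    rfl
  have hcomp : CompactSpace ↥(W ⊗ W).left := by
    have : IsAffine (W ⊗ W).left := by
      change IsAffine (pullback (U.ι ≫ G.hom) (U.ι ≫ G.hom))
      infer_instance
    infer_instance
  constructor
  rw [← himg, ← hrange, ← Set.range_comp]
  exact isCompact_range ((μ[G].left.continuous).comp (j ⊗ₘ j).left.continuous)

end Groth.Agent.H90
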