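import Mathlib
import Groth.Prelude.Def_Grpd

set_option autoImplicit false

universe u

namespace Groth.Agent.H90

open CategoryTheory CategoryTheory.Limits AlgebraicGeometry

section
variable {S : Scheme.{u}} (G : Grpd.GroupoidScheme S)

/-- composition of `T`-points -/
noncomputable def gcomp {T : Scheme.{u}} (α β : T ⟶ G.R) (h : α ≫ G.s = β ≫ G.t) : T ⟶ G.R :=
  pullback.lift α β h ≫ G.c

lemma gcomp_congr {T : Scheme.{u}} {α α' β β' : T ⟶ G.R} (hα : α = α') (hβ : β = β')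
    (h : α ≫ G.s = β ≫ G.t) (h' : α' ≫ G.s = β' ≫ G.t) : gcomp G α β h = gcomp G α' β' h' := by
  subst hα hβ
  rfl

lemma gcomp_s {T : Scheme.{u}} (α β : T ⟶ G.R) (h : α ≫ G.s = β ≫ G.t) :
    gcomp G α β h ≫ G.s = β ≫ G.s := G.comp_s α β h

lemma gcomp_t {T : Scheme.{u}} (α β : T ⟶ G.R) (h : α ≫ G.s = β ≫ G.t) :
    gcomp G α β h ≫ G.t = α ≫ G.t := G.comp_t α β h

lemma comp_gcomp {T T' : Scheme.{u}} (x : T' ⟶ T) (α β : T ⟶ G.R) (h : α ≫ G.s = β ≫ G.t) :
    x ≫ gcomp G α β h = gcomp G (x ≫ α) (x ≫ β)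
      (by rw [Category.assoc, Category.assoc, h]) := by
  unfold gcomp
  rw [← Category.assoc]
  congr 1
  apply pullback.hom_ext
  · rw [Category.assoc, pullback.lift_fst, pullback.lift_fst]
  · rw [Category.assoc, pullback.lift_snd, pullback.lift_snd]

lemma gcomp_assoc {T : Scheme.{u}} (α β γ : T ⟶ G.R) (h₁ : α ≫ G.s = β ≫ G.t)
    (h₂ : β ≫ G.s = γ ≫ G.t) :
    gcomp G (gcomp G α β h₁) γ ((gcomp_s G α β h₁).trans h₂) =
      gcomp G α (gcomp G β γ h₂) (h₁.trans (gcomp_t G β γ h₂).symm) :=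
  G.assoc α β γ h₁ h₂

lemma gcomp_e {T : Scheme.{u}} (α : T ⟶ G.R) (β : T ⟶ G.R) (hβ : β = α ≫ G.s ≫ G.e)
    (h : α ≫ G.s = β ≫ G.t) : gcomp G α β h = α := by
  subst hβ
  exact G.comp_e α

lemma e_gcomp {T : Scheme.{u}} (α : T ⟶ G.R) (β : T ⟶ G.R) (hβ : β = α ≫ G.t ≫ G.e)
    (h : β ≫ G.s = α ≫ G.t) : gcomp G β α h = α := by
  subst hβ
  exact G.e_comp α

lemma gcomp_i {T : Scheme.{u}} (α : T ⟶ G.R) (β : T ⟶ G.R) (hβ : β = α ≫ G.i)
    (h : α ≫ G.s = β ≫ G.t) : gcomp G α β h = α ≫ G.t ≫ G.e := by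
  subst hβ
  exact G.comp_i α

lemma i_gcomp {T : Scheme.{u}} (α : T ⟶ G.R) (β : T ⟶ G.R) (hβ : β = α ≫ G.i)
    (h : β ≫ G.s = α ≫ G.t) : gcomp G β α h = α ≫ G.s ≫ G.e := by
  subst hβ
  exact G.i_comp α

/-- right translation by a `T`-point `γ` of `R`: the fibre of `s` over `γ ≫ t` maps to the fibre
of `s` over `γ ≫ s`. -/
noncomputable def rtrans {T : Scheme.{u}} (γ : T ⟶ G.R) (a b : T ⟶ G.U) (ha : γ ≫ G.t = a)
    (hb : γ ≫ G.s = b) : pullback G.s a ⟶ pullback G.s b :=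
  pullback.lift
    (gcomp G (pullback.fst G.s a) (pullback.snd G.s a ≫ γ)
      (by rw [Category.assoc, ha, pullback.condition]))
    (pullback.snd G.s a)
    (by rw [gcomp_s, Category.assoc, hb])

lemma rtrans_fst {T : Scheme.{u}} (γ : T ⟶ G.R) (a b : T ⟶ G.U) (ha : γ ≫ G.t = a)
    (hb : γ ≫ G.s = b) :
    rtrans G γ a b ha hb ≫ pullback.fst G.s b =
      gcomp G (pullback.fst G.s a) (pullback.snd G.s a ≫ γ)
        (by rw [Category.assoc, ha, pullback.condition]) :=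
  pullback.lift_fst _ _ _

lemma rtrans_snd {T : Scheme.{u}} (γ : T ⟶ G.R) (a b : T ⟶ G.U) (ha : γ ≫ G.t = a)
    (hb : γ ≫ G.s = b) :
    rtrans G γ a b ha hb ≫ pullback.snd G.s b = pullback.snd G.s a :=
  pullback.lift_snd _ _ _

lemma rtrans_rtrans_inv {T : Scheme.{u}} (γ : T ⟶ G.R) (a b : T ⟶ G.U) (ha : γ ≫ G.t = a)
    (hb : γ ≫ G.s = b) :
    rtrans G γ a b ha hb ≫ rtrans G (γ ≫ G.i) b a
      (by rw [Category.assoc, G.i_t, hb]) (by rw [Category.assoc, G.i_s, ha]) = 𝟙 _ := by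
  apply pullback.hom_ext
  · rw [Category.assoc, rtrans_fst, comp_gcomp, Category.id_comp]
    have h1 : rtrans G γ a b ha hb ≫ pullback.fst G.s b =
        gcomp G (pullback.fst G.s a) (pullback.snd G.s a ≫ γ)
          (by rw [Category.assoc, ha, pullback.condition]) := rtrans_fst G γ a b ha hb
    have h2 : rtrans G γ a b ha hb ≫ pullback.snd G.s b ≫ γ ≫ G.i =
        (pullback.snd G.s a ≫ γ) ≫ G.i := by
      rw [← Category.assoc, rtrans_snd, Category.assoc]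
    rw [gcomp_congr G h1 h2 _
      ((gcomp_s G _ _ _).trans (by rw [Category.assoc, Category.assoc, Category.assoc, G.i_t]))]
    rw [gcomp_assoc G (pullback.fst G.s a) (pullback.snd G.s a ≫ γ)
      ((pullback.snd G.s a ≫ γ) ≫ G.i)
      (by rw [Category.assoc, ha, pullback.condition])
      (by rw [Category.assoc, Category.assoc, Category.assoc, G.i_t])]
    apply gcomp_e
    rw [gcomp_i G (pullback.snd G.s a ≫ γ) _ rfl, Category.assoc, ← Category.assoc γ, ha,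
      ← Category.assoc, ← pullback.condition, Category.assoc]
  · rw [Category.assoc, rtrans_snd, rtrans_snd, Category.id_comp]

lemma rtrans_inv_rtrans {T : Scheme.{u}} (γ : T ⟶ G.R) (a b : T ⟶ G.U) (ha : γ ≫ G.t = a)
    (hb : γ ≫ G.s = b) :
    rtrans G (γ ≫ G.i) b a
      (by rw [Category.assoc, G.i_t, hb]) (by rw [Category.assoc, G.i_s, ha]) ≫
      rtrans G γ a b ha hb = 𝟙 _ := by
  apply pullback.hom_ext
  · rw [Category.assoc, rtrans_fst, comp_gcomp, Category.id_comp]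
    have h1 : rtrans G (γ ≫ G.i) b a
        (by rw [Category.assoc, G.i_t, hb]) (by rw [Category.assoc, G.i_s, ha]) ≫
          pullback.fst G.s a =
        gcomp G (pullback.fst G.s b) (pullback.snd G.s b ≫ γ ≫ G.i)
          (by rw [Category.assoc, Category.assoc, G.i_t, hb, pullback.condition]) :=
      rtrans_fst G (γ ≫ G.i) b a _ _
    have h2 : rtrans G (γ ≫ G.i) b a
        (by rw [Category.assoc, G.i_t, hb]) (by rw [Category.assoc, G.i_s, ha]) ≫
          pullback.snd G.s a ≫ γ = pullback.snd G.s b ≫ γ := by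
      rw [← Category.assoc, rtrans_snd]
    rw [gcomp_congr G h1 h2 _
      ((gcomp_s G _ _ _).trans (by rw [Category.assoc, Category.assoc, Category.assoc, G.i_s]))]
    rw [gcomp_assoc G (pullback.fst G.s b) (pullback.snd G.s b ≫ γ ≫ G.i)
      (pullback.snd G.s b ≫ γ)
      (by rw [Category.assoc, Category.assoc, G.i_t, hb, pullback.condition])
      (by rw [Category.assoc, Category.assoc, Category.assoc, G.i_s])]
    apply gcomp_e
    rw [i_gcomp G (pullback.snd G.s b ≫ γ) _ (by rw [Category.assoc]), Category.assoc,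
      ← Category.assoc γ, hb, ← Category.assoc, ← pullback.condition, Category.assoc]
  · rw [Category.assoc, rtrans_snd, rtrans_snd, Category.id_comp]

/-- the right-translation isomorphism -/
noncomputable def rtransIso {T : Scheme.{u}} (γ : T ⟶ G.R) (a b : T ⟶ G.U) (ha : γ ≫ G.t = a)
    (hb : γ ≫ G.s = b) : pullback G.s a ≅ pullback G.s b where
  hom := rtrans G γ a b ha hb
  inv := rtrans G (γ ≫ G.i) b a
      (by rw [Category.assoc, G.i_t, hb]) (by rw [Category.assoc, G.i_s, ha])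
  hom_inv_id := rtrans_rtrans_inv G γ a b ha hb
  inv_hom_id := rtrans_inv_rtrans G γ a b ha hb

theorem exists_iso_fibres (S : Scheme.{u}) (G : Grpd.GroupoidScheme S) (r r' : G.R)
    (h : G.t r = G.t r') :
    ∃ (k : Type u) (_ : Field k) (a b : Spec (CommRingCat.of k) ⟶ G.U)
      (φ : pullback G.s a ≅ pullback G.s b) (p : ↑(pullback G.s a)),
      a (IsLocalRing.closedPoint k) = G.s r ∧ b (IsLocalRing.closedPoint k) = G.s r' ∧
      φ.hom ≫ pullback.snd G.s b = pullback.snd G.s a ∧ pullback.fst G.s a p = r ∧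
      pullback.fst G.s b (φ.hom p) = r' := by
  obtain ⟨z, hz1, hz2⟩ := Scheme.Pullback.exists_preimage_pullback r r' h
  obtain ⟨ρ, hρdef⟩ : ∃ ρ : Spec (CommRingCat.of ((pullback G.t G.t).residueField z)) ⟶ G.R,
    ρ = (pullback G.t G.t).fromSpecResidueField z ≫ pullback.fst G.t G.t := ⟨_, rfl⟩
  obtain ⟨ρ', hρ'def⟩ : ∃ ρ' : Spec (CommRingCat.of ((pullback G.t G.t).residueField z)) ⟶ G.R,
    ρ' = (pullback G.t G.t).fromSpecResidueField z ≫ pullback.snd G.t G.t := ⟨_, rfl⟩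
  have hρ : ρ ≫ G.t = ρ' ≫ G.t := by
    rw [hρdef, hρ'def, Category.assoc, Category.assoc, pullback.condition]
  have hρz : ∀ y, ρ y = r := by
    intro y
    rw [hρdef, Scheme.Hom.comp_apply, Scheme.fromSpecResidueField_apply]
    exact hz1
  have hρ'z : ∀ y, ρ' y = r' := by
    intro y
    rw [hρ'def, Scheme.Hom.comp_apply, Scheme.fromSpecResidueField_apply]
    exact hz2
  have hγ0 : (ρ ≫ G.i) ≫ G.s = ρ' ≫ G.t := by rw [Category.assoc, G.i_s]; exact hρ
  obtain ⟨γ, hγdef⟩ : ∃ γ, γ = gcomp G (ρ ≫ G.i) ρ' hγ0 := ⟨_, rfl⟩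
  have hγt : γ ≫ G.t = ρ ≫ G.s := by rw [hγdef, gcomp_t, Category.assoc, G.i_t]
  have hγs : γ ≫ G.s = ρ' ≫ G.s := by rw [hγdef]; exact gcomp_s G _ _ _
  have hργ : gcomp G ρ γ hγt.symm = ρ' := by
    have h1 := gcomp_assoc G ρ (ρ ≫ G.i) ρ' (by rw [Category.assoc, G.i_t]) hγ0
    subst hγdef
    rw [← h1]
    apply e_gcomp
    rw [gcomp_i G ρ _ rfl, ← Category.assoc, hρ, Category.assoc]
  obtain ⟨p0, hp0⟩ : ∃ p0 : Spec (CommRingCat.of ((pullback G.t G.t).residueField z)) ⟶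
      pullback G.s (ρ ≫ G.s), p0 = pullback.lift ρ (𝟙 _) (by rw [Category.id_comp]) := ⟨_, rfl⟩
  have hp0fst : p0 ≫ pullback.fst G.s (ρ ≫ G.s) = ρ := by rw [hp0, pullback.lift_fst]
  have hp0snd : p0 ≫ pullback.snd G.s (ρ ≫ G.s) = 𝟙 _ := by rw [hp0, pullback.lift_snd]
  refine ⟨(pullback G.t G.t).residueField z, inferInstance, ρ ≫ G.s, ρ' ≫ G.s,
    rtransIso G γ _ _ hγt hγs, p0 (IsLocalRing.closedPoint _), ?_, ?_, ?_, ?_, ?_⟩
  · rw [Scheme.Hom.comp_apply, hρz]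
  · rw [Scheme.Hom.comp_apply, hρ'z]
  · exact rtrans_snd G γ _ _ hγt hγs
  · rw [← Scheme.Hom.comp_apply, hp0fst, hρz]
  · rw [← Scheme.Hom.comp_apply, ← Scheme.Hom.comp_apply]
    have : p0 ≫ (rtransIso G γ _ _ hγt hγs).hom ≫ pullback.fst G.s (ρ' ≫ G.s) = ρ' := by
      change p0 ≫ rtrans G γ _ _ hγt hγs ≫ pullback.fst G.s (ρ' ≫ G.s) = ρ'
      rw [rtrans_fst, comp_gcomp]
      rw [← hργ]
      apply gcomp_congr
      · exact hp0fst
      · rw [← Category.assoc, hp0snd, Category.id_comp]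
    rw [this, hρ'z]

end

end Groth.Agent.H90
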