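import Mathlib
import Groth.Prelude.Def_Grpd
import Groth.Agent.H90.FieldProd
import Groth.Agent.H90.GrpdFibre

set_option autoImplicit false

universe u

namespace Groth.Agent.H90

open CategoryTheory CategoryTheory.Limits AlgebraicGeometry

lemma exists_common_point {A A' X Y P : Scheme.{u}} (a : A ⟶ X) (b : A' ⟶ Y) (u : P ⟶ X)
    (v : P ⟶ Y) (x₁ : A) (x₂ : A') (p : P) (h1 : a x₁ = u p) (h2 : b x₂ = v p) :
    ∃ (T : Scheme.{u}) (q : T) (α₁ : T ⟶ A) (α₂ : T ⟶ A') (π : T ⟶ P),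
      π ≫ u = α₁ ≫ a ∧ π ≫ v = α₂ ≫ b ∧ π q = p := by
  obtain ⟨q₁, hq₁1, hq₁2⟩ := Scheme.Pullback.exists_preimage_pullback (f := a) (g := u) x₁ p h1
  have h3 : (pullback.snd a u ≫ v) q₁ = b x₂ := by
    rw [Scheme.Hom.comp_apply, hq₁2, h2]
  obtain ⟨q, hq1, hq2⟩ := Scheme.Pullback.exists_preimage_pullback
    (f := pullback.snd a u ≫ v) (g := b) q₁ x₂ h3
  refine ⟨pullback (pullback.snd a u ≫ v) b, q,
    pullback.fst (pullback.snd a u ≫ v) b ≫ pullback.fst a u,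
    pullback.snd (pullback.snd a u ≫ v) b,
    pullback.fst (pullback.snd a u ≫ v) b ≫ pullback.snd a u, ?_, ?_, ?_⟩
  · rw [Category.assoc, Category.assoc, pullback.condition]
  · rw [Category.assoc, pullback.condition]
  · rw [Scheme.Hom.comp_apply, hq1, hq₁2]

theorem comp_mem_closure_range {S : Scheme.{u}} (G₁ G₂ : Grpd.GroupoidScheme S)
    (f : Grpd.GroupoidScheme.Hom G₁ G₂) [IsIso f.fU] (k : Type u) [Field k]
    (eU : G₂.U ≅ Spec (CommRingCat.of k)) (p : ↑(pullback G₂.s G₂.t))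
    (h₁ : pullback.fst G₂.s G₂.t p ∈ closure (Set.range ⇑f.fR))
    (h₂ : pullback.snd G₂.s G₂.t p ∈ closure (Set.range ⇑f.fR)) :
    G₂.c p ∈ closure (Set.range ⇑f.fR) := by
  have hB : ∀ {T : Scheme.{u}} (h : T ⟶ G₂.U), UniversallyOpen h :=
    fun h => universallyOpen_of_iso_spec_field eU h
  have hp := mem_closure_inter_preimage (IsPullback.of_hasPullback G₂.s G₂.t) hB p _ _ h₁ h₂
  have hsub : G₂.c '' ((pullback.fst G₂.s G₂.t) ⁻¹' (Set.range ⇑f.fR) ∩
      (pullback.snd G₂.s G₂.t) ⁻¹' (Set.range ⇑f.fR)) ⊆ Set.range ⇑f.fR := by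
    rintro _ ⟨p', ⟨⟨x₁, hx₁⟩, ⟨x₂, hx₂⟩⟩, rfl⟩
    obtain ⟨T, q, α₁, α₂, π, hπ1, hπ2, hπq⟩ := exists_common_point f.fR f.fR
      (pullback.fst G₂.s G₂.t) (pullback.snd G₂.s G₂.t) x₁ x₂ p' hx₁ hx₂
    have hα : α₁ ≫ G₁.s = α₂ ≫ G₁.t := by
      rw [← cancel_mono f.fU, Category.assoc, Category.assoc, ← f.comm_s, ← f.comm_t,
        ← Category.assoc, ← Category.assoc, ← hπ1, ← hπ2, Category.assoc, Category.assoc,
        pullback.condition]
    have hc := f.comm_c α₁ α₂ hα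
    have hπ : pullback.lift (α₁ ≫ f.fR) (α₂ ≫ f.fR)
        (by rw [Category.assoc, Category.assoc, f.comm_s, f.comm_t, ← Category.assoc,
          ← Category.assoc, hα]) = π := by
      apply pullback.hom_ext
      · rw [pullback.lift_fst, hπ1]
      · rw [pullback.lift_snd, hπ2]
    rw [hπ] at hc
    refine ⟨(pullback.lift α₁ α₂ hα ≫ G₁.c) q, ?_⟩
    rw [← Scheme.Hom.comp_apply, hc, Scheme.Hom.comp_apply, hπq]
  exact closure_mono hsub (image_closure_subset_closure_image G₂.c.continuous ⟨p, hp, rfl⟩)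

theorem pr02_mem_closure_range_j {S : Scheme.{u}} (G : Grpd.GroupoidScheme S) (k : Type u)
    [Field k] (eU : G.U ≅ Spec (CommRingCat.of k))
    (pr02 : pullback (pullback.snd G.pU G.pU) (pullback.fst G.pU G.pU) ⟶ pullback G.pU G.pU)
    (h0 : pr02 ≫ pullback.fst G.pU G.pU =
      pullback.fst (pullback.snd G.pU G.pU) (pullback.fst G.pU G.pU) ≫ pullback.fst G.pU G.pU)
    (h1 : pr02 ≫ pullback.snd G.pU G.pU =
      pullback.snd (pullback.snd G.pU G.pU) (pullback.fst G.pU G.pU) ≫ pullback.snd G.pU G.pU)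
    (p : ↑(pullback (pullback.snd G.pU G.pU) (pullback.fst G.pU G.pU)))
    (h₁ : pullback.fst (pullback.snd G.pU G.pU) (pullback.fst G.pU G.pU) p ∈
      closure (Set.range ⇑G.j))
    (h₂ : pullback.snd (pullback.snd G.pU G.pU) (pullback.fst G.pU G.pU) p ∈
      closure (Set.range ⇑G.j)) :
    pr02 p ∈ closure (Set.range ⇑G.j) := by
  have hB : ∀ {T : Scheme.{u}} (h : T ⟶ G.U), UniversallyOpen h :=
    fun h => universallyOpen_of_iso_spec_field eU h
  have hp := mem_closure_inter_preimage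
    (IsPullback.of_hasPullback (pullback.snd G.pU G.pU) (pullback.fst G.pU G.pU)) hB p _ _ h₁ h₂
  have hjfst : G.j ≫ pullback.fst G.pU G.pU = G.t := pullback.lift_fst _ _ _
  have hjsnd : G.j ≫ pullback.snd G.pU G.pU = G.s := pullback.lift_snd _ _ _
  have hsub : pr02 '' ((pullback.fst (pullback.snd G.pU G.pU) (pullback.fst G.pU G.pU)) ⁻¹'
      (Set.range ⇑G.j) ∩ (pullback.snd (pullback.snd G.pU G.pU) (pullback.fst G.pU G.pU)) ⁻¹'
      (Set.range ⇑G.j)) ⊆ Set.range ⇑G.j := by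
    rintro _ ⟨p', ⟨⟨x₁, hx₁⟩, ⟨x₂, hx₂⟩⟩, rfl⟩
    obtain ⟨T, q, α₁, α₂, π, hπ1, hπ2, hπq⟩ := exists_common_point G.j G.j
      (pullback.fst (pullback.snd G.pU G.pU) (pullback.fst G.pU G.pU))
      (pullback.snd (pullback.snd G.pU G.pU) (pullback.fst G.pU G.pU)) x₁ x₂ p' hx₁ hx₂
    have hα : α₁ ≫ G.s = α₂ ≫ G.t := by
      rw [← hjsnd, ← hjfst, ← Category.assoc, ← Category.assoc, ← hπ1, ← hπ2, Category.assoc,
        Category.assoc, pullback.condition]
    have hγ : gcomp G α₁ α₂ hα ≫ G.j = π ≫ pr02 := by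
      apply pullback.hom_ext
      · rw [Category.assoc, Category.assoc, hjfst, gcomp_t, h0, ← Category.assoc π, hπ1,
          Category.assoc, hjfst]
      · rw [Category.assoc, Category.assoc, hjsnd, gcomp_s, h1, ← Category.assoc π, hπ2,
          Category.assoc, hjsnd]
    refine ⟨(gcomp G α₁ α₂ hα) q, ?_⟩
    rw [← Scheme.Hom.comp_apply, hγ, Scheme.Hom.comp_apply, hπq]
  exact closure_mono hsub (image_closure_subset_closure_image pr02.continuous ⟨p, hp, rfl⟩)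

end Groth.Agent.H90
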