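import Mathlib
import Groth.Agent.H90.GrpTranslate
import Groth.Agent.H90.GrpDense
import Groth.Agent.H90.GrpdClosure
import Groth.Agent.H90.FieldProd
import Groth.Agent.H90.ArtinBase

/-!
Group schemes over a base `S` such that every morphism to `S` is universally open
(a field, a local Artinian ring, ...): translation arguments.
-/

set_option autoImplicit false

universe u

namespace Groth.Agent.H90.Base

open CategoryTheory MonoidalCategory CartesianMonoidalCategory MonObj GrpObj AlgebraicGeometry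
open Limits
open Groth.Agent.H90

variable {S : Scheme.{u}}

lemma universallyOpen_snd (hS : ∀ {T : Scheme.{u}} (h : T ⟶ S), UniversallyOpen h)
    (T G : Over S) : UniversallyOpen (snd T G).left := by
  rw [Over.snd_left]
  have := hS T.hom
  infer_instance

lemma range_whiskerLeft_left {T W G : Over S} (w : W ⟶ G) :
    Set.range (T ◁ w).left = (snd T G).left ⁻¹' Set.range w.left := by
  rw [Over.whiskerLeft_left, Scheme.Pullback.range_map]
  have : Set.range (𝟙 T.left : T.left ⟶ T.left) = Set.univ := by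
    rw [Set.range_eq_univ]; intro y; exact ⟨y, rfl⟩
  rw [this, Set.preimage_univ, Set.univ_inter]
  rfl

lemma range_tensorHom_left {A B G G' : Over S} (a : A ⟶ G) (b : B ⟶ G') :
    Set.range (a ⊗ₘ b).left =
      (fst G G').left ⁻¹' Set.range a.left ∩ (snd G G').left ⁻¹' Set.range b.left := by
  rw [Over.tensorHom_left, Scheme.Pullback.range_map]
  rfl

/-- Translating a morphism with open image by any morphism: `(t, w) ↦ f(t) ψ(w)` has open image. -/
theorem isOpen_range_translate_of_isOpen (hS : ∀ {T : Scheme.{u}} (h : T ⟶ S), UniversallyOpen h)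
    (G : Over S) [GrpObj G] {T W : Over S}
    (f : T ⟶ G) (w : W ⟶ G) (hw : IsOpen (Set.range w.left)) :
    IsOpen (Set.range ((f ⊗ₘ w) ≫ μ[G]).left) := by
  rw [tensorHom_comp_mul]
  have h2 : IsIso (shearHom f).left := inferInstanceAs (IsIso ((Over.forget _).map (shearHom f)))
  have h3 : UniversallyOpen (snd T G).left := universallyOpen_snd hS T G
  have hrange : Set.range ((T ◁ w) ≫ shearHom f ≫ snd T G).left =
      (snd T G).left '' ((shearHom f).left '' Set.range (T ◁ w).left) := by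
    ext x
    simp only [Over.comp_left, Scheme.Hom.comp_apply, Set.mem_range, Set.mem_image,
      exists_exists_eq_and]
  rw [hrange]
  apply (snd T G).left.isOpenMap
  apply (shearHom f).left.homeomorph.isOpenMap
  rw [range_whiskerLeft_left]
  exact hw.preimage (snd T G).left.continuous

/-- If a translate `x · ψ(H)` meets `ψ(H)`, then `x ∈ ψ(H)`. -/
theorem mem_range_of_translate_inter
    (H G : Over S) [GrpObj H] [GrpObj G] (ψ : H ⟶ G) [IsMonHom ψ]
    {T : Over S} (xT : T ⟶ G) (x : G.left)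
    (hxTleft : ∀ y, xT.left y = x) (w : ↥(T ⊗ H).left) (h' : H.left)
    (hh' : ψ.left h' = ((xT ⊗ₘ ψ) ≫ μ[G]).left w) : x ∈ Set.range ψ.left := by
  obtain ⟨Q, q, α, β, π, hπ1, hπ2, hπq⟩ := exists_common_point
    ((xT ⊗ₘ ψ) ≫ μ[G]).left ψ.left (𝟙 G.left) (𝟙 G.left) w h'
    (((xT ⊗ₘ ψ) ≫ μ[G]).left w) rfl hh'
  have hαβ : α ≫ ((xT ⊗ₘ ψ) ≫ μ[G]).left = β ≫ ψ.left := by
    rw [← hπ1, ← hπ2]
  have hw1 : α ≫ (T ⊗ H).hom = β ≫ H.hom := by
    rw [← Over.w ((xT ⊗ₘ ψ) ≫ μ[G]), ← Category.assoc, hαβ, Category.assoc, Over.w ψ]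
  obtain ⟨αo, hαo⟩ : ∃ αo : Over.mk (β ≫ H.hom) ⟶ T ⊗ H, αo.left = α :=
    ⟨Over.homMk α hw1, rfl⟩
  obtain ⟨βo, hβo⟩ : ∃ βo : Over.mk (β ≫ H.hom) ⟶ H, βo.left = β := ⟨Over.homMk β rfl, rfl⟩
  have hO : αo ≫ (xT ⊗ₘ ψ) ≫ μ[G] = βo ≫ ψ := by
    apply Over.OverMorphism.ext
    have e1 : (αo ≫ (xT ⊗ₘ ψ) ≫ μ[G]).left = α ≫ ((xT ⊗ₘ ψ) ≫ μ[G]).left := by
      rw [Over.comp_left, hαo]
    have e2 : (βo ≫ ψ).left = β ≫ ψ.left := by rw [Over.comp_left, hβo]
    rw [e1, e2]
    exact hαβ
  have h1 : αo ≫ (xT ⊗ₘ ψ) ≫ μ[G] =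
      lift ((αo ≫ fst _ _) ≫ xT) ((αo ≫ snd _ _) ≫ ψ) ≫ μ[G] := by
    rw [← Category.assoc, ← lift_map, ← comp_lift, lift_fst_snd, Category.comp_id]
  rw [h1] at hO
  have h2 := (eq_lift_inv_right ((αo ≫ fst _ _) ≫ xT) (βo ≫ ψ) ((αo ≫ snd _ _) ≫ ψ)).mpr hO
  have h3 : lift (βo ≫ ψ) (((αo ≫ snd _ _) ≫ ψ) ≫ ι) ≫ μ[G] =
      (lift βo ((αo ≫ snd _ _) ≫ ι) ≫ μ[H]) ≫ ψ := by
    have e1 : ((αo ≫ snd _ _) ≫ ψ) ≫ ι[G] = ((αo ≫ snd _ _) ≫ ι[H]) ≫ ψ := by
      simp only [Category.assoc, inv_hom]
    rw [e1, Category.assoc (lift _ _) μ ψ, IsMonHom.mul_hom, lift_map_assoc]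
  rw [h3] at h2
  have h4 := congrArg (fun m => m.left q) h2
  simp only [Over.comp_left, Scheme.Hom.comp_apply] at h4
  rw [hxTleft] at h4
  rw [h4]
  exact ⟨_, rfl⟩

/-- the point `x` as a `Spec κ(x)`-valued point of `G`. -/
lemma exists_point_hom (G : Over S) (x : G.left) :
    ∃ (T : Over S) (xT : T ⟶ G) (_ : T.left), (∀ y, xT.left y = x) := by
  refine ⟨Over.mk (G.left.fromSpecResidueField x ≫ G.hom),
    Over.homMk (G.left.fromSpecResidueField x) rfl, IsLocalRing.closedPoint _, ?_⟩
  intro y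
  exact Scheme.fromSpecResidueField_apply _ _

/-- `x` lies in its own translate of a subgroup. -/
lemma mem_range_translate (H G : Over S) [GrpObj H] [GrpObj G] (ψ : H ⟶ G) [IsMonHom ψ]
    {T : Over S} (xT : T ⟶ G) (t₀ : T.left) :
    xT.left t₀ ∈ Set.range ((xT ⊗ₘ ψ) ≫ μ[G]).left := by
  have h1 : lift (𝟙 _) (toUnit _ ≫ η[H]) ≫ (xT ⊗ₘ ψ) ≫ μ[G] = xT := by
    rw [lift_map_assoc, Category.id_comp, Category.assoc, IsMonHom.one_hom,
      lift_comp_one_right]
  have h2 := congrArg (fun m => m.left t₀) h1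
  simp only [Over.comp_left, Scheme.Hom.comp_apply] at h2
  exact ⟨_, h2⟩

/-- A homomorphism of group schemes with open image has closed image. -/
theorem isClosed_range_of_isOpen (hS : ∀ {T : Scheme.{u}} (h : T ⟶ S), UniversallyOpen h)
    (H G : Over S) [GrpObj H] [GrpObj G] (ψ : H ⟶ G) [IsMonHom ψ]
    (h : IsOpen (Set.range ψ.left)) : IsClosed (Set.range ψ.left) := by
  rw [← isOpen_compl_iff, isOpen_iff_forall_mem_open]
  intro x hx
  obtain ⟨T, xT, t₀, hxTleft⟩ := exists_point_hom G x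
  refine ⟨Set.range ((xT ⊗ₘ ψ) ≫ μ[G]).left, ?_,
    isOpen_range_translate_of_isOpen hS G xT ψ h, ?_⟩
  · rintro y ⟨w, rfl⟩ ⟨h', hh'⟩
    exact hx (mem_range_of_translate_inter H G ψ xT x hxTleft w h' hh')
  · have := mem_range_translate H G ψ xT t₀
    rwa [hxTleft] at this

/-- A homomorphism of group schemes with locally closed image has closed image. -/
theorem isClosed_range_of_isLocallyClosed
    (hS : ∀ {T : Scheme.{u}} (h : T ⟶ S), UniversallyOpen h)
    (H G : Over S) [GrpObj H] [GrpObj G] (i : H ⟶ G) [IsMonHom i]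
    (hi : IsLocallyClosed (Set.range i.left)) : IsClosed (Set.range i.left) := by
  obtain ⟨W, Z, hW, hZ, hWZ⟩ := hi
  have hUW : Set.range i.left ⊆ W := by rw [hWZ]; exact Set.inter_subset_left
  have hWX : W ∩ closure (Set.range i.left) ⊆ Set.range i.left := by
    intro y hy
    rw [hWZ]
    refine ⟨hy.1, ?_⟩
    have : closure (Set.range i.left) ⊆ Z := by
      apply closure_minimal _ hZ
      rw [hWZ]; exact Set.inter_subset_right
    exact this hy.2
  -- the closure is stable under multiplication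
  have hmul : ∀ z : ↥(G ⊗ G).left, (fst G G).left z ∈ closure (Set.range i.left) →
      (snd G G).left z ∈ closure (Set.range i.left) →
      μ[G].left z ∈ closure (Set.range i.left) := by
    intro z hz1 hz2
    have sq : IsPullback (fst G G).left (snd G G).left G.hom G.hom := by
      rw [Over.fst_left, Over.snd_left]
      exact IsPullback.of_hasPullback _ _
    have hz := mem_closure_inter_preimage sq (fun h => hS h) z _ _ hz1 hz2
    refine map_mem_closure μ[G].left.continuous hz ?_
    intro z' hz'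
    rw [← range_tensorHom_left] at hz'
    obtain ⟨w, rfl⟩ := hz'
    refine ⟨μ[H].left w, ?_⟩
    rw [← Scheme.Hom.comp_apply, ← Scheme.Hom.comp_apply, ← Over.comp_left, ← Over.comp_left,
      IsMonHom.mul_hom]
  have hinv : ∀ g : G.left, g ∈ closure (Set.range i.left) →
      ι[G].left g ∈ closure (Set.range i.left) := by
    intro g hg
    refine map_mem_closure ι[G].left.continuous hg ?_
    rintro _ ⟨h, rfl⟩
    refine ⟨ι[H].left h, ?_⟩
    rw [← Scheme.Hom.comp_apply, ← Scheme.Hom.comp_apply, ← Over.comp_left, ← Over.comp_left,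
      inv_hom]
  have hshear : ∀ {T : Over S} (f : T ⟶ G),
      (∀ t, f.left t ∈ closure (Set.range i.left)) → ∀ p : ↥(T ⊗ G).left,
      (snd T G).left p ∈ closure (Set.range i.left) →
      (shearHom f ≫ snd T G).left p ∈ closure (Set.range i.left) := by
    intro T f hf p hp
    rw [shearHom_snd, Over.comp_left, Scheme.Hom.comp_apply]
    apply hmul
    · rw [← Scheme.Hom.comp_apply, ← Over.comp_left, lift_fst, Over.comp_left,
        Scheme.Hom.comp_apply]
      exact hf _
    · rw [← Scheme.Hom.comp_apply, ← Over.comp_left, lift_snd]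
      exact hp
  -- main argument
  rw [← closure_subset_iff_isClosed]
  intro x hx
  obtain ⟨T, xT, t₀, hxTleft⟩ := exists_point_hom G x
  have h2 : IsIso (shearHom xT).left := inferInstanceAs (IsIso ((Over.forget _).map (shearHom xT)))
  have h3 : UniversallyOpen (snd T G).left := universallyOpen_snd hS T G
  -- the open set O'
  have hO' : IsOpen ((shearHom xT ≫ snd _ G).left '' ((snd _ G).left ⁻¹' W)) := by
    rw [Over.comp_left]
    have : ⇑((shearHom xT).left ≫ (snd _ G).left) = ⇑(snd _ G).left ∘ ⇑(shearHom xT).left := by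
      ext y; rfl
    rw [this, Set.image_comp]
    apply (snd _ G).left.isOpenMap
    apply (shearHom xT).left.homeomorph.isOpenMap
    exact hW.preimage (snd _ G).left.continuous
  have hxO' : x ∈ (shearHom xT ≫ snd _ G).left '' ((snd _ G).left ⁻¹' W) := by
    have h1 : lift (𝟙 _) (toUnit _ ≫ η[H]) ≫ (_ ◁ i) ≫ shearHom xT ≫ snd _ G = xT := by
      rw [← tensorHom_comp_mul, lift_map_assoc, Category.id_comp, Category.assoc,
        IsMonHom.one_hom, lift_comp_one_right]
    have h2 := congrArg (fun m => m.left t₀) h1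
    simp only [Over.comp_left, Scheme.Hom.comp_apply] at h2
    rw [hxTleft] at h2
    refine ⟨_, ?_, h2⟩
    apply hUW
    rw [← Scheme.Hom.comp_apply, ← Over.comp_left, whiskerLeft_snd,
      Over.comp_left, Scheme.Hom.comp_apply]
    exact ⟨_, rfl⟩
  obtain ⟨u, ⟨p, hpW, hpu⟩, huU⟩ := mem_closure_iff.mp hx _ hO' hxO'
  have hpX : (snd _ G).left p ∈ closure (Set.range i.left) := by
    have h5 := hshear (xT ≫ ι[G]) (fun t => by
      rw [Over.comp_left, Scheme.Hom.comp_apply]
      apply hinv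
      rw [hxTleft]; exact hx) ((shearHom xT).left p) (by
      rw [← Scheme.Hom.comp_apply, ← Over.comp_left, hpu]
      exact subset_closure huU)
    rw [← Scheme.Hom.comp_apply, ← Over.comp_left, ← Category.assoc, shearHom_comp_inv,
      Category.id_comp] at h5
    exact h5
  have hpU : (snd _ G).left p ∈ Set.range i.left := hWX ⟨hpW, hpX⟩
  rw [← Set.mem_preimage, ← range_whiskerLeft_left] at hpU
  obtain ⟨w', rfl⟩ := hpU
  obtain ⟨h', hh'⟩ := huU
  apply mem_range_of_translate_inter H G i xT x hxTleft w' h'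
  rw [hh', ← hpu, tensorHom_comp_mul, ← Scheme.Hom.comp_apply, ← Over.comp_left]

/-- A homomorphism of group schemes which is an immersion is a closed immersion. -/
theorem isClosedImmersion_of_isImmersion
    (hS : ∀ {T : Scheme.{u}} (h : T ⟶ S), UniversallyOpen h)
    (H G : Over S) [GrpObj H] [GrpObj G] (i : H ⟶ G) [IsMonHom i]
    [IsImmersion i.left] : IsClosedImmersion i.left :=
  IsClosedImmersion.of_isPreimmersion _
    (isClosed_range_of_isLocallyClosed hS H G i i.left.isLocallyClosed_range)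

/-- The product of two dense open subsets of a group scheme is everything. -/
theorem exists_mul_of_dense (hS : ∀ {T : Scheme.{u}} (h : T ⟶ S), UniversallyOpen h)
    (G : Over S) [GrpObj G]
    (U V : G.left.Opens) (hU : Dense (U : Set G.left)) (hV : Dense (V : Set G.left))
    (g : G.left) :
    ∃ z : ↥(G ⊗ G).left, (fst G G).left z ∈ U ∧ (snd G G).left z ∈ V ∧ μ[G].left z = g := by
  obtain ⟨T, x, t₀, hxleft⟩ := exists_point_hom G g
  have h2 : IsIso (shearHom x).left :=
    inferInstanceAs (IsIso ((Over.forget _).map (shearHom x)))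
  have h3 : UniversallyOpen (snd T G).left := universallyOpen_snd hS T G
  have h4 : IsIso (ι[G]).left := inferInstanceAs (IsIso ((Over.forget _).map ι[G]))
  have hp1 : IsOpenMap (splitHom x ≫ fst G G).left := by
    rw [splitHom_fst, Over.comp_left]
    exact ((snd _ G).left.isOpenMap).comp (shearHom x).left.homeomorph.isOpenMap
  have hp2 : IsOpenMap (splitHom x ≫ snd G G).left := by
    rw [splitHom_snd, Over.comp_left]
    exact ((ι[G]).left.homeomorph.isOpenMap).comp (snd _ G).left.isOpenMap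
  have hA : Dense ((splitHom x ≫ fst G G).left ⁻¹' (U : Set G.left)) := hU.preimage hp1
  have hB : Dense ((splitHom x ≫ snd G G).left ⁻¹' (V : Set G.left)) := hV.preimage hp2
  have hBo : IsOpen ((splitHom x ≫ snd G G).left ⁻¹' (V : Set G.left)) :=
    V.2.preimage (splitHom x ≫ snd G G).left.continuous
  have hne : Nonempty ↥(T ⊗ G).left := by
    have hw : T.hom t₀ = G.hom g := by
      rw [← hxleft t₀, ← Scheme.Hom.comp_apply, Over.w]
    obtain ⟨w, -, -⟩ := Scheme.Pullback.exists_preimage_pullback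
      (f := T.hom) (g := G.hom) t₀ g hw
    exact ⟨w⟩
  obtain ⟨w, hwB, hwA⟩ := hA.inter_open_nonempty _ hBo hB.nonempty
  refine ⟨(splitHom x).left w, ?_, ?_, ?_⟩
  · exact hwA
  · exact hwB
  · have h5 : (splitHom x ≫ μ[G]).left w = g := by
      rw [splitHom_mul, Over.comp_left, Scheme.Hom.comp_apply, hxleft]
    exact h5

/-- Products of dominant morphisms are dominant. -/
theorem denseRange_tensorHom (hS : ∀ {T : Scheme.{u}} (h : T ⟶ S), UniversallyOpen h)
    {X X' Y Y' : Over S} (f : X' ⟶ X) (g : Y' ⟶ Y)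
    (hf : DenseRange f.left) (hg : DenseRange g.left) :
    DenseRange (f ⊗ₘ g).left := by
  intro z
  rw [range_tensorHom_left]
  have sq : IsPullback (fst X Y).left (snd X Y).left X.hom Y.hom := by
    rw [Over.fst_left, Over.snd_left]
    exact IsPullback.of_hasPullback _ _
  exact mem_closure_inter_preimage sq (fun h => hS h) z _ _ (hf _) (hg _)

end Groth.Agent.H90.Base
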