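import Mathlib
import Groth.Agent.H40.FlatDesc

/-!
Flatness of a morphism of schemes at a point: base change, composition and descent.
-/

set_option autoImplicit false

universe u

namespace Groth.Agent.H90

open CategoryTheory AlgebraicGeometry Limits

variable {X Y Z : Scheme.{u}}

/-- `f` is flat at the point `x` (the stalk map is flat). -/
def FlatAt (f : X ⟶ Y) (x : X) : Prop := (f.stalkMap x).hom.Flat

lemma flatAt_of_flat (f : X ⟶ Y) [Flat f] (x : X) : FlatAt f x := Flat.stalkMap f x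

lemma flat_of_forall_flatAt (f : X ⟶ Y) (h : ∀ x, FlatAt f x) : Flat f := Flat.of_stalkMap f h

lemma FlatAt.comp {f : X ⟶ Y} {g : Y ⟶ Z} {x : X} (hf : FlatAt f x) (hg : FlatAt g (f x)) :
    FlatAt (f ≫ g) x := by
  unfold FlatAt
  rw [Scheme.Hom.stalkMap_comp]
  exact RingHom.Flat.comp hg hf

/-- Descent of pointwise flatness along a flat morphism of the source. -/
lemma FlatAt.of_comp (p : X ⟶ Y) (f : Y ⟶ Z) [Flat p] (z : X) (h : FlatAt (p ≫ f) z) :
    FlatAt f (p z) := by
  unfold FlatAt at h ⊢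
  rw [Scheme.Hom.stalkMap_comp] at h
  have h2 : (p.stalkMap z).hom.Flat := Flat.stalkMap p z
  have : IsLocalHom (p.stalkMap z).hom := p.toLRSHom.prop z
  exact Groth.Agent.H40.ringHom_flat_of_comp (f.stalkMap (p z)).hom (p.stalkMap z).hom h2 h

instance flat_fromSpecStalk (X : Scheme.{u}) (x : X) : Flat (X.fromSpecStalk x) := by
  obtain ⟨_, ⟨U, hU, rfl⟩, hxU, -⟩ := X.isBasis_affineOpens.exists_subset_of_mem_open
    (Set.mem_univ x) isOpen_univ
  rw [← hU.fromSpecStalk_eq_fromSpecStalk hxU, IsAffineOpen.fromSpecStalk]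
  have : Flat (Spec.map (X.presheaf.germ U x hxU)) := by
    rw [Flat.SpecMap_iff]
    let _ : Algebra Γ(X, U) (X.presheaf.stalk x) := (X.presheaf.germ U x hxU).hom.toAlgebra
    have := hU.isLocalization_stalk ⟨x, hxU⟩
    exact IsLocalization.flat (X.presheaf.stalk x) (hU.primeIdealOf ⟨x, hxU⟩).asIdeal.primeCompl
  infer_instance

/-- Cancelling a monomorphism on the right preserves flatness. -/
lemma flat_of_comp_mono {W P Q : Scheme.{u}} (h : W ⟶ P) (j : P ⟶ Q) [Mono j]
    (hf : Flat (h ≫ j)) : Flat h := by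
  have sq : IsPullback h (𝟙 W) j (h ≫ j) := IsPullback.of_vert_isIso_mono ⟨by simp⟩
  exact MorphismProperty.of_isPullback sq.flip hf

lemma flatAt_iff_flat_fromSpecStalk (f : X ⟶ Y) (x : X) :
    FlatAt f x ↔ Flat (X.fromSpecStalk x ≫ f) := by
  rw [← Scheme.SpecMap_stalkMap_fromSpecStalk]
  constructor
  · intro h
    have : Flat (Spec.map (f.stalkMap x)) := Flat.SpecMap_iff.mpr h
    infer_instance
  · intro h
    have := flat_of_comp_mono _ _ h
    exact Flat.SpecMap_iff.mp this

/-- Pointwise flatness is stable under base change. -/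
lemma FlatAt.of_isPullback {X' Y' : Scheme.{u}} {f' : X' ⟶ Y'} {p : X' ⟶ X} {g : Y' ⟶ Y}
    {f : X ⟶ Y} (sq : IsPullback f' p g f) (z : X') (h : FlatAt f (p z)) : FlatAt f' z := by
  rw [flatAt_iff_flat_fromSpecStalk] at h ⊢
  let j := X.fromSpecStalk (p z)
  let jz := X'.fromSpecStalk z
  let hW : Spec (X'.presheaf.stalk z) ⟶ pullback j p :=
    pullback.lift (Spec.map (p.stalkMap z)) jz (Scheme.SpecMap_stalkMap_fromSpecStalk p)
  have e1 : hW ≫ pullback.snd j p = jz := pullback.lift_snd _ _ _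
  have hflat1 : Flat hW := by
    apply flat_of_comp_mono hW (pullback.snd j p)
    rw [e1]
    infer_instance
  have sq2 : IsPullback (pullback.snd j p ≫ f') (pullback.fst j p) g (j ≫ f) :=
    (IsPullback.of_hasPullback j p).flip.paste_horiz sq
  have hflat2 : Flat (pullback.snd j p ≫ f') := MorphismProperty.of_isPullback sq2.flip h
  have e2 : X'.fromSpecStalk z ≫ f' = hW ≫ pullback.snd j p ≫ f' := by
    rw [← Category.assoc, e1]
  rw [e2]
  infer_instance

end Groth.Agent.H90
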