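import Mathlib
import Groth.Agent.H90.GrpBase

/-!
Every point of a group scheme over a field is a product of two maximal points.
-/

set_option autoImplicit false

universe u

namespace Groth.Agent.H90

open CategoryTheory MonoidalCategory CartesianMonoidalCategory MonObj GrpObj AlgebraicGeometry
open Limits

/-- Every nonempty scheme has a maximal point. -/
lemma exists_maximal_point (P : Scheme.{u}) [Nonempty P] :
    ∃ w : P, closure {w} ∈ irreducibleComponents P := by
  obtain ⟨p⟩ := (inferInstance : Nonempty P)
  have h1 : IsIrreducible (irreducibleComponent p) := isIrreducible_irreducibleComponent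
  have h2 : IsClosed (irreducibleComponent p) := isClosed_irreducibleComponent
  obtain ⟨w, hw⟩ := QuasiSober.sober h1 h2
  refine ⟨w, ?_⟩
  rw [hw.def]
  exact irreducibleComponent_mem_irreducibleComponents p

/-- A point is maximal iff it has no proper generizations. -/
lemma closure_mem_irreducibleComponents_of_forall (P : Scheme.{u}) (w : P)
    (h : ∀ y : P, y ⤳ w → y = w) : closure {w} ∈ irreducibleComponents P := by
  have h1 : IsIrreducible (irreducibleComponent w) := isIrreducible_irreducibleComponent
  have h2 : IsClosed (irreducibleComponent w) := isClosed_irreducibleComponent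
  obtain ⟨y, hy⟩ := QuasiSober.sober h1 h2
  have hyw : y ⤳ w := by
    rw [specializes_iff_mem_closure, hy.def]
    exact mem_irreducibleComponent
  rw [← h y hyw, hy.def]
  exact irreducibleComponent_mem_irreducibleComponents w

lemma eq_of_specializes_of_maximal (P : Scheme.{u}) (w : P)
    (hw : closure {w} ∈ irreducibleComponents P) (y : P) (hy : y ⤳ w) : y = w := by
  have h1 : closure {w} ⊆ closure {y} := by
    rw [specializes_iff_mem_closure] at hy
    exact closure_minimal (Set.singleton_subset_iff.mpr hy) isClosed_closure
  have h2 : closure {y} ⊆ closure {w} :=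
    hw.2 (isIrreducible_singleton.closure) h1
  have h3 : closure {y} = closure {w} := Set.Subset.antisymm h2 h1
  have h4 : Inseparable y w := inseparable_iff_closure_eq.mpr h3
  exact h4.eq

/-- Generalizing maps send maximal points to maximal points. -/
lemma maximal_map_of_generalizing {P Q : Scheme.{u}} (φ : P ⟶ Q) (hφ : GeneralizingMap φ)
    (w : P) (hw : closure {w} ∈ irreducibleComponents P) :
    closure {φ w} ∈ irreducibleComponents Q := by
  apply closure_mem_irreducibleComponents_of_forall
  intro y hy
  obtain ⟨w', hw', rfl⟩ := hφ hy
  rw [eq_of_specializes_of_maximal P w hw w' hw']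

/-- Every point of a group scheme over a field is a product of two maximal points. -/
theorem exists_maximal_mul (K : Type u) [Field K] (G : Over (Spec (CommRingCat.of K)))
    [GrpObj G] (x : G.left) :
    ∃ z : ↥(G ⊗ G).left, μ[G].left z = x ∧
      closure {(fst G G).left z} ∈ irreducibleComponents ↥G.left ∧
      closure {(snd G G).left z} ∈ irreducibleComponents ↥G.left := by
  obtain ⟨T, xT, t₀, hxT⟩ := Base.exists_point_hom G x
  have hne : Nonempty ↥(T ⊗ G).left := by
    have hw : T.hom t₀ = G.hom x := by
      rw [← hxT t₀, ← Scheme.Hom.comp_apply, Over.w]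
    obtain ⟨w, -, -⟩ := Scheme.Pullback.exists_preimage_pullback
      (f := T.hom) (g := G.hom) t₀ x hw
    exact ⟨w⟩
  obtain ⟨w, hw⟩ := exists_maximal_point (T ⊗ G).left
  have hflatT : Flat T.hom := inferInstance
  have hsnd : Flat (snd T G).left := by
    rw [Over.snd_left]
    infer_instance
  have h2 : IsIso (shearHom xT).left :=
    inferInstanceAs (IsIso ((Over.forget _).map (shearHom xT)))
  have h4 : IsIso (ι[G]).left := inferInstanceAs (IsIso ((Over.forget _).map ι[G]))
  have hf1 : Flat (splitHom xT ≫ fst G G).left := by
    rw [splitHom_fst, Over.comp_left]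
    infer_instance
  have hf2 : Flat (splitHom xT ≫ snd G G).left := by
    rw [splitHom_snd, Over.comp_left]
    infer_instance
  refine ⟨(splitHom xT).left w, ?_, ?_, ?_⟩
  · rw [← Scheme.Hom.comp_apply, ← Over.comp_left, splitHom_mul, Over.comp_left,
      Scheme.Hom.comp_apply, hxT]
  · have := maximal_map_of_generalizing _ (Flat.generalizingMap (splitHom xT ≫ fst G G).left) w hw
    rwa [Over.comp_left, Scheme.Hom.comp_apply] at this
  · have := maximal_map_of_generalizing _ (Flat.generalizingMap (splitHom xT ≫ snd G G).left) w hw
    rwa [Over.comp_left, Scheme.Hom.comp_apply] at this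

end Groth.Agent.H90
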