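import Mathlib
import Groth.Agent.H90.GrpBase

/-!
A group scheme over a field has an open and closed "subgroup" (as a subset) containing the
identity which is a countable union of affine opens.
-/

set_option autoImplicit false

universe u

namespace Groth.Agent.H90

open CategoryTheory MonoidalCategory CartesianMonoidalCategory MonObj GrpObj AlgebraicGeometry
open Limits

section
variable {S : Scheme.{u}}

/-- If `v = f(t) · w(s)`, then `f(t) = v · w(s)⁻¹`: the point-level form. -/
lemma exists_of_mem_range_translate (G : Over S) [GrpObj G] {T W : Over S} (f : T ⟶ G)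
    (w : W ⟶ G) (p : ↥(T ⊗ W).left) :
    ∃ z : ↥(G ⊗ G).left, (fst G G).left z = ((f ⊗ₘ w) ≫ μ[G]).left p ∧
      (snd G G).left z = ι[G].left (w.left ((snd T W).left p)) ∧
      μ[G].left z = f.left ((fst T W).left p) := by
  refine ⟨(lift ((f ⊗ₘ w) ≫ μ[G]) (snd T W ≫ w ≫ ι[G])).left p, ?_, ?_, ?_⟩
  · rw [← Scheme.Hom.comp_apply, ← Over.comp_left, lift_fst]
  · rw [← Scheme.Hom.comp_apply, ← Over.comp_left, lift_snd]
    simp only [Over.comp_left, Scheme.Hom.comp_apply]
  · rw [← Scheme.Hom.comp_apply, ← Over.comp_left]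
    have h1 : (f ⊗ₘ w) ≫ μ[G] = lift (fst T W ≫ f) (snd T W ≫ w) ≫ μ[G] := by
      rw [← lift_map, lift_fst_snd, Category.id_comp]
    have h2 : lift ((f ⊗ₘ w) ≫ μ[G]) (snd T W ≫ w ≫ ι[G]) ≫ μ[G] = fst T W ≫ f := by
      rw [h1, ← Category.assoc (snd T W) w ι[G], lift_lift_assoc, lift_comp_inv_right,
        lift_comp_one_right]
    rw [h2, Over.comp_left, Scheme.Hom.comp_apply]

/-- Multiplying by the unit point on the right does nothing (point-level form). -/
lemma mul_left_apply_of_snd_eq_one (G : Over S) [GrpObj G] (z : ↥(G ⊗ G).left)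
    (hz : (snd G G).left z ∈ Set.range η[G].left) : μ[G].left z = (fst G G).left z := by
  rw [← Set.mem_preimage, ← Base.range_whiskerLeft_left] at hz
  obtain ⟨z', rfl⟩ := hz
  rw [← Scheme.Hom.comp_apply, ← Scheme.Hom.comp_apply, ← Over.comp_left, ← Over.comp_left,
    MonObj.mul_one, whiskerLeft_fst]
  rfl

end

section Field
variable (K : Type u) [Field K] (G : Over (Spec (CommRingCat.of K))) [GrpObj G]

/-- The product of two open subsets. -/
noncomputable def mulOpens (A B : G.left.Opens) : G.left.Opens :=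
  ⟨μ[G].left '' ((fst G G).left ⁻¹' (A : Set G.left) ∩ (snd G G).left ⁻¹' (B : Set G.left)),
    isOpenMap_mul K G _ ((A.2.preimage (fst G G).left.continuous).inter
      (B.2.preimage (snd G G).left.continuous))⟩

lemma isCompact_mulOpens (A B : G.left.Opens) (hA : IsCompact (A : Set G.left))
    (hB : IsCompact (B : Set G.left)) : IsCompact (mulOpens K G A B : Set G.left) := by
  have hA' : CompactSpace ↥(A : Scheme.{u}) := isCompact_iff_compactSpace.mp hA
  have hB' : CompactSpace ↥(B : Scheme.{u}) := isCompact_iff_compactSpace.mp hB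
  let WA : Over (Spec (CommRingCat.of K)) := Over.mk (A.ι ≫ G.hom)
  let WB : Over (Spec (CommRingCat.of K)) := Over.mk (B.ι ≫ G.hom)
  let jA : WA ⟶ G := Over.homMk A.ι rfl
  let jB : WB ⟶ G := Over.homMk B.ι rfl
  have hrange : Set.range (jA ⊗ₘ jB).left =
      (fst G G).left ⁻¹' (A : Set G.left) ∩ (snd G G).left ⁻¹' (B : Set G.left) := by
    rw [Base.range_tensorHom_left]
    have h1 : Set.range jA.left = (A : Set G.left) := Scheme.Opens.range_ι A
    have h2 : Set.range jB.left = (B : Set G.left) := Scheme.Opens.range_ι B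
    rw [h1, h2]
  have hcomp : CompactSpace ↥(WA ⊗ WB).left := by
    change CompactSpace ↥(pullback (A.ι ≫ G.hom) (B.ι ≫ G.hom))
    infer_instance
  change IsCompact (μ[G].left '' _)
  rw [← hrange, ← Set.range_comp]
  exact isCompact_range ((μ[G].left.continuous).comp (jA ⊗ₘ jB).left.continuous)

/-- the sequence `W, W·W, (W·W)·W, …` -/
noncomputable def powOpens (W : G.left.Opens) : ℕ → G.left.Opens
  | 0 => W
  | n + 1 => mulOpens K G (powOpens W n) W

lemma isCompact_powOpens (W : G.left.Opens) (hW : IsCompact (W : Set G.left)) (n : ℕ) :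
    IsCompact (powOpens K G W n : Set G.left) := by
  induction n with
  | zero => exact hW
  | succ n ih => exact isCompact_mulOpens K G _ _ ih hW

/-- The union of the powers of a symmetric open neighbourhood of the identity is closed. -/
theorem isClosed_iUnion_powOpens (W : G.left.Opens)
    (he : η[G].left (IsLocalRing.closedPoint K) ∈ W)
    (hsymm : ∀ g ∈ W, ι[G].left g ∈ W) :
    IsClosed (⋃ n, (powOpens K G W n : Set G.left)) := by
  rw [← closure_subset_iff_isClosed]
  intro x hx
  obtain ⟨T, xT, t₀, hxT⟩ := Base.exists_point_hom G x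
  let WW : Over (Spec (CommRingCat.of K)) := Over.mk (W.ι ≫ G.hom)
  let jW : WW ⟶ G := Over.homMk W.ι rfl
  have hjW : Set.range jW.left = (W : Set G.left) := Scheme.Opens.range_ι W
  have hO : IsOpen (Set.range ((xT ⊗ₘ jW) ≫ μ[G]).left) :=
    Base.isOpen_range_translate_of_isOpen
      (fun h => universallyOpen_of_iso_spec_field (Iso.refl _) h) G xT jW
      (by rw [hjW]; exact W.2)
  have hxO : x ∈ Set.range ((xT ⊗ₘ jW) ≫ μ[G]).left := by
    obtain ⟨p₀, hp₀⟩ : η[G].left (IsLocalRing.closedPoint K) ∈ Set.range jW.left := by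
      rw [hjW]; exact he
    have hsub : Subsingleton ↥(Spec (CommRingCat.of K)) :=
      inferInstanceAs (Subsingleton (PrimeSpectrum K))
    obtain ⟨q, hq1, hq2⟩ := Scheme.Pullback.exists_preimage_pullback
      (f := T.hom) (g := WW.hom) t₀ p₀ (Subsingleton.elim _ _)
    refine ⟨q, ?_⟩
    rw [Over.comp_left, Scheme.Hom.comp_apply, mul_left_apply_of_snd_eq_one]
    · rw [← Scheme.Hom.comp_apply, ← Over.comp_left, tensorHom_fst, Over.comp_left,
        Scheme.Hom.comp_apply, hxT]
    · rw [← Scheme.Hom.comp_apply, ← Over.comp_left, tensorHom_snd, Over.comp_left,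
        Scheme.Hom.comp_apply]
      have : (snd T WW).left q = p₀ := hq2
      rw [this, hp₀]
      exact ⟨_, rfl⟩
  obtain ⟨v, ⟨p, hp⟩, hvH⟩ := mem_closure_iff.mp hx _ hO hxO
  obtain ⟨n, hn⟩ := Set.mem_iUnion.mp hvH
  obtain ⟨z, hz1, hz2, hz3⟩ := exists_of_mem_range_translate G xT jW p
  refine Set.mem_iUnion.mpr ⟨n + 1, ?_⟩
  refine ⟨z, ⟨?_, ?_⟩, ?_⟩
  · rw [Set.mem_preimage, hz1, hp]; exact hn
  · rw [Set.mem_preimage, hz2]
    apply hsymm
    have : jW.left ((snd T WW).left p) ∈ Set.range jW.left := ⟨_, rfl⟩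
    rw [hjW] at this
    exact this
  · rw [hz3, hxT]

/-- A group scheme over a field contains an open and closed subset containing the identity point
which is a countable union of affine opens. -/
theorem exists_clopen_countable_affine :
    ∃ U : G.left.Opens, IsClosed (U : Set G.left) ∧
      η[G].left (IsLocalRing.closedPoint K) ∈ U ∧
      ∃ V : ℕ → G.left.Opens, (∀ n, IsAffineOpen (V n)) ∧
        (U : Set G.left) = ⋃ n, (V n : Set G.left) := by
  obtain ⟨U₀, hU₀, heU₀, -⟩ := exists_isAffineOpen_mem_and_subset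
    (x := η[G].left (IsLocalRing.closedPoint K)) (U := ⊤) trivial
  have h4 : IsIso (ι[G]).left := inferInstanceAs (IsIso ((Over.forget _).map ι[G]))
  have hinvinv : ∀ g : G.left, ι[G].left (ι[G].left g) = g := by
    intro g
    rw [← Scheme.Hom.comp_apply, ← Over.comp_left, GrpObj.inv_comp_inv]
    rfl
  -- the symmetric neighbourhood
  let W : G.left.Opens := U₀ ⊔ (ι[G].left ⁻¹ᵁ U₀)
  have hWc : IsCompact (W : Set G.left) := by
    have h1 : IsCompact (U₀ : Set G.left) := hU₀.isCompact
    have h2 : IsCompact ((ι[G].left ⁻¹ᵁ U₀ : G.left.Opens) : Set G.left) := by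
      have : ((ι[G].left ⁻¹ᵁ U₀ : G.left.Opens) : Set G.left) =
          (ι[G]).left.homeomorph ⁻¹' (U₀ : Set G.left) := rfl
      rw [this, Homeomorph.isCompact_preimage]
      exact h1
    have : (W : Set G.left) = (U₀ : Set G.left) ∪ ((ι[G].left ⁻¹ᵁ U₀ : G.left.Opens) : Set G.left) :=
      rfl
    rw [this]
    exact h1.union h2
  have heW : η[G].left (IsLocalRing.closedPoint K) ∈ W := Or.inl heU₀
  have hsymm : ∀ g ∈ W, ι[G].left g ∈ W := by
    rintro g (hg | hg)
    · right
      change ι[G].left (ι[G].left g) ∈ U₀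
      rw [hinvinv]; exact hg
    · left
      exact hg
  -- the union
  have hopen : IsOpen (⋃ n, (powOpens K G W n : Set G.left)) :=
    isOpen_iUnion fun n => (powOpens K G W n).2
  refine ⟨⟨_, hopen⟩, isClosed_iUnion_powOpens K G W heW hsymm,
    Set.mem_iUnion.mpr ⟨0, heW⟩, ?_⟩
  -- countable family of affines
  have hfin : ∀ n, ∃ s : Set G.left.affineOpens, s.Finite ∧
      (powOpens K G W n : Set G.left) = ⋃ i ∈ s, (i : Set G.left) := fun n =>
    isCompact_and_isOpen_iff_finite_and_eq_biUnion_affineOpens.mp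
      ⟨isCompact_powOpens K G W hWc n, (powOpens K G W n).2⟩
  choose s hsfin hs using hfin
  have hcount : (⋃ n, s n).Countable := Set.countable_iUnion fun n => (hsfin n).countable
  have hne : ((⋃ n, s n) ∪ {⟨U₀, hU₀⟩}).Nonempty := ⟨⟨U₀, hU₀⟩, Or.inr rfl⟩
  obtain ⟨f, hf⟩ := (hcount.union (Set.countable_singleton _)).exists_eq_range hne
  refine ⟨fun n => (f n : G.left.Opens), fun n => (f n).2, ?_⟩
  change (⋃ n, (powOpens K G W n : Set G.left)) = ⋃ n, ((f n : G.left.Opens) : Set G.left)
  apply Set.Subset.antisymm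
  · intro y hy
    obtain ⟨n, hn⟩ := Set.mem_iUnion.mp hy
    rw [hs n] at hn
    obtain ⟨i, hi, hyi⟩ := Set.mem_iUnion₂.mp hn
    have : i ∈ Set.range f := by
      rw [← hf]; exact Or.inl (Set.mem_iUnion.mpr ⟨n, hi⟩)
    obtain ⟨m, rfl⟩ := this
    exact Set.mem_iUnion.mpr ⟨m, hyi⟩
  · intro y hy
    obtain ⟨m, hm⟩ := Set.mem_iUnion.mp hy
    have : f m ∈ (⋃ n, s n) ∪ {⟨U₀, hU₀⟩} := by rw [hf]; exact ⟨m, rfl⟩
    rcases this with h | h
    · obtain ⟨n, hn⟩ := Set.mem_iUnion.mp h
      refine Set.mem_iUnion.mpr ⟨n, ?_⟩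
      rw [hs n]
      exact Set.mem_iUnion₂.mpr ⟨f m, hn, hm⟩
    · rw [Set.mem_singleton_iff] at h
      rw [h] at hm
      exact Set.mem_iUnion.mpr ⟨0, Or.inl hm⟩

end Field

end Groth.Agent.H90
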