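import Mathlib
import Groth.Agent.H90.GrpCountable
import Groth.Agent.H90.GrpMaxPoint
import Groth.Agent.H13.AlgClosedGeom

/-!
Local rings of a group scheme over a field have a unique minimal prime; there is a unique
irreducible component through the identity.
-/

set_option autoImplicit false

universe u

namespace Groth.Agent.H90

open CategoryTheory MonoidalCategory CartesianMonoidalCategory MonObj GrpObj AlgebraicGeometry
open Limits

section
variable {S : Scheme.{u}}

lemma range_whiskerRight_left {T W G : Over S} (w : W ⟶ G) :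
    Set.range (w ▷ T).left = (fst G T).left ⁻¹' Set.range w.left := by
  rw [Over.whiskerRight_left, Scheme.Pullback.range_map]
  have : Set.range (𝟙 T.left : T.left ⟶ T.left) = Set.univ := by
    rw [Set.range_eq_univ]; intro y; exact ⟨y, rfl⟩
  rw [this, Set.preimage_univ, Set.inter_univ]
  rfl

/-- Multiplying by the unit point on the left does nothing (point-level form). -/
lemma mul_left_apply_of_fst_eq_one (G : Over S) [GrpObj G] (z : ↥(G ⊗ G).left)
    (hz : (fst G G).left z ∈ Set.range η[G].left) : μ[G].left z = (snd G G).left z := by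
  rw [← Set.mem_preimage, ← range_whiskerRight_left] at hz
  obtain ⟨z', rfl⟩ := hz
  rw [← Scheme.Hom.comp_apply, ← Scheme.Hom.comp_apply, ← Over.comp_left, ← Over.comp_left,
    MonObj.one_mul, whiskerRight_snd]
  rfl

end

lemma geometricallyIrreducible_of_isAlgClosed (k : Type u) [Field k] [IsAlgClosed k]
    (K : Type u) [Field K] (h : Spec (CommRingCat.of K) ⟶ Spec (CommRingCat.of k)) :
    GeometricallyIrreducible h := by
  obtain ⟨φ, rfl⟩ := Spec.map_surjective h
  let _ : Algebra k K := φ.hom.toAlgebra
  exact Groth.Agent.H13.geometricallyIrreducible_specMap_of_isAlgClosed k K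

/-- Over an algebraically closed field, a maximal point specializing to the identity is unique. -/
theorem eq_of_specializes_one (k : Type u) [Field k] [IsAlgClosed k]
    (G : Over (Spec (CommRingCat.of k))) [GrpObj G] (y y' : G.left)
    (hy : y ⤳ η[G].left (IsLocalRing.closedPoint k))
    (hy' : y' ⤳ η[G].left (IsLocalRing.closedPoint k))
    (hmax : ∀ c : G.left, c ⤳ y → c = y) (hmax' : ∀ c : G.left, c ⤳ y' → c = y') : y = y' := by
  obtain ⟨T, hT⟩ : ∃ T : Over (Spec (CommRingCat.of k)),
      T = Over.mk (G.left.fromSpecResidueField y ≫ G.hom) := ⟨_, rfl⟩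
  obtain ⟨T', hT'⟩ : ∃ T' : Over (Spec (CommRingCat.of k)),
      T' = Over.mk (G.left.fromSpecResidueField y' ≫ G.hom) := ⟨_, rfl⟩
  obtain ⟨yT, hyT⟩ : ∃ yT : T ⟶ G, ∀ t, yT.left t = y := by
    subst hT
    exact ⟨Over.homMk (G.left.fromSpecResidueField y) rfl,
      fun t => Scheme.fromSpecResidueField_apply _ _⟩
  obtain ⟨yT', hyT'⟩ : ∃ yT' : T' ⟶ G, ∀ t, yT'.left t = y' := by
    subst hT'
    exact ⟨Over.homMk (G.left.fromSpecResidueField y') rfl,
      fun t => Scheme.fromSpecResidueField_apply _ _⟩
  have hsub : Subsingleton ↥(Spec (CommRingCat.of k)) :=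
    inferInstanceAs (Subsingleton (PrimeSpectrum k))
  -- the product of the two points is irreducible
  have hirr : IrreducibleSpace ↥(T ⊗ T').left := by
    subst hT hT'
    change IrreducibleSpace ↥(pullback (G.left.fromSpecResidueField y ≫ G.hom)
      (G.left.fromSpecResidueField y' ≫ G.hom))
    have h1 : GeometricallyIrreducible (G.left.fromSpecResidueField y' ≫ G.hom) :=
      geometricallyIrreducible_of_isAlgClosed k _ _
    have h2 : IrreducibleSpace ↥(Spec (G.left.residueField y)) :=
      inferInstanceAs (IrreducibleSpace (PrimeSpectrum (G.left.residueField y)))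
    infer_instance
  obtain ⟨t₀⟩ : Nonempty T.left := by
    subst hT; exact ⟨IsLocalRing.closedPoint _⟩
  obtain ⟨t₀'⟩ : Nonempty T'.left := by
    subst hT'; exact ⟨IsLocalRing.closedPoint _⟩
  -- the product point
  obtain ⟨c, hc⟩ : ∃ c : G.left, c = ((yT ⊗ₘ yT') ≫ μ[G]).left (genericPoint ↥(T ⊗ T').left) :=
    ⟨_, rfl⟩
  have hrange : ∀ p : ↥(T ⊗ T').left, c ⤳ ((yT ⊗ₘ yT') ≫ μ[G]).left p := by
    intro p
    rw [hc]
    exact (genericPoint_specializes p).map ((yT ⊗ₘ yT') ≫ μ[G]).left.continuous
  -- `c ⤳ y`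
  have h1 : c ⤳ y := by
    have hopen : UniversallyOpen (snd T G).left :=
      Base.universallyOpen_snd (fun h => universallyOpen_of_iso_spec_field (Iso.refl _) h) T G
    obtain ⟨q₀, hq₀1, hq₀2⟩ := Scheme.Pullback.exists_preimage_pullback
      (f := T.hom) (g := G.hom) t₀ (η[G].left (IsLocalRing.closedPoint k))
      (Subsingleton.elim _ _)
    have hq₀2' : (snd T G).left q₀ = η[G].left (IsLocalRing.closedPoint k) := hq₀2
    -- `q₀` is in the closure of the image of `T ⊗ T'`
    have hq₀cl : q₀ ∈ closure (Set.range (T ◁ yT').left) := by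
      rw [Base.range_whiskerLeft_left]
      apply (snd T G).left.isOpenMap.preimage_closure_subset_closure_preimage
      rw [Set.mem_preimage, hq₀2']
      have : Set.range yT'.left = {y'} := by
        ext g
        constructor
        · rintro ⟨t, rfl⟩; exact hyT' t
        · rintro rfl; exact ⟨t₀', hyT' t₀'⟩
      rw [this, ← specializes_iff_mem_closure]
      exact hy'
    -- apply `(t, g) ↦ y g`
    have hr : ((yT ▷ G) ≫ μ[G]).left q₀ = y := by
      rw [Over.comp_left, Scheme.Hom.comp_apply, mul_left_apply_of_snd_eq_one]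
      · rw [← Scheme.Hom.comp_apply, ← Over.comp_left, whiskerRight_fst, Over.comp_left,
          Scheme.Hom.comp_apply, hyT]
      · rw [← Scheme.Hom.comp_apply, ← Over.comp_left, whiskerRight_snd, hq₀2']
        exact ⟨_, rfl⟩
    rw [← hr, specializes_iff_mem_closure]
    have hcl := map_mem_closure ((yT ▷ G) ≫ μ[G]).left.continuous hq₀cl
      (t := closure {c}) ?_
    · rwa [closure_closure] at hcl
    · rintro _ ⟨p, rfl⟩
      rw [← specializes_iff_mem_closure]
      have := hrange p
      rwa [MonoidalCategory.tensorHom_def', Category.assoc, Over.comp_left, Scheme.Hom.comp_apply] at this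
  -- `c ⤳ y'`
  have h2 : c ⤳ y' := by
    have hopen : UniversallyOpen (fst G T').left := by
      rw [Over.fst_left]
      infer_instance
    obtain ⟨q₀, hq₀1, hq₀2⟩ := Scheme.Pullback.exists_preimage_pullback
      (f := G.hom) (g := T'.hom) (η[G].left (IsLocalRing.closedPoint k)) t₀'
      (Subsingleton.elim _ _)
    have hq₀1' : (fst G T').left q₀ = η[G].left (IsLocalRing.closedPoint k) := hq₀1
    have hq₀cl : q₀ ∈ closure (Set.range (yT ▷ T').left) := by
      rw [range_whiskerRight_left]
      apply (fst G T').left.isOpenMap.preimage_closure_subset_closure_preimage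
      rw [Set.mem_preimage, hq₀1']
      have : Set.range yT.left = {y} := by
        ext g
        constructor
        · rintro ⟨t, rfl⟩; exact hyT t
        · rintro rfl; exact ⟨t₀, hyT t₀⟩
      rw [this, ← specializes_iff_mem_closure]
      exact hy
    have hr : ((G ◁ yT') ≫ μ[G]).left q₀ = y' := by
      rw [Over.comp_left, Scheme.Hom.comp_apply, mul_left_apply_of_fst_eq_one]
      · rw [← Scheme.Hom.comp_apply, ← Over.comp_left, whiskerLeft_snd, Over.comp_left,
          Scheme.Hom.comp_apply, hyT']
      · rw [← Scheme.Hom.comp_apply, ← Over.comp_left, whiskerLeft_fst, hq₀1']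
        exact ⟨_, rfl⟩
    rw [← hr, specializes_iff_mem_closure]
    have hcl := map_mem_closure ((G ◁ yT') ≫ μ[G]).left.continuous hq₀cl
      (t := closure {c}) ?_
    · rwa [closure_closure] at hcl
    · rintro _ ⟨p, rfl⟩
      rw [← specializes_iff_mem_closure]
      have := hrange p
      rwa [MonoidalCategory.tensorHom_def, Category.assoc, Over.comp_left, Scheme.Hom.comp_apply] at this
  rw [← hmax c h1, ← hmax' c h2]

/-- Over an algebraically closed field, a maximal point specializing to a rational point is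
unique. -/
theorem eq_of_specializes_rational (k : Type u) [Field k] [IsAlgClosed k]
    (G : Over (Spec (CommRingCat.of k))) [GrpObj G]
    (x' : 𝟙_ (Over (Spec (CommRingCat.of k))) ⟶ G) (y y' : G.left)
    (hy : y ⤳ x'.left (IsLocalRing.closedPoint k))
    (hy' : y' ⤳ x'.left (IsLocalRing.closedPoint k))
    (hmax : ∀ c : G.left, c ⤳ y → c = y) (hmax' : ∀ c : G.left, c ⤳ y' → c = y') : y = y' := by
  have hα : η[G] ≫ (GrpObj.mulRight x').hom = x' := by
    have h0 : lift (toUnit _ ≫ η[G]) x' ≫ μ[G] = x' := lift_comp_one_left _ x'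
    have h1 : toUnit (𝟙_ (Over (Spec (CommRingCat.of k)))) ≫ η[G] = η[G] := by
      rw [toUnit_unit, Category.id_comp]
    rw [h1] at h0
    simpa [comp_lift_assoc] using h0
  have hα' : (GrpObj.mulRight x').hom.left (η[G].left (IsLocalRing.closedPoint k)) =
      x'.left (IsLocalRing.closedPoint k) := by
    rw [← Scheme.Hom.comp_apply, ← Over.comp_left, hα]
  have hinvhom : ∀ g : G.left, (GrpObj.mulRight x').inv.left ((GrpObj.mulRight x').hom.left g) = g := by
    intro g
    rw [← Scheme.Hom.comp_apply, ← Over.comp_left, Iso.hom_inv_id]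
    rfl
  have hhominv : ∀ g : G.left, (GrpObj.mulRight x').hom.left ((GrpObj.mulRight x').inv.left g) = g := by
    intro g
    rw [← Scheme.Hom.comp_apply, ← Over.comp_left, Iso.inv_hom_id]
    rfl
  have key : ∀ z : G.left, z ⤳ x'.left (IsLocalRing.closedPoint k) →
      (GrpObj.mulRight x').inv.left z ⤳ η[G].left (IsLocalRing.closedPoint k) := by
    intro z hz
    have := hz.map (GrpObj.mulRight x').inv.left.continuous
    rwa [← hα', hinvhom] at this
  have keymax : ∀ z : G.left, (∀ c : G.left, c ⤳ z → c = z) →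
      ∀ c : G.left, c ⤳ (GrpObj.mulRight x').inv.left z → c = (GrpObj.mulRight x').inv.left z := by
    intro z hz c hc
    have h1 := hc.map (GrpObj.mulRight x').hom.left.continuous
    rw [hhominv] at h1
    rw [← hz _ h1, hinvhom]
  have := eq_of_specializes_one k G _ _ (key y hy) (key y' hy') (keymax y hmax) (keymax y' hmax')
  rw [← hhominv y, this, hhominv]

/-- Every point of a scheme has a maximal generization. -/
lemma exists_maximal_generization (P : Scheme.{u}) (p : P) :
    ∃ w : P, w ⤳ p ∧ ∀ c : P, c ⤳ w → c = w := by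
  have h1 : IsIrreducible (irreducibleComponent p) := isIrreducible_irreducibleComponent
  have h2 : IsClosed (irreducibleComponent p) := isClosed_irreducibleComponent
  obtain ⟨w, hw⟩ := QuasiSober.sober h1 h2
  refine ⟨w, ?_, ?_⟩
  · rw [specializes_iff_mem_closure, hw.def]
    exact mem_irreducibleComponent
  · apply eq_of_specializes_of_maximal
    rw [hw.def]
    exact irreducibleComponent_mem_irreducibleComponents p

/-- In a group scheme over a field, every point has a unique maximal generization. -/
theorem eq_of_specializes (K : Type u) [Field K] (G : Over (Spec (CommRingCat.of K))) [GrpObj G]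
    (x y y' : G.left) (hy : y ⤳ x) (hy' : y' ⤳ x)
    (hmax : ∀ c : G.left, c ⤳ y → c = y) (hmax' : ∀ c : G.left, c ⤳ y' → c = y') : y = y' := by
  obtain ⟨Ω, hΩ⟩ : ∃ Ω : Type u, Ω = AlgebraicClosure (G.left.residueField x) := ⟨_, rfl⟩
  subst hΩ
  obtain ⟨a, ha⟩ : ∃ a : Spec (CommRingCat.of (AlgebraicClosure (G.left.residueField x))) ⟶ G.left,
      ∀ t, a t = x := by
    refine ⟨Spec.map (CommRingCat.ofHom (algebraMap (G.left.residueField x)
      (AlgebraicClosure (G.left.residueField x)))) ≫ G.left.fromSpecResidueField x, ?_⟩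
    intro t
    rw [Scheme.Hom.comp_apply]
    exact Scheme.fromSpecResidueField_apply _ _
  have hG : GrpObj (Over.mk G.hom) := ‹GrpObj G›
  let G' : Over (Spec (CommRingCat.of (AlgebraicClosure (G.left.residueField x)))) :=
    Over.mk (pullback.snd G.hom (a ≫ G.hom))
  let _ : GrpObj G' := Over.grpObjMkPullbackSnd (f := G.hom) (g := a ≫ G.hom)
  have hflat : Flat (pullback.fst G.hom (a ≫ G.hom)) := inferInstance
  have hgen : GeneralizingMap (pullback.fst G.hom (a ≫ G.hom)) := Flat.generalizingMap _
  let x'' : 𝟙_ (Over (Spec (CommRingCat.of (AlgebraicClosure (G.left.residueField x))))) ⟶ G' :=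
    Over.homMk (pullback.lift a (𝟙 _) (by rw [Category.id_comp])) (by
      change pullback.lift a (𝟙 _) _ ≫ pullback.snd G.hom (a ≫ G.hom) = 𝟙 _
      rw [pullback.lift_snd])
  have hx'' : pullback.fst G.hom (a ≫ G.hom) (x''.left (IsLocalRing.closedPoint _)) = x := by
    change pullback.fst G.hom (a ≫ G.hom) ((pullback.lift a (𝟙 _) _) (IsLocalRing.closedPoint _)) = x
    rw [← Scheme.Hom.comp_apply, pullback.lift_fst, ha]
  -- lift `y` and `y'`
  have lift_max : ∀ z : G.left, z ⤳ x → (∀ c : G.left, c ⤳ z → c = z) →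
      ∃ w : G'.left, w ⤳ x''.left (IsLocalRing.closedPoint _) ∧ (∀ c : G'.left, c ⤳ w → c = w) ∧
        pullback.fst G.hom (a ≫ G.hom) w = z := by
    intro z hz hzmax
    rw [← hx''] at hz
    obtain ⟨w₀, hw₀, hw₀z⟩ := hgen hz
    obtain ⟨w, hw, hwmax⟩ := exists_maximal_generization G'.left w₀
    refine ⟨w, hw.trans hw₀, hwmax, ?_⟩
    apply hzmax
    rw [← hw₀z]
    exact hw.map (pullback.fst G.hom (a ≫ G.hom)).continuous
  obtain ⟨w, hw1, hw2, hw3⟩ := lift_max y hy hmax
  obtain ⟨w', hw1', hw2', hw3'⟩ := lift_max y' hy' hmax'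
  have := eq_of_specializes_rational _ G' x'' w w' hw1 hw1' hw2 hw2'
  rw [← hw3, ← hw3', this]

/-- The local rings of a group scheme over a field have at most one minimal prime. -/
theorem subsingleton_minimalPrimes_stalk (K : Type u) [Field K]
    (G : Over (Spec (CommRingCat.of K))) [GrpObj G] (x : G.left) :
    (minimalPrimes (G.left.presheaf.stalk x)).Subsingleton := by
  intro p hp q hq
  have hpprime : p.IsPrime := hp.1.1
  have hqprime : q.IsPrime := hq.1.1
  have hemb : Topology.IsEmbedding (G.left.fromSpecStalk x) :=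
    (G.left.fromSpecStalk x).isEmbedding
  have hmem : ∀ P : Spec (G.left.presheaf.stalk x), (G.left.fromSpecStalk x) P ⤳ x := by
    intro P
    have : (G.left.fromSpecStalk x) P ∈ Set.range (G.left.fromSpecStalk x) := ⟨P, rfl⟩
    rwa [Scheme.range_fromSpecStalk] at this
  have hmaxi : ∀ (r : Ideal (G.left.presheaf.stalk x)) (hr : r ∈ minimalPrimes (G.left.presheaf.stalk x))
      (c : G.left), c ⤳ (G.left.fromSpecStalk x) ⟨r, hr.1.1⟩ →
      c = (G.left.fromSpecStalk x) ⟨r, hr.1.1⟩ := by
    intro r hr c hc
    have hcx : c ∈ Set.range (G.left.fromSpecStalk x) := by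
      rw [Scheme.range_fromSpecStalk]
      exact hc.trans (hmem _)
    obtain ⟨C, rfl⟩ := hcx
    rw [hemb.isInducing.specializes_iff] at hc
    have hle : C.asIdeal ≤ r := (PrimeSpectrum.le_iff_specializes C ⟨r, hr.1.1⟩).mpr hc
    have hge : r ≤ C.asIdeal := hr.2 ⟨C.isPrime, bot_le⟩ hle
    congr 1
    exact PrimeSpectrum.ext (le_antisymm hle hge)
  have := eq_of_specializes K G x _ _ (hmem ⟨p, hpprime⟩) (hmem ⟨q, hqprime⟩)
    (hmaxi p hp) (hmaxi q hq)
  have h2 := hemb.injective this
  exact congrArg PrimeSpectrum.asIdeal h2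

/-- There is exactly one irreducible component through the identity. -/
theorem existsUnique_irreducibleComponent_one (K : Type u) [Field K]
    (G : Over (Spec (CommRingCat.of K))) [GrpObj G] :
    ∃! Z : Set G.left, Z ∈ irreducibleComponents (G.left : Type u) ∧
      η[G].left (IsLocalRing.closedPoint K) ∈ Z := by
  refine ⟨irreducibleComponent (η[G].left (IsLocalRing.closedPoint K)),
    ⟨irreducibleComponent_mem_irreducibleComponents _, mem_irreducibleComponent⟩, ?_⟩
  rintro Z ⟨hZ, heZ⟩
  have hgen : ∀ Z' : Set G.left, Z' ∈ irreducibleComponents (G.left : Type u) →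
      η[G].left (IsLocalRing.closedPoint K) ∈ Z' →
      ∃ y : G.left, closure {y} = Z' ∧ y ⤳ η[G].left (IsLocalRing.closedPoint K) ∧
        ∀ c : G.left, c ⤳ y → c = y := by
    intro Z' hZ' he
    obtain ⟨y, hy⟩ := QuasiSober.sober hZ'.1 (isClosed_of_mem_irreducibleComponents Z' hZ')
    refine ⟨y, hy.def, ?_, ?_⟩
    · rw [specializes_iff_mem_closure, hy.def]; exact he
    · apply eq_of_specializes_of_maximal
      rw [hy.def]; exact hZ'
  obtain ⟨y, hy1, hy2, hy3⟩ := hgen Z hZ heZ
  obtain ⟨y', hy1', hy2', hy3'⟩ := hgen _ (irreducibleComponent_mem_irreducibleComponents _)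
    mem_irreducibleComponent
  have := eq_of_specializes K G _ y y' hy2 hy2' hy3 hy3'
  rw [← hy1, ← hy1', this]

end Groth.Agent.H90
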