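import Mathlib
import Groth.Agent.H90.FlatAt
import Groth.Agent.H90.GrpMaxPoint
import Groth.Agent.H90.GrpMinPrime
import Groth.Agent.H17.MaxPoints

/-!
A homomorphism of group schemes over a field which is flat at one point is flat.
A quasi-compact dominant homomorphism is surjective, and flat if the target is reduced.
-/

set_option autoImplicit false

universe u

namespace Groth.Agent.H90

open CategoryTheory MonoidalCategory CartesianMonoidalCategory MonObj GrpObj AlgebraicGeometry
open Limits

lemma isPullback_whiskerLeft_snd {S : Scheme.{u}} (T : Over S) {W G : Over S} (w : W ⟶ G) :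
    IsPullback (T ◁ w).left (snd T W).left (snd T G).left w.left := by
  have right : IsPullback (fst T G).left (snd T G).left T.hom G.hom := by
    rw [Over.fst_left, Over.snd_left]
    exact IsPullback.of_hasPullback _ _
  have outer : IsPullback (fst T W).left (snd T W).left T.hom W.hom := by
    rw [Over.fst_left, Over.snd_left]
    exact IsPullback.of_hasPullback _ _
  have e1 : (T ◁ w).left ≫ (fst T G).left = (fst T W).left := by
    rw [← Over.comp_left, whiskerLeft_fst]
  have e2 : w.left ≫ G.hom = W.hom := Over.w w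
  have e3 : (T ◁ w).left ≫ (snd T G).left = (snd T W).left ≫ w.left := by
    rw [← Over.comp_left, whiskerLeft_snd, Over.comp_left]
  rw [← e1, ← e2] at outer
  exact IsPullback.of_right outer e3 right

section
variable (K : Type u) [Field K] (G H : Over (Spec (CommRingCat.of K))) [GrpObj G] [GrpObj H]

lemma flat_mul_left : Flat (μ[G].left) := by
  rw [mul_eq_shearHom_snd, Over.comp_left]
  have h2 : IsIso (shearHom (𝟙 G)).left :=
    inferInstanceAs (IsIso ((Over.forget _).map (shearHom (𝟙 G))))
  have h3 : Flat (snd G G).left := by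
    rw [Over.snd_left]
    infer_instance
  infer_instance

/-- If `f` is flat at `snd z`, it is flat at `μ z`. -/
theorem flatAt_mul_of_flatAt_snd (f : G ⟶ H) [IsMonHom f] (z : ↥(G ⊗ G).left)
    (hz : FlatAt f.left ((snd G G).left z)) : FlatAt f.left (μ[G].left z) := by
  have h1 : FlatAt (G ◁ f).left z := FlatAt.of_isPullback (isPullback_whiskerLeft_snd G f) z hz
  have key : μ[G] ≫ f = (G ◁ f) ≫ shearHom f ≫ snd G H := by
    rw [IsMonHom.mul_hom, tensorHom_comp_mul]
  have h2 : IsIso (shearHom f).left :=
    inferInstanceAs (IsIso ((Over.forget _).map (shearHom f)))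
  have h3 : Flat (snd G H).left := by
    rw [Over.snd_left]
    infer_instance
  have h4 : Flat (shearHom f ≫ snd G H).left := by
    rw [Over.comp_left]
    infer_instance
  have h5 : FlatAt ((G ◁ f).left ≫ (shearHom f ≫ snd G H).left) z :=
    h1.comp (flatAt_of_flat _ _)
  have h6 : (G ◁ f).left ≫ (shearHom f ≫ snd G H).left = μ[G].left ≫ f.left := by
    rw [← Over.comp_left, ← Over.comp_left, key]
  rw [h6] at h5
  have := flat_mul_left K G
  exact FlatAt.of_comp _ _ z h5

lemma exists_snd_mul (ξ b : G.left) :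
    ∃ z : ↥(G ⊗ G).left, (snd G G).left z = ξ ∧ μ[G].left z = b := by
  have hsub : Subsingleton ↥(Spec (CommRingCat.of K)) :=
    inferInstanceAs (Subsingleton (PrimeSpectrum K))
  obtain ⟨w, hw1, hw2⟩ := Scheme.Pullback.exists_preimage_pullback
    (f := G.hom) (g := G.hom) b (ι[G].left ξ) (Subsingleton.elim _ _)
  have hfst : (fst G G).left w = b := by rw [Over.fst_left]; exact hw1
  have hsnd : (snd G G).left w = ι[G].left ξ := by rw [Over.snd_left]; exact hw2
  refine ⟨(splitHom (𝟙 G)).left w, ?_, ?_⟩
  · rw [← Scheme.Hom.comp_apply, ← Over.comp_left, splitHom_snd, Over.comp_left,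
      Scheme.Hom.comp_apply, hsnd, ← Scheme.Hom.comp_apply, ← Over.comp_left, GrpObj.inv_comp_inv]
    rfl
  · rw [← Scheme.Hom.comp_apply, ← Over.comp_left, splitHom_mul, Category.comp_id, hfst]

/-- A homomorphism of group schemes over a field which is flat at one point is flat. -/
theorem flat_of_flatAt (f : G ⟶ H) [IsMonHom f] (ξ : G.left) (hξ : FlatAt f.left ξ) :
    Flat f.left := by
  apply flat_of_forall_flatAt
  intro b
  obtain ⟨z, hz1, hz2⟩ := exists_snd_mul K G ξ b
  rw [← hz2]
  apply flatAt_mul_of_flatAt_snd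
  rwa [hz1]

end

/-- Any morphism is flat at a point mapping to a maximal point of a reduced scheme. -/
lemma flatAt_of_maximal_of_isReduced {X Y : Scheme.{u}} (f : X ⟶ Y) [IsReduced Y] (x : X)
    (hx : closure {f x} ∈ irreducibleComponents Y) : FlatAt f x := by
  have hsub : Subsingleton ↥(Spec (Y.presheaf.stalk (f x))) := by
    constructor
    intro a b
    apply (Y.fromSpecStalk (f x)).isEmbedding.injective
    have ha : Y.fromSpecStalk (f x) a ∈ Set.range (Y.fromSpecStalk (f x)) := ⟨a, rfl⟩
    have hb : Y.fromSpecStalk (f x) b ∈ Set.range (Y.fromSpecStalk (f x)) := ⟨b, rfl⟩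
    rw [Scheme.range_fromSpecStalk] at ha hb
    rw [eq_of_specializes_of_maximal Y (f x) hx _ ha, eq_of_specializes_of_maximal Y (f x) hx _ hb]
  have hne : Nonempty ↥(Spec (Y.presheaf.stalk (f x))) :=
    ⟨IsLocalRing.closedPoint _⟩
  have hirr : IrreducibleSpace ↥(Spec (Y.presheaf.stalk (f x))) := IrreducibleSpace.mk hne
  have hint : IsIntegral (Spec (Y.presheaf.stalk (f x))) :=
    isIntegral_of_irreducibleSpace_of_isReduced _
  have : Flat (Spec.map (f.stalkMap x)) := inferInstance
  exact Flat.SpecMap_iff.mp this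

section
variable (K : Type u) [Field K] (G H : Over (Spec (CommRingCat.of K))) [GrpObj G] [GrpObj H]

theorem surjective_of_quasiCompact_dominant (f : G ⟶ H) [IsMonHom f] [QuasiCompact f.left]
    (hf : DenseRange f.left.base) : Function.Surjective f.left := by
  have hdom : IsDominant f.left := ⟨hf⟩
  have hmax := (Groth.Agent.H17.isDominant_iff_maximal_points f.left).mp hdom
  intro h
  obtain ⟨z, hz, ha, hb⟩ := exists_maximal_mul K H h
  obtain ⟨a', -, ha'⟩ := hmax _ ha
  obtain ⟨b', -, hb'⟩ := hmax _ hb
  have hz1 : z ∈ Set.range (H ◁ f).left := by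
    rw [Base.range_whiskerLeft_left]
    exact ⟨b', hb'⟩
  obtain ⟨z₁, rfl⟩ := hz1
  have hz2 : z₁ ∈ Set.range (f ▷ G).left := by
    rw [range_whiskerRight_left]
    refine ⟨a', ?_⟩
    rw [ha', ← Scheme.Hom.comp_apply, ← Over.comp_left, whiskerLeft_fst]
  obtain ⟨z', rfl⟩ := hz2
  refine ⟨μ[G].left z', ?_⟩
  rw [← hz, ← Scheme.Hom.comp_apply, ← Scheme.Hom.comp_apply, ← Scheme.Hom.comp_apply,
    ← Over.comp_left, ← Over.comp_left, ← Over.comp_left, IsMonHom.mul_hom, MonoidalCategory.tensorHom_def,
    Category.assoc]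

theorem flat_of_quasiCompact_dominant_of_isReduced (f : G ⟶ H) [IsMonHom f] [QuasiCompact f.left]
    (hf : DenseRange f.left.base) [IsReduced H.left] : Flat f.left := by
  have hdom : IsDominant f.left := ⟨hf⟩
  have hmax := (Groth.Agent.H17.isDominant_iff_maximal_points f.left).mp hdom
  have hne : Nonempty ↥H.left := ⟨η[H].left (IsLocalRing.closedPoint K)⟩
  obtain ⟨w, hw⟩ := exists_maximal_point H.left
  obtain ⟨ξ, -, hξ⟩ := hmax w hw
  apply flat_of_flatAt K G H f ξ
  apply flatAt_of_maximal_of_isReduced
  have : f.left ξ = w := hξ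
  rwa [this]

end

end Groth.Agent.H90
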