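import Mathlib
import Groth.Agent.H90.GrpFlat

/-!
The schematic image of a quasi-compact homomorphism of group schemes over a field is a closed
subgroup scheme (SGA3 VI_B 1.2).
-/

set_option autoImplicit false

universe v u

namespace Groth.Agent.H90

open CategoryTheory MonoidalCategory CartesianMonoidalCategory MonObj GrpObj AlgebraicGeometry
open Limits

section Mono
variable {D : Type u} [Category.{v} D] [CartesianMonoidalCategory D]

/-- A mono into a group object through which unit, multiplication and inverse factor carries a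
group structure. (Same construction as helper30's `grpObjOfMono`; duplicated here to avoid a
heavy import chain.) -/
@[instance_reducible]
noncomputable def grpObjOfMono' {K G : D} [GrpObj G] (j : K ⟶ G) [Mono j] (e : 𝟙_ D ⟶ K)
    (he : e ≫ j = η[G]) (m : K ⊗ K ⟶ K) (hm : m ≫ j = (j ⊗ₘ j) ≫ μ[G]) (i : K ⟶ K)
    (hi : i ≫ j = j ≫ ι[G]) : GrpObj K where
  one := e
  mul := m
  one_mul := by
    rw [← cancel_mono j, Category.assoc, hm, ← tensorHom_id, tensorHom_comp_tensorHom_assoc, he,
      Category.id_comp, tensorHom_def', Category.assoc, MonObj.one_mul, leftUnitor_naturality]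
  mul_one := by
    rw [← cancel_mono j, Category.assoc, hm, ← id_tensorHom, tensorHom_comp_tensorHom_assoc, he,
      Category.id_comp, MonoidalCategory.tensorHom_def, Category.assoc, MonObj.mul_one,
      rightUnitor_naturality]
  mul_assoc := by
    rw [← cancel_mono j]
    have e1 : m ▷ K ≫ m ≫ j = ((j ⊗ₘ j) ⊗ₘ j) ≫ (μ[G] ▷ G) ≫ μ[G] := by
      rw [hm, ← tensorHom_id, tensorHom_comp_tensorHom_assoc, hm, ← tensorHom_id,
        tensorHom_comp_tensorHom_assoc]
      simp
    have e2 : K ◁ m ≫ m ≫ j = (j ⊗ₘ (j ⊗ₘ j)) ≫ (G ◁ μ[G]) ≫ μ[G] := by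
      rw [hm, ← id_tensorHom, tensorHom_comp_tensorHom_assoc, hm, ← id_tensorHom,
        tensorHom_comp_tensorHom_assoc]
      simp
    rw [Category.assoc, e1, Category.assoc, Category.assoc, e2, MonObj.mul_assoc,
      associator_naturality_assoc]
  inv := i
  left_inv := by
    rw [← cancel_mono j, Category.assoc, hm]
    have : lift i (𝟙 K) ≫ (j ⊗ₘ j) = j ≫ lift ι[G] (𝟙 G) := by
      ext <;> simp [hi]
    rw [reassoc_of% this, GrpObj.left_inv, Category.assoc, he]
    simp
  right_inv := by
    rw [← cancel_mono j, Category.assoc, hm]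
    have : lift (𝟙 K) i ≫ (j ⊗ₘ j) = j ≫ lift (𝟙 G) ι[G] := by
      ext <;> simp [hi]
    rw [reassoc_of% this, GrpObj.right_inv, Category.assoc, he]
    simp

end Mono

/-- The map to the schematic image of a quasi-compact morphism is schematically dominant. -/
theorem ker_toImage_eq_bot {X Y : Scheme.{u}} (f : X ⟶ Y) [QuasiCompact f] :
    f.toImage.ker = ⊥ := by
  refine Scheme.IdealSheafData.ext_of_iSup_eq_top
    (fun U : Y.affineOpens ↦ ⟨f.imageι ⁻¹ᵁ U.1, U.2.preimage f.imageι⟩) ?_ ?_
  · have h : ⨆ U : Y.affineOpens, (U.1 : Y.Opens) = ⊤ := iSup_affineOpens_eq_top Y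
    have h2 : f.imageι ⁻¹ᵁ (⨆ U : Y.affineOpens, (U.1 : Y.Opens)) = ⊤ := by rw [h]; rfl
    rw [← h2]
    ext x
    simp
  · intro U
    rw [Scheme.Hom.ker_apply]
    simp only [Scheme.IdealSheafData.ideal_bot, Pi.bot_apply]
    exact (RingHom.injective_iff_ker_eq_bot _).mp (f.toImage_app_injective U)

instance isSchemeTheoreticallyDominant_toImage {X Y : Scheme.{u}} (f : X ⟶ Y) [QuasiCompact f] :
    IsSchemeTheoreticallyDominant f.toImage := ⟨ker_toImage_eq_bot f⟩

lemma isPullback_whiskerRight_fst {S : Scheme.{u}} (T : Over S) {W G : Over S} (w : W ⟶ G) :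
    IsPullback (w ▷ T).left (fst W T).left (fst G T).left w.left := by
  have right : IsPullback (snd G T).left (fst G T).left T.hom G.hom := by
    rw [Over.fst_left, Over.snd_left]
    exact (IsPullback.of_hasPullback _ _).flip
  have outer : IsPullback (snd W T).left (fst W T).left T.hom W.hom := by
    rw [Over.fst_left, Over.snd_left]
    exact (IsPullback.of_hasPullback _ _).flip
  have e1 : (w ▷ T).left ≫ (snd G T).left = (snd W T).left := by
    rw [← Over.comp_left, whiskerRight_snd]
  have e2 : w.left ≫ G.hom = W.hom := Over.w w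
  have e3 : (w ▷ T).left ≫ (fst G T).left = (fst W T).left ≫ w.left := by
    rw [← Over.comp_left, whiskerRight_fst, Over.comp_left]
  rw [← e1, ← e2] at outer
  exact IsPullback.of_right outer e3 right

/-- If the two projections are flat, the tensor square of a quasi-compact schematically dominant
morphism of `S`-schemes is schematically dominant. -/
theorem isSchemeTheoreticallyDominant_tensorHom {S : Scheme.{u}} {W G : Over S} (w : W ⟶ G)
    [IsSchemeTheoreticallyDominant w.left] [QuasiCompact w.left] [Flat W.hom] [Flat G.hom] :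
    IsSchemeTheoreticallyDominant (w ⊗ₘ w).left := by
  have h1 : Flat (fst G W).left := by rw [Over.fst_left]; infer_instance
  have h2 : Flat (snd G G).left := by rw [Over.snd_left]; infer_instance
  have d1 : IsSchemeTheoreticallyDominant (w ▷ W).left :=
    IsSchemeTheoreticallyDominant.of_isPullback (isPullback_whiskerRight_fst W w).flip
  have d2 : IsSchemeTheoreticallyDominant (G ◁ w).left :=
    IsSchemeTheoreticallyDominant.of_isPullback (isPullback_whiskerLeft_snd G w).flip
  rw [MonoidalCategory.tensorHom_def, Over.comp_left]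
  infer_instance

/-- A closed immersion `i` dominates any `g` which agrees with `h ≫ i` after a schematically
dominant map. -/
lemma ker_le_of_dominant_fac {X X' Y Z : Scheme.{u}} (d : X ⟶ X')
    [IsSchemeTheoreticallyDominant d] (g : X' ⟶ Z) (i : Y ⟶ Z) (h : X ⟶ Y)
    (e : d ≫ g = h ≫ i) : i.ker ≤ g.ker := by
  have h1 : (d ≫ g).ker = g.ker := by
    rw [Scheme.Hom.ker_comp, d.ker_eq_bot, Scheme.IdealSheafData.map_bot]
  rw [← h1, e]
  exact Scheme.Hom.le_ker_comp h i

section
variable (K : Type u) [Field K] (H G : Over (Spec (CommRingCat.of K))) [GrpObj H] [GrpObj G]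

/-- If a homomorphism `f : H ⟶ G` of group schemes over a field factors as a quasi-compact
schematically dominant map `t` followed by a closed immersion `i : H' ⟶ G`, then `H'` carries a
unique structure of a group scheme making `i` and `t` homomorphisms. -/
theorem exists_grpObj_of_closedImmersion_of_dominant (f : H ⟶ G) [IsMonHom f]
    (H' : Over (Spec (CommRingCat.of K))) (i : H' ⟶ G) (t : H ⟶ H') (hti : t ≫ i = f)
    [IsClosedImmersion i.left] [QuasiCompact t.left] [IsSchemeTheoreticallyDominant t.left] :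
    ∃ (_ : GrpObj H'), IsMonHom i ∧ IsMonHom t := by
  have hmono_left : Mono i.left := inferInstance
  have hmono : Mono i := (Over.forget _).mono_of_mono_map hmono_left
  have hflatH : Flat H.hom := inferInstance
  have hflatH' : Flat H'.hom := inferInstance
  have dtt := isSchemeTheoreticallyDominant_tensorHom t
  -- multiplication
  have em : (t ⊗ₘ t).left ≫ ((i ⊗ₘ i) ≫ μ[G]).left = (μ[H] ≫ t).left ≫ i.left := by
    rw [← Over.comp_left, ← Over.comp_left, tensorHom_comp_tensorHom_assoc, hti, Category.assoc,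
      hti, IsMonHom.mul_hom]
  have km := ker_le_of_dominant_fac _ _ _ _ em
  let m0 : (H' ⊗ H').left ⟶ H'.left := IsClosedImmersion.lift i.left _ km
  have hm0 : m0 ≫ i.left = ((i ⊗ₘ i) ≫ μ[G]).left := IsClosedImmersion.lift_fac _ _ _
  let m : H' ⊗ H' ⟶ H' := Over.homMk m0 (by rw [← Over.w i, reassoc_of% hm0, Over.w])
  have hm : m ≫ i = (i ⊗ₘ i) ≫ μ[G] := by ext1; exact hm0
  -- inverse
  have ei : t.left ≫ (i ≫ ι[G]).left = (ι[H] ≫ t).left ≫ i.left := by
    rw [← Over.comp_left, ← Over.comp_left, reassoc_of% hti, Category.assoc, hti,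
      GrpObj.inv_hom]
  have ki := ker_le_of_dominant_fac _ _ _ _ ei
  let i0 : H'.left ⟶ H'.left := IsClosedImmersion.lift i.left _ ki
  have hi0 : i0 ≫ i.left = (i ≫ ι[G]).left := IsClosedImmersion.lift_fac _ _ _
  let inv' : H' ⟶ H' := Over.homMk i0 (by rw [← Over.w i, reassoc_of% hi0, Over.w, Over.w])
  have hinv : inv' ≫ i = i ≫ ι[G] := by ext1; exact hi0
  -- unit
  have he : (η[H] ≫ t) ≫ i = η[G] := by rw [Category.assoc, hti, IsMonHom.one_hom]
  let inst : GrpObj H' := grpObjOfMono' i (η[H] ≫ t) he m hm inv' hinv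
  refine ⟨inst, ⟨he, hm⟩, ⟨rfl, ?_⟩⟩
  rw [← cancel_mono i, Category.assoc, hti, Category.assoc]
  change _ = (t ⊗ₘ t) ≫ m ≫ i
  rw [hm, tensorHom_comp_tensorHom_assoc, hti, IsMonHom.mul_hom]

/-- SGA3 VI_B 1.2: the schematic image of a quasi-compact homomorphism of group schemes over a
field is a closed subgroup scheme, and the map to it is surjective. -/
theorem exists_image_subgroup (f : H ⟶ G) [IsMonHom f] [QuasiCompact f.left] :
    ∃ (H' : Over (Spec (CommRingCat.of K))) (_ : GrpObj H') (i : H' ⟶ G) (f' : H ⟶ H'),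
      IsMonHom i ∧ IsMonHom f' ∧ f' ≫ i = f ∧ IsClosedImmersion i.left ∧
      f'.left.ker = ⊥ ∧ QuasiCompact f'.left ∧ Surjective f'.left := by
  let H' : Over (Spec (CommRingCat.of K)) := Over.mk (f.left.imageι ≫ G.hom)
  let i : H' ⟶ G := Over.homMk f.left.imageι rfl
  let t : H ⟶ H' := Over.homMk f.left.toImage (by
    change f.left.toImage ≫ f.left.imageι ≫ G.hom = H.hom
    rw [Scheme.Hom.toImage_imageι_assoc, Over.w])
  have hti : t ≫ i = f := by ext1; exact f.left.toImage_imageι
  have hci : IsClosedImmersion i.left := inferInstanceAs (IsClosedImmersion f.left.imageι)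
  have hqc : QuasiCompact t.left := inferInstanceAs (QuasiCompact f.left.toImage)
  have hdom : IsSchemeTheoreticallyDominant t.left :=
    inferInstanceAs (IsSchemeTheoreticallyDominant f.left.toImage)
  obtain ⟨inst, hi, ht⟩ := exists_grpObj_of_closedImmersion_of_dominant K H G f H' i t hti
  refine ⟨H', inst, i, t, hi, ht, hti, hci, hdom.ker_eq_bot, hqc, ⟨?_⟩⟩
  have hd : IsDominant t.left := inferInstance
  exact surjective_of_quasiCompact_dominant K H H' t hd.denseRange

end

end Groth.Agent.H90
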