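import Mathlib
import Groth.Agent.H90.GrpMinPrime

/-!
The irreducible component of a group scheme over a field through the identity is geometrically
irreducible.
-/

set_option autoImplicit false

universe u

namespace Groth.Agent.H90

open CategoryTheory MonoidalCategory CartesianMonoidalCategory MonObj GrpObj AlgebraicGeometry
open Limits

/-- An irreducible scheme over an algebraically closed field is geometrically irreducible. -/
lemma geometricallyIrreducible_of_irreducibleSpace (k : Type u) [Field k] [IsAlgClosed k]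
    {X : Scheme.{u}} [IrreducibleSpace X] (f : X ⟶ Spec (CommRingCat.of k)) :
    GeometricallyIrreducible f := by
  refine ⟨geometrically_iff_of_commRing_of_isClosedUnderIsomorphisms.mpr fun L _ _ => ?_⟩
  have : GeometricallyIrreducible (Spec.map (CommRingCat.ofHom (algebraMap k L))) :=
    Groth.Agent.H13.geometricallyIrreducible_specMap_of_isAlgClosed k L
  infer_instance

/-- Geometric irreducibility over a field can be checked after a field extension. -/
lemma geometricallyIrreducible_of_pullback (K : Type u) [Field K] {X : Scheme.{u}}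
    (f : X ⟶ Spec (CommRingCat.of K)) (Ω : Type u) [Field Ω]
    (g : Spec (CommRingCat.of Ω) ⟶ Spec (CommRingCat.of K))
    (h : GeometricallyIrreducible (pullback.snd f g)) : GeometricallyIrreducible f := by
  refine ⟨fun L _ y Z fst snd hsq => ?_⟩
  have hsub : Subsingleton ↥(Spec (CommRingCat.of K)) :=
    inferInstanceAs (Subsingleton (PrimeSpectrum K))
  have hsubL : Subsingleton ↥(Spec (CommRingCat.of L)) :=
    inferInstanceAs (Subsingleton (PrimeSpectrum L))
  -- a common field extension
  obtain ⟨m, -, -⟩ := Scheme.Pullback.exists_preimage_pullback (f := y) (g := g)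
    (IsLocalRing.closedPoint L) (IsLocalRing.closedPoint Ω) (Subsingleton.elim _ _)
  obtain ⟨m₁, hm₁⟩ : ∃ m₁ : Spec ((pullback y g).residueField m) ⟶ Spec (CommRingCat.of L),
      m₁ = (pullback y g).fromSpecResidueField m ≫ pullback.fst y g := ⟨_, rfl⟩
  obtain ⟨m₂, hm₂⟩ : ∃ m₂ : Spec ((pullback y g).residueField m) ⟶ Spec (CommRingCat.of Ω),
      m₂ = (pullback y g).fromSpecResidueField m ≫ pullback.snd y g := ⟨_, rfl⟩
  have hm : m₁ ≫ y = m₂ ≫ g := by
    rw [hm₁, hm₂, Category.assoc, Category.assoc, pullback.condition]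
  -- the base change to the common extension
  have hbig : IsPullback (pullback.fst snd m₁ ≫ fst) (pullback.snd snd m₁) f (m₁ ≫ y) :=
    (IsPullback.of_hasPullback snd m₁).paste_horiz hsq |>.flip |> fun h' => by
      simpa using h'.flip
  rw [hm] at hbig
  have hw : (pullback.fst snd m₁ ≫ fst) ≫ f = (pullback.snd snd m₁ ≫ m₂) ≫ g := by
    rw [hbig.w, Category.assoc]
  have hlift : pullback.lift _ _ hw ≫ pullback.fst f g = pullback.fst snd m₁ ≫ fst :=
    pullback.lift_fst _ _ _
  rw [← hlift] at hbig
  have hleft := IsPullback.of_right hbig (pullback.lift_snd _ _ hw)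
    (IsPullback.of_hasPullback f g)
  have hirr : IrreducibleSpace ↥(pullback snd m₁) :=
    h.geometrically_irreducibleSpace m₂ _ _ hleft
  -- surjectivity
  have hsurj1 : Surjective m₁ := by
    constructor
    intro z
    exact ⟨IsLocalRing.closedPoint _, Subsingleton.elim _ _⟩
  have hsurj : Function.Surjective (pullback.fst snd m₁) := (pullback.fst snd m₁).surjective
  have himg := (IrreducibleSpace.isIrreducible_univ ↥(pullback snd m₁)).image
    (pullback.fst snd m₁) (pullback.fst snd m₁).continuous.continuousOn
  rw [Set.image_univ, hsurj.range_eq] at himg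
  exact (irreducibleSpace_def _).mpr himg

/-- The fibre of a base change over a rational point is a single point. -/
lemma eq_of_fst_eq_rational {K : Type u} [Field K] {X : Scheme.{u}}
    (f : X ⟶ Spec (CommRingCat.of K)) (σ : Spec (CommRingCat.of K) ⟶ X) (hσ : σ ≫ f = 𝟙 _)
    (Ω : Type u) [Field Ω] (g : Spec (CommRingCat.of Ω) ⟶ Spec (CommRingCat.of K))
    (p : ↥(pullback f g)) (hp : pullback.fst f g p = σ (IsLocalRing.closedPoint K)) :
    p = (pullback.lift (g ≫ σ) (𝟙 _) (by rw [Category.assoc, hσ, Category.comp_id,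
      Category.id_comp])) (IsLocalRing.closedPoint Ω) := by
  have hw : (g ≫ σ) ≫ f = 𝟙 _ ≫ g := by
    rw [Category.assoc, hσ, Category.comp_id, Category.id_comp]
  -- the left square is a pullback
  have hbig : IsPullback (pullback.lift (g ≫ σ) (𝟙 _) hw ≫ pullback.snd f g) g g
      (σ ≫ f) := by
    rw [pullback.lift_snd, hσ]
    exact IsPullback.of_horiz_isIso ⟨by rw [Category.id_comp, Category.comp_id]⟩
  have hleft : IsPullback (pullback.lift (g ≫ σ) (𝟙 _) hw) g (pullback.fst f g) σ :=
    IsPullback.of_right hbig (pullback.lift_fst _ _ hw) (IsPullback.of_hasPullback f g).flip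
  have hsubΩ : Subsingleton ↥(Spec (CommRingCat.of Ω)) :=
    inferInstanceAs (Subsingleton (PrimeSpectrum Ω))
  obtain ⟨q, hq1, hq2⟩ := Scheme.Pullback.exists_preimage_pullback
    (f := pullback.fst f g) (g := σ) p (IsLocalRing.closedPoint K) hp
  have h1 : hleft.isoPullback.inv ≫ pullback.lift (g ≫ σ) (𝟙 _) hw =
      pullback.fst (pullback.fst f g) σ := hleft.isoPullback_inv_fst
  rw [← hq1, ← h1, Scheme.Hom.comp_apply]
  congr 1
  exact Subsingleton.elim _ _

/-- the base change of the identity component to an algebraic closure is irreducible. -/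
theorem irreducibleSpace_pullback_algebraicClosure (K : Type u) [Field K]
    (G : Over (Spec (CommRingCat.of K))) [GrpObj G] (Z : Scheme.{u}) (incl : Z ⟶ G.left)
    [IsClosedImmersion incl]
    (hZ : Set.range ⇑incl ∈ irreducibleComponents ↥G.left)
    (he : η[G].left (IsLocalRing.closedPoint K) ∈ Set.range ⇑incl) :
    IrreducibleSpace ↥(pullback (incl ≫ G.hom)
      (Spec.map (CommRingCat.ofHom (algebraMap K (AlgebraicClosure K))))) := by
  obtain ⟨g, hg⟩ : ∃ g : Spec (CommRingCat.of (AlgebraicClosure K)) ⟶ Spec (CommRingCat.of K),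
      g = Spec.map (CommRingCat.ofHom (algebraMap K (AlgebraicClosure K))) := ⟨_, rfl⟩
  rw [← hg]
  have hgint : IsIntegralHom g := by
    rw [hg, IsIntegralHom.SpecMap_iff]
    exact algebraMap_isIntegral_iff.mpr inferInstance
  have hG : GrpObj (Over.mk G.hom) := ‹GrpObj G›
  let G' : Over (Spec (CommRingCat.of (AlgebraicClosure K))) := Over.mk (pullback.snd G.hom g)
  let _ : GrpObj G' := Over.grpObjMkPullbackSnd (f := G.hom) (g := g)
  have hflat : Flat (pullback.fst G.hom g) := inferInstance
  have hgen : GeneralizingMap (pullback.fst G.hom g) := Flat.generalizingMap _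
  have hclosed : IsClosedMap (pullback.fst G.hom g) := (pullback.fst G.hom g).isClosedMap
  -- the unit point of `G'`
  obtain ⟨σ, hσ⟩ : ∃ σ : Spec (CommRingCat.of K) ⟶ G.left, σ = η[G].left := ⟨_, rfl⟩
  have hση : σ ≫ G.hom = 𝟙 (Spec (CommRingCat.of K)) := by
    rw [hσ]; exact Over.w η[G]
  have hσpt : σ (IsLocalRing.closedPoint K) = η[G].left (IsLocalRing.closedPoint K) := by
    rw [hσ]
  obtain ⟨e', he'⟩ : ∃ e' : G'.left, e' = (pullback.lift (g ≫ σ) (𝟙 _)
      (by rw [Category.assoc, hση, Category.comp_id, Category.id_comp]))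
      (IsLocalRing.closedPoint (AlgebraicClosure K)) := ⟨_, rfl⟩
  have hρe' : pullback.fst G.hom g e' = η[G].left (IsLocalRing.closedPoint K) := by
    rw [he', ← Scheme.Hom.comp_apply, pullback.lift_fst, Scheme.Hom.comp_apply, ← hσpt]
    congr 1
    exact @Subsingleton.elim _ (inferInstanceAs (Subsingleton (PrimeSpectrum K))) _ _
  have huniq : ∀ p : G'.left, pullback.fst G.hom g p = η[G].left (IsLocalRing.closedPoint K) →
      p = e' := by
    intro p hp
    rw [he']
    rw [← hσpt] at hp
    exact eq_of_fst_eq_rational G.hom σ hση _ g p hp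
  -- the generic points
  obtain ⟨ξ, hξ⟩ := QuasiSober.sober hZ.1 (isClosed_of_mem_irreducibleComponents _ hZ)
  have hξe : ξ ⤳ η[G].left (IsLocalRing.closedPoint K) := by
    rw [specializes_iff_mem_closure, hξ.def]; exact he
  have hξmax : ∀ c : G.left, c ⤳ ξ → c = ξ := by
    apply eq_of_specializes_of_maximal
    rw [hξ.def]; exact hZ
  obtain ⟨υ, hυe, hυmax⟩ := exists_maximal_generization G'.left e'
  have hρmax : ∀ w : G'.left, (∀ c : G'.left, c ⤳ w → c = w) →
      ∀ c : G.left, c ⤳ pullback.fst G.hom g w → c = pullback.fst G.hom g w := by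
    intro w hw c hc
    obtain ⟨c', hc', rfl⟩ := hgen hc
    rw [hw c' hc']
  have hρυ : pullback.fst G.hom g υ = ξ := by
    apply eq_of_specializes K G (η[G].left (IsLocalRing.closedPoint K)) _ _ _ hξe
      (hρmax υ hυmax) hξmax
    rw [← hρe']
    exact hυe.map (pullback.fst G.hom g).continuous
  -- the key inclusion
  have hkey : ∀ w : G'.left, pullback.fst G.hom g w ∈ Set.range ⇑incl → υ ⤳ w := by
    intro w hw
    obtain ⟨w₁, hw₁, hw₁max⟩ := exists_maximal_generization G'.left w
    have h1 : pullback.fst G.hom g w₁ = ξ := by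
      apply eq_of_specializes K G (pullback.fst G.hom g w) _ _ _ _ (hρmax w₁ hw₁max) hξmax
      · exact hw₁.map (pullback.fst G.hom g).continuous
      · rw [specializes_iff_mem_closure, hξ.def]; exact hw
    have h2 : η[G].left (IsLocalRing.closedPoint K) ∈
        (pullback.fst G.hom g) '' closure {w₁} := by
      have hcl : IsClosed ((pullback.fst G.hom g) '' closure {w₁}) :=
        hclosed _ isClosed_closure
      have hξmem : ξ ∈ (pullback.fst G.hom g) '' closure {w₁} :=
        ⟨w₁, subset_closure rfl, h1⟩
      have := closure_minimal (Set.singleton_subset_iff.mpr hξmem) hcl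
      rw [hξ.def] at this
      exact this he
    obtain ⟨p, hp, hpe⟩ := h2
    have hpe' : p = e' := huniq p hpe
    rw [hpe', ← specializes_iff_mem_closure] at hp
    have h3 : w₁ = υ := eq_of_specializes _ G' e' w₁ υ hp hυe hw₁max hυmax
    rw [← h3]; exact hw₁
  -- the map `j`
  have hw : incl ≫ G.hom = incl ≫ G.hom := rfl
  obtain ⟨j, hj⟩ : ∃ j : pullback (incl ≫ G.hom) g ⟶ pullback G.hom g,
      j = pullback.map (incl ≫ G.hom) g G.hom g incl (𝟙 _) (𝟙 _)
        (by rw [Category.comp_id]) (by rw [Category.comp_id, Category.id_comp]) := ⟨_, rfl⟩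
  have hjci : IsClosedImmersion j := by
    rw [hj]
    exact MorphismProperty.pullbackMap (P := @IsClosedImmersion)
      (inferInstance : IsClosedImmersion incl)
      (inferInstance : IsClosedImmersion (𝟙 (Spec (CommRingCat.of (AlgebraicClosure K)))))
      rfl (Category.id_comp g).symm
  have hjrange : Set.range ⇑j = (pullback.fst G.hom g) ⁻¹' Set.range ⇑incl := by
    rw [hj, Scheme.Pullback.range_map]
    have : Set.range ⇑(𝟙 (Spec (CommRingCat.of (AlgebraicClosure K)))) = Set.univ := by
      rw [Set.range_eq_univ]; intro y; exact ⟨y, rfl⟩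
    rw [this, Set.preimage_univ, Set.inter_univ]
  have hjemb : Topology.IsEmbedding j := j.isEmbedding
  have hυrange : υ ∈ Set.range ⇑j := by
    rw [hjrange, Set.mem_preimage, hρυ, ← hξ.def]
    exact subset_closure rfl
  obtain ⟨p, hp⟩ := hυrange
  have hall : ∀ q : ↥(pullback (incl ≫ G.hom) g), p ⤳ q := by
    intro q
    rw [← hjemb.isInducing.specializes_iff, hp]
    apply hkey
    have : j q ∈ Set.range ⇑j := ⟨q, rfl⟩
    rwa [hjrange] at this
  rw [irreducibleSpace_def, Set.top_eq_univ]
  have huniv : (Set.univ : Set ↥(pullback (incl ≫ G.hom) g)) = closure {p} := by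
    symm
    rw [Set.eq_univ_iff_forall]
    intro q
    rw [← specializes_iff_mem_closure]
    exact hall q
  rw [huniv]
  exact isIrreducible_singleton.closure

/-- The irreducible component of a group scheme over a field through the identity is
geometrically irreducible. -/
theorem geometricallyIrreducible_component_one (K : Type u) [Field K]
    (G : Over (Spec (CommRingCat.of K))) [GrpObj G] (Z : Scheme.{u}) (incl : Z ⟶ G.left)
    [IsClosedImmersion incl]
    (hZ : Set.range ⇑incl ∈ irreducibleComponents ↥G.left)
    (he : η[G].left (IsLocalRing.closedPoint K) ∈ Set.range ⇑incl) :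
    GeometricallyIrreducible (incl ≫ G.hom) := by
  have h1 := irreducibleSpace_pullback_algebraicClosure K G Z incl hZ he
  apply geometricallyIrreducible_of_pullback K (incl ≫ G.hom) (AlgebraicClosure K)
    (Spec.map (CommRingCat.ofHom (algebraMap K (AlgebraicClosure K))))
  exact geometricallyIrreducible_of_irreducibleSpace (AlgebraicClosure K) _

end Groth.Agent.H90
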