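import Mathlib

set_option autoImplicit false

universe u

namespace Groth.Agent.H90

open CategoryTheory MonoidalCategory CartesianMonoidalCategory MonObj GrpObj AlgebraicGeometry
open Limits

section
variable {C : Type*} [Category C] [CartesianMonoidalCategory C] (A : C) [GrpObj A]

/-- the "difference" map `(g, h) ↦ g⁻¹ h` -/
def divMap : A ⊗ A ⟶ A := lift (fst A A ≫ ι) (snd A A) ≫ μ

/-- The diagonal of a group object is the base change of the unit section along `divMap`. -/
lemma isPullback_diag_unit :
    IsPullback (toUnit A) (lift (𝟙 A) (𝟙 A)) η[A] (divMap A) := by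
  refine ⟨⟨?_⟩, ⟨PullbackCone.IsLimit.mk _ (fun cone => cone.snd ≫ fst A A) ?_ ?_ ?_⟩⟩
  · unfold divMap
    rw [← Category.assoc, comp_lift, lift_fst_assoc, lift_snd, Category.id_comp, GrpObj.left_inv]
  · intro cone
    exact toUnit_unique _ _
  · intro cone
    have h : cone.fst ≫ η[A] = cone.snd ≫ lift (fst A A ≫ ι) (snd A A) ≫ μ := cone.condition
    rw [← Category.assoc, comp_lift, ← Category.assoc, toUnit_unique cone.fst (toUnit _),
      eq_comm, lift_inv_left_eq, lift_comp_one_right] at h
    apply CartesianMonoidalCategory.hom_ext
    · rw [Category.assoc, lift_fst, Category.comp_id]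
    · rw [Category.assoc, lift_snd, Category.comp_id, h]
  · intro cone m _ hm2
    rw [← hm2, Category.assoc, lift_fst, Category.comp_id]

/-- The unit section of a group object is the base change of the diagonal along `g ↦ (g, e)`. -/
lemma isPullback_unit_diag :
    IsPullback η[A] η[A] (lift (𝟙 A) (𝟙 A)) (lift (𝟙 A) (toUnit A ≫ η[A])) := by
  refine ⟨⟨?_⟩, ⟨PullbackCone.IsLimit.mk _ (fun cone => toUnit _) ?_ ?_ ?_⟩⟩
  · rw [comp_lift, comp_lift, Category.comp_id, ← Category.assoc,
      toUnit_unique (η[A] ≫ toUnit A) (𝟙 _), Category.id_comp]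
  · intro cone
    have h := congrArg (· ≫ snd A A) cone.condition
    simp only [Category.assoc, lift_snd, Category.comp_id] at h
    rw [h, ← Category.assoc, toUnit_unique (cone.snd ≫ toUnit A) (toUnit _)]
  · intro cone
    have h1 := congrArg (· ≫ fst A A) cone.condition
    simp only [Category.assoc, lift_fst, Category.comp_id] at h1
    have h := congrArg (· ≫ snd A A) cone.condition
    simp only [Category.assoc, lift_snd, Category.comp_id] at h
    rw [← h1, h, ← Category.assoc, toUnit_unique (cone.snd ≫ toUnit A) (toUnit _)]
  · intro cone m _ _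
    exact toUnit_unique _ _

end

theorem separated_iff_unit (S : Scheme.{u}) (G : Over S) [GrpObj G] :
    (IsSeparated G.hom ↔ IsClosedImmersion η[G].left) ∧
      (QuasiSeparated G.hom ↔ QuasiCompact η[G].left) := by
  have sq1 := (isPullback_diag_unit G).map (Over.forget S)
  have sq2 := (isPullback_unit_diag G).map (Over.forget S)
  simp only [Over.forget_obj, Over.forget_map] at sq1 sq2
  have hdiag : (lift (𝟙 G) (𝟙 G)).left = pullback.diagonal G.hom := rfl
  rw [hdiag] at sq1 sq2
  constructor
  · constructor
    · intro h
      exact MorphismProperty.of_isPullback (P := @IsClosedImmersion) sq2 h.isClosedImmersion_diagonal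
    · intro h
      exact ⟨MorphismProperty.of_isPullback (P := @IsClosedImmersion) sq1 h⟩
  · constructor
    · intro h
      exact MorphismProperty.of_isPullback (P := @QuasiCompact) sq2 h.quasiCompact_diagonal
    · intro h
      exact ⟨MorphismProperty.of_isPullback (P := @QuasiCompact) sq1 h⟩

/-- A section of a morphism to a scheme with discrete underlying space is a closed immersion. -/
lemma isClosedImmersion_of_section_of_discrete {X Y : Scheme.{u}} [DiscreteTopology Y]
    (f : X ⟶ Y) (e : Y ⟶ X) (he : e ≫ f = 𝟙 Y) : IsClosedImmersion e := by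
  rw [IsZariskiLocalAtTarget.iff_of_openCover (P := @IsClosedImmersion) X.affineCover]
  intro i
  have hp : IsClosedImmersion (pullback.fst e (X.affineCover.f i)) :=
    IsClosedImmersion.of_isPreimmersion _ (isClosed_discrete _)
  have hcomp : pullback.snd e (X.affineCover.f i) ≫ (X.affineCover.f i ≫ f) =
      pullback.fst e (X.affineCover.f i) := by
    rw [← Category.assoc, ← pullback.condition, Category.assoc, he, Category.comp_id]
  have h2 : IsClosedImmersion (pullback.snd e (X.affineCover.f i) ≫
      (X.affineCover.f i ≫ f)) := by rw [hcomp]; exact hp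
  have h3 : IsSeparated (X.affineCover.f i ≫ f) := by
    have : IsSeparated ((X.affineCover.f i ≫ f) ≫ terminal.from Y) := by
      rw [terminal.comp_from]; infer_instance
    exact IsSeparated.of_comp _ (terminal.from Y)
  exact @IsClosedImmersion.of_comp _ _ _ (pullback.snd e (X.affineCover.f i))
    (X.affineCover.f i ≫ f) h2 h3

theorem isSeparated_of_discrete (S : Scheme.{u}) [DiscreteTopology S] (G : Over S) [GrpObj G] :
    IsSeparated G.hom := by
  rw [(separated_iff_unit S G).1]
  apply isClosedImmersion_of_section_of_discrete G.hom η[G].left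
  exact Over.w η[G]

theorem formallyUnramified_iff_unit (S : Scheme.{u}) (G : Over S) [GrpObj G]
    [LocallyOfFiniteType G.hom] :
    FormallyUnramified G.hom ↔ IsOpenImmersion η[G].left := by
  have sq1 := (isPullback_diag_unit G).map (Over.forget S)
  have sq2 := (isPullback_unit_diag G).map (Over.forget S)
  simp only [Over.forget_obj, Over.forget_map] at sq1 sq2
  have hdiag : (lift (𝟙 G) (𝟙 G)).left = pullback.diagonal G.hom := rfl
  rw [hdiag] at sq1 sq2
  constructor
  · intro h
    exact MorphismProperty.of_isPullback (P := @IsOpenImmersion) sq2 inferInstance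
  · intro h
    have : IsOpenImmersion (pullback.diagonal G.hom) :=
      MorphismProperty.of_isPullback (P := @IsOpenImmersion) sq1 h
    infer_instance

end Groth.Agent.H90
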