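import Mathlib
import Groth.Agent.H90.GrpFlat
import Groth.Agent.H90.GrpUnitSection

/-!
A surjective monomorphism of group schemes over a field with quasi-compact source and reduced
target is an isomorphism.
-/

set_option autoImplicit false

universe u

namespace Groth.Agent.H90

open CategoryTheory MonoidalCategory CartesianMonoidalCategory MonObj GrpObj AlgebraicGeometry
open Limits

lemma isSeparated_of_field (K : Type u) [Field K] (G : Over (Spec (CommRingCat.of K)))
    [GrpObj G] : IsSeparated G.hom := by
  have hsub : Subsingleton ↥(Spec (CommRingCat.of K)) :=
    inferInstanceAs (Subsingleton (PrimeSpectrum K))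
  have : DiscreteTopology ↥(Spec (CommRingCat.of K)) := inferInstance
  exact isSeparated_of_discrete _ G

lemma quasiCompact_hom_of_field (K : Type u) [Field K] (G H : Over (Spec (CommRingCat.of K)))
    [GrpObj H] [QuasiCompact G.hom] (f : G ⟶ H) : QuasiCompact f.left := by
  have := isSeparated_of_field K H
  have : QuasiCompact (f.left ≫ H.hom) := by rw [Over.w f]; infer_instance
  exact QuasiCompact.of_comp f.left H.hom

theorem isIso_of_mono_of_surjective_of_isReduced (K : Type u) [Field K]
    (G H : Over (Spec (CommRingCat.of K))) [GrpObj G] [GrpObj H] [QuasiCompact G.hom]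
    [IsReduced H.left] (f : G ⟶ H) [IsMonHom f] [Mono f] [Surjective f.left] : IsIso f := by
  have hqc := quasiCompact_hom_of_field K G H f
  have hflat : Flat f.left :=
    flat_of_quasiCompact_dominant_of_isReduced K G H f f.left.surjective.denseRange
  have hmono : Mono f.left := inferInstanceAs (Mono ((Over.forget _).map f))
  have : IsIso f.left := Flat.isIso_of_surjective_of_mono f.left
  have : IsIso ((Over.forget _).map f) := this
  exact isIso_of_reflects_iso f (Over.forget _)

end Groth.Agent.H90
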