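import Mathlib
import Groth.Agent.H90.GrpTranslate
import Groth.Agent.H90.GrpdClosure

set_option autoImplicit false

universe u

namespace Groth.Agent.H90

open CategoryTheory MonoidalCategory CartesianMonoidalCategory MonObj GrpObj AlgebraicGeometry
open Limits

/-- Translating a morphism with open image by any morphism: `(t, w) ↦ f(t) ψ(w)` has open image
(group schemes over a field). -/
theorem isOpen_range_translate_of_isOpen (K : Type u) [Field K]
    (G : Over (Spec (CommRingCat.of K))) [GrpObj G] {T W : Over (Spec (CommRingCat.of K))}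
    (f : T ⟶ G) (w : W ⟶ G) (hw : IsOpen (Set.range w.left)) :
    IsOpen (Set.range ((f ⊗ₘ w) ≫ μ[G]).left) := by
  rw [tensorHom_comp_mul]
  have h2 : IsIso (shearHom f).left := inferInstanceAs (IsIso ((Over.forget _).map (shearHom f)))
  have h3 : UniversallyOpen (snd T G).left := by
    rw [Over.snd_left]
    infer_instance
  have hrange : Set.range ((T ◁ w) ≫ shearHom f ≫ snd T G).left =
      (snd T G).left '' ((shearHom f).left '' Set.range (T ◁ w).left) := by
    ext x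
    simp only [Over.comp_left, Scheme.Hom.comp_apply, Set.mem_range, Set.mem_image,
      exists_exists_eq_and]
  rw [hrange]
  apply (snd T G).left.isOpenMap
  apply (shearHom f).left.homeomorph.isOpenMap
  have : Set.range (T ◁ w).left = (snd T G).left ⁻¹' Set.range w.left := by
    rw [Over.whiskerLeft_left, Scheme.Pullback.range_map]
    have : Set.range (𝟙 T.left : T.left ⟶ T.left) = Set.univ := by
      rw [Set.range_eq_univ]; intro y; exact ⟨y, rfl⟩
    rw [this, Set.preimage_univ, Set.univ_inter]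
    rfl
  rw [this]
  exact hw.preimage (snd T G).left.continuous

/-- A homomorphism of group schemes over a field with open image has closed image. -/
theorem isClosed_range_of_isOpen (K : Type u) [Field K] (H G : Over (Spec (CommRingCat.of K)))
    [GrpObj H] [GrpObj G] (ψ : H ⟶ G) [IsMonHom ψ] (h : IsOpen (Set.range ψ.left)) :
    IsClosed (Set.range ψ.left) := by
  rw [← isOpen_compl_iff, isOpen_iff_forall_mem_open]
  intro x hx
  obtain ⟨xT, hxT⟩ : ∃ xT : Over.mk (G.left.fromSpecResidueField x ≫ G.hom) ⟶ G,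
      xT = Over.homMk (G.left.fromSpecResidueField x) rfl := ⟨_, rfl⟩
  have hxTleft : ∀ y, xT.left y = x := by
    intro y
    rw [hxT]
    exact Scheme.fromSpecResidueField_apply _ _
  refine ⟨Set.range ((xT ⊗ₘ ψ) ≫ μ[G]).left, ?_,
    isOpen_range_translate_of_isOpen K G xT ψ h, ?_⟩
  · -- disjointness
    rintro y ⟨w, rfl⟩ ⟨h', hh'⟩
    apply hx
    obtain ⟨Q, q, α, β, π, hπ1, hπ2, hπq⟩ := exists_common_point
      ((xT ⊗ₘ ψ) ≫ μ[G]).left ψ.left (𝟙 G.left) (𝟙 G.left) w h'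
      (((xT ⊗ₘ ψ) ≫ μ[G]).left w) rfl hh'
    have hαβ : α ≫ ((xT ⊗ₘ ψ) ≫ μ[G]).left = β ≫ ψ.left := by
      rw [← hπ1, ← hπ2]
    -- objects over Spec K
    have hw1 : α ≫ (Over.mk (G.left.fromSpecResidueField x ≫ G.hom) ⊗ H).hom = β ≫ H.hom := by
      rw [← Over.w ((xT ⊗ₘ ψ) ≫ μ[G]), ← Category.assoc, hαβ, Category.assoc, Over.w ψ]
    obtain ⟨αo, hαo⟩ : ∃ αo : Over.mk (β ≫ H.hom) ⟶
        Over.mk (G.left.fromSpecResidueField x ≫ G.hom) ⊗ H, αo.left = α :=
      ⟨Over.homMk α hw1, rfl⟩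
    obtain ⟨βo, hβo⟩ : ∃ βo : Over.mk (β ≫ H.hom) ⟶ H, βo.left = β := ⟨Over.homMk β rfl, rfl⟩
    have hO : αo ≫ (xT ⊗ₘ ψ) ≫ μ[G] = βo ≫ ψ := by
      apply Over.OverMorphism.ext
      have e1 : (αo ≫ (xT ⊗ₘ ψ) ≫ μ[G]).left = α ≫ ((xT ⊗ₘ ψ) ≫ μ[G]).left := by
        rw [Over.comp_left, hαo]
      have e2 : (βo ≫ ψ).left = β ≫ ψ.left := by rw [Over.comp_left, hβo]
      rw [e1, e2]
      exact hαβ
    -- algebra
    have h1 : αo ≫ (xT ⊗ₘ ψ) ≫ μ[G] =
        lift ((αo ≫ fst _ _) ≫ xT) ((αo ≫ snd _ _) ≫ ψ) ≫ μ[G] := by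
      rw [← Category.assoc, ← lift_map, ← comp_lift, lift_fst_snd, Category.comp_id]
    rw [h1] at hO
    have h2 := (eq_lift_inv_right ((αo ≫ fst _ _) ≫ xT) (βo ≫ ψ) ((αo ≫ snd _ _) ≫ ψ)).mpr hO
    have h3 : lift (βo ≫ ψ) (((αo ≫ snd _ _) ≫ ψ) ≫ ι) ≫ μ[G] =
        (lift βo ((αo ≫ snd _ _) ≫ ι) ≫ μ[H]) ≫ ψ := by
      have e1 : ((αo ≫ snd _ _) ≫ ψ) ≫ ι[G] = ((αo ≫ snd _ _) ≫ ι[H]) ≫ ψ := by
        simp only [Category.assoc, inv_hom]
      rw [e1, Category.assoc (lift _ _) μ ψ, IsMonHom.mul_hom, lift_map_assoc]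
    rw [h3] at h2
    have h4 := congrArg (fun m => m.left q) h2
    simp only [Over.comp_left, Scheme.Hom.comp_apply] at h4
    rw [hxTleft] at h4
    rw [h4]
    exact ⟨_, rfl⟩
  · -- x is in the translate
    have h1 : lift (𝟙 _) (toUnit _ ≫ η[H]) ≫ (xT ⊗ₘ ψ) ≫ μ[G] = xT := by
      rw [lift_map_assoc, Category.id_comp, Category.assoc, IsMonHom.one_hom,
        lift_comp_one_right]
    have h2 := congrArg (fun m => m.left (IsLocalRing.closedPoint _)) h1
    simp only [Over.comp_left, Scheme.Hom.comp_apply] at h2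
    rw [hxTleft] at h2
    exact ⟨_, h2⟩

end Groth.Agent.H90
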