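import Groth.Prelude.Def_AlgGrp
import Groth.Agent.H90.GrpFlat
import Groth.Agent.H90.GrpFlatIso
import Groth.Agent.H53.ReducedSm
import Mathlib.AlgebraicGeometry.Morphisms.LocalFlatDescent

/-! A surjective homomorphism of smooth finite type groups over a field is smooth iff its
kernel is smooth. -/

set_option autoImplicit false
universe u

open CategoryTheory CategoryTheory.Limits MonoidalCategory CartesianMonoidalCategory MonObj
  AlgebraicGeometry

namespace Groth.Agent.H90

section Abstract

variable {C : Type*} [Category C] [CartesianMonoidalCategory C]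

/-- For a homomorphism `φ : G ⟶ H` with kernel `i : N ⟶ G`, the square
`G ⊗ N ⟶ G`, `(g, n) ↦ g * i n` is the kernel pair of `φ`. -/
theorem isPullback_shear_of_isKernel {G H N : C} [GrpObj G] [GrpObj H] (φ : G ⟶ H) [IsMonHom φ]
    (i : N ⟶ G) (hN : IsPullback i (toUnit N) φ η[H]) :
    IsPullback (fst G N) (fst G N * (snd G N ≫ i)) φ φ := by
  have hmul : ∀ {T : C} (a b : T ⟶ G), (a * b) ≫ φ = (a ≫ φ) * (b ≫ φ) := fun {T} a b =>
    map_mul (IsMonHom.monoidHom φ T) a b
  have hinv : ∀ {T : C} (a : T ⟶ G), a⁻¹ ≫ φ = (a ≫ φ)⁻¹ := fun {T} a =>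
    map_inv (IsMonHom.monoidHom φ T) a
  have hiφ : ∀ {T : C} (n : T ⟶ N), (n ≫ i) ≫ φ = 1 := by
    intro T n
    rw [Category.assoc, hN.w, ← Category.assoc, Hom.one_def, toUnit_unique (n ≫ toUnit N) (toUnit T)]
  have w : fst G N ≫ φ = (fst G N * (snd G N ≫ i)) ≫ φ := by
    rw [hmul, hiφ, _root_.mul_one]
  have key : ∀ s : PullbackCone φ φ, (s.fst⁻¹ * s.snd) ≫ φ = toUnit s.pt ≫ η[H] := by
    intro s
    rw [hmul, hinv, s.condition, inv_mul_cancel, Hom.one_def]
  refine ⟨⟨w⟩, ⟨PullbackCone.IsLimit.mk w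
    (fun s => lift s.fst (hN.lift (s.fst⁻¹ * s.snd) (toUnit s.pt) (key s))) ?_ ?_ ?_⟩⟩
  · intro s
    exact lift_fst _ _
  · intro s
    rw [MonObj.comp_mul, lift_fst, ← Category.assoc, lift_snd, hN.lift_fst, mul_inv_cancel_left]
  · intro s m h1 h2
    have h3 : (m ≫ snd G N) ≫ i = s.fst⁻¹ * s.snd := by
      rw [← h2, ← h1, MonObj.comp_mul, Category.assoc, inv_mul_cancel_left]
    apply CartesianMonoidalCategory.hom_ext
    · rw [lift_fst, h1]
    · rw [lift_snd]
      apply hN.hom_ext
      · rw [hN.lift_fst, h3]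
      · exact toUnit_unique _ _

end Abstract

section Field

variable (k : Type u) [Field k]

theorem smooth_hom_iff_smooth_kernel
    (G H N : Over (Spec (CommRingCat.of k))) [GrpObj G] [GrpObj H]
    [QuasiCompact G.hom] [Smooth H.hom]
    (φ : G ⟶ H) [IsMonHom φ] [Surjective φ.left] (i : N ⟶ G)
    (hN : IsPullback i (toUnit N) φ η[H]) :
    Smooth φ.left ↔ Smooth N.hom := by
  have hNhom : N.hom = (toUnit N).left ≫ (𝟙_ (Over (Spec (CommRingCat.of k)))).hom :=
    (Over.w (toUnit N)).symm
  constructor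
  · intro hφ
    have sq := hN.map (Over.forget (Spec (CommRingCat.of k)))
    simp only [Over.forget_obj, Over.forget_map] at sq
    have h1 : Smooth (toUnit N).left := MorphismProperty.of_isPullback (P := @Smooth) sq hφ
    have h2 : IsIso (𝟙_ (Over (Spec (CommRingCat.of k)))).hom :=
      inferInstanceAs (IsIso (𝟙 (Spec (CommRingCat.of k))))
    rw [hNhom]
    infer_instance
  · intro hNs
    have hred : IsReduced H.left := Groth.Agent.H53.isReduced_of_smooth_scheme H.hom
    have hqc : QuasiCompact φ.left := quasiCompact_hom_of_field k G H φ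
    have hflat : Flat φ.left :=
      flat_of_quasiCompact_dominant_of_isReduced k G H φ φ.left.surjective.denseRange
    have sq := (isPullback_shear_of_isKernel φ i hN).map (Over.forget (Spec (CommRingCat.of k)))
    simp only [Over.forget_obj, Over.forget_map] at sq
    have hfst : Smooth (fst G N).left := by
      rw [Over.fst_left]
      infer_instance
    exact MorphismProperty.of_isPullback_of_descendsAlong (P := @Smooth)
      (Q := @Surjective ⊓ @Flat ⊓ @QuasiCompact) sq ⟨⟨inferInstance, hflat⟩, hqc⟩ hfst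

end Field

end Groth.Agent.H90
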