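import Mathlib
import Groth.Prelude.Def_CInt
import Groth.Agent.H19.SchDense

/-!
Morphisms agreeing on a (universally) schematically dense open (no quasi-compactness hypotheses).
-/

set_option autoImplicit false

universe u

namespace Groth.Agent.H90

open CategoryTheory AlgebraicGeometry Limits

/-- A closed immersion through which a schematically dense open factors is an isomorphism. -/
theorem isIso_of_isClosedImmersion_of_isSchematicallyDense {T V : Scheme.{u}} (i : T ⟶ V)
    [IsClosedImmersion i] (W : V.Opens) (hW : CInt.IsSchematicallyDense W)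
    (w : W.toScheme ⟶ T) (hw : w ≫ i = W.ι) : IsIso i := by
  rw [IsClosedImmersion.isIso_iff_ker_eq_bot]
  ext V' : 2
  rw [Scheme.Hom.ker_apply]
  simp only [Scheme.IdealSheafData.ideal_bot, Pi.bot_apply]
  rw [← RingHom.injective_iff_ker_eq_bot, injective_iff_map_eq_zero]
  intro a ha
  have hinj := (Groth.Agent.H19.injective_res_iff W V'.1).mp (hW V'.1)
  apply hinj
  rw [map_zero]
  have h1 : W.ι.app V'.1 a = ((W.toScheme).presheaf.map (eqToHom (by rw [← hw]; rfl)).op)
      (w.app (i ⁻¹ᵁ V'.1) (i.app V'.1 a)) := by
    rw [Scheme.Hom.congr_app hw.symm V'.1, Scheme.Hom.comp_app]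
    rfl
  rw [h1]
  have h2 : (i.app V'.1) a = 0 := ha
  rw [h2, map_zero, map_zero]

/-- Transport of schematic density along an isomorphism. -/
theorem isSchematicallyDense_of_preimage_of_isIso {P X : Scheme.{u}} (φ : P ⟶ X) [IsIso φ]
    (U : X.Opens) (hU : CInt.IsSchematicallyDense (φ ⁻¹ᵁ U)) : CInt.IsSchematicallyDense U := by
  intro V
  rw [injective_iff_map_eq_zero]
  intro a ha
  have hinj : Function.Injective (φ.app V) :=
    ((ConcreteCategory.isIso_iff_bijective (φ.app V)).mp inferInstance).1
  apply hinj
  rw [map_zero]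
  apply (injective_iff_map_eq_zero _).mp (hU (φ ⁻¹ᵁ V))
  have hnat := ConcreteCategory.congr_hom
    (φ.naturality (homOfLE (inf_le_left : V ⊓ U ≤ V)).op) a
  rw [CommRingCat.comp_apply, CommRingCat.comp_apply, ha, map_zero] at hnat
  exact hnat.symm

/-- Two morphisms `a b : P ⟶ Q` over `B` with `Q` separated over `B` which agree on a
schematically dense open of `P` are equal. -/
theorem eq_of_isSchematicallyDense_of_isSeparated {P Q B : Scheme.{u}} (a b : P ⟶ Q) (q : Q ⟶ B)
    [IsSeparated q] (haq : a ≫ q = b ≫ q) (W : P.Opens) (hW : CInt.IsSchematicallyDense W)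
    (hab : W.ι ≫ a = W.ι ≫ b) : a = b := by
  let X' : Over B := Over.mk (a ≫ q)
  let Y' : Over B := Over.mk q
  let U' : Over B := Over.mk (W.ι ≫ a ≫ q)
  let f' : X' ⟶ Y' := Over.homMk a
  let g' : X' ⟶ Y' := Over.homMk b haq.symm
  let ι' : U' ⟶ X' := Over.homMk W.ι
  have : IsSeparated Y'.hom := ‹_›
  have hcl : IsClosedImmersion (equalizer.ι f' g').left := inferInstance
  have hfac : (equalizer.lift ι' (by ext1; exact hab) : U' ⟶ equalizer f' g').left ≫
      (equalizer.ι f' g').left = W.ι := by
    rw [← Over.comp_left, equalizer.lift_ι]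
    rfl
  have := isIso_of_isClosedImmersion_of_isSchematicallyDense (equalizer.ι f' g').left W hW _ hfac
  rw [← cancel_epi (equalizer.ι f' g').left]
  exact congr($(equalizer.condition f' g').left)

/-- A surjective immersion is a closed immersion. -/
theorem isClosedImmersion_of_isImmersion_of_surjective {E X : Scheme.{u}} (e : E ⟶ X)
    [IsImmersion e] (he : Function.Surjective e) : IsClosedImmersion e := by
  refine IsClosedImmersion.of_isPreimmersion e ?_
  rw [Set.range_eq_univ.mpr he]
  exact isClosed_univ

/-- SGA3 XVIII 1.? / EGA IV 11.10.?: morphisms to a scheme with separated fibres which agree on a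
universally schematically dense open are equal. -/
theorem eq_of_relSchDense_of_fibres_separated (S : Scheme.{u}) (X Y : Over S) (U : X.left.Opens)
    (hU : ∀ (S' : Scheme.{u}) (g : S' ⟶ S),
      CInt.IsSchematicallyDense ((pullback.fst X.hom g) ⁻¹ᵁ U))
    (hY : ∀ s : S, IsSeparated (pullback.snd Y.hom (S.fromSpecResidueField s)))
    (f g : X ⟶ Y) (h : U.ι ≫ f.left = U.ι ≫ g.left) : f = g := by
  -- the equalizer of `f` and `g` is a surjective immersion
  have hsurj : Function.Surjective (equalizer.ι f.left g.left) := by
    intro x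
    let s : S := X.hom x
    let σ := S.fromSpecResidueField s
    let p := pullback.fst X.hom σ
    obtain ⟨x', hx', -⟩ := Scheme.Pullback.exists_preimage_pullback (f := X.hom) (g := σ) x
      (IsLocalRing.closedPoint _) (by
        change s = _
        exact (Scheme.fromSpecResidueField_apply s _).symm)
    have := hY s
    let a : pullback X.hom σ ⟶ pullback Y.hom σ :=
      pullback.lift (p ≫ f.left) (pullback.snd X.hom σ)
        (by rw [Category.assoc, Over.w f, pullback.condition])
    let b : pullback X.hom σ ⟶ pullback Y.hom σ :=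
      pullback.lift (p ≫ g.left) (pullback.snd X.hom σ)
        (by rw [Category.assoc, Over.w g, pullback.condition])
    have hab : a = b := by
      refine eq_of_isSchematicallyDense_of_isSeparated a b (pullback.snd Y.hom σ) ?_
        (p ⁻¹ᵁ U) (hU _ σ) ?_
      · simp only [a, b, pullback.lift_snd]
      · apply pullback.hom_ext
        · simp only [a, b, Category.assoc, pullback.lift_fst]
          have hr : (p ⁻¹ᵁ U).ι ≫ p = (p ∣_ U) ≫ U.ι := (morphismRestrict_ι p U).symm
          rw [reassoc_of% hr, reassoc_of% hr, h]
        · simp only [a, b, Category.assoc, pullback.lift_snd]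
    have hpf : p ≫ f.left = p ≫ g.left := by
      have h1 : a ≫ pullback.fst Y.hom σ = p ≫ f.left := pullback.lift_fst _ _ _
      have h2 : b ≫ pullback.fst Y.hom σ = p ≫ g.left := pullback.lift_fst _ _ _
      rw [← h1, ← h2, hab]
    refine ⟨equalizer.lift p hpf x', ?_⟩
    rw [← Scheme.Hom.comp_apply, equalizer.lift_ι]
    exact hx'
  have hcl : IsClosedImmersion (equalizer.ι f.left g.left) :=
    isClosedImmersion_of_isImmersion_of_surjective _ hsurj
  -- `U` is schematically dense in `X`
  have hUX : CInt.IsSchematicallyDense U :=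
    isSchematicallyDense_of_preimage_of_isIso (pullback.fst X.hom (𝟙 S)) U (hU S (𝟙 S))
  have hiso : IsIso (equalizer.ι f.left g.left) :=
    isIso_of_isClosedImmersion_of_isSchematicallyDense _ U hUX (equalizer.lift U.ι h)
      (equalizer.lift_ι _ _)
  ext1
  rw [← cancel_epi (equalizer.ι f.left g.left)]
  exact equalizer.condition _ _

end Groth.Agent.H90
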