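import Mathlib
import Groth.Agent.H90.SchDenseEq

/-!
Restriction of schematically dense opens to open subschemes; sections of a morphism which is an
isomorphism over a schematically dense open.
-/

set_option autoImplicit false

universe u

namespace Groth.Agent.H90

open CategoryTheory AlgebraicGeometry Limits

/-- The trace of a schematically dense open on an open subscheme is schematically dense. -/
theorem isSchematicallyDense_preimage_ι {E : Scheme.{u}} (O D : E.Opens)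
    (hD : CInt.IsSchematicallyDense D) : CInt.IsSchematicallyDense (O.ι ⁻¹ᵁ D) := by
  intro V'
  have e : O.ι ''ᵁ (V' ⊓ O.ι ⁻¹ᵁ D) = (O.ι ''ᵁ V') ⊓ D := by
    ext x
    constructor
    · rintro ⟨y, ⟨hy1, hy2⟩, rfl⟩
      exact ⟨⟨y, hy1, rfl⟩, hy2⟩
    · rintro ⟨⟨y, hy1, rfl⟩, hy2⟩
      exact ⟨y, ⟨hy1, hy2⟩, rfl⟩
  have hinj := hD (O.ι ''ᵁ V')
  rw [injective_iff_map_eq_zero] at hinj ⊢
  intro a ha
  apply hinj a
  have h1 : E.presheaf.map (homOfLE (inf_le_left : (O.ι ''ᵁ V') ⊓ D ≤ O.ι ''ᵁ V')).op =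
      E.presheaf.map (homOfLE (show O.ι ''ᵁ (V' ⊓ O.ι ⁻¹ᵁ D) ≤ O.ι ''ᵁ V' from
        (Scheme.Hom.image_mono _ inf_le_left))).op ≫ E.presheaf.map (eqToHom e.symm).op := by
    rw [← Functor.map_comp]
    rfl
  rw [h1, CommRingCat.comp_apply]
  have h2 : E.presheaf.map (homOfLE (show O.ι ''ᵁ (V' ⊓ O.ι ⁻¹ᵁ D) ≤ O.ι ''ᵁ V' from
        (Scheme.Hom.image_mono _ inf_le_left))).op a = 0 := ha
  rw [h2, map_zero]

/-- If `f` is an isomorphism over `U` and `f ⁻¹ U` is schematically dense, then every section of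
`f` is an open immersion, and `f` restricted to its (open) image is an isomorphism. -/
theorem exists_open_isIso_of_section {E S : Scheme.{u}} (f : E ⟶ S) (U : S.Opens)
    (hiso : IsIso (morphismRestrict f U)) (hdense : CInt.IsSchematicallyDense (f ⁻¹ᵁ U))
    (σ : S ⟶ E) (hσ : σ ≫ f = 𝟙 S) :
    ∃ W : E.Opens, Set.range σ.base ⊆ W ∧ IsIso (W.ι ≫ f) := by
  have himm : IsImmersion σ := by
    have : IsImmersion (σ ≫ f) := by rw [hσ]; infer_instance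
    exact IsImmersion.of_comp σ f
  let W₀ : E.Opens := σ.coborderRange
  let σ' : S ⟶ W₀.toScheme := σ.liftCoborder
  have hσ' : σ' ≫ W₀.ι = σ := σ.liftCoborder_ι
  have hcl : IsClosedImmersion σ' := inferInstance
  -- `f ≫ σ` is the identity on `f ⁻¹ U`
  have hfr : (f ∣_ U) ≫ U.ι = (f ⁻¹ᵁ U).ι ≫ f := morphismRestrict_ι _ _
  have hrange : Set.range (U.ι ≫ σ) ⊆ Set.range (f ⁻¹ᵁ U).ι := by
    rintro _ ⟨y, rfl⟩
    rw [Scheme.Opens.range_ι]
    change f (σ (U.ι y)) ∈ U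
    rw [← Scheme.Hom.comp_apply, hσ]
    exact y.2
  let σU : U.toScheme ⟶ (f ⁻¹ᵁ U).toScheme := IsOpenImmersion.lift (f ⁻¹ᵁ U).ι (U.ι ≫ σ) hrange
  have hσU : σU ≫ (f ⁻¹ᵁ U).ι = U.ι ≫ σ := IsOpenImmersion.lift_fac _ _ _
  have h1 : σU ≫ (f ∣_ U) = 𝟙 _ := by
    rw [← cancel_mono U.ι, Category.assoc, hfr, reassoc_of% hσU, hσ, Category.comp_id,
      Category.id_comp]
  have h2 : (f ∣_ U) ≫ σU = 𝟙 _ := by
    rw [← cancel_mono (f ∣_ U), Category.assoc, h1, Category.comp_id, Category.id_comp]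
  have h3 : (f ⁻¹ᵁ U).ι ≫ f ≫ σ = (f ⁻¹ᵁ U).ι := by
    rw [← reassoc_of% hfr, ← hσU, reassoc_of% h2]
  -- the trace of `f ⁻¹ U` on `W₀`
  let D : W₀.toScheme.Opens := W₀.ι ⁻¹ᵁ (f ⁻¹ᵁ U)
  have hD : CInt.IsSchematicallyDense D := isSchematicallyDense_preimage_ι W₀ _ hdense
  have hrD : Set.range (D.ι ≫ W₀.ι) ⊆ Set.range (f ⁻¹ᵁ U).ι := by
    rintro _ ⟨y, rfl⟩
    rw [Scheme.Opens.range_ι]
    exact y.2
  let d : D.toScheme ⟶ (f ⁻¹ᵁ U).toScheme := IsOpenImmersion.lift (f ⁻¹ᵁ U).ι (D.ι ≫ W₀.ι) hrD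
  have hd : d ≫ (f ⁻¹ᵁ U).ι = D.ι ≫ W₀.ι := IsOpenImmersion.lift_fac _ _ _
  have hw : (D.ι ≫ W₀.ι ≫ f) ≫ σ' = D.ι := by
    rw [← cancel_mono W₀.ι, Category.assoc, Category.assoc, Category.assoc, hσ', ← reassoc_of% hd,
      h3, hd]
  have hisoσ : IsIso σ' := isIso_of_isClosedImmersion_of_isSchematicallyDense σ' D hD _ hw
  refine ⟨W₀, ?_, ?_⟩
  · rintro _ ⟨y, rfl⟩
    have : σ y = W₀.ι (σ' y) := by rw [← Scheme.Hom.comp_apply, hσ']
    change σ y ∈ W₀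
    rw [this]
    exact (σ' y).2
  · have h4 : σ' ≫ (W₀.ι ≫ f) = 𝟙 _ := by rw [reassoc_of% hσ', hσ]
    have : W₀.ι ≫ f = inv σ' := by
      rw [← cancel_epi σ', h4, IsIso.hom_inv_id]
    rw [this]
    infer_instance

end Groth.Agent.H90
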