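import Mathlib
import Groth.Prelude.Def_HTop
import Groth.Agent.H73.ValSpec
import Groth.Agent.H37.VCover

set_option autoImplicit false

universe w u

namespace Groth.Agent.H90

open CategoryTheory CategoryTheory.Limits AlgebraicGeometry IsLocalRing

/-- a morphism `Spec W ⟶ Spec V` of spectra of valuation rings sending closed point to closed point
and generic point to generic point comes from an extension of valuation rings -/
theorem exists_isExtVal_of_points (V W : CommRingCat.{u}) [IsDomain V] [ValuationRing V]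
    [IsDomain W] [ValuationRing W] (h : Spec W ⟶ Spec V)
    (h1 : h (closedPoint W) = closedPoint V)
    (h2 : h (⟨⊥, Ideal.isPrime_bot⟩ : PrimeSpectrum W) = (⟨⊥, Ideal.isPrime_bot⟩ : PrimeSpectrum V)) :
    ∃ φ : V ⟶ W, HTop.IsExtVal V W φ ∧ Spec.map φ = h := by
  refine ⟨Spec.preimage h, ⟨?_, ?_⟩, Spec.map_preimage h⟩
  · rw [RingHom.injective_iff_ker_eq_bot, RingHom.ker_eq_comap_bot]
    have := congrArg PrimeSpectrum.asIdeal h2
    rw [← Spec.map_preimage h] at this
    exact this
  · rw [isLocalHom_iff_comap_closedPoint]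
    rw [← Spec.map_preimage h] at h1
    exact h1

/-- the valuation-lifting property from lifting of the specialization `generic ⤳ closed` -/
theorem hasValLift_of_specialization_lift {T : Scheme.{u}} (E : PreZeroHypercover.{w} T)
    (H : ∀ (V : CommRingCat.{u}) [IsDomain V] [ValuationRing V] (g : Spec V ⟶ T),
      ∃ (j : E.I₀) (P : Scheme.{u}) (a : P ⟶ Spec V) (b : P ⟶ E.X j) (p p' : P),
        b ≫ E.f j = a ≫ g ∧ p' ⤳ p ∧ a p = closedPoint V ∧
          a p' = (⟨⊥, Ideal.isPrime_bot⟩ : PrimeSpectrum V)) :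
    HTop.HasValLift E := by
  intro V _ _ g
  obtain ⟨j, P, a, b, p, p', hab, hpp, hp, hp'⟩ := H V g
  obtain ⟨A, _, _, _, h, hh1, hh2⟩ := H73.exists_valuationRing_of_specializes hpp
  let W : CommRingCat.{u} := CommRingCat.of A
  have hW1 : IsDomain W := inferInstanceAs (IsDomain A)
  have hW2 : ValuationRing W := inferInstanceAs (ValuationRing A)
  obtain ⟨φ, hφ, hφh⟩ := exists_isExtVal_of_points V W (h ≫ a)
    (by rw [Scheme.Hom.comp_apply]; erw [hh1]; exact hp)
    (by rw [Scheme.Hom.comp_apply]; erw [hh2]; exact hp')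
  refine ⟨W, hW1, hW2, φ, hφ, j, h ≫ b, ?_⟩
  rw [Category.assoc, hab, ← Category.assoc, hφh]

end Groth.Agent.H90

namespace Groth.Agent.H90

open CategoryTheory CategoryTheory.Limits AlgebraicGeometry IsLocalRing

/-- a finite jointly surjective family of flat morphisms has the valuation lifting property -/
theorem hasValLift_of_flat {T : Scheme.{u}} (E : PreZeroHypercover.{w} T)
    (hflat : ∀ j, Flat (E.f j)) (hsurj : ∀ t : T, ∃ (j : E.I₀) (x : E.X j), E.f j x = t) :
    HTop.HasValLift E := by
  apply hasValLift_of_specialization_lift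
  intro V _ _ g
  obtain ⟨j, x, hx⟩ := hsurj (g (closedPoint V))
  have := hflat j
  obtain ⟨p, hp1, hp2⟩ := Scheme.Pullback.exists_preimage_pullback (f := g) (g := E.f j)
    (closedPoint V) x hx.symm
  have hflat' : Flat (pullback.fst g (E.f j)) := inferInstance
  have hgen := Flat.generalizingMap (pullback.fst g (E.f j))
  have hspec : (⟨⊥, Ideal.isPrime_bot⟩ : PrimeSpectrum V) ⤳ pullback.fst g (E.f j) p := by
    rw [hp1]
    exact H73.bot_specializes_closedPoint V
  obtain ⟨p', hp'1, hp'2⟩ := hgen hspec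
  exact ⟨j, pullback g (E.f j), pullback.fst g (E.f j), pullback.snd g (E.f j), p, p',
    pullback.condition.symm, hp'1, hp1, hp'2⟩

theorem isStandardV_of_standard_fpqc {T : Scheme.{u}} [IsAffine T] (E : PreZeroHypercover.{w} T)
    (hfin : Finite E.I₀) (haff : ∀ j, IsAffine (E.X j)) (hflat : ∀ j, Flat (E.f j))
    (hsurj : ∀ t : T, ∃ (j : E.I₀) (x : E.X j), E.f j x = t) : HTop.IsStandardV E :=
  ⟨inferInstance, hfin, haff, hasValLift_of_flat E hflat hsurj⟩

end Groth.Agent.H90

namespace Groth.Agent.H90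

open CategoryTheory CategoryTheory.Limits AlgebraicGeometry IsLocalRing

/-- a specialization over `generic ⤳ closed` of `Spec V` is realized by an extension of valuation
rings -/
theorem exists_extVal_lift {P : Scheme.{u}} (V : CommRingCat.{u}) [IsDomain V] [ValuationRing V]
    (a : P ⟶ Spec V) (p p' : P) (hpp : p' ⤳ p) (hp : a p = closedPoint V)
    (hp' : a p' = (⟨⊥, Ideal.isPrime_bot⟩ : PrimeSpectrum V)) :
    ∃ (W : CommRingCat.{u}) (_ : IsDomain W) (_ : ValuationRing W) (φ : V ⟶ W) (h : Spec W ⟶ P),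
      HTop.IsExtVal V W φ ∧ h ≫ a = Spec.map φ ∧ h (closedPoint W) = p := by
  obtain ⟨A, _, _, _, h, hh1, hh2⟩ := H73.exists_valuationRing_of_specializes hpp
  let W : CommRingCat.{u} := CommRingCat.of A
  have hW1 : IsDomain W := inferInstanceAs (IsDomain A)
  have hW2 : ValuationRing W := inferInstanceAs (ValuationRing A)
  obtain ⟨φ, hφ, hφh⟩ := exists_isExtVal_of_points V W (h ≫ a)
    (by rw [Scheme.Hom.comp_apply]; erw [hh1]; exact hp)
    (by rw [Scheme.Hom.comp_apply]; erw [hh2]; exact hp')
  exact ⟨W, hW1, hW2, φ, h, hφ, hφh.symm, hh1⟩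

/-- a standard ph covering has the valuation lifting property -/
theorem isStandardV_of_isStandardPh {T : Scheme.{u}} (E : PreZeroHypercover.{w} T)
    (hE : HTop.IsStandardPh E) : HTop.IsStandardV E := by
  obtain ⟨hT, hfin, haff, U, f, ι, hprop, hsurj, hopen, hι, hcov⟩ := hE
  refine ⟨hT, hfin, haff, ?_⟩
  intro V _ _ g
  -- the base change of `f` to `Spec V`
  have hsurj' : Surjective (pullback.fst g f) := inferInstance
  have hprop' : IsProper (pullback.fst g f) := inferInstance
  obtain ⟨p', hp'⟩ := (pullback.fst g f).surjective (⟨⊥, Ideal.isPrime_bot⟩ : PrimeSpectrum V)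
  have hcl : IsClosedMap (pullback.fst g f) := (pullback.fst g f).isClosedMap
  have hsp : SpecializingMap (pullback.fst g f) := hcl.specializingMap
  have hspec : pullback.fst g f p' ⤳ closedPoint V := by
    rw [hp']
    exact H73.bot_specializes_closedPoint V
  obtain ⟨p, hpp, hp⟩ := hsp hspec
  obtain ⟨W, hW1, hW2, φ, h, hφ, hh, hhp⟩ :=
    exists_extVal_lift V (pullback.fst g f) p p' hpp hp hp'
  obtain ⟨j, hj⟩ := hcov (pullback.snd g f p)
  have := hopen j
  have hrange : Set.range (h ≫ pullback.snd g f) ⊆ Set.range (ι j) := by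
    apply H37.range_subset_of_closedPoint W
    rw [Scheme.Hom.comp_apply, hhp]
    exact hj
  refine ⟨W, hW1, hW2, φ, hφ, j, IsOpenImmersion.lift (ι j) (h ≫ pullback.snd g f) hrange, ?_⟩
  rw [← hι j, ← Category.assoc, IsOpenImmersion.lift_fac, Category.assoc, ← pullback.condition,
    ← Category.assoc, hh]

end Groth.Agent.H90
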