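import Mathlib
import Groth.Prelude.Def_HTop
import Groth.Agent.H90.ValLift
import Groth.Agent.H37.VCover2

set_option autoImplicit false

universe w w' w'' u

namespace Groth.Agent.H90

open CategoryTheory CategoryTheory.Limits AlgebraicGeometry IsLocalRing

/-- valuation lifting for a single morphism, universe-free form -/
def VL {X Y : Scheme.{u}} (f : X ⟶ Y) : Prop :=
  ∀ (V : CommRingCat.{u}) [IsDomain V] [ValuationRing V] (g : Spec V ⟶ Y),
    ∃ (W : CommRingCat.{u}) (_ : IsDomain W) (_ : ValuationRing W) (φ : V ⟶ W),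
      HTop.IsExtVal V W φ ∧ ∃ g' : Spec W ⟶ X, g' ≫ f = Spec.map φ ≫ g

theorem hasValLift_singleton_iff {X Y : Scheme.{u}} (f : X ⟶ Y) :
    HTop.HasValLift (PreZeroHypercover.singleton.{w} f) ↔ VL f := by
  constructor
  · intro H V _ _ g
    obtain ⟨W, hW1, hW2, φ, hφ, j, g', hg'⟩ := H V g
    exact ⟨W, hW1, hW2, φ, hφ, g', hg'⟩
  · intro H V _ _ g
    obtain ⟨W, hW1, hW2, φ, hφ, g', hg'⟩ := H V g
    exact ⟨W, hW1, hW2, φ, hφ, PUnit.unit, g', hg'⟩

/-- a V covering by one morphism has valuation lifting -/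
theorem vl_of_isVCover {X Y : Scheme.{u}} (f : X ⟶ Y)
    (hF : HTop.IsVCover (PreZeroHypercover.singleton.{w} f)) : VL f := by
  intro V _ _ g
  obtain ⟨H, hH1, hH2⟩ := H37.exists_standardV_refinesOver g (PreZeroHypercover.singleton.{w} f) hF
  obtain ⟨W, hW1, hW2, φ, hφ, j, g', hg'⟩ := hH1.lift V (𝟙 _)
  obtain ⟨i, k, hk⟩ := hH2 j
  let k' : H.X j ⟶ X := k
  have hk' : k' ≫ f = H.f j ≫ g := hk
  refine ⟨W, hW1, hW2, φ, hφ, g' ≫ k', ?_⟩
  rw [Category.assoc, hk', ← Category.assoc, hg', Category.assoc, Category.id_comp]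

/-- valuation lifting for a quasi-compact morphism gives a V covering -/
theorem isVCover_of_vl {X Y : Scheme.{u}} (f : X ⟶ Y) [QuasiCompact f] (hf : VL f) :
    HTop.IsVCover (PreZeroHypercover.singleton.{w} f) := by
  intro U
  have hUaff : IsAffine ((U : Y.Opens) : Scheme.{u}) := U.2
  have hc : IsCompact ((f ⁻¹ᵁ (U : Y.Opens) : X.Opens) : Set X) :=
    f.isCompact_preimage U.2.isCompact
  obtain ⟨Us, hUs, hUf, hUeq⟩ :=
    X.isBasis_affineOpens.exists_finite_of_isCompact (U := f ⁻¹ᵁ (U : Y.Opens)) hc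
  have hfin : Finite Us := hUf.to_subtype
  obtain ⟨n, ⟨e⟩⟩ := Finite.exists_equiv_fin Us
  let D : Fin n → X.Opens := fun i => (e.symm i).1
  have hD : ∀ i, IsAffineOpen (D i) := fun i => hUs (e.symm i).2
  have hDle : ∀ i, D i ≤ f ⁻¹ᵁ (U : Y.Opens) := by
    intro i
    rw [hUeq]
    exact le_sSup (e.symm i).2
  have hcov : ∀ x : X, x ∈ f ⁻¹ᵁ (U : Y.Opens) → ∃ i, x ∈ D i := by
    intro x hx
    rw [hUeq, TopologicalSpace.Opens.mem_sSup] at hx
    obtain ⟨u, hu, hxu⟩ := hx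
    refine ⟨e ⟨u, hu⟩, ?_⟩
    show x ∈ (e.symm (e ⟨u, hu⟩)).1
    rw [Equiv.symm_apply_apply]
    exact hxu
  let F : PreZeroHypercover.{0} ((U : Y.Opens) : Scheme.{u}) :=
    { I₀ := Fin n
      X := fun i => ((D i : X.Opens) : Scheme.{u})
      f := fun i => f.resLE (U : Y.Opens) (D i) (hDle i) }
  have hfac : ∀ i : Fin n, F.f i ≫ (U : Y.Opens).ι = (D i).ι ≫ f :=
    fun i => Scheme.Hom.resLE_comp_ι f (hDle i)
  refine ⟨F, ⟨hUaff, inferInstanceAs (Finite (Fin n)), fun i => hD i, ?_⟩, ?_⟩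
  · intro V _ _ g₀
    obtain ⟨W, hW1, hW2, φ, hφ, g', hg'⟩ := hf V (g₀ ≫ (U : Y.Opens).ι)
    have hIsLoc : IsLocalRing W := inferInstance
    have hx : g' (closedPoint W) ∈ f ⁻¹ᵁ (U : Y.Opens) := by
      show f (g' (closedPoint W)) ∈ (U : Y.Opens)
      rw [← Scheme.Hom.comp_apply, hg', ← Category.assoc, Scheme.Hom.comp_apply]
      exact ((Spec.map φ ≫ g₀) (closedPoint W)).2
    obtain ⟨i, hi⟩ := hcov _ hx
    have hrange : Set.range g' ⊆ Set.range (D i).ι := by
      apply H37.range_subset_of_closedPoint W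
      rw [Scheme.Opens.range_ι]
      exact hi
    refine ⟨W, hW1, hW2, φ, hφ, i, IsOpenImmersion.lift (D i).ι g' hrange, ?_⟩
    rw [← cancel_mono (U : Y.Opens).ι, Category.assoc, hfac, ← Category.assoc,
      IsOpenImmersion.lift_fac, hg', Category.assoc]
  · intro i
    exact ⟨PUnit.unit, (D i).ι, (hfac i).symm⟩

/-- valuation lifting is equivalent to lifting of specializations after every base change -/
theorem vl_iff_specializes {X Y : Scheme.{u}} (f : X ⟶ Y) :
    VL f ↔ ∀ (Z : Scheme.{u}) (g : Z ⟶ Y) (z' z : Z), z' ⤳ z →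
      ∃ w' w : ↑(pullback g f), w' ⤳ w ∧ pullback.fst g f w' = z' ∧ pullback.fst g f w = z := by
  constructor
  · intro hf Z g z' z hz
    obtain ⟨A, _, _, _, k, hk1, hk2⟩ := H73.exists_valuationRing_of_specializes hz
    let V : CommRingCat.{u} := CommRingCat.of A
    have hV1 : IsDomain V := inferInstanceAs (IsDomain A)
    have hV2 : ValuationRing V := inferInstanceAs (ValuationRing A)
    let k' : Spec V ⟶ Z := k
    obtain ⟨W, hW1, hW2, φ, hφ, g', hg'⟩ := hf V (k' ≫ g)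
    let l : Spec W ⟶ pullback g f := pullback.lift (Spec.map φ ≫ k') g'
      (by rw [hg', Category.assoc])
    have hl : l ≫ pullback.fst g f = Spec.map φ ≫ k' := pullback.lift_fst _ _ _
    have hloc : IsLocalHom φ.hom := hφ.2
    have hcl : Spec.map φ (closedPoint W) = closedPoint V :=
      comap_closedPoint φ.hom
    have hgen : Spec.map φ (⟨⊥, Ideal.isPrime_bot⟩ : PrimeSpectrum W)
        = (⟨⊥, Ideal.isPrime_bot⟩ : PrimeSpectrum V) := by
      apply PrimeSpectrum.ext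
      show Ideal.comap φ.hom ⊥ = ⊥
      rw [← RingHom.ker_eq_comap_bot, ← RingHom.injective_iff_ker_eq_bot]
      exact hφ.1
    refine ⟨l (⟨⊥, Ideal.isPrime_bot⟩ : PrimeSpectrum W), l (closedPoint W),
      (H73.bot_specializes_closedPoint W).map l.continuous, ?_, ?_⟩
    · rw [← Scheme.Hom.comp_apply, hl, Scheme.Hom.comp_apply, hgen]
      exact hk2
    · rw [← Scheme.Hom.comp_apply, hl, Scheme.Hom.comp_apply, hcl]
      exact hk1
  · intro H V _ _ g
    obtain ⟨w', w, hww, hw', hw⟩ := H (Spec V) g (⟨⊥, Ideal.isPrime_bot⟩ : PrimeSpectrum V)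
      (closedPoint V) (H73.bot_specializes_closedPoint V)
    obtain ⟨W, hW1, hW2, φ, h, hφ, hh, -⟩ :=
      exists_extVal_lift V (pullback.fst g f) w w' hww hw hw'
    refine ⟨W, hW1, hW2, φ, hφ, h ≫ pullback.snd g f, ?_⟩
    rw [Category.assoc, ← pullback.condition, ← Category.assoc, hh]

theorem isVCover_singleton_tfae {X Y : Scheme.{u}} (f : X ⟶ Y) [QuasiCompact f] :
    (HTop.IsVCover (PreZeroHypercover.singleton.{w} f) ↔
      HTop.HasValLift (PreZeroHypercover.singleton.{w'} f)) ∧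
    (HTop.HasValLift (PreZeroHypercover.singleton.{w''} f) ↔
      ∀ (Z : Scheme.{u}) (g : Z ⟶ Y) (z' z : Z), z' ⤳ z →
        ∃ w' w : ↑(pullback g f), w' ⤳ w ∧ pullback.fst g f w' = z' ∧ pullback.fst g f w = z) := by
  refine ⟨⟨fun h => (hasValLift_singleton_iff f).2 (vl_of_isVCover f h),
    fun h => isVCover_of_vl f ((hasValLift_singleton_iff f).1 h)⟩, ?_⟩
  rw [hasValLift_singleton_iff]
  exact vl_iff_specializes f

end Groth.Agent.H90
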