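import Mathlib
import Groth.Agent.H90.GrpFlat

/-!
Over a base with a single point: a homomorphism from a flat group scheme which is flat at one
point is flat.
-/

set_option autoImplicit false

universe u

namespace Groth.Agent.H90.Base

open CategoryTheory MonoidalCategory CartesianMonoidalCategory MonObj GrpObj AlgebraicGeometry
open Limits
open Groth.Agent.H90

variable {S : Scheme.{u}} (G H : Over S) [GrpObj G] [GrpObj H]

lemma flat_mul_left [Flat G.hom] : Flat (μ[G].left) := by
  rw [mul_eq_shearHom_snd, Over.comp_left]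
  have h2 : IsIso (shearHom (𝟙 G)).left :=
    inferInstanceAs (IsIso ((Over.forget _).map (shearHom (𝟙 G))))
  have h3 : Flat (snd G G).left := by
    rw [Over.snd_left]
    infer_instance
  infer_instance

/-- If `f` is flat at `snd z`, it is flat at `μ z`. -/
theorem flatAt_mul_of_flatAt_snd [Flat G.hom] (f : G ⟶ H) [IsMonHom f] (z : ↥(G ⊗ G).left)
    (hz : FlatAt f.left ((snd G G).left z)) : FlatAt f.left (μ[G].left z) := by
  have h1 : FlatAt (G ◁ f).left z := FlatAt.of_isPullback (isPullback_whiskerLeft_snd G f) z hz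
  have key : μ[G] ≫ f = (G ◁ f) ≫ shearHom f ≫ snd G H := by
    rw [IsMonHom.mul_hom, tensorHom_comp_mul]
  have h2 : IsIso (shearHom f).left :=
    inferInstanceAs (IsIso ((Over.forget _).map (shearHom f)))
  have h3 : Flat (snd G H).left := by
    rw [Over.snd_left]
    infer_instance
  have h4 : Flat (shearHom f ≫ snd G H).left := by
    rw [Over.comp_left]
    infer_instance
  have h5 : FlatAt ((G ◁ f).left ≫ (shearHom f ≫ snd G H).left) z :=
    h1.comp (flatAt_of_flat _ _)
  have h6 : (G ◁ f).left ≫ (shearHom f ≫ snd G H).left = μ[G].left ≫ f.left := by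
    rw [← Over.comp_left, ← Over.comp_left, key]
  rw [h6] at h5
  have := flat_mul_left G
  exact FlatAt.of_comp _ _ z h5

lemma exists_snd_mul [Subsingleton ↥S] (ξ b : G.left) :
    ∃ z : ↥(G ⊗ G).left, (snd G G).left z = ξ ∧ μ[G].left z = b := by
  obtain ⟨w, hw1, hw2⟩ := Scheme.Pullback.exists_preimage_pullback
    (f := G.hom) (g := G.hom) b (ι[G].left ξ) (Subsingleton.elim _ _)
  have hfst : (fst G G).left w = b := by rw [Over.fst_left]; exact hw1
  have hsnd : (snd G G).left w = ι[G].left ξ := by rw [Over.snd_left]; exact hw2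
  refine ⟨(splitHom (𝟙 G)).left w, ?_, ?_⟩
  · rw [← Scheme.Hom.comp_apply, ← Over.comp_left, splitHom_snd, Over.comp_left,
      Scheme.Hom.comp_apply, hsnd, ← Scheme.Hom.comp_apply, ← Over.comp_left, GrpObj.inv_comp_inv]
    rfl
  · rw [← Scheme.Hom.comp_apply, ← Over.comp_left, splitHom_mul, Category.comp_id, hfst]

/-- Over a one-point base, a homomorphism from a flat group scheme which is flat at one point
is flat. -/
theorem flat_of_flatAt [Subsingleton ↥S] [Flat G.hom] (f : G ⟶ H) [IsMonHom f] (ξ : G.left)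
    (hξ : FlatAt f.left ξ) : Flat f.left := by
  apply flat_of_forall_flatAt
  intro b
  obtain ⟨z, hz1, hz2⟩ := exists_snd_mul G ξ b
  rw [← hz2]
  apply flatAt_mul_of_flatAt_snd
  rwa [hz1]

end Groth.Agent.H90.Base
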