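import Groth.Agent.H90.EquivProp
import Groth.Prelude.Def_AGF

/-! Miscellaneous consequences of the homogeneous-space machinery. -/

set_option autoImplicit false
universe u

open CategoryTheory CategoryTheory.Limits MonoidalCategory CartesianMonoidalCategory MonObj
  AlgebraicGeometry MorphismProperty

namespace Groth.Agent.H90

open Groth.Agent.H40

/-- If `G → X` is flat surjective and `G` is smooth over `k` then so is `X`. -/
theorem smooth_of_flat_surjective_of_smooth {S G X : Scheme.{u}} [IsLocallyNoetherian S]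
    (p : X ⟶ S) (q : G ⟶ X) [LocallyOfFiniteType p] [Flat q] [Surjective q] [Smooth (q ≫ p)] :
    Smooth p := by
  have hlfp : LocallyOfFinitePresentation p := inferInstance
  rw [← Scheme.Hom.smoothLocus_eq_top_iff]
  apply top_unique
  intro y _
  obtain ⟨x, rfl⟩ := q.surjective y
  apply Groth.Agent.H25.SmoothFlatTarget.mem_smoothLocus_of_flat_source p q x (Flat.stalkMap q x)
  rw [Scheme.Hom.smoothLocus_eq_top]
  trivial

theorem smooth_of_isQuotient (k : Type u) [Field k]
    (G H X : Over (Spec (CommRingCat.of k))) [GrpObj G] [GrpObj H] [Smooth G.hom]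
    (i : H ⟶ G) (a : AlgGrp.Action G X) (o : 𝟙_ (Over (Spec (CommRingCat.of k))) ⟶ X)
    (hq : AGF.IsQuotient i X a o) : Smooth X.hom := by
  obtain ⟨hft, hflat, hsurj, -⟩ := hq
  have : Smooth ((a.orbitMap o).left ≫ X.hom) := by
    rw [CategoryTheory.Over.w]
    infer_instance
  exact smooth_of_flat_surjective_of_smooth X.hom (a.orbitMap o).left

section Stable

variable (k K : Type u) [Field k] [Field K] [Algebra k K] [IsAlgClosed K]

/-- A closed subset of `W` (locally of finite type over `k`) whose preimage in `W_K` contains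
all closed points is everything. -/
theorem eq_univ_of_forall_point (W : Over (Spec (CommRingCat.of k))) [LocallyOfFiniteType W.hom]
    (F : Set W.left) (hF : IsClosed F)
    (h : ∀ ζ : specOver k K ⟶ W, ζ.left (IsLocalRing.closedPoint K) ∈ F) : F = Set.univ := by
  set T := specOver k K with hT
  have hTsurj : Surjective T.hom := by
    refine ⟨fun y => ⟨IsLocalRing.closedPoint K, ?_⟩⟩
    exact Subsingleton.elim (α := PrimeSpectrum k) _ _
  have hp_surj : Surjective (snd T W).left := by
    rw [Over.snd_left]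
    infer_instance
  have hJ : JacobsonSpace (T ⊗ W).left := by
    let φ : (T ⊗ W).left ⟶ Spec (CommRingCat.of K) := (fst T W).left
    have hφ : LocallyOfFiniteType φ := locallyOfFiniteType_fst_specOver k K W
    exact LocallyOfFiniteType.jacobsonSpace φ
  by_contra hne
  obtain ⟨w, hw⟩ : (Fᶜ).Nonempty := by
    rw [Set.nonempty_compl]
    exact hne
  obtain ⟨z0, hz0⟩ := (snd T W).left.surjective w
  have hO : IsOpen ((snd T W).left ⁻¹' Fᶜ) := hF.isOpen_compl.preimage (snd T W).left.continuous
  obtain ⟨z, hzF, hzc⟩ := nonempty_inter_closedPoints (Z := (snd T W).left ⁻¹' Fᶜ)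
    ⟨z0, by rw [Set.mem_preimage, hz0]; exact hw⟩ hO.isLocallyClosed
  obtain ⟨ζ, hζ⟩ := exists_point_of_closed k K W z hzc
  exact hzF (by rw [← hζ (IsLocalRing.closedPoint K)]; exact h ζ)

theorem stable_iff_points (G X Y : Over (Spec (CommRingCat.of k))) [GrpObj G]
    [Smooth G.hom] [LocallyOfFiniteType X.hom] [IsReduced Y.left] (c : Y ⟶ X)
    [IsClosedImmersion c.left] (a : AlgGrp.Action G X) :
    (∃ act' : G ⊗ Y ⟶ Y, act' ≫ c = (G ◁ c) ≫ a.act) ↔
      ∀ (g : specOver k K ⟶ G) (y : specOver k K ⟶ Y),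
        ∃ y' : specOver k K ⟶ Y, lift g (y ≫ c) ≫ a.act = y' ≫ c := by
  constructor
  · rintro ⟨act', hact'⟩ g y
    refine ⟨lift g y ≫ act', ?_⟩
    rw [Category.assoc, hact', ← Category.assoc]
    congr 1
    apply CartesianMonoidalCategory.hom_ext <;> simp
  · intro h
    have hYft : LocallyOfFiniteType Y.hom := by
      rw [← CategoryTheory.Over.w c]
      infer_instance
    have hWft : LocallyOfFiniteType (G ⊗ Y).hom := by
      rw [← CategoryTheory.Over.w (snd G Y), Over.snd_left]
      infer_instance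
    have hWred : IsReduced (G ⊗ Y).left := by
      have : Smooth (snd G Y).left := by
        rw [Over.snd_left]
        infer_instance
      exact Groth.Agent.H53.isReduced_of_smooth_scheme (snd G Y).left
    set Φ : G ⊗ Y ⟶ X := (G ◁ c) ≫ a.act with hΦ
    have hcl : IsClosed (Φ.left ⁻¹' Set.range c.left) :=
      c.left.isClosedEmbedding.isClosed_range.preimage Φ.left.continuous
    have huniv := eq_univ_of_forall_point k K (G ⊗ Y) _ hcl (by
      intro ζ
      obtain ⟨y', hy'⟩ := h (ζ ≫ fst G Y) (ζ ≫ snd G Y)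
      have e : ζ ≫ Φ = y' ≫ c := by
        rw [← hy', hΦ, ← Category.assoc]
        congr 1
        apply CartesianMonoidalCategory.hom_ext <;> simp
      rw [Set.mem_preimage, ← Scheme.Hom.comp_apply, ← Over.comp_left, e, Over.comp_left,
        Scheme.Hom.comp_apply]
      exact ⟨_, rfl⟩)
    have hrange : Set.range Φ.left ⊆ Set.range c.left := by
      rintro _ ⟨z, rfl⟩
      have : z ∈ Φ.left ⁻¹' Set.range c.left := by rw [huniv]; trivial
      exact this
    obtain ⟨act₀, hact₀⟩ := exists_lift_of_isReduced_of_range_subset c.left Φ.left hrange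
    refine ⟨Over.homMk act₀ ?_, Over.OverMorphism.ext hact₀⟩
    rw [← CategoryTheory.Over.w c, ← Category.assoc, hact₀, CategoryTheory.Over.w Φ]

end Stable

section Constructible

open Topology Set

/-- Near a point `x`, a constructible set contains or misses the closure of `x`. -/
theorem exists_open_inter_closure_subset {S : Type*} [TopologicalSpace S] (x : S) {C : Set S}
    (hC : IsConstructible C) :
    ∃ O : Set S, IsOpen O ∧ x ∈ O ∧ (O ∩ closure {x} ⊆ C ∨ O ∩ closure {x} ⊆ Cᶜ) := by
  induction hC using IsConstructible.empty_union_induction with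
  | open_retrocompact U hU _ =>
    by_cases hxU : x ∈ U
    · exact ⟨U, hU, hxU, Or.inl inter_subset_left⟩
    · refine ⟨univ, isOpen_univ, mem_univ _, Or.inr ?_⟩
      rintro y ⟨-, hy⟩ hyU
      have hsp : x ⤳ y := specializes_iff_mem_closure.mpr hy
      exact hxU (hsp.mem_open hU hyU)
  | union s _ t _ hs ht =>
    obtain ⟨O₁, hO₁, hx₁, h₁⟩ := hs
    obtain ⟨O₂, hO₂, hx₂, h₂⟩ := ht
    refine ⟨O₁ ∩ O₂, hO₁.inter hO₂, ⟨hx₁, hx₂⟩, ?_⟩
    rcases h₁ with h₁ | h₁
    · left
      exact fun y hy => Or.inl (h₁ ⟨hy.1.1, hy.2⟩)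
    rcases h₂ with h₂ | h₂
    · left
      exact fun y hy => Or.inr (h₂ ⟨hy.1.2, hy.2⟩)
    · right
      intro y hy
      rw [compl_union]
      exact ⟨h₁ ⟨hy.1.1, hy.2⟩, h₂ ⟨hy.1.2, hy.2⟩⟩
  | compl s _ hs =>
    obtain ⟨O, hO, hx, h⟩ := hs
    refine ⟨O, hO, hx, ?_⟩
    rcases h with h | h
    · right
      rwa [compl_compl]
    · left
      exact h

/-- A locally constructible subset of a Jacobson space containing all closed points is
everything. -/
theorem eq_univ_of_isLocallyConstructible_of_closedPoints_subset {S : Type*} [TopologicalSpace S]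
    [JacobsonSpace S] {C : Set S} (hC : IsLocallyConstructible C) (h : closedPoints S ⊆ C) :
    C = univ := by
  by_contra hne
  obtain ⟨x, hx⟩ : (Cᶜ).Nonempty := by rwa [nonempty_compl]
  obtain ⟨U, hxU, hU, hUC⟩ := hC x
  have hxU' : x ∈ U := mem_of_mem_nhds hxU
  obtain ⟨O, hO, hxO, hOC⟩ := exists_open_inter_closure_subset (⟨x, hxU'⟩ : U) hUC
  have hOC' : O ∩ closure {(⟨x, hxU'⟩ : U)} ⊆ (Subtype.val ⁻¹' C)ᶜ := by
    rcases hOC with h1 | h1
    · exact absurd (h1 ⟨hxO, subset_closure rfl⟩) hx
    · exact h1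
  let L : Set S := ((↑) '' O) ∩ closure {x}
  have hLlc : IsLocallyClosed L :=
    (hU.isOpenMap_subtype_val _ hO).isLocallyClosed.inter isClosed_closure.isLocallyClosed
  have hLne : L.Nonempty := ⟨x, ⟨⟨x, hxU'⟩, hxO, rfl⟩, subset_closure rfl⟩
  obtain ⟨y, hyL, hyc⟩ := nonempty_inter_closedPoints hLne hLlc
  obtain ⟨⟨y', hy'O, rfl⟩, hycl⟩ := hyL
  refine hOC' ⟨hy'O, ?_⟩ (h hyc)
  rw [← specializes_iff_mem_closure, subtype_specializes_iff]
  exact specializes_iff_mem_closure.mpr hycl

end Constructible

section Homog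

open Topology

variable (k K : Type u) [Field k] [Field K] [Algebra k K] [IsAlgClosed K]

/-- Closed points of a `k`-scheme locally of finite type are images of `K`-points. -/
theorem exists_point_of_closed_base (W : Over (Spec (CommRingCat.of k)))
    [LocallyOfFiniteType W.hom] (w : W.left) (hw : IsClosed {w}) :
    ∃ ζ : specOver k K ⟶ W, ζ.left (IsLocalRing.closedPoint K) = w := by
  set T := specOver k K with hT
  have hTsurj : Surjective T.hom := by
    refine ⟨fun y => ⟨IsLocalRing.closedPoint K, ?_⟩⟩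
    exact Subsingleton.elim (α := PrimeSpectrum k) _ _
  have hp_surj : Surjective (snd T W).left := by
    rw [Over.snd_left]
    infer_instance
  have hJ : JacobsonSpace (T ⊗ W).left := by
    let φ : (T ⊗ W).left ⟶ Spec (CommRingCat.of K) := (fst T W).left
    have hφ : LocallyOfFiniteType φ := locallyOfFiniteType_fst_specOver k K W
    exact LocallyOfFiniteType.jacobsonSpace φ
  obtain ⟨z0, hz0⟩ := (snd T W).left.surjective w
  have hC : IsClosed ((snd T W).left ⁻¹' {w}) := hw.preimage (snd T W).left.continuous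
  obtain ⟨z, hzF, hzc⟩ := nonempty_inter_closedPoints (Z := (snd T W).left ⁻¹' {w})
    ⟨z0, hz0⟩ hC.isLocallyClosed
  obtain ⟨ζ, hζ⟩ := exists_point_of_closed k K W z hzc
  exact ⟨ζ, (hζ _).trans hzF⟩

theorem homogeneous_iff_transitive (G X : Over (Spec (CommRingCat.of k))) [GrpObj G]
    [LocallyOfFiniteType G.hom] [QuasiCompact G.hom] [LocallyOfFiniteType X.hom]
    [QuasiCompact X.hom] (a : AlgGrp.Action G X) :
    Surjective (lift (snd G X) a.act).left ↔
      ∀ x y : specOver k K ⟶ X, ∃ g : specOver k K ⟶ G, lift g x ≫ a.act = y := by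
  set Ψ : G ⊗ X ⟶ X ⊗ X := lift (snd G X) a.act with hΨ
  have hGXft : LocallyOfFiniteType (G ⊗ X).hom := by
    rw [← CategoryTheory.Over.w (snd G X), Over.snd_left]
    infer_instance
  have hXXft : LocallyOfFiniteType (X ⊗ X).hom := by
    rw [← CategoryTheory.Over.w (snd X X), Over.snd_left]
    infer_instance
  have hΨpt : ∀ (g : specOver k K ⟶ G) (x : specOver k K ⟶ X),
      lift g x ≫ Ψ = lift x (lift g x ≫ a.act) := by
    intro g x
    apply CartesianMonoidalCategory.hom_ext <;> simp [hΨ]
  constructor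
  · intro hs x y
    obtain ⟨c, hc⟩ := exists_point_lift k K (G ⊗ X) (X ⊗ X) Ψ (lift x y)
    refine ⟨c ≫ fst G X, ?_⟩
    have h1 : c ≫ snd G X = x := by
      have := congrArg (· ≫ fst X X) hc
      simpa [hΨ] using this
    have h2 : c ≫ a.act = y := by
      have := congrArg (· ≫ snd X X) hc
      simpa [hΨ] using this
    rw [← h1, ← h2]
    congr 1
    apply CartesianMonoidalCategory.hom_ext <;> simp
  · intro h
    have hXXN : IsLocallyNoetherian (X ⊗ X).left :=
      LocallyOfFiniteType.isLocallyNoetherian (X ⊗ X).hom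
    have hJ : JacobsonSpace (X ⊗ X).left := LocallyOfFiniteType.jacobsonSpace (X ⊗ X).hom
    have hΨft : LocallyOfFiniteType Ψ.left := by
      have : LocallyOfFiniteType (Ψ.left ≫ (X ⊗ X).hom) := by
        rw [CategoryTheory.Over.w Ψ]
        infer_instance
      exact locallyOfFiniteType_of_comp Ψ.left (X ⊗ X).hom
    have hGXqc : QuasiCompact (G ⊗ X).hom := by
      rw [← CategoryTheory.Over.w (snd G X), Over.snd_left]
      infer_instance
    have hΨqc : QuasiCompact Ψ.left := by
      have : QuasiCompact (Ψ.left ≫ (X ⊗ X).hom) := by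
        rw [CategoryTheory.Over.w Ψ]
        infer_instance
      exact QuasiCompact.of_comp Ψ.left (X ⊗ X).hom
    have hC : IsLocallyConstructible (Set.range Ψ.left) := by
      rw [← Set.image_univ]
      exact Ψ.left.isLocallyConstructible_image IsLocallyConstructible.univ
    have hsub : closedPoints (X ⊗ X).left ⊆ Set.range Ψ.left := by
      intro w hw
      obtain ⟨ζ, hζ⟩ := exists_point_of_closed_base k K (X ⊗ X) w hw
      obtain ⟨g, hg⟩ := h (ζ ≫ fst X X) (ζ ≫ snd X X)
      refine ⟨(lift g (ζ ≫ fst X X)).left (IsLocalRing.closedPoint K), ?_⟩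
      have e : lift (ζ ≫ fst X X) (ζ ≫ snd X X) = ζ := by
        apply CartesianMonoidalCategory.hom_ext <;> simp
      rw [← Scheme.Hom.comp_apply, ← Over.comp_left, hΨpt, hg, e, hζ]
    have huniv := eq_univ_of_isLocallyConstructible_of_closedPoints_subset hC hsub
    exact ⟨fun w => by
      have : w ∈ Set.range Ψ.left := by rw [huniv]; trivial
      exact this⟩

end Homog

end Groth.Agent.H90
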