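import Groth.Agent.H90.OrbitConn
import Groth.Agent.H25.SmoothFlatTarget

/-! The image of a homomorphism from a smooth group scheme, with its reduced structure, is smooth. -/

set_option autoImplicit false
universe u

open CategoryTheory CategoryTheory.Limits MonoidalCategory CartesianMonoidalCategory MonObj
  AlgebraicGeometry MorphismProperty

namespace Groth.Agent.H90

open Groth.Agent.H40

/-- Lifting through a closed immersion from a reduced scheme. -/
theorem exists_lift_of_isReduced_of_range_subset {W X Y : Scheme.{u}} (c : Y ⟶ X)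
    [IsClosedImmersion c] [IsReduced W] (w : W ⟶ X) (h : Set.range w ⊆ Set.range c) :
    ∃ w' : W ⟶ Y, w' ≫ c = w := by
  have h1 : IsClosedImmersion (pullback.fst w c) := inferInstance
  have h2 : Surjective (pullback.fst w c) := by
    refine ⟨fun x => ?_⟩
    obtain ⟨y, hy⟩ := h ⟨x, rfl⟩
    obtain ⟨p, hp1, hp2⟩ := Scheme.Pullback.exists_preimage_pullback x y hy.symm
    exact ⟨p, hp1⟩
  have : IsIso (pullback.fst w c) := isIso_of_isClosedImmersion_of_surjective _
  exact ⟨inv (pullback.fst w c) ≫ pullback.snd w c, by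
    rw [Category.assoc, ← pullback.condition, IsIso.inv_hom_id_assoc]⟩

section ActPoints

variable {S : Scheme.{u}} {G X : Over S} [GrpObj G]

/-- An action from its description on points. -/
noncomputable def actionOfPoints (act : G ⊗ X ⟶ X)
    (h1 : ∀ (T : Over S) (x : T ⟶ X), lift (1 : T ⟶ G) x ≫ act = x)
    (hmul : ∀ (T : Over S) (g h : T ⟶ G) (x : T ⟶ X),
      lift (g * h) x ≫ act = lift g (lift h x ≫ act) ≫ act) :
    AlgGrp.Action G X where
  act := act
  one_act := by
    have e : (η[G] ▷ X) = lift (1 : 𝟙_ (Over S) ⊗ X ⟶ G) (snd _ X) := by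
      apply CartesianMonoidalCategory.hom_ext
      · rw [whiskerRight_fst, lift_fst, Hom.one_def]
        congr 1
      · rw [whiskerRight_snd, lift_snd]
    rw [e, h1]
    exact (leftUnitor_hom X).symm
  mul_act := by
    have e1 : (μ[G] ▷ X) =
        lift ((fst (G ⊗ G) X ≫ fst G G) * (fst (G ⊗ G) X ≫ snd G G)) (snd _ X) := by
      apply CartesianMonoidalCategory.hom_ext <;> simp [Hom.mul_def]
    have e2 : (α_ G G X).hom ≫ (G ◁ act) = lift (fst (G ⊗ G) X ≫ fst G G)
        (lift (fst (G ⊗ G) X ≫ snd G G) (snd _ X) ≫ act) := by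
      apply CartesianMonoidalCategory.hom_ext
      · simp
      · simp only [Category.assoc, whiskerLeft_snd, lift_snd]
        rw [← Category.assoc]
        congr 1
        apply CartesianMonoidalCategory.hom_ext <;> simp
    rw [e1, hmul, ← e2, Category.assoc]

end ActPoints

section KPoints

variable (k K : Type u) [Field k] [Field K] [Algebra k K]

lemma locallyOfFiniteType_fst_specOver (Z : Over (Spec (CommRingCat.of k)))
    [LocallyOfFiniteType Z.hom] :
    LocallyOfFiniteType (X := (specOver k K ⊗ Z).left) (Y := Spec (CommRingCat.of K))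
      (fst (specOver k K) Z).left := by
  change LocallyOfFiniteType (fst (specOver k K) Z).left
  rw [Over.fst_left]
  infer_instance

lemma lift_id_left_comp_fst (Z : Over (Spec (CommRingCat.of k))) (ζ : specOver k K ⟶ Z) :
    (lift (𝟙 (specOver k K)) ζ).left ≫ (fst (specOver k K) Z).left = 𝟙 _ := by
  rw [← Over.comp_left, lift_fst]
  rfl

variable [IsAlgClosed K]

lemma exists_section_of_closed (Z : Over (Spec (CommRingCat.of k))) [LocallyOfFiniteType Z.hom]
    (z : (specOver k K ⊗ Z).left) (hz : IsClosed {z}) :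
    ∃ ζ : specOver k K ⟶ Z, (lift (𝟙 (specOver k K)) ζ).left (IsLocalRing.closedPoint K) = z := by
  let φ : (specOver k K ⊗ Z).left ⟶ Spec (CommRingCat.of K) := (fst (specOver k K) Z).left
  have hφ : LocallyOfFiniteType φ := locallyOfFiniteType_fst_specOver k K Z
  let s : specOver k K ⟶ specOver k K ⊗ Z := Over.homMk (pointOfClosedPoint φ z hz) (by
    rw [← Over.w (fst (specOver k K) Z)]
    change pointOfClosedPoint φ z hz ≫ φ ≫ _ = _
    rw [← Category.assoc, pointOfClosedPoint_comp, Category.id_comp])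
  have hs1 : s ≫ fst (specOver k K) Z = 𝟙 _ := by
    apply Over.OverMorphism.ext
    exact pointOfClosedPoint_comp φ z hz
  refine ⟨s ≫ snd (specOver k K) Z, ?_⟩
  have hs2 : lift (𝟙 (specOver k K)) (s ≫ snd (specOver k K) Z) = s := by
    apply CartesianMonoidalCategory.hom_ext
    · rw [lift_fst, hs1]
    · rw [lift_snd]
  rw [hs2]
  exact pointOfClosedPoint_apply φ z hz _

lemma section_ext (Z : Over (Spec (CommRingCat.of k))) [LocallyOfFiniteType Z.hom]
    (ζ ζ' : specOver k K ⟶ Z)
    (h : (lift (𝟙 (specOver k K)) ζ).left (IsLocalRing.closedPoint K) =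
      (lift (𝟙 (specOver k K)) ζ').left (IsLocalRing.closedPoint K)) : ζ = ζ' := by
  let φ : (specOver k K ⊗ Z).left ⟶ Spec (CommRingCat.of K) := (fst (specOver k K) Z).left
  have hφ : LocallyOfFiniteType φ := locallyOfFiniteType_fst_specOver k K Z
  have h1 : (lift (𝟙 (specOver k K)) ζ).left = (lift (𝟙 (specOver k K)) ζ').left :=
    ext_of_apply_closedPoint_eq φ (lift_id_left_comp_fst k K Z ζ) (lift_id_left_comp_fst k K Z ζ') h
  have h2 : lift (𝟙 (specOver k K)) ζ = lift (𝟙 (specOver k K)) ζ' := Over.OverMorphism.ext h1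
  have := congrArg (· ≫ snd (specOver k K) Z) h2
  simpa using this

lemma isClosed_section (Z : Over (Spec (CommRingCat.of k))) [LocallyOfFiniteType Z.hom]
    (ζ : specOver k K ⟶ Z) :
    IsClosed {(lift (𝟙 (specOver k K)) ζ).left (IsLocalRing.closedPoint K)} := by
  let φ : (specOver k K ⊗ Z).left ⟶ Spec (CommRingCat.of K) := (fst (specOver k K) Z).left
  have hφ : LocallyOfFiniteType φ := locallyOfFiniteType_fst_specOver k K Z
  exact (pointEquivClosedPoint φ ⟨(lift (𝟙 (specOver k K)) ζ).left,
    lift_id_left_comp_fst k K Z ζ⟩).2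

/-- `K`-points lift along surjective morphisms of locally finite type `k`-schemes. -/
lemma exists_point_lift (W Z : Over (Spec (CommRingCat.of k))) [LocallyOfFiniteType W.hom]
    [LocallyOfFiniteType Z.hom] (q : W ⟶ Z) [Surjective q.left] (y : specOver k K ⟶ Z) :
    ∃ c : specOver k K ⟶ W, c ≫ q = y := by
  have hq : Surjective ((specOver k K) ◁ q).left :=
    MorphismProperty.of_isPullback (P := @Surjective) (isPullback_whiskerLeft_snd (specOver k K) q).flip
      inferInstance
  have hz := isClosed_section k K Z y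
  set z := (lift (𝟙 (specOver k K)) y).left (IsLocalRing.closedPoint K)
  obtain ⟨w0, hw0⟩ := ((specOver k K) ◁ q).left.surjective z
  have hF : IsClosed (((specOver k K) ◁ q).left ⁻¹' {z}) := hz.preimage ((specOver k K) ◁ q).left.continuous
  have hJ : JacobsonSpace ((specOver k K) ⊗ W).left := by
    let φ : ((specOver k K) ⊗ W).left ⟶ Spec (CommRingCat.of K) := (fst (specOver k K) W).left
    have hφ : LocallyOfFiniteType φ := locallyOfFiniteType_fst_specOver k K W
    exact LocallyOfFiniteType.jacobsonSpace φ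
  obtain ⟨w, hwF, hwc⟩ := nonempty_inter_closedPoints (Z := ((specOver k K) ◁ q).left ⁻¹' {z})
    ⟨w0, hw0⟩ hF.isLocallyClosed
  obtain ⟨c, hc⟩ := exists_section_of_closed k K W w hwc
  refine ⟨c, section_ext k K Z _ _ ?_⟩
  have e : lift (𝟙 (specOver k K)) (c ≫ q) = lift (𝟙 (specOver k K)) c ≫ ((specOver k K) ◁ q) := by
    apply CartesianMonoidalCategory.hom_ext <;> simp
  rw [e, Over.comp_left, Scheme.Hom.comp_apply, hc]
  exact hwF

end KPoints

section Main

variable (k : Type u) [Field k]

theorem smooth_image_of_smooth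
    (G G' : Over (Spec (CommRingCat.of k))) [GrpObj G] [GrpObj G'] [Smooth G.hom]
    [QuasiCompact G.hom] [LocallyOfFiniteType G'.hom] (f : G ⟶ G') [IsMonHom f]
    (H : Scheme.{u}) (i : H ⟶ G'.left) [IsClosedImmersion i] [IsReduced H]
    (hH : Set.range i.base = Set.range f.left.base) : Smooth (i ≫ G'.hom) := by
  let K := AlgebraicClosure k
  let Hov : Over (Spec (CommRingCat.of k)) := Over.mk (i ≫ G'.hom)
  let iH : Hov ⟶ G' := Over.homMk i rfl
  have hiHmono : Mono iH := by
    have : Mono iH.left := inferInstanceAs (Mono i)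
    exact Over.mono_of_mono_left iH
  have hHred : IsReduced Hov.left := inferInstanceAs (IsReduced H)
  have hHft : LocallyOfFiniteType Hov.hom := inferInstanceAs (LocallyOfFiniteType (i ≫ G'.hom))
  have hGred : IsReduced G.left := Groth.Agent.H53.isReduced_of_smooth_scheme G.hom
  have hneG : Nonempty G.left := ⟨(1 : specOver k K ⟶ G).left (IsLocalRing.closedPoint K)⟩
  -- `f` factors through `H`
  obtain ⟨f₀, hf₀⟩ := exists_lift_of_isReduced_of_range_subset i f.left (by
    rw [hH])
  let f' : G ⟶ Hov := Over.homMk f₀ (by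
    change f₀ ≫ i ≫ G'.hom = G.hom
    rw [← Category.assoc, hf₀, Over.w f])
  have hf' : f' ≫ iH = f := Over.OverMorphism.ext hf₀
  have hf'surj : Surjective f'.left := by
    refine ⟨fun y => ?_⟩
    have : i y ∈ Set.range f.left := by
      rw [← hH]
      exact ⟨y, rfl⟩
    obtain ⟨x, hx⟩ := this
    refine ⟨x, i.isClosedEmbedding.injective ?_⟩
    change i (f₀ x) = i y
    rw [← Scheme.Hom.comp_apply, hf₀, hx]
  -- the action map
  let Φ : G ⊗ Hov ⟶ G' := (G ◁ iH) ≫ (f ▷ G') ≫ μ[G']
  have hΦpt : ∀ (T : Over (Spec (CommRingCat.of k))) (g : T ⟶ G) (y : T ⟶ Hov),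
      lift g y ≫ Φ = (g ≫ f) * (y ≫ iH) := by
    intro T g y
    have e : lift g y ≫ (G ◁ iH) ≫ (f ▷ G') = lift (g ≫ f) (y ≫ iH) := by
      apply CartesianMonoidalCategory.hom_ext <;> simp
    rw [Hom.mul_def, ← e]
    simp only [Φ, Category.assoc]
  have hGHred : IsReduced (G ⊗ Hov).left := by
    have : Smooth (snd G Hov).left := by
      rw [Over.snd_left]
      infer_instance
    exact Groth.Agent.H53.isReduced_of_smooth_scheme (snd G Hov).left
  have hmulf : (G ◁ f') ≫ Φ = μ[G] ≫ f := by
    have e1 : (G ◁ f') = lift (fst G G) (snd G G ≫ f') := by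
      apply CartesianMonoidalCategory.hom_ext <;> simp
    have e2 : μ[G] = fst G G * snd G G := by
      rw [Hom.mul_def, lift_fst_snd, Category.id_comp]
    rw [e1, hΦpt, Category.assoc, hf', e2, MonObj.mul_comp]
  have hΦrange : Set.range Φ.left ⊆ Set.range i := by
    have hs : Surjective (G ◁ f').left :=
      MorphismProperty.of_isPullback (P := @Surjective) (isPullback_whiskerLeft_snd G f').flip
        hf'surj
    rintro _ ⟨z, rfl⟩
    obtain ⟨w, rfl⟩ := (G ◁ f').left.surjective z
    rw [← Scheme.Hom.comp_apply, ← Over.comp_left, hmulf, Over.comp_left, Scheme.Hom.comp_apply]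
    rw [hH]
    exact ⟨_, rfl⟩
  obtain ⟨act₀, hact₀⟩ := exists_lift_of_isReduced_of_range_subset i Φ.left hΦrange
  let act' : G ⊗ Hov ⟶ Hov := Over.homMk act₀ (by
    change act₀ ≫ i ≫ G'.hom = _
    rw [← Category.assoc, hact₀, Over.w Φ])
  have hact' : act' ≫ iH = Φ := Over.OverMorphism.ext hact₀
  have hpt : ∀ (T : Over (Spec (CommRingCat.of k))) (g : T ⟶ G) (y : T ⟶ Hov),
      (lift g y ≫ act') ≫ iH = (g ≫ f) * (y ≫ iH) := by
    intro T g y
    rw [Category.assoc, hact', hΦpt]
  let b : AlgGrp.Action G Hov := actionOfPoints act'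
    (fun T x => by
      rw [← cancel_mono iH, hpt, MonObj.one_comp, _root_.one_mul])
    (fun T g h x => by
      rw [← cancel_mono iH, hpt, hpt, hpt, MonObj.mul_comp, _root_.mul_assoc])
  -- equivariance
  have hequiv : (G ◁ f') ≫ b.act = (leftMulAction G).act ≫ f' := by
    rw [← cancel_mono iH, Category.assoc, Category.assoc, hf']
    change (G ◁ f') ≫ act' ≫ iH = μ[G] ≫ f
    rw [hact', hmulf]
  -- transitivity
  have htr : ∀ y y' : specOver k K ⟶ Hov, ∃ g : specOver k K ⟶ G, lift g y ≫ b.act = y' := by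
    intro y y'
    obtain ⟨c, rfl⟩ := exists_point_lift k K G Hov f' y
    obtain ⟨c', rfl⟩ := exists_point_lift k K G Hov f' y'
    refine ⟨c' * c⁻¹, ?_⟩
    rw [← cancel_mono iH]
    change (lift _ _ ≫ act') ≫ iH = _
    rw [hpt, Category.assoc, Category.assoc, hf', ← MonObj.mul_comp, inv_mul_cancel_right]
  obtain ⟨hflat, hsurj⟩ := flat_surjective_of_equivariant_of_transitive k K G G Hov
    (leftMulAction G) b f' hequiv htr
  -- smoothness
  have hlfp : LocallyOfFinitePresentation (i ≫ G'.hom) := inferInstance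
  have hcomp : f'.left ≫ (i ≫ G'.hom) = G.hom := Over.w f'
  have hlfp2 : LocallyOfFinitePresentation (f'.left ≫ (i ≫ G'.hom)) := by
    rw [hcomp]
    infer_instance
  rw [← Scheme.Hom.smoothLocus_eq_top_iff]
  apply top_unique
  intro y _
  obtain ⟨x, rfl⟩ := f'.left.surjective y
  apply Groth.Agent.H25.SmoothFlatTarget.mem_smoothLocus_of_flat_source (i ≫ G'.hom) f'.left x
    (Flat.stalkMap f'.left x)
  have : Smooth (f'.left ≫ (i ≫ G'.hom)) := by
    rw [hcomp]
    infer_instance
  rw [Scheme.Hom.smoothLocus_eq_top]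
  trivial

end Main

end Groth.Agent.H90
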