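import Groth.Agent.H90.EquivFlat
import Groth.Agent.H53.ReducedSm

/-! Connectedness of a group scheme from connectedness of a homogeneous space and the stabilizer. -/

set_option autoImplicit false
universe u

open CategoryTheory CategoryTheory.Limits MonoidalCategory CartesianMonoidalCategory MonObj
  AlgebraicGeometry MorphismProperty

namespace Groth.Agent.H90

open Groth.Agent.H40

section Gen

variable {S : Scheme.{u}} (G : Over S) [GrpObj G]

/-- Left multiplication action of `G` on itself. -/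
noncomputable def leftMulAction : AlgGrp.Action G G where
  act := μ[G]
  one_act := MonObj.one_mul G
  mul_act := MonObj.mul_assoc G

lemma psmul_leftMulAction {T : Over S} (g h : T ⟶ G) : psmul (leftMulAction G) g h = g * h := by
  rw [psmul_def, Hom.mul_def]
  rfl

variable {G}

lemma orbitMap_equivariant {X : Over S} (a : AlgGrp.Action G X) (o : 𝟙_ (Over S) ⟶ X) :
    (G ◁ a.orbitMap o) ≫ a.act = (leftMulAction G).act ≫ a.orbitMap o := by
  have h1 : (G ◁ a.orbitMap o) = lift (fst G G) (snd G G ≫ a.orbitMap o) := by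
    apply CartesianMonoidalCategory.hom_ext <;> simp
  have h2 : (leftMulAction G).act = fst G G * snd G G := by
    rw [Hom.mul_def, lift_fst_snd, Category.id_comp]
    rfl
  rw [h1, ← psmul_def, comp_orbitMap, ← mul_psmul, h2, comp_orbitMap]

end Gen

section KPts

variable (k : Type u) [Field k]

lemma specOver_hom_self : (specOver k k).hom = 𝟙 (Spec (CommRingCat.of k)) := by
  change Spec.map (CommRingCat.ofHom (algebraMap k k)) = _
  rw [Algebra.algebraMap_self]
  exact Spec.map_id _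

variable [IsAlgClosed k]

lemma exists_point_of_closed_self (Z : Over (Spec (CommRingCat.of k))) [LocallyOfFiniteType Z.hom]
    (z : Z.left) (hz : IsClosed {z}) : ∃ ζ : specOver k k ⟶ Z, ∀ p, ζ.left p = z := by
  refine ⟨Over.homMk (pointOfClosedPoint Z.hom z hz) ?_, ?_⟩
  · rw [pointOfClosedPoint_comp]
    exact (specOver_hom_self k).symm
  · intro p
    exact pointOfClosedPoint_apply Z.hom z hz p

lemma point_ext (Z : Over (Spec (CommRingCat.of k))) [LocallyOfFiniteType Z.hom]
    (ζ ζ' : specOver k k ⟶ Z)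
    (h : ζ.left (IsLocalRing.closedPoint k) = ζ'.left (IsLocalRing.closedPoint k)) : ζ = ζ' := by
  apply Over.OverMorphism.ext
  have h1 : ζ.left ≫ Z.hom = 𝟙 _ := (Over.w ζ).trans (specOver_hom_self k)
  have h2 : ζ'.left ≫ Z.hom = 𝟙 _ := (Over.w ζ').trans (specOver_hom_self k)
  exact ext_of_apply_closedPoint_eq Z.hom h1 h2 h

lemma isClosed_point (Z : Over (Spec (CommRingCat.of k))) [LocallyOfFiniteType Z.hom]
    (ζ : specOver k k ⟶ Z) : IsClosed {ζ.left (IsLocalRing.closedPoint k)} := by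
  have h1 : ζ.left ≫ Z.hom = 𝟙 _ := (Over.w ζ).trans (specOver_hom_self k)
  exact (pointEquivClosedPoint Z.hom ⟨ζ.left, h1⟩).2

end KPts

section Main

variable (k : Type u) [Field k] [IsAlgClosed k]

theorem connectedSpace_of_orbitMap_surjective
    (G X : Over (Spec (CommRingCat.of k))) [GrpObj G] [LocallyOfFiniteType G.hom]
    [QuasiCompact G.hom] [Smooth X.hom] [ConnectedSpace ↥X.left] (a : AlgGrp.Action G X)
    (x₀ : 𝟙_ (Over (Spec (CommRingCat.of k))) ⟶ X)
    (hsurj : Surjective (a.orbitMap x₀).left)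
    (H : Over (Spec (CommRingCat.of k))) [GrpObj H] (i : H ⟶ G) [IsMonHom i]
    (hH : ∀ (T : Over (Spec (CommRingCat.of k))) (g : T ⟶ G),
      (∃ h : T ⟶ H, h ≫ i = g) ↔ g ≫ a.orbitMap x₀ = toUnit T ≫ x₀)
    [ConnectedSpace ↥H.left] : ConnectedSpace ↥G.left := by
  set T := specOver k k with hT
  set π := a.orbitMap x₀ with hπ
  set pt : T.left := IsLocalRing.closedPoint k with hpt
  set o : T ⟶ X := toUnit T ≫ x₀ with ho
  have hXred : IsReduced X.left := Groth.Agent.H53.isReduced_of_smooth_scheme X.hom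
  have hXN : IsLocallyNoetherian X.left := LocallyOfFiniteType.isLocallyNoetherian X.hom
  have hJG : JacobsonSpace G.left := LocallyOfFiniteType.jacobsonSpace G.hom
  have hJX : JacobsonSpace X.left := LocallyOfFiniteType.jacobsonSpace X.hom
  have hneG : Nonempty G.left := ⟨(1 : T ⟶ G).left pt⟩
  have hπo : ∀ c : T ⟶ G, c ≫ π = psmul a c o := fun c => comp_orbitMap a x₀ c
  -- (A) surjectivity on points
  have hA : ∀ y : T ⟶ X, ∃ c : T ⟶ G, c ≫ π = y := by
    intro y
    have hx : IsClosed {y.left pt} := isClosed_point k X y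
    obtain ⟨g0, hg0⟩ := π.left.surjective (y.left pt)
    have hF : IsClosed (π.left ⁻¹' {y.left pt}) := hx.preimage π.left.continuous
    obtain ⟨g, hgF, hgc⟩ := nonempty_inter_closedPoints (Z := π.left ⁻¹' {y.left pt})
      ⟨g0, hg0⟩ hF.isLocallyClosed
    obtain ⟨c, hc⟩ := exists_point_of_closed_self k G g hgc
    refine ⟨c, point_ext k X _ _ ?_⟩
    rw [Over.comp_left, Scheme.Hom.comp_apply, hc]
    exact hgF
  -- (B) transitivity
  have htr : ∀ y y' : T ⟶ X, ∃ g : T ⟶ G, lift g y ≫ a.act = y' := by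
    intro y y'
    obtain ⟨c, rfl⟩ := hA y
    obtain ⟨c', rfl⟩ := hA y'
    refine ⟨c' * c⁻¹, ?_⟩
    rw [← psmul_def, hπo, hπo, mul_psmul, inv_psmul_psmul]
  -- (C) the orbit map is open
  obtain ⟨hflat, -⟩ := flat_surjective_of_equivariant_of_transitive k k G G X (leftMulAction G) a π
    (orbitMap_equivariant a x₀) htr
  have hπft : LocallyOfFiniteType π.left := by
    have : LocallyOfFiniteType (π.left ≫ X.hom) := by rw [Over.w π]; infer_instance
    exact locallyOfFiniteType_of_comp π.left X.hom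
  have hopen : IsOpenMap π.left := π.left.isOpenMap
  -- (D) clopen sets containing the unit are everything
  have key : ∀ A : Set G.left, IsClopen A → (1 : T ⟶ G).left pt ∈ A → A = Set.univ := by
    intro A hA1 heA
    by_contra hne
    obtain ⟨b0, hb0⟩ : (Aᶜ).Nonempty := by
      rw [Set.nonempty_compl]
      exact hne
    have hOA : IsOpen (π.left '' A) := hopen _ hA1.2
    have hOB : IsOpen (π.left '' Aᶜ) := hopen _ hA1.1.isOpen_compl
    have hcov : (Set.univ : Set X.left) ⊆ π.left '' A ∪ π.left '' Aᶜ := by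
      intro x _
      obtain ⟨g, rfl⟩ := π.left.surjective x
      by_cases hg : g ∈ A
      · exact Or.inl ⟨g, hg, rfl⟩
      · exact Or.inr ⟨g, hg, rfl⟩
    obtain ⟨x1, -, hx1⟩ := isPreconnected_univ (α := X.left) _ _ hOA hOB hcov
      ⟨_, trivial, ⟨_, heA, rfl⟩⟩ ⟨_, trivial, ⟨b0, hb0, rfl⟩⟩
    obtain ⟨x, hxO, hxc⟩ := nonempty_inter_closedPoints (Z := π.left '' A ∩ π.left '' Aᶜ)
      ⟨x1, hx1⟩ (hOA.inter hOB).isLocallyClosed
    have hxc' : IsClosed {x} := hxc
    have hFx : IsClosed (π.left ⁻¹' {x}) := hxc'.preimage π.left.continuous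
    obtain ⟨⟨g1, hg1A, hg1x⟩, ⟨g2, hg2B, hg2x⟩⟩ := hxO
    obtain ⟨g, ⟨hgA, hgx⟩, hgc⟩ := nonempty_inter_closedPoints (Z := A ∩ π.left ⁻¹' {x})
      ⟨g1, hg1A, hg1x⟩ (hA1.2.isLocallyClosed.inter hFx.isLocallyClosed)
    obtain ⟨g', ⟨hgB', hgx'⟩, hgc'⟩ := nonempty_inter_closedPoints (Z := Aᶜ ∩ π.left ⁻¹' {x})
      ⟨g2, hg2B, hg2x⟩ (hA1.1.isOpen_compl.isLocallyClosed.inter hFx.isLocallyClosed)
    obtain ⟨c, hc⟩ := exists_point_of_closed_self k G g hgc
    obtain ⟨c', hc'⟩ := exists_point_of_closed_self k G g' hgc'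
    have hcc' : c ≫ π = c' ≫ π := by
      apply point_ext k X
      rw [Over.comp_left, Scheme.Hom.comp_apply, hc, Over.comp_left, Scheme.Hom.comp_apply, hc']
      exact hgx.trans hgx'.symm
    have hδ : (c⁻¹ * c') ≫ π = toUnit T ≫ x₀ := by
      rw [hπo, mul_psmul, ← hπo c', ← hcc', hπo, inv_psmul_psmul]
    obtain ⟨h, hh⟩ := (hH T (c⁻¹ * c')).mpr hδ
    -- translation
    let e : T ≅ 𝟙_ (Over (Spec (CommRingCat.of k))) :=
      Over.isoMk (Iso.refl _) (by
        change 𝟙 _ ≫ 𝟙 _ = (specOver k k).hom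
        rw [specOver_hom_self, Category.id_comp]
        rfl)
    let l : H ⟶ G := (toUnit H ≫ e.inv ≫ c) * i
    have hl : ∀ h' : T ⟶ H, h' ≫ l = c * (h' ≫ i) := by
      intro h'
      have h3 : h' ≫ toUnit H ≫ e.inv = 𝟙 T := by
        rw [← cancel_mono e.hom]
        exact toUnit_unique _ _
      change h' ≫ ((toUnit H ≫ e.inv ≫ c) * i) = _
      rw [MonObj.comp_mul, ← Category.assoc, ← Category.assoc, Category.assoc h', h3,
        Category.id_comp]
    have hl1 : (1 : T ⟶ H) ≫ l = c := by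
      rw [hl, MonObj.one_comp, _root_.mul_one]
    have hl2 : h ≫ l = c' := by
      rw [hl, hh, mul_inv_cancel_left]
    have hrange : Set.range l.left ⊆ A := by
      refine (isPreconnected_range l.left.continuous).subset_isClopen hA1 ⟨g, ?_, hgA⟩
      refine ⟨(1 : T ⟶ H).left pt, ?_⟩
      rw [← Scheme.Hom.comp_apply, ← Over.comp_left, hl1, hc]
    have : g' ∈ A := by
      apply hrange
      refine ⟨h.left pt, ?_⟩
      rw [← Scheme.Hom.comp_apply, ← Over.comp_left, hl2, hc']
    exact hgB' this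
  rw [connectedSpace_iff_clopen]
  refine ⟨hneG, fun A hA1 => ?_⟩
  by_cases heA : (1 : T ⟶ G).left pt ∈ A
  · exact Or.inr (key A hA1 heA)
  · left
    have := key Aᶜ hA1.compl heA
    rwa [Set.compl_univ_iff] at this

end Main

end Groth.Agent.H90
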