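import Mathlib
import Groth.Agent.H90.GrpPerfectSmooth

/-!
Products of reduced schemes over a perfect field are reduced (no finiteness hypotheses), and
`G_red` is a subgroup scheme.
-/

set_option autoImplicit false
set_option linter.style.haveILetI false

universe u

namespace Groth.Agent.H90

open CategoryTheory AlgebraicGeometry Limits TensorProduct

/-- Over a perfect field, the tensor product of two reduced algebras is reduced. -/
theorem isReduced_tensorProduct_of_perfectField (k : Type u) [Field k] [PerfectField k]
    (A B : Type u) [CommRing A] [CommRing B] [Algebra k A] [Algebra k B] [_root_.IsReduced A]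
    [_root_.IsReduced B] : _root_.IsReduced (A ⊗[k] B) := by
  apply IsReduced.tensorProduct_of_flat_of_forall_fg
  intro D hD
  haveI : Algebra.FiniteType k D := (Subalgebra.fg_iff_finiteType D).mp hD
  haveI : IsNoetherianRing D := Algebra.FiniteType.isNoetherianRing k D
  haveI : _root_.IsReduced D := isReduced_of_injective D.val Subtype.val_injective
  obtain ⟨ι, _, _, L, _, _, φ, hφ⟩ := Groth.Agent.H13.exists_injective_algHom_pi_field k D
  have hinj : Function.Injective (Algebra.TensorProduct.map (AlgHom.id k A) φ) :=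
    Module.Flat.lTensor_preserves_injective_linearMap (M := A) φ.toLinearMap hφ
  haveI : ∀ i, _root_.IsReduced (A ⊗[k] L i) := fun i => by
    haveI := isGeometricallyReduced_of_perfectField' k (L i)
    haveI : _root_.IsReduced (L i ⊗[k] A) :=
      Groth.Agent.H13.isReduced_tensorProduct_of_isReduced_of_isGeometricallyReduced k (L i) A
    exact isReduced_of_injective (Algebra.TensorProduct.comm k A (L i))
      (Algebra.TensorProduct.comm k A (L i)).injective
  haveI : _root_.IsReduced (∀ i, A ⊗[k] L i) := inferInstance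
  haveI : _root_.IsReduced (A ⊗[k] (∀ i, L i)) :=
    isReduced_of_injective (Algebra.TensorProduct.piRight k k A L)
      (Algebra.TensorProduct.piRight k k A L).injective
  exact isReduced_of_injective _ hinj

/-- `Spec R ×_k Spec R'` is reduced for reduced algebras over a perfect field. -/
theorem isReduced_pullback_spec_of_perfectField (k : Type u) [Field k] [PerfectField k]
    (R R' : Type u) [CommRing R] [CommRing R'] [Algebra k R] [Algebra k R'] [_root_.IsReduced R]
    [_root_.IsReduced R'] :
    IsReduced (pullback (Spec.map (CommRingCat.ofHom (algebraMap k R)))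
      (Spec.map (CommRingCat.ofHom (algebraMap k R')))) := by
  haveI : _root_.IsReduced (R ⊗[k] R') := isReduced_tensorProduct_of_perfectField k R R'
  haveI : _root_.IsReduced (CommRingCat.of (R ⊗[k] R')) := ‹_›
  haveI : IsReduced (Spec (CommRingCat.of (R ⊗[k] R'))) := inferInstance
  exact isReduced_of_isOpenImmersion (pullbackSpecIso k R R').hom

/-- Affine case. -/
theorem isReduced_pullback_of_isAffine_of_perfectField (k : Type u) [Field k] [PerfectField k]
    {W W' : Scheme.{u}} [IsAffine W] [IsReduced W] [IsAffine W'] [IsReduced W']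
    (a : W ⟶ Spec (CommRingCat.of k)) (a' : W' ⟶ Spec (CommRingCat.of k)) :
    IsReduced (pullback a a') := by
  let φ : CommRingCat.of k ⟶ Γ(W, ⊤) := (Scheme.ΓSpecIso (CommRingCat.of k)).inv ≫ a.appTop
  let φ' : CommRingCat.of k ⟶ Γ(W', ⊤) := (Scheme.ΓSpecIso (CommRingCat.of k)).inv ≫ a'.appTop
  letI : Algebra k Γ(W, ⊤) := φ.hom.toAlgebra
  letI : Algebra k Γ(W', ⊤) := φ'.hom.toAlgebra
  have ha : a = W.isoSpec.hom ≫ Spec.map (CommRingCat.ofHom (algebraMap k Γ(W, ⊤))) := by
    change a = W.isoSpec.hom ≫ Spec.map φ
    rw [Spec.map_comp, Scheme.isoSpec_hom, ← Scheme.toSpecΓ_naturality_assoc,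
      toSpecΓ_SpecMap_ΓSpecIso_inv, Category.comp_id]
  have ha' : a' = W'.isoSpec.hom ≫ Spec.map (CommRingCat.ofHom (algebraMap k Γ(W', ⊤))) := by
    change a' = W'.isoSpec.hom ≫ Spec.map φ'
    rw [Spec.map_comp, Scheme.isoSpec_hom, ← Scheme.toSpecΓ_naturality_assoc,
      toSpecΓ_SpecMap_ΓSpecIso_inv, Category.comp_id]
  have hred := isReduced_pullback_spec_of_perfectField k Γ(W, ⊤) Γ(W', ⊤)
  let e := pullback.map a a'
    (Spec.map (CommRingCat.ofHom (algebraMap k Γ(W, ⊤))))
    (Spec.map (CommRingCat.ofHom (algebraMap k Γ(W', ⊤)))) W.isoSpec.hom W'.isoSpec.hom (𝟙 _)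
    (by rw [Category.comp_id]; exact ha) (by rw [Category.comp_id]; exact ha')
  haveI : IsIso e := by
    dsimp only [e]
    infer_instance
  exact isReduced_of_isOpenImmersion e

/-- The product of two reduced schemes over a perfect field is reduced. -/
theorem isReduced_pullback_of_perfectField (k : Type u) [Field k] [PerfectField k]
    {X Y : Scheme.{u}} [IsReduced X] [IsReduced Y]
    (f : X ⟶ Spec (CommRingCat.of k)) (g : Y ⟶ Spec (CommRingCat.of k)) :
    IsReduced (pullback f g) := by
  apply +allowSynthFailures @IsReduced.of_openCover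
    (𝒰 := Scheme.Pullback.openCoverOfLeftRight X.affineCover Y.affineCover f g)
  intro i
  haveI : IsReduced (X.affineCover.X i.1) := isReduced_of_isOpenImmersion (X.affineCover.f i.1)
  haveI : IsReduced (Y.affineCover.X i.2) := isReduced_of_isOpenImmersion (Y.affineCover.f i.2)
  exact isReduced_pullback_of_isAffine_of_perfectField k (X.affineCover.f i.1 ≫ f)
    (Y.affineCover.f i.2 ≫ g)

/-- Morphisms from reduced schemes factor through a surjective closed immersion. -/
theorem exists_fac_of_isReduced {F G T : Scheme.{u}} (j : F ⟶ G) [IsClosedImmersion j]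
    [Surjective j] [IsReduced T] (g : T ⟶ G) : ∃ g' : T ⟶ F, g' ≫ j = g := by
  have h1 : IsClosedImmersion (pullback.snd j g) := inferInstance
  have h2 : Surjective (pullback.snd j g) := inferInstance
  have : IsIso (pullback.snd j g) := isIso_of_isClosedImmersion_of_surjective _
  exact ⟨inv (pullback.snd j g) ≫ pullback.fst j g, by
    rw [Category.assoc, pullback.condition, IsIso.inv_hom_id_assoc]⟩

open MonoidalCategory CartesianMonoidalCategory MonObj GrpObj in
/-- Over a perfect field, the group law restricts to `G_red`. -/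
theorem red_subgroup (k : Type u) [Field k] [PerfectField k]
    (G F : Over (Spec (CommRingCat.of k))) [GrpObj G] (j : F ⟶ G) [IsClosedImmersion j.left]
    [Surjective j.left] [IsReduced F.left] :
    (∃ m : F ⊗ F ⟶ F, m ≫ j = MonoidalCategory.tensorHom j j ≫ μ[G]) ∧
      (∃ i : F ⟶ F, i ≫ j = j ≫ ι[G]) ∧
      (∃ e : 𝟙_ (Over (Spec (CommRingCat.of k))) ⟶ F, e ≫ j = η[G]) := by
  have key : ∀ (T : Over (Spec (CommRingCat.of k))) (_ : IsReduced T.left) (g : T ⟶ G),
      ∃ g' : T ⟶ F, g' ≫ j = g := by
    intro T hT g
    obtain ⟨g₀, hg₀⟩ := exists_fac_of_isReduced j.left g.left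
    refine ⟨Over.homMk g₀ ?_, ?_⟩
    · rw [← Over.w j, reassoc_of% hg₀, Over.w]
    · apply Over.OverMorphism.ext
      exact hg₀
  refine ⟨key _ ?_ _, key _ inferInstance _, key _ ?_ _⟩
  · change IsReduced (pullback F.hom F.hom)
    exact isReduced_pullback_of_perfectField k F.hom F.hom
  · change IsReduced (Spec (CommRingCat.of k))
    infer_instance

end Groth.Agent.H90
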