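import Groth.Agent.H90.EquivFlat
import Groth.Agent.H90.OrbitConn
import Groth.Agent.H90.ImageSmooth
import Groth.Agent.H90.HomogMisc
import Groth.Agent.H90.PerfectProdReduced
import Groth.Agent.H90.GrpImage
import Groth.Agent.H90.GrpFlatIso
import Groth.Agent.H22.RedImm
import Groth.Agent.H1.Descent
import Groth.Prelude.Def_W4bk4git07Quot

/-! Properness of orbit maps: closed orbit and proper stabilizer. -/

set_option autoImplicit false
universe u

open CategoryTheory CategoryTheory.Limits MonoidalCategory CartesianMonoidalCategory MonObj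
  AlgebraicGeometry MorphismProperty

namespace Groth.Agent.H90.OrbitProper

open Groth.Agent.H40 Groth.Agent.H90

section General

lemma isPullback_comp_mono {C : Type*} [Category C] {P X Y W Z : C} {fst : P ⟶ X} {snd : P ⟶ Y}
    {f : X ⟶ W} {g : Y ⟶ W} (h : IsPullback fst snd f g) (i : W ⟶ Z) [Mono i] :
    IsPullback fst snd (f ≫ i) (g ≫ i) :=
  ⟨⟨by rw [← Category.assoc, h.w, Category.assoc]⟩,
    ⟨PullbackCone.isLimitOfCompMono f g i _ h.isLimit⟩⟩

variable {S : Scheme.{u}} {G X : Over S} [GrpObj G]

/-- equivariance of the orbit map on points -/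
lemma psmul_comp_orbitMap (a : AlgGrp.Action G X) (o : 𝟙_ (Over S) ⟶ X) {T : Over S}
    (g h : T ⟶ G) : psmul a g (h ≫ a.orbitMap o) = (g * h) ≫ a.orbitMap o := by
  rw [comp_orbitMap, comp_orbitMap, mul_psmul]

lemma one_comp_orbitMap (a : AlgGrp.Action G X) (o : 𝟙_ (Over S) ⟶ X) :
    η[G] ≫ a.orbitMap o = o := by
  rw [comp_orbitMap]
  have : (η[G] : 𝟙_ (Over S) ⟶ G) = 1 := rfl
  rw [this, one_psmul]
  have : toUnit (𝟙_ (Over S)) = 𝟙 _ := toUnit_unique _ _
  rw [this, Category.id_comp]

end General

section Reduced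

/-- The reduced closed subgroup scheme of a group scheme over a perfect field. -/
theorem exists_reduced_subgroup (k : Type u) [Field k] [PerfectField k]
    (G : Over (Spec (CommRingCat.of k))) [GrpObj G] :
    ∃ (Gr : Over (Spec (CommRingCat.of k))) (_ : GrpObj Gr) (r : Gr ⟶ G),
      IsMonHom r ∧ IsClosedImmersion r.left ∧ IsReduced Gr.left ∧ Surjective r.left := by
  let T : TopologicalSpace.Closeds G.left := ⊤
  let I := Scheme.IdealSheafData.vanishingIdeal T
  have hred : IsReduced I.subscheme := Groth.Agent.H22.isReduced_subscheme_vanishingIdeal T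
  let F : Over (Spec (CommRingCat.of k)) := Over.mk (I.subschemeι ≫ G.hom)
  let j : F ⟶ G := Over.homMk I.subschemeι rfl
  have hci : IsClosedImmersion j.left := inferInstanceAs (IsClosedImmersion I.subschemeι)
  have hFred : IsReduced F.left := hred
  have hsurj : Surjective j.left := by
    refine ⟨fun y => ?_⟩
    have : y ∈ Set.range I.subschemeι := by
      rw [Scheme.IdealSheafData.range_subschemeι]
      trivial
    exact this
  have hmono : Mono j := (CategoryTheory.Over.forget _).mono_of_mono_map (inferInstanceAs (Mono j.left))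
  obtain ⟨⟨m, hm⟩, ⟨i, hi⟩, ⟨e, he⟩⟩ := red_subgroup k G F j
  let inst : GrpObj F := grpObjOfMono' j e he m hm i hi
  exact ⟨F, inst, j, ⟨he, hm⟩, hci, hFred, hsurj⟩

end Reduced

section Main

variable (k : Type u) [Field k] [IsAlgClosed k]

/-- Restricting an action to a closed subscheme `Y` with `G × Y` reduced, by checking `k`-points. -/
theorem exists_act_restrict (G X Y : Over (Spec (CommRingCat.of k))) [GrpObj G]
    [LocallyOfFiniteType G.hom] [LocallyOfFiniteType X.hom] (c : Y ⟶ X)
    [IsClosedImmersion c.left] [IsReduced (G ⊗ Y).left] (a : AlgGrp.Action G X)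
    (h : ∀ (g : specOver k k ⟶ G) (y : specOver k k ⟶ Y),
        ∃ y' : specOver k k ⟶ Y, lift g (y ≫ c) ≫ a.act = y' ≫ c) :
    ∃ act' : G ⊗ Y ⟶ Y, act' ≫ c = (G ◁ c) ≫ a.act := by
  have hYft : LocallyOfFiniteType Y.hom := by
    rw [← CategoryTheory.Over.w c]
    infer_instance
  have hWft : LocallyOfFiniteType (G ⊗ Y).hom := by
    rw [← CategoryTheory.Over.w (snd G Y), Over.snd_left]
    infer_instance
  set Φ : G ⊗ Y ⟶ X := (G ◁ c) ≫ a.act with hΦ
  have hcl : IsClosed (Φ.left ⁻¹' Set.range c.left) :=
    c.left.isClosedEmbedding.isClosed_range.preimage Φ.left.continuous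
  have huniv := eq_univ_of_forall_point k k (G ⊗ Y) _ hcl (by
    intro ζ
    obtain ⟨y', hy'⟩ := h (ζ ≫ fst G Y) (ζ ≫ snd G Y)
    have e : ζ ≫ Φ = y' ≫ c := by
      rw [← hy', hΦ, ← Category.assoc]
      congr 1
      apply CartesianMonoidalCategory.hom_ext <;> simp
    rw [Set.mem_preimage, ← Scheme.Hom.comp_apply, ← Over.comp_left, e, Over.comp_left,
      Scheme.Hom.comp_apply]
    exact ⟨_, rfl⟩)
  have hrange : Set.range Φ.left ⊆ Set.range c.left := by
    rintro _ ⟨z, rfl⟩
    have : z ∈ Φ.left ⁻¹' Set.range c.left := by rw [huniv]; trivial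
    exact this
  obtain ⟨act₀, hact₀⟩ := exists_lift_of_isReduced_of_range_subset c.left Φ.left hrange
  refine ⟨Over.homMk act₀ ?_, Over.OverMorphism.ext hact₀⟩
  rw [← CategoryTheory.Over.w c, ← Category.assoc, hact₀, CategoryTheory.Over.w Φ]

/-- Reduced case: closed orbit and proper stabilizer imply proper orbit map. -/
theorem isProper_orbitMap_of_isReduced
    (G X : Over (Spec (CommRingCat.of k))) [GrpObj G] [LocallyOfFiniteType G.hom]
    [QuasiCompact G.hom] [IsReduced G.left] [LocallyOfFiniteType X.hom]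
    (a : AlgGrp.Action G X) (x : 𝟙_ (Over (Spec (CommRingCat.of k))) ⟶ X)
    (hcl : IsClosed (Set.range (a.orbitMap x).left))
    (hst : IsProper (pullback.fst x.left (a.orbitMap x).left)) :
    IsProper (a.orbitMap x).left := by
  set ω := a.orbitMap x with hω
  -- the reduced orbit
  let T : TopologicalSpace.Closeds X.left := ⟨Set.range ω.left, hcl⟩
  let I := Scheme.IdealSheafData.vanishingIdeal T
  have hZred : IsReduced I.subscheme := Groth.Agent.H22.isReduced_subscheme_vanishingIdeal T
  have hrange : Set.range I.subschemeι = Set.range ω.left := by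
    rw [Scheme.IdealSheafData.range_subschemeι]
    rfl
  let Z : Over (Spec (CommRingCat.of k)) := Over.mk (I.subschemeι ≫ X.hom)
  let ι' : Z ⟶ X := Over.homMk I.subschemeι rfl
  have hci : IsClosedImmersion ι'.left := inferInstanceAs (IsClosedImmersion I.subschemeι)
  have hmono : Mono ι' :=
    (CategoryTheory.Over.forget _).mono_of_mono_map (inferInstanceAs (Mono ι'.left))
  have hZred' : IsReduced Z.left := hZred
  have hZft : LocallyOfFiniteType Z.hom := by
    change LocallyOfFiniteType (I.subschemeι ≫ X.hom)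
    infer_instance
  have hrange' : Set.range ι'.left = Set.range ω.left := hrange
  -- the map to the orbit
  obtain ⟨φ₀, hφ₀⟩ := exists_lift_of_isReduced_of_range_subset ι'.left ω.left (by rw [hrange'])
  let φ : G ⟶ Z := Over.homMk φ₀ (by
    change φ₀ ≫ ι'.left ≫ X.hom = G.hom
    rw [reassoc_of% hφ₀, CategoryTheory.Over.w])
  have hφ : φ ≫ ι' = ω := Over.OverMorphism.ext hφ₀
  have hφsurj : Surjective φ.left := by
    refine ⟨fun z => ?_⟩
    have : ι'.left z ∈ Set.range ω.left := by rw [← hrange']; exact ⟨z, rfl⟩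
    obtain ⟨g, hg⟩ := this
    refine ⟨g, ι'.left.isClosedEmbedding.injective ?_⟩
    rw [← Scheme.Hom.comp_apply, ← Over.comp_left, hφ]
    exact hg
  -- the action on the orbit
  have hGZred : IsReduced (G ⊗ Z).left := by
    change IsReduced (pullback G.hom Z.hom)
    exact isReduced_pullback_of_perfectField k G.hom Z.hom
  obtain ⟨act', hact'⟩ : ∃ act' : G ⊗ Z ⟶ Z, act' ≫ ι' = (G ◁ ι') ≫ a.act := by
    refine exists_act_restrict k G X Z ι' a ?_
    intro g y
    obtain ⟨c, hc⟩ := exists_point_lift k k G Z φ y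
    refine ⟨(g * c) ≫ φ, ?_⟩
    rw [← hc, Category.assoc, Category.assoc, hφ, ← psmul_def, hω, psmul_comp_orbitMap]
  have hkey : ∀ (T : Over (Spec (CommRingCat.of k))) (g : T ⟶ G) (y : T ⟶ Z),
      (lift g y ≫ act') ≫ ι' = psmul a g (y ≫ ι') := by
    intro T g y
    rw [Category.assoc, hact', psmul_def, ← Category.assoc]
    congr 1
    apply CartesianMonoidalCategory.hom_ext <;> simp
  let b : AlgGrp.Action G Z := actionOfPoints act'
    (by
      intro T y
      rw [← cancel_mono ι', hkey, one_psmul])
    (by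
      intro T g h y
      rw [← cancel_mono ι', hkey, hkey, hkey, mul_psmul])
  have hbact : b.act = act' := rfl
  have hf : (G ◁ φ) ≫ b.act = (leftMulAction G).act ≫ φ := by
    rw [← cancel_mono ι', Category.assoc, Category.assoc, hbact, hact', hφ, hω,
      ← orbitMap_equivariant a x, ← hω, ← hφ, MonoidalCategory.whiskerLeft_comp, Category.assoc]
  have htr : ∀ y y' : specOver k k ⟶ Z, ∃ g : specOver k k ⟶ G, lift g y ≫ b.act = y' := by
    intro y y'
    obtain ⟨c, hc⟩ := exists_point_lift k k G Z φ y
    obtain ⟨c', hc'⟩ := exists_point_lift k k G Z φ y'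
    refine ⟨c' * c⁻¹, ?_⟩
    rw [← cancel_mono ι', hbact, hkey, ← hc, Category.assoc, hφ, hω, psmul_comp_orbitMap,
      inv_mul_cancel_right, ← hω, ← hφ, ← Category.assoc, hc']
  have hne : Nonempty G.left := by
    obtain ⟨p⟩ : Nonempty (Spec (CommRingCat.of k)) := inferInstance
    exact ⟨η[G].left p⟩
  obtain ⟨hflat, hsurj⟩ := flat_surjective_of_equivariant_of_transitive k k G G Z
    (leftMulAction G) b φ hf htr
  have hZN : IsLocallyNoetherian Z.left := LocallyOfFiniteType.isLocallyNoetherian Z.hom
  have hqc : QuasiCompact φ.left := by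
    have : QuasiCompact (φ.left ≫ Z.hom) := by rw [CategoryTheory.Over.w φ]; infer_instance
    exact QuasiCompact.of_comp φ.left Z.hom
  have hfpqc : Groth.Agent.H1.fpqc φ.left := ⟨⟨hsurj, hflat⟩, hqc⟩
  -- the base point of the orbit
  let x' : 𝟙_ (Over (Spec (CommRingCat.of k))) ⟶ Z := η[G] ≫ φ
  have hx' : x' ≫ ι' = x := by
    rw [Category.assoc, hφ, hω, one_comp_orbitMap]
  let c : G ⟶ G ⊗ Z := lift (𝟙 G) (toUnit G ≫ x')
  have hcφ : c ≫ b.act = φ := by
    rw [← cancel_mono ι', hbact, hkey, Category.assoc, hx', ← comp_orbitMap, Category.id_comp, hφ]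
  have hcsnd : c ≫ snd G Z = toUnit G ≫ x' := lift_snd _ _
  -- pullback squares
  have sqA := isPullback_act (leftMulAction G) b φ hf
  have sqB := isPullback_whiskerLeft_snd G φ
  have sqP := IsPullback.of_hasPullback (G ◁ φ).left c.left
  set p₁ := pullback.fst (G ◁ φ).left c.left with hp₁
  set p₂ := pullback.snd (G ◁ φ).left c.left with hp₂
  have sq1 : IsPullback p₂ (p₁ ≫ (leftMulAction G).act.left) φ.left φ.left := by
    have := sqP.flip.paste_vert sqA.flip
    rwa [← Over.comp_left, hcφ] at this
  have sq2 : IsPullback p₂ (p₁ ≫ (snd G G).left) ((toUnit G).left ≫ x.left) ω.left := by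
    have h1 := sqP.flip.paste_vert sqB
    rw [← Over.comp_left, hcsnd] at h1
    have h2 := isPullback_comp_mono h1 ι'.left
    rwa [← Over.comp_left, ← Over.comp_left, Category.assoc, hx', hφ, Over.comp_left] at h2
  have sqS := IsPullback.of_hasPullback x.left ω.left
  let h₁₁ := sqS.lift (p₂ ≫ (toUnit G).left) (p₁ ≫ (snd G G).left) (by
    rw [Category.assoc]
    exact sq2.w)
  have sq3 : IsPullback h₁₁ p₂ (pullback.fst x.left ω.left) (toUnit G).left := by
    refine IsPullback.of_right ?_ (sqS.lift_fst _ _ _) sqS.flip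
    rw [sqS.lift_snd]
    exact sq2.flip
  have hp₂proper : IsProper p₂ := MorphismProperty.of_isPullback (P := @IsProper) sq3 hst
  have := Groth.Agent.H1.isProper_descendsAlong_fpqc.{u}
  have hφproper : IsProper φ.left :=
    MorphismProperty.of_isPullback_of_descendsAlong (P := @IsProper) (Q := Groth.Agent.H1.fpqc)
      sq1 hfpqc hp₂proper
  rw [← hφ, Over.comp_left]
  infer_instance

/-- Closed orbit and proper stabilizer imply proper orbit map. -/
theorem isProper_orbitMap
    (G X : Over (Spec (CommRingCat.of k))) [GrpObj G] [LocallyOfFiniteType G.hom]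
    [QuasiCompact G.hom] [LocallyOfFiniteType X.hom]
    (a : AlgGrp.Action G X) (x : 𝟙_ (Over (Spec (CommRingCat.of k))) ⟶ X)
    (hcl : IsClosed (Set.range (a.orbitMap x).left))
    (hst : IsProper (pullback.fst x.left (a.orbitMap x).left)) :
    IsProper (a.orbitMap x).left := by
  set ω := a.orbitMap x with hω
  obtain ⟨Gr, instGr, r, hr1, hr2, hr3, hr4⟩ := exists_reduced_subgroup k G
  have hGrft : LocallyOfFiniteType Gr.hom := by
    rw [← CategoryTheory.Over.w r]
    infer_instance
  have hGrqc : QuasiCompact Gr.hom := by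
    rw [← CategoryTheory.Over.w r]
    infer_instance
  -- the restricted action
  have hkey : ∀ (T : Over (Spec (CommRingCat.of k))) (g : T ⟶ Gr) (y : T ⟶ X),
      lift g y ≫ (r ▷ X) ≫ a.act = psmul a (g ≫ r) y := by
    intro T g y
    rw [psmul_def, ← Category.assoc]
    congr 1
    apply CartesianMonoidalCategory.hom_ext <;> simp
  let a' : AlgGrp.Action Gr X := actionOfPoints ((r ▷ X) ≫ a.act)
    (by
      intro T y
      rw [hkey, MonObj.one_comp, one_psmul])
    (by
      intro T g h y
      rw [hkey, hkey, hkey, MonObj.mul_comp, mul_psmul])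
  have ha' : a'.act = (r ▷ X) ≫ a.act := rfl
  have hω' : a'.orbitMap x = r ≫ ω := by
    rw [AlgGrp.Action.orbitMap, ha', hkey, hω, comp_orbitMap, Category.id_comp]
  have hcl' : IsClosed (Set.range (a'.orbitMap x).left) := by
    rw [hω', Over.comp_left]
    have : Set.range (r.left ≫ ω.left) = Set.range ω.left := by
      rw [Scheme.Hom.comp_base, TopCat.coe_comp, Set.range_comp, r.left.surjective.range_eq,
        Set.image_univ]
    rw [this]
    exact hcl
  -- the stabilizers
  have sqS := IsPullback.of_hasPullback x.left ω.left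
  have sqQ := IsPullback.of_hasPullback x.left (r.left ≫ ω.left)
  set q₁ := pullback.fst x.left (r.left ≫ ω.left) with hq₁
  set q₂ := pullback.snd x.left (r.left ≫ ω.left) with hq₂
  let j := sqS.lift q₁ (q₂ ≫ r.left) (by rw [Category.assoc]; exact sqQ.w)
  have sqJ : IsPullback q₂ j r.left (pullback.snd x.left ω.left) := by
    refine IsPullback.of_bot ?_ (sqS.lift_snd _ _ _).symm sqS.flip
    rw [sqS.lift_fst]
    exact sqQ.flip
  have hj : IsClosedImmersion j := MorphismProperty.of_isPullback (P := @IsClosedImmersion) sqJ hr2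
  have hst' : IsProper (pullback.fst x.left (a'.orbitMap x).left) := by
    have e : (a'.orbitMap x).left = r.left ≫ ω.left := by rw [hω', Over.comp_left]
    rw [e]
    have : q₁ = j ≫ pullback.fst x.left ω.left := (sqS.lift_fst _ _ _).symm
    change IsProper q₁
    rw [this]
    infer_instance
  have hproper' := isProper_orbitMap_of_isReduced k Gr X a' x hcl' hst'
  rw [hω', Over.comp_left] at hproper'
  have huc : UniversallyClosed ω.left := UniversallyClosed.of_comp_surjective r.left ω.left
  have hsep : IsSeparated G.hom := isSeparated_of_field k G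
  have hsep' : IsSeparated ω.left := by
    have : IsSeparated (ω.left ≫ X.hom) := by rw [CategoryTheory.Over.w ω]; exact hsep
    exact IsSeparated.of_comp ω.left X.hom
  have hft : LocallyOfFiniteType ω.left := by
    have : LocallyOfFiniteType (ω.left ≫ X.hom) := by rw [CategoryTheory.Over.w ω]; infer_instance
    exact locallyOfFiniteType_of_comp ω.left X.hom
  exact { }

omit [IsAlgClosed k] in
lemma psi_eq (G X : Over (Spec (CommRingCat.of k))) [GrpObj G]
    (a : AlgGrp.Action G X) (x : 𝟙_ (Over (Spec (CommRingCat.of k))) ⟶ X) :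
    GIT.psi a x = (ρ_ G).hom ≫ a.orbitMap x ≫ (ρ_ X).inv := by
  apply CartesianMonoidalCategory.hom_ext
  · rw [GIT.psi, lift_fst, Category.assoc, Category.assoc, rightUnitor_inv_fst, Category.comp_id,
      comp_orbitMap, psmul_def]
    congr 1
    apply CartesianMonoidalCategory.hom_ext
    · rw [whiskerLeft_fst, lift_fst, rightUnitor_hom]
    · rw [whiskerLeft_snd, lift_snd]
      congr 1
      exact toUnit_unique _ _
  · exact toUnit_unique _ _

theorem S11435_aux
    (G X : Over (Spec (CommRingCat.of k))) [GrpObj G] [LocallyOfFiniteType G.hom]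
    [QuasiCompact G.hom] [LocallyOfFiniteType X.hom] (a : AlgGrp.Action G X)
    (x : 𝟙_ (Over (Spec (CommRingCat.of k))) ⟶ X) :
    IsProper (GIT.psi a x).left ↔
      IsClosed (Set.range (GIT.psi a x).left.base) ∧
        IsProper (Limits.pullback.snd (GIT.psi a x).left
          (lift x (𝟙 (𝟙_ (Over (Spec (CommRingCat.of k)))))).left ≫
          (𝟙_ (Over (Spec (CommRingCat.of k)))).hom) := by
  set ψ := GIT.psi a x with hψ
  set ω := a.orbitMap x with hω
  set ℓ := lift x (𝟙 (𝟙_ (Over (Spec (CommRingCat.of k))))) with hℓ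
  have hT1 : (𝟙_ (Over (Spec (CommRingCat.of k)))).hom = 𝟙 _ := rfl
  rw [hT1, Category.comp_id]
  constructor
  · intro h
    exact ⟨ψ.left.isClosedMap.isClosed_range, inferInstance⟩
  · rintro ⟨hcl, hst⟩
    have he₁ : IsIso (ρ_ G).hom.left :=
      inferInstanceAs (IsIso ((CategoryTheory.Over.forget _).map (ρ_ G).hom))
    have he₂ : IsIso (ρ_ X).inv.left :=
      inferInstanceAs (IsIso ((CategoryTheory.Over.forget _).map (ρ_ X).inv))
    set e₁ := (ρ_ G).hom.left with he₁'
    set e₂ := (ρ_ X).inv.left with he₂'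
    have hψ' : ψ.left = e₁ ≫ ω.left ≫ e₂ := by
      rw [hψ, psi_eq, Over.comp_left, Over.comp_left]
    have hℓ' : ℓ.left = x.left ≫ e₂ := by
      have : ℓ = x ≫ (ρ_ X).inv := by
        apply CartesianMonoidalCategory.hom_ext
        · rw [hℓ, lift_fst, Category.assoc, rightUnitor_inv_fst, Category.comp_id]
        · exact toUnit_unique _ _
      rw [this, Over.comp_left]
    have hcl' : IsClosed (Set.range ω.left) := by
      have : Set.range ω.left = e₂ ⁻¹' (Set.range ψ.left) := by
        ext y
        constructor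
        · rintro ⟨g, rfl⟩
          refine ⟨inv e₁ g, ?_⟩
          rw [hψ', ← Scheme.Hom.comp_apply, IsIso.inv_hom_id_assoc, Scheme.Hom.comp_apply]
        · rintro ⟨p, hp⟩
          refine ⟨e₁ p, ?_⟩
          have hinj : Function.Injective e₂ := by
            intro u v huv
            have := congrArg (inv e₂) huv
            rwa [← Scheme.Hom.comp_apply, ← Scheme.Hom.comp_apply, IsIso.hom_inv_id] at this
          apply hinj
          rw [← hp, hψ', Scheme.Hom.comp_apply, Scheme.Hom.comp_apply]
      rw [this]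
      exact hcl.preimage e₂.continuous
    have sqS := IsPullback.of_hasPullback x.left ω.left
    have sq' : IsPullback (pullback.snd x.left ω.left ≫ inv e₁) (pullback.fst x.left ω.left)
        ψ.left ℓ.left := by
      refine IsPullback.of_iso (isPullback_comp_mono sqS.flip e₂) (Iso.refl _) (asIso e₁).symm
        (Iso.refl _) (Iso.refl _) ?_ ?_ ?_ ?_
      · simp
      · simp
      · rw [hψ']; simp
      · rw [hℓ']; simp
    have hst' : IsProper (pullback.fst x.left ω.left) := by
      have : pullback.fst x.left ω.left = sq'.isoPullback.hom ≫ pullback.snd ψ.left ℓ.left :=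
        (sq'.isoPullback_hom_snd).symm
      rw [this]
      infer_instance
    have hω_proper := isProper_orbitMap k G X a x hcl' hst'
    rw [hψ']
    infer_instance

end Main

end Groth.Agent.H90.OrbitProper
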