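import Mathlib
import Groth.Prelude.Def_Grpd
import Groth.Prelude.Def_Mor2
import Groth.Agent.H90.GrpdFibre

set_option autoImplicit false

universe u

namespace Groth.Agent.H90

open CategoryTheory CategoryTheory.Limits AlgebraicGeometry

section
variable {S : Scheme.{u}} (G : Grpd.GroupoidScheme S)

lemma comp_i_i {T : Scheme.{u}} (α : T ⟶ G.R) : (α ≫ G.i) ≫ G.i = α := by
  have hβs : (α ≫ G.i) ≫ G.s = α ≫ G.t := by rw [Category.assoc, G.i_s]
  have hβt : (α ≫ G.i) ≫ G.t = α ≫ G.s := by rw [Category.assoc, G.i_t]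
  have hβ's : ((α ≫ G.i) ≫ G.i) ≫ G.s = α ≫ G.s := by rw [Category.assoc, G.i_s, hβt]
  have hβ't : ((α ≫ G.i) ≫ G.i) ≫ G.t = α ≫ G.t := by rw [Category.assoc, G.i_t, hβs]
  have h1 : gcomp G ((α ≫ G.i) ≫ G.i) (gcomp G (α ≫ G.i) α hβs)
      (by rw [hβ's, gcomp_t, hβt]) = (α ≫ G.i) ≫ G.i := by
    apply gcomp_e
    rw [i_gcomp G α _ rfl, ← Category.assoc, ← hβ's, Category.assoc]
  have h2 := gcomp_assoc G ((α ≫ G.i) ≫ G.i) (α ≫ G.i) α (by rw [hβ's, hβt]) hβs
  refine h1.symm.trans (h2.symm.trans ?_)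
  apply e_gcomp
  rw [i_gcomp G (α ≫ G.i) _ rfl, ← Category.assoc, hβs, Category.assoc]

lemma i_i : G.i ≫ G.i = 𝟙 G.R := by
  have := comp_i_i G (𝟙 G.R)
  rwa [Category.id_comp] at this

instance isIso_i : IsIso G.i := ⟨G.i, i_i G, i_i G⟩

lemma c_eq_gcomp : G.c = gcomp G (pullback.fst G.s G.t) (pullback.snd G.s G.t) pullback.condition := by
  unfold gcomp
  have : pullback.lift (pullback.fst G.s G.t) (pullback.snd G.s G.t) pullback.condition = 𝟙 _ := by
    apply pullback.hom_ext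
    · rw [pullback.lift_fst, Category.id_comp]
    · rw [pullback.lift_snd, Category.id_comp]
  rw [this, Category.id_comp]

lemma comp_c {T : Scheme.{u}} (m : T ⟶ pullback G.s G.t) :
    m ≫ G.c = gcomp G (m ≫ pullback.fst G.s G.t) (m ≫ pullback.snd G.s G.t)
      (by rw [Category.assoc, Category.assoc, pullback.condition]) := by
  rw [c_eq_gcomp, comp_gcomp]

/-- The square `(α, β) ↦ (α ∘ β, β)` is cartesian. -/
lemma isPullback_c_snd : IsPullback G.c (pullback.snd G.s G.t) G.s G.s := by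
  refine ⟨⟨?_⟩, ⟨PullbackCone.IsLimit.mk _ (fun cone => pullback.lift
      (gcomp G cone.fst (cone.snd ≫ G.i) (by rw [Category.assoc, G.i_t, cone.condition]))
      cone.snd (by rw [gcomp_s, Category.assoc, G.i_s])) ?_ ?_ ?_⟩⟩
  · rw [c_eq_gcomp, gcomp_s]
  · intro cone
    rw [comp_c]
    have e1 : pullback.lift
        (gcomp G cone.fst (cone.snd ≫ G.i) (by rw [Category.assoc, G.i_t, cone.condition]))
        cone.snd (by rw [gcomp_s, Category.assoc, G.i_s]) ≫ pullback.fst G.s G.t =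
        gcomp G cone.fst (cone.snd ≫ G.i) (by rw [Category.assoc, G.i_t, cone.condition]) :=
      pullback.lift_fst _ _ _
    have e2 : pullback.lift
        (gcomp G cone.fst (cone.snd ≫ G.i) (by rw [Category.assoc, G.i_t, cone.condition]))
        cone.snd (by rw [gcomp_s, Category.assoc, G.i_s]) ≫ pullback.snd G.s G.t = cone.snd :=
      pullback.lift_snd _ _ _
    rw [gcomp_congr G e1 e2 _ (by rw [gcomp_s, Category.assoc, G.i_s])]
    rw [gcomp_assoc G cone.fst (cone.snd ≫ G.i) cone.snd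
      (by rw [Category.assoc, G.i_t, cone.condition]) (by rw [Category.assoc, G.i_s])]
    apply gcomp_e
    rw [i_gcomp G cone.snd _ rfl, ← Category.assoc, ← cone.condition, Category.assoc]
  · intro cone
    exact pullback.lift_snd _ _ _
  · intro cone m hm1 hm2
    apply pullback.hom_ext
    · rw [pullback.lift_fst]
      have hα : (m ≫ pullback.fst G.s G.t) ≫ G.s = (m ≫ pullback.snd G.s G.t) ≫ G.t := by
        rw [Category.assoc, Category.assoc, pullback.condition]
      have h1 : cone.fst = gcomp G (m ≫ pullback.fst G.s G.t) (m ≫ pullback.snd G.s G.t) hα := by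
        rw [← hm1, comp_c]
      have h2 : cone.snd ≫ G.i = (m ≫ pullback.snd G.s G.t) ≫ G.i := by rw [hm2]
      rw [gcomp_congr G h1 h2 _ (by rw [gcomp_s]; simp only [Category.assoc, G.i_t])]
      rw [gcomp_assoc G (m ≫ pullback.fst G.s G.t) (m ≫ pullback.snd G.s G.t)
        ((m ≫ pullback.snd G.s G.t) ≫ G.i) hα (by simp only [Category.assoc, G.i_t])]
      symm
      apply gcomp_e
      rw [gcomp_i G (m ≫ pullback.snd G.s G.t) _ rfl, ← Category.assoc, ← hα, Category.assoc]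
    · rw [pullback.lift_snd, hm2]

variable [IsFinite G.s] [Flat G.s]

lemma finrank_s_s_eq_finrank_s_t (ρ : G.R) : G.s.finrank (G.s ρ) = G.s.finrank (G.t ρ) := by
  have h1 := Scheme.Hom.finrank_of_isPullback _ _ _ _ (isPullback_c_snd G) ρ
  have h2 := Scheme.Hom.finrank_of_isPullback _ _ _ _ (IsPullback.of_hasPullback G.s G.t) ρ
  rw [← h1, ← h2]

lemma finrank_t_eq_finrank_s : G.t.finrank = G.s.finrank := by
  rw [← G.i_s]
  exact Scheme.Hom.finrank_comp_left_of_isIso G.i G.s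

end

theorem exists_rank_decomposition {S : Scheme.{u}} (G : Grpd.GroupoidScheme S)
    [IsFinite G.s] [Flat G.s] [LocallyOfFinitePresentation G.s]
    [IsFinite G.t] [Flat G.t] [LocallyOfFinitePresentation G.t] :
    ∃ V : ℕ → G.U.Opens, V 0 = ⊥ ∧ (∀ r r', r ≠ r' → Disjoint (V r) (V r')) ∧
      (⨆ r, V r) = ⊤ ∧ ∀ r, G.s ⁻¹ᵁ V r = G.t ⁻¹ᵁ V r ∧
        Mor2.IsFinLocFreeOfDeg r (G.s ∣_ V r) ∧ Mor2.IsFinLocFreeOfDeg r (G.t ∣_ V r) := by
  have hsurj : Surjective G.s := by
    refine ⟨fun x => ⟨G.e x, ?_⟩⟩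
    rw [← Scheme.Hom.comp_apply, G.e_s]
    rfl
  have hpos : 1 ≤ G.s.finrank := (Scheme.Hom.one_le_finrank_iff_surjective G.s).mpr hsurj
  refine ⟨fun r => ⟨G.s.finrank ⁻¹' {r},
    (Scheme.Hom.isLocallyConstant_finrank G.s).isOpen_fiber r⟩, ?_, ?_, ?_, ?_⟩
  · ext x
    simp only [TopologicalSpace.Opens.coe_mk, Set.mem_preimage, Set.mem_singleton_iff,
      TopologicalSpace.Opens.coe_bot, Set.mem_empty_iff_false, iff_false]
    have : 1 ≤ G.s.finrank x := hpos x
    intro h0
    rw [h0] at this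
    exact absurd this (by decide)
  · intro r r' hne
    rw [disjoint_iff]
    ext x
    simp only [TopologicalSpace.Opens.coe_inf, TopologicalSpace.Opens.coe_mk, Set.mem_inter_iff,
      Set.mem_preimage, Set.mem_singleton_iff, TopologicalSpace.Opens.coe_bot,
      Set.mem_empty_iff_false, iff_false, not_and]
    intro h1 h2
    exact hne (h1.symm.trans h2)
  · rw [eq_top_iff]
    intro x _
    exact TopologicalSpace.Opens.mem_iSup.mpr ⟨G.s.finrank x, rfl⟩
  · intro r
    refine ⟨?_, ⟨⟨?_, ?_, ?_⟩, ?_⟩, ⟨⟨?_, ?_, ?_⟩, ?_⟩⟩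
    · ext ρ
      change G.s.finrank (G.s ρ) = r ↔ G.s.finrank (G.t ρ) = r
      rw [finrank_s_s_eq_finrank_s_t]
    · exact IsZariskiLocalAtTarget.restrict ‹IsFinite G.s› _
    · exact IsZariskiLocalAtTarget.restrict ‹Flat G.s› _
    · exact IsZariskiLocalAtTarget.restrict ‹LocallyOfFinitePresentation G.s› _
    · intro y
      rw [Scheme.Hom.finrank_of_isPullback _ _ _ _ (isPullback_morphismRestrict G.s _).flip y]
      exact y.2
    · exact IsZariskiLocalAtTarget.restrict ‹IsFinite G.t› _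
    · exact IsZariskiLocalAtTarget.restrict ‹Flat G.t› _
    · exact IsZariskiLocalAtTarget.restrict ‹LocallyOfFinitePresentation G.t› _
    · intro y
      rw [Scheme.Hom.finrank_of_isPullback _ _ _ _ (isPullback_morphismRestrict G.t _).flip y,
        finrank_t_eq_finrank_s]
      exact y.2

end Groth.Agent.H90
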