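import Mathlib
import Groth.Prelude.Def_Grpd
import Groth.Agent.H90.GrpdFibre

/-!
Morphisms of groupoid schemes preserve identities and inverses.
-/

set_option autoImplicit false

universe u

namespace Groth.Agent.H90

open CategoryTheory CategoryTheory.Limits AlgebraicGeometry

section
variable {S : Scheme.{u}} (G : Grpd.GroupoidScheme S)

/-- An idempotent arrow is an identity. -/
lemma eq_e_of_gcomp_self {T : Scheme.{u}} (ε : T ⟶ G.R) (h : ε ≫ G.s = ε ≫ G.t)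
    (hε : gcomp G ε ε h = ε) : ε = ε ≫ G.t ≫ G.e := by
  have hA : ε ≫ G.s = (ε ≫ G.i) ≫ G.t := by rw [Category.assoc, G.i_t]
  have e1 : gcomp G ε (ε ≫ G.i) hA = ε ≫ G.t ≫ G.e := gcomp_i G ε _ rfl hA
  have e2 := gcomp_assoc G ε ε (ε ≫ G.i) h hA
  have e3 : gcomp G (gcomp G ε ε h) (ε ≫ G.i) ((gcomp_s G ε ε h).trans hA) =
      gcomp G ε (ε ≫ G.i) hA := gcomp_congr G hε rfl _ _
  have e4 : gcomp G ε (gcomp G ε (ε ≫ G.i) hA) (h.trans (gcomp_t G ε (ε ≫ G.i) hA).symm) = ε := by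
    apply gcomp_e
    rw [e1, ← Category.assoc, ← h, Category.assoc]
  exact e4.symm.trans (e2.symm.trans (e3.trans e1))

/-- A left inverse of an arrow is its inverse. -/
lemma eq_i_of_gcomp_eq_e {T : Scheme.{u}} (β γ : T ⟶ G.R) (h : β ≫ G.s = γ ≫ G.t)
    (hβγ : gcomp G β γ h = γ ≫ G.s ≫ G.e) : β = γ ≫ G.i := by
  have h0 : γ ≫ G.s = (γ ≫ G.i) ≫ G.t := by rw [Category.assoc, G.i_t]
  have e1 : gcomp G γ (γ ≫ G.i) h0 = γ ≫ G.t ≫ G.e := gcomp_i G γ _ rfl h0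
  have e2 := gcomp_assoc G β γ (γ ≫ G.i) h h0
  have e3 : gcomp G (gcomp G β γ h) (γ ≫ G.i) ((gcomp_s G β γ h).trans h0) = γ ≫ G.i := by
    apply e_gcomp
    rw [hβγ, Category.assoc, ← Category.assoc G.i, G.i_t]
  have e4 : gcomp G β (gcomp G γ (γ ≫ G.i) h0) (h.trans (gcomp_t G γ (γ ≫ G.i) h0).symm) = β := by
    apply gcomp_e
    rw [e1, ← Category.assoc, ← h, Category.assoc]
  exact e4.symm.trans (e2.symm.trans e3)

end

section
variable {S : Scheme.{u}} {G₁ G₂ : Grpd.GroupoidScheme S} (f : Grpd.GroupoidScheme.Hom G₁ G₂)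

lemma hom_gcomp {T : Scheme.{u}} (α β : T ⟶ G₁.R) (h : α ≫ G₁.s = β ≫ G₁.t) :
    gcomp G₁ α β h ≫ f.fR = gcomp G₂ (α ≫ f.fR) (β ≫ f.fR)
      (by rw [Category.assoc, Category.assoc, f.comm_s, f.comm_t, ← Category.assoc,
        ← Category.assoc, h]) :=
  f.comm_c α β h

lemma hom_map_e : G₁.e ≫ f.fR = f.fU ≫ G₂.e := by
  have hs : (G₁.e ≫ f.fR) ≫ G₂.s = f.fU := by
    rw [Category.assoc, f.comm_s, ← Category.assoc, G₁.e_s, Category.id_comp]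
  have ht : (G₁.e ≫ f.fR) ≫ G₂.t = f.fU := by
    rw [Category.assoc, f.comm_t, ← Category.assoc, G₁.e_t, Category.id_comp]
  have h1 : gcomp G₁ G₁.e G₁.e (by rw [G₁.e_s, G₁.e_t]) = G₁.e := by
    apply gcomp_e
    rw [← Category.assoc, G₁.e_s, Category.id_comp]
  have h2 := hom_gcomp f G₁.e G₁.e (by rw [G₁.e_s, G₁.e_t])
  rw [h1] at h2
  have h3 := eq_e_of_gcomp_self G₂ (G₁.e ≫ f.fR) (by rw [hs, ht]) h2.symm
  rw [h3, ← Category.assoc, ht]

lemma hom_map_i : G₁.i ≫ f.fR = f.fR ≫ G₂.i := by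
  have h0 : (G₁.i ≫ f.fR) ≫ G₂.s = f.fR ≫ G₂.t := by
    rw [Category.assoc, f.comm_s, ← Category.assoc, G₁.i_s, f.comm_t]
  apply eq_i_of_gcomp_eq_e G₂ (G₁.i ≫ f.fR) f.fR h0
  have h1 : gcomp G₁ G₁.i (𝟙 G₁.R) (by rw [G₁.i_s, Category.id_comp]) = G₁.s ≫ G₁.e := by
    have := i_gcomp G₁ (𝟙 G₁.R) G₁.i (by rw [Category.id_comp])
      (by rw [G₁.i_s, Category.id_comp])
    rw [this, Category.id_comp]
  have h2 := hom_gcomp f G₁.i (𝟙 G₁.R) (by rw [G₁.i_s, Category.id_comp])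
  rw [h1] at h2
  rw [gcomp_congr G₂ rfl (Category.id_comp f.fR).symm h0
    (by rw [h0, Category.id_comp]), ← h2, Category.assoc, hom_map_e, ← Category.assoc,
    ← f.comm_s, Category.assoc]

end

end Groth.Agent.H90
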