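import Mathlib
import Groth.Prelude.Def_Grpd
import Groth.Agent.H90.GrpdRank

set_option autoImplicit false

universe u

namespace Groth.Agent.H90

open CategoryTheory CategoryTheory.Limits AlgebraicGeometry

section
variable {S : Scheme.{u}} (G : Grpd.GroupoidScheme S)

/-- The "action" square: with `X₀ = U' ×_{g,U,t} R`, `h = s ∘ pr₁`, `Y₁ = X₀ ×_{h,U,t} R`,
the map `a₁ : (u', ρ₁, ρ₂) ↦ (u', ρ₁ ∘ ρ₂)` together with the projection to `R` exhibits `Y₁` as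
the pullback of `h` along `s`. -/
lemma isPullback_act {U' : Scheme.{u}} (g : U' ⟶ G.U) :
    ∃ a₁ : pullback (pullback.snd g G.t ≫ G.s) G.t ⟶ pullback g G.t,
      a₁ ≫ pullback.fst g G.t =
        pullback.fst (pullback.snd g G.t ≫ G.s) G.t ≫ pullback.fst g G.t ∧
      a₁ ≫ pullback.snd g G.t = gcomp G
        (pullback.fst (pullback.snd g G.t ≫ G.s) G.t ≫ pullback.snd g G.t)
        (pullback.snd (pullback.snd g G.t ≫ G.s) G.t)
        (by rw [Category.assoc, pullback.condition]) ∧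
      IsPullback a₁ (pullback.snd (pullback.snd g G.t ≫ G.s) G.t)
        (pullback.snd g G.t ≫ G.s) G.s := by
  have hcond : (pullback.fst (pullback.snd g G.t ≫ G.s) G.t ≫ pullback.snd g G.t) ≫ G.s =
      pullback.snd (pullback.snd g G.t ≫ G.s) G.t ≫ G.t := by
    rw [Category.assoc, pullback.condition]
  -- κ : Y₁ ⟶ P
  obtain ⟨κ, hκ⟩ : ∃ κ : pullback (pullback.snd g G.t ≫ G.s) G.t ⟶ pullback G.s G.t,
      κ = pullback.lift (pullback.fst (pullback.snd g G.t ≫ G.s) G.t ≫ pullback.snd g G.t)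
        (pullback.snd (pullback.snd g G.t ≫ G.s) G.t) hcond := ⟨_, rfl⟩
  have hκfst : κ ≫ pullback.fst G.s G.t =
      pullback.fst (pullback.snd g G.t ≫ G.s) G.t ≫ pullback.snd g G.t := by
    rw [hκ, pullback.lift_fst]
  have hκsnd : κ ≫ pullback.snd G.s G.t = pullback.snd (pullback.snd g G.t ≫ G.s) G.t := by
    rw [hκ, pullback.lift_snd]
  -- a₁
  have hκc : κ ≫ G.c = gcomp G
      (pullback.fst (pullback.snd g G.t ≫ G.s) G.t ≫ pullback.snd g G.t)
      (pullback.snd (pullback.snd g G.t ≫ G.s) G.t) hcond := by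
    rw [comp_c]
    exact gcomp_congr G hκfst hκsnd _ _
  obtain ⟨a₁, ha₁⟩ : ∃ a₁ : pullback (pullback.snd g G.t ≫ G.s) G.t ⟶ pullback g G.t,
      a₁ = pullback.lift (pullback.fst (pullback.snd g G.t ≫ G.s) G.t ≫ pullback.fst g G.t)
        (κ ≫ G.c) (by rw [hκc, gcomp_t, Category.assoc, Category.assoc, pullback.condition]) :=
    ⟨_, rfl⟩
  have ha₁fst : a₁ ≫ pullback.fst g G.t =
      pullback.fst (pullback.snd g G.t ≫ G.s) G.t ≫ pullback.fst g G.t := by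
    rw [ha₁, pullback.lift_fst]
  have ha₁snd : a₁ ≫ pullback.snd g G.t = κ ≫ G.c := by
    rw [ha₁, pullback.lift_snd]
  refine ⟨a₁, ha₁fst, ha₁snd.trans hκc, ?_⟩
  -- left square of the first diagram: IsPullback κ a₂ fst pr₁
  have sqR : IsPullback (pullback.snd G.s G.t) (pullback.fst G.s G.t) G.t G.s :=
    (IsPullback.of_hasPullback G.s G.t).flip
  have sqBig : IsPullback (κ ≫ pullback.snd G.s G.t)
      (pullback.fst (pullback.snd g G.t ≫ G.s) G.t) G.t (pullback.snd g G.t ≫ G.s) := by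
    rw [hκsnd]
    exact (IsPullback.of_hasPullback (pullback.snd g G.t ≫ G.s) G.t).flip
  have sqL : IsPullback κ (pullback.fst (pullback.snd g G.t ≫ G.s) G.t)
      (pullback.fst G.s G.t) (pullback.snd g G.t) :=
    IsPullback.of_right sqBig hκfst sqR
  -- bottom square: IsPullback pr₁ pr₀ t g
  have sqB : IsPullback (pullback.snd g G.t) (pullback.fst g G.t) G.t g :=
    (IsPullback.of_hasPullback g G.t).flip
  have sqTall : IsPullback κ
      (pullback.fst (pullback.snd g G.t ≫ G.s) G.t ≫ pullback.fst g G.t)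
      (pullback.fst G.s G.t ≫ G.t) g := sqL.paste_vert sqB
  have hct : G.c ≫ G.t = pullback.fst G.s G.t ≫ G.t := by
    rw [c_eq_gcomp, gcomp_t]
  have sqTall' : IsPullback κ (a₁ ≫ pullback.fst g G.t) (G.c ≫ G.t) g := by
    rw [ha₁fst, hct]
    exact sqTall
  have sqTop : IsPullback κ a₁ G.c (pullback.snd g G.t) :=
    IsPullback.of_bot sqTall' ha₁snd.symm sqB
  have := sqTop.flip.paste_vert (isPullback_c_snd G)
  rwa [hκsnd] at this

end

section
variable {P Q Rr : MorphismProperty Scheme.{u}} [P.RespectsIso]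
  (W : ∀ {X Y : Scheme.{u}} (f : X ⟶ Y), Q f → X.Opens)
  (hWP : ∀ {X Y : Scheme.{u}} (f : X ⟶ Y) (hf : Q f), P ((W f hf).ι ≫ f))
  (hWmax : ∀ {X Y : Scheme.{u}} (f : X ⟶ Y) (hf : Q f) (V : X.Opens), P (V.ι ≫ f) → V ≤ W f hf)

include hWP hWmax in
lemma maxOpen_iso {Y Y' Z : Scheme.{u}} (θ : Y ≅ Y') (f : Y' ⟶ Z) (hf : Q f)
    (hf' : Q (θ.hom ≫ f)) : θ.hom ⁻¹ᵁ W f hf = W (θ.hom ≫ f) hf' := by
  apply le_antisymm
  · apply hWmax
    have h1 : (θ.hom ⁻¹ᵁ W f hf).ι ≫ θ.hom ≫ f = (θ.hom ∣_ W f hf) ≫ (W f hf).ι ≫ f := by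
      rw [← Category.assoc, ← morphismRestrict_ι, Category.assoc]
    rw [h1]
    exact (P.cancel_left_of_respectsIso _ _).mpr (hWP f hf)
  · have h2 : θ.inv ⁻¹ᵁ W (θ.hom ≫ f) hf' ≤ W f hf := by
      apply hWmax
      have h1 : (θ.inv ⁻¹ᵁ W (θ.hom ≫ f) hf').ι ≫ f =
          (θ.inv ∣_ W (θ.hom ≫ f) hf') ≫ (W (θ.hom ≫ f) hf').ι ≫ θ.hom ≫ f := by
        rw [← Category.assoc, morphismRestrict_ι, Category.assoc, Iso.inv_hom_id_assoc]
      rw [h1]
      exact (P.cancel_left_of_respectsIso _ _).mpr (hWP _ hf')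
    intro y hy
    apply h2
    change θ.inv (θ.hom y) ∈ W (θ.hom ≫ f) hf'
    rw [← Scheme.Hom.comp_apply, Iso.hom_inv_id]
    exact hy

omit [P.RespectsIso] in
lemma preimage_congr {X Y : Scheme.{u}} {f f' : X ⟶ Y} (e : f = f') (V : Y.Opens) :
    f ⁻¹ᵁ V = f' ⁻¹ᵁ V := by
  subst e
  rfl

omit [P.RespectsIso] in
lemma maxOpen_congr {X Y : Scheme.{u}} (f f' : X ⟶ Y) (e : f = f') (hf : Q f) (hf' : Q f') :
    W f hf = W f' hf' := by
  subst e
  rfl

include hWP hWmax in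
lemma maxOpen_of_isPullback [Q.IsStableUnderBaseChange]
    (hWbc : ∀ {X Y Y' : Scheme.{u}} (f : X ⟶ Y) (hf : Q f) (b : Y' ⟶ Y), Rr b →
      ∀ hf' : Q (pullback.snd f b), pullback.fst f b ⁻¹ᵁ W f hf = W (pullback.snd f b) hf')
    {Y X Z Y' : Scheme.{u}} {a : Y ⟶ X} {q : Y ⟶ Y'} {f : X ⟶ Z} {b : Y' ⟶ Z}
    (sq : IsPullback a q f b) (hb : Rr b) (hf : Q f) (hq : Q q) :
    a ⁻¹ᵁ W f hf = W q hq := by
  have hq' : Q (pullback.snd f b) := Q.pullback_snd _ _ hf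
  have h1 := hWbc f hf b hb hq'
  have h2 : Q (sq.isoPullback.hom ≫ pullback.snd f b) := by
    rw [sq.isoPullback_hom_snd]; exact hq
  have h3 := maxOpen_iso W hWP hWmax sq.isoPullback (pullback.snd f b) hq' h2
  rw [← h1] at h3
  rw [← maxOpen_congr W _ _ sq.isoPullback_hom_snd h2 hq, ← h3]
  exact (preimage_congr sq.isoPullback_hom_fst.symm _).trans rfl

end

theorem exists_open_preimage_eq_maxOpen {S : Scheme.{u}} (G : Grpd.GroupoidScheme S)
    {U' : Scheme.{u}} (g : U' ⟶ G.U) (P Q R : MorphismProperty Scheme.{u}) [P.RespectsIso]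
    (hRQ : R ≤ Q) [Q.IsStableUnderBaseChange] [Q.IsStableUnderComposition]
    (W : ∀ {X Y : Scheme.{u}} (f : X ⟶ Y), Q f → X.Opens)
    (hWP : ∀ {X Y : Scheme.{u}} (f : X ⟶ Y) (hf : Q f), P ((W f hf).ι ≫ f))
    (hWmax : ∀ {X Y : Scheme.{u}} (f : X ⟶ Y) (hf : Q f) (V : X.Opens),
      P (V.ι ≫ f) → V ≤ W f hf)
    (hWbc : ∀ {X Y Y' : Scheme.{u}} (f : X ⟶ Y) (hf : Q f) (b : Y' ⟶ Y), R b →
      ∀ hf' : Q (pullback.snd f b), pullback.fst f b ⁻¹ᵁ W f hf = W (pullback.snd f b) hf')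
    (hs : R G.s) (ht : R G.t) (hg : Q g) (hh : Q (pullback.snd g G.t ≫ G.s)) :
    ∃ V : U'.Opens, pullback.fst g G.t ⁻¹ᵁ V = W (pullback.snd g G.t ≫ G.s) hh := by
  obtain ⟨a₁, ha₁fst, ha₁snd, sq⟩ := isPullback_act G g
  have hq₁ : Q (pullback.snd (pullback.snd g G.t ≫ G.s) G.t) := Q.pullback_snd _ _ hh
  have e1 := maxOpen_of_isPullback W hWP hWmax hWbc sq hs hh hq₁
  have e2 := hWbc (pullback.snd g G.t ≫ G.s) hh G.t ht hq₁
  -- σ : U' ⟶ X₀
  obtain ⟨σ, hσ⟩ : ∃ σ : U' ⟶ pullback g G.t, σ = pullback.lift (𝟙 U') (g ≫ G.e)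
      (by rw [Category.id_comp, Category.assoc, G.e_t, Category.comp_id]) := ⟨_, rfl⟩
  have hσfst : σ ≫ pullback.fst g G.t = 𝟙 U' := by rw [hσ, pullback.lift_fst]
  have hσsnd : σ ≫ pullback.snd g G.t = g ≫ G.e := by rw [hσ, pullback.lift_snd]
  -- ψ : X₀ ⟶ Y₁
  obtain ⟨ψ, hψ⟩ : ∃ ψ : pullback g G.t ⟶ pullback (pullback.snd g G.t ≫ G.s) G.t,
      ψ = pullback.lift (pullback.fst g G.t ≫ σ) (pullback.snd g G.t)
        (by rw [Category.assoc, ← Category.assoc σ, hσsnd, Category.assoc, G.e_s,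
          Category.comp_id, pullback.condition]) := ⟨_, rfl⟩
  have hψfst : ψ ≫ pullback.fst (pullback.snd g G.t ≫ G.s) G.t = pullback.fst g G.t ≫ σ := by
    rw [hψ, pullback.lift_fst]
  have hψsnd : ψ ≫ pullback.snd (pullback.snd g G.t ≫ G.s) G.t = pullback.snd g G.t := by
    rw [hψ, pullback.lift_snd]
  have hψa₁ : ψ ≫ a₁ = 𝟙 _ := by
    apply pullback.hom_ext
    · rw [Category.assoc, ha₁fst, ← Category.assoc, hψfst, Category.assoc, hσfst,
        Category.comp_id, Category.id_comp]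
    · rw [Category.assoc, ha₁snd, comp_gcomp, Category.id_comp]
      have hfirst : ψ ≫ pullback.fst (pullback.snd g G.t ≫ G.s) G.t ≫ pullback.snd g G.t =
          pullback.snd g G.t ≫ G.t ≫ G.e := by
        rw [← Category.assoc, hψfst, Category.assoc, hσsnd, ← Category.assoc, pullback.condition,
          Category.assoc]
      exact (gcomp_congr G hfirst hψsnd _
        (by rw [Category.assoc, Category.assoc, G.e_s, Category.comp_id])).trans
        (e_gcomp G _ _ rfl _)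
  refine ⟨σ ⁻¹ᵁ W (pullback.snd g G.t ≫ G.s) hh, ?_⟩
  have e3 : a₁ ⁻¹ᵁ W (pullback.snd g G.t ≫ G.s) hh =
      pullback.fst (pullback.snd g G.t ≫ G.s) G.t ⁻¹ᵁ W (pullback.snd g G.t ≫ G.s) hh :=
    e1.trans e2.symm
  have e4 := congrArg (fun V => ψ ⁻¹ᵁ V) e3
  simp only [← Scheme.Hom.comp_preimage] at e4
  rw [hψa₁, hψfst] at e4
  rw [← Scheme.Hom.comp_preimage, ← e4]
  rfl

end Groth.Agent.H90
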