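import Mathlib
import Groth.Prelude.Def_HTop
import Groth.Agent.H90.ValLift3

set_option autoImplicit false

universe w u

namespace Groth.Agent.H90

open CategoryTheory CategoryTheory.Limits AlgebraicGeometry IsLocalRing

/-- a universally closed surjective morphism has valuation lifting -/
theorem vl_of_universallyClosed_surjective {X Y : Scheme.{u}} (f : X ⟶ Y) [UniversallyClosed f]
    [Surjective f] : VL f := by
  intro V _ _ g
  have hsurj' : Surjective (pullback.fst g f) := inferInstance
  have hprop' : UniversallyClosed (pullback.fst g f) := inferInstance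
  obtain ⟨p', hp'⟩ := (pullback.fst g f).surjective (⟨⊥, Ideal.isPrime_bot⟩ : PrimeSpectrum V)
  have hcl : IsClosedMap (pullback.fst g f) := (pullback.fst g f).isClosedMap
  have hsp : SpecializingMap (pullback.fst g f) := hcl.specializingMap
  have hspec : pullback.fst g f p' ⤳ closedPoint V := by
    rw [hp']
    exact H73.bot_specializes_closedPoint V
  obtain ⟨p, hpp, hp⟩ := hsp hspec
  obtain ⟨W, hW1, hW2, φ, h, hφ, hh, -⟩ :=
    exists_extVal_lift V (pullback.fst g f) p p' hpp hp hp'
  refine ⟨W, hW1, hW2, φ, hφ, h ≫ pullback.snd g f, ?_⟩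
  rw [Category.assoc, ← pullback.condition, ← Category.assoc, hh]

theorem isHCover_singleton_of_proper_surjective {X Y : Scheme.{u}} (f : Y ⟶ X) [IsProper f]
    [Surjective f] [LocallyOfFinitePresentation f] :
    HTop.IsHCover (PreZeroHypercover.singleton.{w} f) := by
  refine ⟨fun _ => ‹LocallyOfFinitePresentation f›, ?_⟩
  exact isVCover_of_vl f (vl_of_universallyClosed_surjective f)

end Groth.Agent.H90
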