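import Groth.Agent.H90.AlmostHomogRel
import Groth.Agent.H37.OrbitLC

/-! Almost homogeneous varieties: the graph morphism is dominant iff there is an open orbit. -/

set_option autoImplicit false
universe u

open CategoryTheory CategoryTheory.Limits MonoidalCategory CartesianMonoidalCategory MonObj GrpObj
  AlgebraicGeometry

namespace Groth.Agent.H90.AlmostHomog

open Groth.Agent.H40 Groth.Agent.H90

section general

variable {S : Scheme.{u}} {G X : Over S} [GrpObj G]

omit [GrpObj G] in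
lemma range_homMk_ι (U : X.left.Opens) :
    Set.range (Over.homMk U.ι rfl : Over.mk (U.ι ≫ X.hom) ⟶ X).left = (U : Set X.left) := by
  change Set.range U.ι = _
  exact Scheme.Opens.range_ι U

/-- The graph of a restricted action. -/
lemma graph_restrict (a : AlgGrp.Action G X) {Y : Over S} (j : Y ⟶ X) (b : AlgGrp.Action G Y)
    (hb : (G ◁ j) ≫ a.act = b.act ≫ j) : (G ◁ j) ≫ graph a = graph b ≫ (j ⊗ₘ j) := by
  apply CartesianMonoidalCategory.hom_ext
  · simp [graph]
  · simp [graph, hb]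

/-- Points of `X × X` over `U × U` lift to `G × U` along the graph morphism, when `U` is
homogeneous. -/
lemma exists_of_homog (a : AlgGrp.Action G X) (U : X.left.Opens)
    (b : AlgGrp.Action G (Over.mk (U.ι ≫ X.hom)))
    (hb : (G ◁ (Over.homMk U.ι rfl : Over.mk (U.ι ≫ X.hom) ⟶ X)) ≫ a.act =
      b.act ≫ Over.homMk U.ι rfl)
    (hs : Surjective (lift (snd G (Over.mk (U.ι ≫ X.hom))) b.act).left)
    (t : (X ⊗ X).left) (h1 : (fst X X).left t ∈ U) (h2 : (snd X X).left t ∈ U) :
    ∃ w' : (G ⊗ Over.mk (U.ι ≫ X.hom)).left,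
      (graph a).left ((G ◁ (Over.homMk U.ι rfl : Over.mk (U.ι ≫ X.hom) ⟶ X)).left w') = t := by
  set j : Over.mk (U.ι ≫ X.hom) ⟶ X := Over.homMk U.ι rfl with hj
  have hjr : Set.range j.left = (U : Set X.left) := range_homMk_ι U
  have ht : t ∈ Set.range (j ⊗ₘ j).left := by
    rw [Base.range_tensorHom_left, hjr]
    exact ⟨h1, h2⟩
  obtain ⟨t', rfl⟩ := ht
  obtain ⟨w', rfl⟩ := hs.surj t'
  refine ⟨w', ?_⟩
  change ((G ◁ j) ≫ graph a).left w' = (graph b ≫ (j ⊗ₘ j)).left w'
  rw [graph_restrict a j b hb]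

end general

variable (k : Type u) [Field k]
variable (G X : Over (Spec (CommRingCat.of k))) [GrpObj G] [Smooth G.hom] [QuasiCompact G.hom]
    [IsSeparated X.hom] [LocallyOfFiniteType X.hom] [QuasiCompact X.hom] [GeometricallyIntegral X.hom]

include k in
omit [Smooth G.hom] [QuasiCompact G.hom] [IsSeparated X.hom] [LocallyOfFiniteType X.hom]
  [QuasiCompact X.hom] in
theorem dominant_of_homog (a : AlgGrp.Action G X) (U : X.left.Opens)
    (hU : (U : Set X.left).Nonempty)
    (b : AlgGrp.Action G (Over.mk (U.ι ≫ X.hom)))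
    (hb : (G ◁ (Over.homMk U.ι rfl : Over.mk (U.ι ≫ X.hom) ⟶ X)) ≫ a.act =
      b.act ≫ Over.homMk U.ι rfl)
    (hs : Surjective (lift (snd G (Over.mk (U.ι ≫ X.hom))) b.act).left) :
    IsDominant (graph a).left := by
  have hsub : Subsingleton ↥(Spec (CommRingCat.of k)) :=
    inferInstanceAs (Subsingleton (PrimeSpectrum k))
  have hXirr : IrreducibleSpace X.left :=
    GeometricallyIrreducible.irreducibleSpace_of_subsingleton X.hom
  have hXX : IrreducibleSpace (X ⊗ X).left :=
    inferInstanceAs (IrreducibleSpace ↥(pullback X.hom X.hom))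
  set O : Set (X ⊗ X).left := (fst X X).left ⁻¹' U ∩ (snd X X).left ⁻¹' U with hO
  have hOo : IsOpen O := (U.2.preimage (fst X X).left.continuous).inter
    (U.2.preimage (snd X X).left.continuous)
  have hOne : O.Nonempty := by
    obtain ⟨x, hx⟩ := hU
    refine ⟨(lift (𝟙 X) (𝟙 X)).left x, ?_, ?_⟩
    · change (lift (𝟙 X) (𝟙 X) ≫ fst X X).left x ∈ U
      rw [lift_fst]
      exact hx
    · change (lift (𝟙 X) (𝟙 X) ≫ snd X X).left x ∈ U
      rw [lift_snd]
      exact hx
  have hsubset : O ⊆ Set.range (graph a).left := by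
    rintro t ⟨h1, h2⟩
    obtain ⟨w', hw'⟩ := exists_of_homog a U b hb hs t h1 h2
    exact ⟨_, hw'⟩
  exact ⟨(hOo.dense hOne).mono hsubset⟩

include k in
omit [Smooth G.hom] [QuasiCompact G.hom] [IsSeparated X.hom] [LocallyOfFiniteType X.hom]
  [QuasiCompact X.hom] in
theorem homog_le (a : AlgGrp.Action G X) (U U' : X.left.Opens)
    (hU : (U : Set X.left).Nonempty)
    (b : AlgGrp.Action G (Over.mk (U.ι ≫ X.hom)))
    (hb : (G ◁ (Over.homMk U.ι rfl : Over.mk (U.ι ≫ X.hom) ⟶ X)) ≫ a.act =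
      b.act ≫ Over.homMk U.ι rfl)
    (hs : Surjective (lift (snd G (Over.mk (U.ι ≫ X.hom))) b.act).left)
    (hU' : (U' : Set X.left).Nonempty)
    (b' : AlgGrp.Action G (Over.mk (U'.ι ≫ X.hom)))
    (hb' : (G ◁ (Over.homMk U'.ι rfl : Over.mk (U'.ι ≫ X.hom) ⟶ X)) ≫ a.act =
      b'.act ≫ Over.homMk U'.ι rfl) : U ≤ U' := by
  have hsub : Subsingleton ↥(Spec (CommRingCat.of k)) :=
    inferInstanceAs (Subsingleton (PrimeSpectrum k))
  have hXirr : IrreducibleSpace X.left :=
    GeometricallyIrreducible.irreducibleSpace_of_subsingleton X.hom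
  obtain ⟨x₀, hx₀, hx₀'⟩ : ((U : Set X.left) ∩ U').Nonempty :=
    nonempty_preirreducible_inter U.2 U'.2 hU hU'
  intro y hy
  obtain ⟨t, ht1, ht2⟩ : ∃ t : (X ⊗ X).left, (fst X X).left t = x₀ ∧ (snd X X).left t = y :=
    Scheme.Pullback.exists_preimage_pullback (f := X.hom) (g := X.hom) x₀ y
      (Subsingleton.elim _ _)
  set j : Over.mk (U.ι ≫ X.hom) ⟶ X := Over.homMk U.ι rfl with hj
  set j' : Over.mk (U'.ι ≫ X.hom) ⟶ X := Over.homMk U'.ι rfl with hj'
  obtain ⟨w', hw'⟩ := exists_of_homog a U b hb hs t (by rw [ht1]; exact hx₀) (by rw [ht2]; exact hy)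
  set w := (G ◁ j).left w' with hw
  have hw1 : (snd G X).left w = x₀ := by
    have : (graph a ≫ fst X X).left w = (fst X X).left t := by rw [← hw']; rfl
    rwa [lift_fst, ht1] at this
  have hw2 : a.act.left w = y := by
    have : (graph a ≫ snd X X).left w = (snd X X).left t := by rw [← hw']; rfl
    rwa [lift_snd, ht2] at this
  have hw3 : w ∈ Set.range (G ◁ j').left := by
    rw [Base.range_whiskerLeft_left, range_homMk_ι]
    change (snd G X).left w ∈ U'
    rw [hw1]
    exact hx₀'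
  obtain ⟨w'', hw''⟩ := hw3
  have : y = j'.left (b'.act.left w'') := by
    rw [← hw2, ← hw'']
    change ((G ◁ j') ≫ a.act).left w'' = (b'.act ≫ j').left w''
    rw [hb']
  rw [this]
  exact (b'.act.left w'').2

include k in
omit [IsSeparated X.hom] in
theorem exists_homog (a : AlgGrp.Action G X) (hdom : IsDominant (graph a).left) :
    ∃ U : X.left.Opens, (U : Set ↥X.left).Nonempty ∧
      ∃ b : AlgGrp.Action G (Over.mk (U.ι ≫ X.hom)),
        (G ◁ (Over.homMk U.ι rfl : Over.mk (U.ι ≫ X.hom) ⟶ X)) ≫ a.act =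
          b.act ≫ Over.homMk U.ι rfl ∧
        Surjective (lift (snd G (Over.mk (U.ι ≫ X.hom))) b.act).left := by
  have hsub : Subsingleton ↥(Spec (CommRingCat.of k)) :=
    inferInstanceAs (Subsingleton (PrimeSpectrum k))
  have hXirr : IrreducibleSpace X.left :=
    GeometricallyIrreducible.irreducibleSpace_of_subsingleton X.hom
  have hXX : IrreducibleSpace (X ⊗ X).left :=
    inferInstanceAs (IrreducibleSpace ↥(pullback X.hom X.hom))
  set Γ := graph a with hΓ
  set E := Set.range Γ.left with hE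
  -- finiteness
  have hGXft : LocallyOfFiniteType (G ⊗ X).hom := by
    rw [← CategoryTheory.Over.w (snd G X), Over.snd_left]
    infer_instance
  have hXXft : LocallyOfFiniteType (X ⊗ X).hom := by
    rw [← CategoryTheory.Over.w (snd X X), Over.snd_left]
    infer_instance
  have hXXN : IsLocallyNoetherian (X ⊗ X).left :=
    LocallyOfFiniteType.isLocallyNoetherian (X ⊗ X).hom
  have hΓft : LocallyOfFiniteType Γ.left := by
    have : LocallyOfFiniteType (Γ.left ≫ (X ⊗ X).hom) := by
      rw [CategoryTheory.Over.w Γ]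
      infer_instance
    exact locallyOfFiniteType_of_comp Γ.left (X ⊗ X).hom
  have hGXqc : QuasiCompact (G ⊗ X).hom := by
    rw [← CategoryTheory.Over.w (snd G X), Over.snd_left]
    infer_instance
  have hXXqc : QuasiCompact (X ⊗ X).hom := by
    rw [← CategoryTheory.Over.w (snd X X), Over.snd_left]
    infer_instance
  have hΓqc : QuasiCompact Γ.left := by
    have : QuasiCompact (Γ.left ≫ (X ⊗ X).hom) := by
      rw [CategoryTheory.Over.w Γ]
      infer_instance
    exact QuasiCompact.of_comp Γ.left (X ⊗ X).hom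
  have hXXc : CompactSpace (X ⊗ X).left := QuasiCompact.compactSpace_of_compactSpace (X ⊗ X).hom
  have hEc : Topology.IsConstructible E := by
    rw [hE, ← Set.image_univ]
    exact Γ.left.isConstructible_image Topology.IsConstructible.univ
  have hEd : Dense E := hdom.denseRange
  have hEne : E.Nonempty := hEd.nonempty
  obtain ⟨O, hO, hOne, hOE⟩ := Groth.Agent.H37.exists_open_inter_closure_subset hEc hEne
  rw [hEd.closure_eq, Set.inter_univ] at hOne hOE
  -- the interior of the image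
  set V := interior E with hV
  have hVo : IsOpen V := isOpen_interior
  have hVE : V ⊆ E := interior_subset
  have hVne : V.Nonempty := hOne.mono (interior_maximal hOE hO)
  -- the action on the first factor is open
  have huoG : UniversallyOpen G.hom := inferInstance
  have hact_uo : UniversallyOpen a.act.left := by
    have hiso : IsIso (shearAct a).hom.left :=
      inferInstanceAs (IsIso ((Over.forget _).map (shearAct a).hom))
    have hact : a.act.left = (shearAct a).hom.left ≫ (snd G X).left := by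
      rw [← Over.comp_left, shearAct_hom_snd]
    have : UniversallyOpen (snd G X).left := by rw [Over.snd_left]; infer_instance
    rw [hact]
    infer_instance
  have hwr_uo : UniversallyOpen (a.act ▷ X).left :=
    MorphismProperty.of_isPullback (isPullback_whiskerRight_fst X a.act).flip hact_uo
  have hα_open : IsOpenMap (act₁ a).left := by
    have hiso : IsIso (α_ G X X).inv.left :=
      inferInstanceAs (IsIso ((Over.forget _).map (α_ G X X).inv))
    have : (act₁ a).left = (α_ G X X).inv.left ≫ (a.act ▷ X).left := rfl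
    rw [this]
    exact Scheme.Hom.isOpenMap _
  -- `V` is stable
  have hVst : ∀ p : (G ⊗ (X ⊗ X)).left, (snd G (X ⊗ X)).left p ∈ V → (act₁ a).left p ∈ V := by
    intro p hp
    have hsub' : (act₁ a).left '' ((snd G (X ⊗ X)).left ⁻¹' V) ⊆ E := by
      rintro _ ⟨p', hp', rfl⟩
      exact graph_stable a p' (hVE hp')
    have hopen : IsOpen ((act₁ a).left '' ((snd G (X ⊗ X)).left ⁻¹' V)) :=
      hα_open _ (hVo.preimage (snd G (X ⊗ X)).left.continuous)
    exact interior_maximal hsub' hopen ⟨p, hp, rfl⟩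
  -- the open orbit
  have hfst_uo : UniversallyOpen (fst X X).left := by rw [Over.fst_left]; infer_instance
  let U : X.left.Opens := ⟨(fst X X).left '' V, (fst X X).left.isOpenMap _ hVo⟩
  have hUne : (U : Set X.left).Nonempty := hVne.image _
  -- stability of `U`
  have hUst : ∀ w : (G ⊗ X).left, (snd G X).left w ∈ U → a.act.left w ∈ U := by
    rintro w ⟨v, hv, hvw⟩
    obtain ⟨p, hp1, hp2⟩ := Groth.Agent.H37.exists_preimage_of_isPullback
      (isPullback_whiskerLeft_snd G (fst X X)) w v hvw.symm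
    refine ⟨(act₁ a).left p, hVst p (by rw [hp2]; exact hv), ?_⟩
    change (act₁ a ≫ fst X X).left p = _
    rw [act₁_fst, ← hp1]
    rfl
  -- homogeneity
  have hH : ∀ t : (X ⊗ X).left, (fst X X).left t ∈ U → (snd X X).left t ∈ U → t ∈ E := by
    rintro t ⟨v₁, hv₁, hv₁t⟩ ⟨v₂, hv₂, hv₂t⟩
    have hgi : GeometricallyIrreducible (fst (X ⊗ X) X).left := by
      rw [Over.fst_left]; infer_instance
    have hfo : UniversallyOpen (fst (X ⊗ X) X).left := by
      rw [Over.fst_left]; infer_instance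
    have hirr := ((fst (X ⊗ X) X).left.isIrreducible_preimage
      (fst (X ⊗ X) X).left.isOpenMap (isIrreducible_singleton (x := t))).isPreirreducible
    obtain ⟨q₁, hq₁t, hq₁v⟩ := exists_triple (fst X X) t v₁ hv₁t.symm
    obtain ⟨q₂, hq₂t, hq₂v⟩ := exists_triple (snd X X) t v₂ hv₂t.symm
    obtain ⟨q, hqt, hq1, hq2⟩ := hirr
      ((lift (fst (X ⊗ X) X ≫ fst X X) (snd (X ⊗ X) X)).left ⁻¹' V)
      ((lift (fst (X ⊗ X) X ≫ snd X X) (snd (X ⊗ X) X)).left ⁻¹' V)
      (hVo.preimage (Scheme.Hom.continuous _)) (hVo.preimage (Scheme.Hom.continuous _))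
      ⟨q₁, hq₁t, by change _ ∈ V; rw [hq₁v]; exact hv₁⟩
      ⟨q₂, hq₂t, by change _ ∈ V; rw [hq₂v]; exact hv₂⟩
    have := graph_trans a q (hVE hq1) (hVE hq2)
    rwa [hqt] at this
  -- the restricted action
  set j : Over.mk (U.ι ≫ X.hom) ⟶ X := Over.homMk U.ι rfl with hj
  have hjmono : Mono j := by
    have : Mono j.left := inferInstanceAs (Mono U.ι)
    exact Over.mono_of_mono_left j
  obtain ⟨act', hact'⟩ : ∃ act' : G ⊗ Over.mk (U.ι ≫ X.hom) ⟶ Over.mk (U.ι ≫ X.hom),
      act' ≫ j = (G ◁ j) ≫ a.act := by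
    have hr : Set.range ((G ◁ j) ≫ a.act).left ⊆ Set.range U.ι := by
      rintro _ ⟨w', rfl⟩
      rw [Scheme.Opens.range_ι]
      apply hUst
      change ((G ◁ j) ≫ snd G X).left w' ∈ U
      rw [whiskerLeft_snd]
      exact ((snd G (Over.mk (U.ι ≫ X.hom))).left w').2
    let l := IsOpenImmersion.lift U.ι ((G ◁ j) ≫ a.act).left hr
    have hl : l ≫ U.ι = ((G ◁ j) ≫ a.act).left := IsOpenImmersion.lift_fac _ _ _
    refine ⟨Over.homMk l ?_, Over.OverMorphism.ext hl⟩
    change l ≫ U.ι ≫ X.hom = (G ⊗ Over.mk (U.ι ≫ X.hom)).hom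
    rw [reassoc_of% hl, CategoryTheory.Over.w]
  have hkey : ∀ (T : Over (Spec (CommRingCat.of k))) (g : T ⟶ G)
      (y : T ⟶ Over.mk (U.ι ≫ X.hom)), (lift g y ≫ act') ≫ j = psmul a g (y ≫ j) := by
    intro T g y
    rw [Category.assoc, hact', psmul_def, ← Category.assoc]
    congr 1
    apply CartesianMonoidalCategory.hom_ext <;> simp
  let b : AlgGrp.Action G (Over.mk (U.ι ≫ X.hom)) := actionOfPoints act'
    (by
      intro T y
      rw [← cancel_mono j, hkey, one_psmul])
    (by
      intro T g h y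
      rw [← cancel_mono j, hkey, hkey, hkey, mul_psmul])
  have hbact : b.act = act' := rfl
  refine ⟨U, hUne, b, by rw [hbact, hact'], ⟨fun t' => ?_⟩⟩
  -- surjectivity
  have ht1 : (fst X X).left ((j ⊗ₘ j).left t') ∈ U := by
    change ((j ⊗ₘ j) ≫ fst X X).left t' ∈ U
    rw [tensorHom_fst]
    exact ((fst (Over.mk (U.ι ≫ X.hom)) (Over.mk (U.ι ≫ X.hom))).left t').2
  have ht2 : (snd X X).left ((j ⊗ₘ j).left t') ∈ U := by
    change ((j ⊗ₘ j) ≫ snd X X).left t' ∈ U
    rw [tensorHom_snd]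
    exact ((snd (Over.mk (U.ι ≫ X.hom)) (Over.mk (U.ι ≫ X.hom))).left t').2
  obtain ⟨w, hw⟩ := hH _ ht1 ht2
  have hw1 : (snd G X).left w ∈ U := by
    have : (snd G X).left w = (fst X X).left ((j ⊗ₘ j).left t') := by
      rw [← hw]
      change _ = (Γ ≫ fst X X).left w
      rw [hΓ, lift_fst]
    rw [this]
    exact ht1
  have hw2 : w ∈ Set.range (G ◁ j).left := by
    rw [Base.range_whiskerLeft_left, range_homMk_ι]
    exact hw1
  obtain ⟨w', rfl⟩ := hw2
  refine ⟨w', ?_⟩
  have hoi : IsOpenImmersion (j ⊗ₘ j).left := by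
    have : IsOpenImmersion j.left := inferInstanceAs (IsOpenImmersion U.ι)
    rw [Over.tensorHom_left]
    infer_instance
  apply (j ⊗ₘ j).left.isOpenEmbedding.injective
  rw [← hw]
  change (graph b ≫ (j ⊗ₘ j)).left w' = ((G ◁ j) ≫ graph a).left w'
  rw [graph_restrict a j b (by rw [hbact, hact'])]

include k in
omit [IsSeparated X.hom] in
theorem S14638_aux (a : AlgGrp.Action G X) :
    (IsDominant (CartesianMonoidalCategory.lift (CartesianMonoidalCategory.snd G X) a.act).left ↔
      ∃ U : X.left.Opens, (U : Set ↥X.left).Nonempty ∧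
        ∃ b : AlgGrp.Action G (Over.mk (U.ι ≫ X.hom)),
          (G ◁ (Over.homMk U.ι rfl : Over.mk (U.ι ≫ X.hom) ⟶ X)) ≫ a.act = b.act ≫ Over.homMk U.ι rfl ∧
          Surjective (CartesianMonoidalCategory.lift (CartesianMonoidalCategory.snd G (Over.mk (U.ι ≫ X.hom))) b.act).left) ∧
    ∀ U U' : X.left.Opens,
      ((U : Set ↥X.left).Nonempty ∧ ∃ b : AlgGrp.Action G (Over.mk (U.ι ≫ X.hom)),
          (G ◁ (Over.homMk U.ι rfl : Over.mk (U.ι ≫ X.hom) ⟶ X)) ≫ a.act = b.act ≫ Over.homMk U.ι rfl ∧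
          Surjective (CartesianMonoidalCategory.lift (CartesianMonoidalCategory.snd G (Over.mk (U.ι ≫ X.hom))) b.act).left) →
      ((U' : Set ↥X.left).Nonempty ∧ ∃ b' : AlgGrp.Action G (Over.mk (U'.ι ≫ X.hom)),
          (G ◁ (Over.homMk U'.ι rfl : Over.mk (U'.ι ≫ X.hom) ⟶ X)) ≫ a.act = b'.act ≫ Over.homMk U'.ι rfl ∧
          Surjective (CartesianMonoidalCategory.lift (CartesianMonoidalCategory.snd G (Over.mk (U'.ι ≫ X.hom))) b'.act).left) →
      U = U' := by
  refine ⟨⟨fun h => exists_homog k G X a h, ?_⟩, ?_⟩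
  · rintro ⟨U, hU, b, hb, hs⟩
    exact dominant_of_homog k G X a U hU b hb hs
  · rintro U U' ⟨hU, b, hb, hs⟩ ⟨hU', b', hb', hs'⟩
    exact le_antisymm (homog_le k G X a U U' hU b hb hs hU' b' hb')
      (homog_le k G X a U' U hU' b' hb' hs' hU b hb)

end Groth.Agent.H90.AlmostHomog
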