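import Mathlib
import Groth.Prelude.Def_CInt
import Groth.Agent.H90.GrpFlatBase

/-!
Homomorphisms from a flat group scheme are determined by their restriction to a relatively
schematically dense open (SGA3 XVIII 1.?).
-/

set_option autoImplicit false

universe u

namespace Groth.Agent.H90

open CategoryTheory MonoidalCategory CartesianMonoidalCategory MonObj GrpObj AlgebraicGeometry
open Limits

/-- A schematically dense open is (topologically) dense. -/
theorem dense_of_isSchematicallyDense {X : Scheme.{u}} (U : X.Opens)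
    (h : CInt.IsSchematicallyDense U) : Dense (U : Set X) := by
  rw [dense_iff_inter_open]
  intro V hV hne
  by_contra hcon
  rw [Set.not_nonempty_iff_eq_empty] at hcon
  let V' : X.Opens := ⟨V, hV⟩
  have hbot : V' ⊓ U = ⊥ := by
    ext1
    exact hcon
  have hinj := h V'
  have hsub : Subsingleton Γ(X, V' ⊓ U) := by
    rw [hbot]
    infer_instance
  have h10 : (1 : Γ(X, V')) = 0 := hinj (Subsingleton.elim _ _)
  have h1 : X.basicOpen (1 : Γ(X, V')) = V' := X.basicOpen_of_isUnit isUnit_one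
  have h0 : X.basicOpen (0 : Γ(X, V')) = ⊥ := X.basicOpen_zero V'
  rw [h10, h0] at h1
  obtain ⟨v, hv⟩ := hne
  have : v ∈ (⊥ : X.Opens) := by rw [h1]; exact hv
  exact this

section
variable {S : Scheme.{u}} (G : Over S) [GrpObj G]

/-- If `U` is an open of a group scheme `G` over `S` which is dense in all fibres (after base
change), then every point of `G` is a product of two points of `U`. -/
theorem exists_mul_of_fibrewise_dense (U : G.left.Opens)
    (hU : ∀ (S' : Scheme.{u}) (g : S' ⟶ S),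
      Dense (((pullback.fst G.hom g) ⁻¹ᵁ U : (pullback G.hom g).Opens) : Set ↥(pullback G.hom g)))
    (x : G.left) :
    ∃ z : ↥(G ⊗ G).left, (fst G G).left z ∈ U ∧ (snd G G).left z ∈ U ∧ μ[G].left z = x := by
  let T' : Over S := Over.mk (G.left.fromSpecResidueField x ≫ G.hom)
  let x' : T' ⟶ G := Over.homMk (G.left.fromSpecResidueField x)
  let ψ : G ⊗ T' ⟶ G ⊗ T' := lift ((fst G T')⁻¹ * (snd G T' ≫ x')) (snd G T')
  let ψ' : G ⊗ T' ⟶ G ⊗ T' := lift ((snd G T' ≫ x') * (fst G T')⁻¹) (snd G T')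
  have h1 : ψ ≫ ψ' = 𝟙 _ := by
    apply CartesianMonoidalCategory.hom_ext
    · simp only [ψ, ψ', Category.assoc, lift_fst, Category.id_comp, MonObj.comp_mul,
        GrpObj.comp_inv, lift_snd_assoc]
      rw [_root_.mul_inv_rev, _root_.inv_inv, mul_inv_cancel_left]
    · simp only [ψ, ψ', Category.assoc, lift_snd, Category.id_comp]
  have h2 : ψ' ≫ ψ = 𝟙 _ := by
    apply CartesianMonoidalCategory.hom_ext
    · simp only [ψ, ψ', Category.assoc, lift_fst, Category.id_comp, MonObj.comp_mul,
        GrpObj.comp_inv, lift_snd_assoc]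
      rw [_root_.mul_inv_rev, _root_.inv_inv, inv_mul_cancel_right]
    · simp only [ψ, ψ', Category.assoc, lift_snd, Category.id_comp]
  have hiso : IsIso ψ := ⟨ψ', h1, h2⟩
  have hisoL : IsIso ψ.left := inferInstanceAs (IsIso ((Over.forget _).map ψ))
  -- the two dense opens
  have hd1 : Dense (((fst G T').left ⁻¹ᵁ U : (G ⊗ T').left.Opens) : Set ↥(G ⊗ T').left) := by
    have := hU T'.left T'.hom
    rwa [← Over.fst_left] at this
  have hd2 : Dense ((ψ.left ⁻¹ᵁ ((fst G T').left ⁻¹ᵁ U) : (G ⊗ T').left.Opens) :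
      Set ↥(G ⊗ T').left) :=
    hd1.preimage ψ.left.homeomorph.isOpenMap
  have hne : Nonempty ↥(G ⊗ T').left := by
    obtain ⟨y, -, -⟩ := Scheme.Pullback.exists_preimage_pullback (f := G.hom) (g := T'.hom) x
      (IsLocalRing.closedPoint _) (by
        change _ = G.hom (G.left.fromSpecResidueField x _)
        rw [Scheme.fromSpecResidueField_apply])
    exact ⟨y⟩
  obtain ⟨y, hy1, hy2⟩ := (hd1.inter_of_isOpen_right hd2
    (ψ.left ⁻¹ᵁ ((fst G T').left ⁻¹ᵁ U)).isOpen).nonempty
  let ζ : G ⊗ T' ⟶ G ⊗ G := lift (fst G T') (ψ ≫ fst G T')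
  refine ⟨ζ.left y, ?_, ?_, ?_⟩
  · rw [← Scheme.Hom.comp_apply, ← Over.comp_left, lift_fst]
    exact hy1
  · rw [← Scheme.Hom.comp_apply, ← Over.comp_left, lift_snd, Over.comp_left,
      Scheme.Hom.comp_apply]
    exact hy2
  · have hζ : ζ ≫ μ[G] = snd G T' ≫ x' := by
      change (fst G T') * (ψ ≫ fst G T') = _
      simp only [ψ, lift_fst]
      rw [mul_inv_cancel_left]
    rw [← Scheme.Hom.comp_apply, ← Over.comp_left, hζ, Over.comp_left, Scheme.Hom.comp_apply]
    exact Scheme.fromSpecResidueField_apply x _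

end

section
variable {S : Scheme.{u}} (G H : Over S) [GrpObj G] [GrpObj H]

/-- SGA3 XVIII 1.?: two homomorphisms from a flat group scheme agreeing on a relatively
schematically dense open are equal (no separatedness of the target needed). -/
theorem hom_eq_of_eq_on_relSchDense [Flat G.hom] (U : G.left.Opens)
    (hU : ∀ (S' : Scheme.{u}) (g : S' ⟶ S),
      CInt.IsSchematicallyDense ((pullback.fst G.hom g) ⁻¹ᵁ U))
    (f g : G ⟶ H) [IsMonHom f] [IsMonHom g] (h : U.ι ≫ f.left = U.ι ≫ g.left) : f = g := by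
  let W : (G ⊗ G).left.Opens := (fst G G).left ⁻¹ᵁ U ⊓ (snd G G).left ⁻¹ᵁ U
  let W' : Over S := Over.mk (W.ι ≫ (G ⊗ G).hom)
  let w : W' ⟶ G ⊗ G := Over.homMk W.ι
  -- `w ≫ μ` is flat and surjective, hence an epimorphism
  have hflat : Flat (w ≫ μ[G]).left := by
    have := Base.flat_mul_left G
    rw [Over.comp_left]
    change Flat (W.ι ≫ μ[G].left)
    infer_instance
  have hsurj : Surjective (w ≫ μ[G]).left := by
    constructor
    intro x
    obtain ⟨z, hz1, hz2, hz3⟩ := exists_mul_of_fibrewise_dense G U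
      (fun S' g' ↦ dense_of_isSchematicallyDense _ (hU S' g')) x
    have hzW : z ∈ W := ⟨hz1, hz2⟩
    refine ⟨⟨z, hzW⟩, ?_⟩
    rw [Over.comp_left, Scheme.Hom.comp_apply]
    exact hz3
  have hepi : Epi (w ≫ μ[G]).left := Flat.epi_of_flat_of_surjective _
  -- the two homomorphisms agree after `w ≫ μ`
  have hfst : (w ≫ fst G G) ≫ f = (w ≫ fst G G) ≫ g := by
    ext1
    have hr : Set.range (W.ι ≫ (fst G G).left) ⊆ Set.range U.ι := by
      rintro _ ⟨y, rfl⟩
      rw [Scheme.Opens.range_ι]
      exact y.2.1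
    have hfac : IsOpenImmersion.lift U.ι (W.ι ≫ (fst G G).left) hr ≫ U.ι =
        W.ι ≫ (fst G G).left := IsOpenImmersion.lift_fac _ _ _
    change (W.ι ≫ (fst G G).left) ≫ f.left = (W.ι ≫ (fst G G).left) ≫ g.left
    rw [← hfac, Category.assoc, Category.assoc, h]
  have hsnd : (w ≫ snd G G) ≫ f = (w ≫ snd G G) ≫ g := by
    ext1
    have hr : Set.range (W.ι ≫ (snd G G).left) ⊆ Set.range U.ι := by
      rintro _ ⟨y, rfl⟩
      rw [Scheme.Opens.range_ι]
      exact y.2.2
    have hfac : IsOpenImmersion.lift U.ι (W.ι ≫ (snd G G).left) hr ≫ U.ι =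
        W.ι ≫ (snd G G).left := IsOpenImmersion.lift_fac _ _ _
    change (W.ι ≫ (snd G G).left) ≫ f.left = (W.ι ≫ (snd G G).left) ≫ g.left
    rw [← hfac, Category.assoc, Category.assoc, h]
  have key : (w ≫ μ[G]) ≫ f = (w ≫ μ[G]) ≫ g := by
    have e1 : w ≫ (f ⊗ₘ f) = w ≫ (g ⊗ₘ g) := by
      apply CartesianMonoidalCategory.hom_ext
      · simp only [Category.assoc, tensorHom_fst]
        simpa only [Category.assoc] using hfst
      · simp only [Category.assoc, tensorHom_snd]
        simpa only [Category.assoc] using hsnd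
    rw [Category.assoc, Category.assoc, IsMonHom.mul_hom, IsMonHom.mul_hom, reassoc_of% e1]
  ext1
  rw [← cancel_epi (w ≫ μ[G]).left, ← Over.comp_left, ← Over.comp_left, key]

end

end Groth.Agent.H90
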