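import Mathlib
import Groth.Prelude.Def_CInt
import Groth.Agent.H90.SchDenseHom
import Groth.Agent.H90.SchDenseSection

/-!
"Generic points" of a flat group scheme over an arbitrary base: opens of `G ×_S T` which are dense
in every fibre over `T` (universally), translations, and the resulting epimorphisms onto `T`.
-/

set_option autoImplicit false

universe u

namespace Groth.Agent.H90

open CategoryTheory MonoidalCategory CartesianMonoidalCategory MonObj GrpObj AlgebraicGeometry
open Limits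

lemma isSchematicallyDense_mono' {X : Scheme.{u}} {U U' : X.Opens} (h : U' ≤ U)
    (hU' : CInt.IsSchematicallyDense U') : CInt.IsSchematicallyDense U := by
  intro V
  have hle : V ⊓ U' ≤ V ⊓ U := inf_le_inf_left V h
  have hcomp : (X.presheaf.map (homOfLE (inf_le_left : V ⊓ U' ≤ V)).op).hom =
      (X.presheaf.map (homOfLE hle).op).hom.comp
        (X.presheaf.map (homOfLE (inf_le_left : V ⊓ U ≤ V)).op).hom := by
    rw [← CommRingCat.hom_comp, ← Functor.map_comp]
    rfl
  have hinj := hU' V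
  intro a b hab
  apply hinj
  change (X.presheaf.map (homOfLE (inf_le_left : V ⊓ U' ≤ V)).op).hom a =
    (X.presheaf.map (homOfLE (inf_le_left : V ⊓ U' ≤ V)).op).hom b
  rw [hcomp, RingHom.comp_apply, RingHom.comp_apply]
  exact congrArg _ hab

/-- Schematic density is preserved by preimage under an isomorphism. -/
theorem isSchematicallyDense_preimage_of_isIso {P X : Scheme.{u}} (φ : P ⟶ X) [IsIso φ]
    (U : X.Opens) (hU : CInt.IsSchematicallyDense U) : CInt.IsSchematicallyDense (φ ⁻¹ᵁ U) := by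
  apply isSchematicallyDense_of_preimage_of_isIso (inv φ)
  have : (inv φ) ⁻¹ᵁ (φ ⁻¹ᵁ U) = U := by
    rw [← Scheme.Hom.comp_preimage, IsIso.inv_hom_id]
    rfl
  rwa [this]

/-- Schematic density is preserved by preimage under an open immersion. -/
theorem isSchematicallyDense_preimage_of_isOpenImmersion {Q P : Scheme.{u}} (j : Q ⟶ P)
    [IsOpenImmersion j] (D : P.Opens) (hD : CInt.IsSchematicallyDense D) :
    CInt.IsSchematicallyDense (j ⁻¹ᵁ D) := by
  have h1 := isSchematicallyDense_preimage_ι j.opensRange D hD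
  have h2 := isSchematicallyDense_preimage_of_isIso j.isoOpensRange.hom _ h1
  have : j.isoOpensRange.hom ⁻¹ᵁ (j.opensRange.ι ⁻¹ᵁ D) = j ⁻¹ᵁ D := by
    rw [← Scheme.Hom.comp_preimage, Scheme.Hom.isoOpensRange_hom_ι]
  rwa [this] at h2

section
variable {S : Scheme.{u}} (G : Over S) [GrpObj G]

/-- An open of `G ×_S T` is universally fibrewise dense over `T`. -/
def RelDense (T : Over S) (O : (G ⊗ T).left.Opens) : Prop :=
  ∀ (T' : Over S) (r : T' ⟶ T),
    Dense (((G ◁ r).left ⁻¹ᵁ O : (G ⊗ T').left.Opens) : Set ↥(G ⊗ T').left)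

variable {G}

lemma RelDense.inf {T : Over S} {O₁ O₂ : (G ⊗ T).left.Opens} (h₁ : RelDense G T O₁)
    (h₂ : RelDense G T O₂) : RelDense G T (O₁ ⊓ O₂) := by
  intro T' r
  exact (h₁ T' r).inter_of_isOpen_right (h₂ T' r) ((G ◁ r).left ⁻¹ᵁ O₂).isOpen

/-- Transport of `RelDense` along a family of automorphisms of `G ×_S T` natural in `T`. -/
lemma RelDense.preimage {T : Over S} {O : (G ⊗ T).left.Opens} (h : RelDense G T O)
    (ψ : ∀ (T' : Over S) (_ : T' ⟶ T), (G ⊗ T' ⟶ G ⊗ T')) (hψ : ∀ T' r, IsIso (ψ T' r))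
    (hnat : ∀ (T' : Over S) (r : T' ⟶ T), (G ◁ r) ≫ ψ T (𝟙 T) = ψ T' r ≫ (G ◁ r)) :
    RelDense G T ((ψ T (𝟙 T)).left ⁻¹ᵁ O) := by
  intro T' r
  have hiso : IsIso (ψ T' r).left :=
    have := hψ T' r
    inferInstanceAs (IsIso ((Over.forget _).map (ψ T' r)))
  have e : (G ◁ r).left ⁻¹ᵁ ((ψ T (𝟙 T)).left ⁻¹ᵁ O) =
      (ψ T' r).left ⁻¹ᵁ ((G ◁ r).left ⁻¹ᵁ O) := by
    rw [← Scheme.Hom.comp_preimage, ← Scheme.Hom.comp_preimage, ← Over.comp_left, ← Over.comp_left,
      hnat]
  rw [e]
  exact (h T' r).preimage (ψ T' r).left.homeomorph.isOpenMap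

/-- Left translation `u ↦ p · u` on `G ×_S T'`, for a `T`-point `p` and `r : T' ⟶ T`. -/
noncomputable def translL {T : Over S} (p : T ⟶ G) (T' : Over S) (r : T' ⟶ T) :
    G ⊗ T' ⟶ G ⊗ T' :=
  lift ((snd G T' ≫ r ≫ p) * fst G T') (snd G T')

lemma translL_fst {T : Over S} (p : T ⟶ G) (T' : Over S) (r : T' ⟶ T) :
    translL p T' r ≫ fst G T' = (snd G T' ≫ r ≫ p) * fst G T' := lift_fst _ _

lemma translL_snd {T : Over S} (p : T ⟶ G) (T' : Over S) (r : T' ⟶ T) :
    translL p T' r ≫ snd G T' = snd G T' := lift_snd _ _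

lemma isIso_translL {T : Over S} (p : T ⟶ G) (T' : Over S) (r : T' ⟶ T) :
    IsIso (translL p T' r) := by
  refine ⟨lift ((snd G T' ≫ r ≫ p)⁻¹ * fst G T') (snd G T'), ?_, ?_⟩
  · apply CartesianMonoidalCategory.hom_ext
    · simp only [translL, Category.assoc, lift_fst, Category.id_comp, MonObj.comp_mul,
        GrpObj.comp_inv, lift_snd_assoc]
      rw [inv_mul_cancel_left]
    · simp only [translL, Category.assoc, lift_snd, Category.id_comp]
  · apply CartesianMonoidalCategory.hom_ext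
    · simp only [translL, Category.assoc, lift_fst, Category.id_comp, MonObj.comp_mul,
        GrpObj.comp_inv, lift_snd_assoc]
      rw [mul_inv_cancel_left]
    · simp only [translL, Category.assoc, lift_snd, Category.id_comp]

lemma translL_nat {T : Over S} (p : T ⟶ G) (T' : Over S) (r : T' ⟶ T) :
    (G ◁ r) ≫ translL p T (𝟙 T) = translL p T' r ≫ (G ◁ r) := by
  apply CartesianMonoidalCategory.hom_ext
  · simp only [translL, Category.assoc, lift_fst, whiskerLeft_fst, MonObj.comp_mul,
      whiskerLeft_snd_assoc, Category.id_comp]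
  · simp only [translL, Category.assoc, lift_snd, whiskerLeft_snd, lift_snd_assoc]

/-- Inversion `u ↦ u⁻¹` on `G ×_S T'`. -/
noncomputable def invT (T' : Over S) : G ⊗ T' ⟶ G ⊗ T' :=
  lift ((fst G T')⁻¹) (snd G T')

lemma invT_fst (T' : Over S) : invT (G := G) T' ≫ fst G T' = (fst G T')⁻¹ := lift_fst _ _

lemma isIso_invT (T' : Over S) : IsIso (invT (G := G) T') := by
  refine ⟨invT T', ?_, ?_⟩ <;>
  · apply CartesianMonoidalCategory.hom_ext
    · simp only [invT, Category.assoc, lift_fst, Category.id_comp, GrpObj.comp_inv]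
      rw [_root_.inv_inv]
    · simp only [invT, Category.assoc, lift_snd, Category.id_comp]

lemma invT_nat {T : Over S} (T' : Over S) (r : T' ⟶ T) :
    (G ◁ r) ≫ invT (G := G) T = invT T' ≫ (G ◁ r) := by
  apply CartesianMonoidalCategory.hom_ext
  · simp only [invT, Category.assoc, lift_fst, whiskerLeft_fst, GrpObj.comp_inv]
  · simp only [invT, Category.assoc, lift_snd, whiskerLeft_snd, lift_snd_assoc]

variable (U : G.left.Opens)
  (hU : ∀ (S' : Scheme.{u}) (g : S' ⟶ S),
      Dense (((pullback.fst G.hom g) ⁻¹ᵁ U : (pullback G.hom g).Opens) : Set ↥(pullback G.hom g)))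

include hU in
lemma relDense_fst (T : Over S) : RelDense G T ((fst G T).left ⁻¹ᵁ U) := by
  intro T' r
  have e : (G ◁ r).left ⁻¹ᵁ ((fst G T).left ⁻¹ᵁ U) = (fst G T').left ⁻¹ᵁ U := by
    rw [← Scheme.Hom.comp_preimage, ← Over.comp_left, whiskerLeft_fst]
  rw [e]
  have := hU T'.left T'.hom
  rwa [← Over.fst_left] at this

include hU in
/-- `{u : p · u ∈ U}` is fibrewise dense. -/
lemma relDense_translL {T : Over S} (p : T ⟶ G) :
    RelDense G T ((translL p T (𝟙 T) ≫ fst G T).left ⁻¹ᵁ U) := by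
  have := (relDense_fst U hU T).preimage (fun T' r ↦ translL p T' r)
    (fun T' r ↦ isIso_translL p T' r) (fun T' r ↦ translL_nat p T' r)
  rwa [← Scheme.Hom.comp_preimage, ← Over.comp_left] at this

include hU in
/-- `{u : (p · u)⁻¹ ∈ U}` is fibrewise dense. -/
lemma relDense_translL_inv {T : Over S} (p : T ⟶ G) :
    RelDense G T ((translL p T (𝟙 T) ≫ invT T ≫ fst G T).left ⁻¹ᵁ U) := by
  have h1 := (relDense_fst U hU T).preimage (fun T' _ ↦ invT T')
    (fun T' _ ↦ isIso_invT T') (fun T' r ↦ invT_nat T' r)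
  have h2 := h1.preimage (fun T' r ↦ translL p T' r)
    (fun T' r ↦ isIso_translL p T' r) (fun T' r ↦ translL_nat p T' r)
  rwa [← Scheme.Hom.comp_preimage, ← Scheme.Hom.comp_preimage, ← Over.comp_left,
    ← Over.comp_left] at h2

/-- The `S`-scheme structure on an open of `G ×_S T`. -/
noncomputable abbrev openOver {T : Over S} (O : (G ⊗ T).left.Opens) : Over S :=
  Over.mk (O.ι ≫ (G ⊗ T).hom)

/-- The inclusion of an open of `G ×_S T`, as a morphism over `S`. -/
noncomputable abbrev openIncl {T : Over S} (O : (G ⊗ T).left.Opens) : openOver O ⟶ G ⊗ T :=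
  Over.homMk O.ι rfl

lemma surjective_of_relDense {T : Over S} {O : (G ⊗ T).left.Opens} (h : RelDense G T O) :
    Function.Surjective (openIncl O ≫ snd G T).left := by
  intro x
  let T' : Over S := Over.mk (T.left.fromSpecResidueField x ≫ T.hom)
  let r : T' ⟶ T := Over.homMk (T.left.fromSpecResidueField x) rfl
  have hne : Nonempty ↥(G ⊗ T').left := by
    let t₀ : T'.left := IsLocalRing.closedPoint _
    have h1 : (η[G].left ≫ G.hom) = 𝟙 _ := Over.w η[G]
    obtain ⟨y, -, -⟩ := Scheme.Pullback.exists_preimage_pullback (f := G.hom) (g := T'.hom)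
      (η[G].left (T'.hom t₀)) t₀ (by
        rw [← Scheme.Hom.comp_apply, h1]
        rfl)
    exact ⟨y⟩
  obtain ⟨y, hy⟩ := (h T' r).nonempty
  refine ⟨⟨(G ◁ r).left y, hy⟩, ?_⟩
  change (snd G T).left ((G ◁ r).left y) = x
  rw [← Scheme.Hom.comp_apply, ← Over.comp_left, whiskerLeft_snd, Over.comp_left,
    Scheme.Hom.comp_apply]
  exact Scheme.fromSpecResidueField_apply x _

lemma epi_of_relDense [Flat G.hom] {T : Over S} {O : (G ⊗ T).left.Opens} (h : RelDense G T O) :
    Epi (openIncl O ≫ snd G T) := by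
  have hflat : Flat (openIncl O ≫ snd G T).left := by
    rw [Over.comp_left]
    have : Flat (snd G T).left := by rw [Over.snd_left]; infer_instance
    change Flat (O.ι ≫ (snd G T).left)
    infer_instance
  have hsurj : Surjective (openIncl O ≫ snd G T).left := ⟨surjective_of_relDense h⟩
  have hepi : Epi (openIncl O ≫ snd G T).left := Flat.epi_of_flat_of_surjective _
  exact (Over.forget _).epi_of_epi_map hepi

/-- A morphism from an open `O` of `G ×_S T` composed with `g : G ×_S T ⟶ G` lands in `U` when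
`O ≤ g ⁻¹ U`. -/
lemma range_openIncl_comp {T : Over S} (O : (G ⊗ T).left.Opens) (g : G ⊗ T ⟶ G)
    (hO : O ≤ g.left ⁻¹ᵁ U) : Set.range (openIncl O ≫ g).left.base ⊆ (U : Set ↥G.left) := by
  rintro _ ⟨y, rfl⟩
  exact hO y.2

end

end Groth.Agent.H90
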