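import Mathlib
import Groth.Prelude.Def_CInt
import Groth.Agent.H90.GenericPt
import Groth.Agent.H90.GrpUnitSection

/-!
SGA3 XVIII 2.3: extension of a "birational homomorphism" `U ⟶ H` defined on a relatively
schematically dense open `U` of a flat, locally finitely presented group scheme `G` to a
homomorphism `G ⟶ H` (H any group scheme).
-/

set_option autoImplicit false

universe u

namespace Groth.Agent.H90

open CategoryTheory MonoidalCategory CartesianMonoidalCategory MonObj GrpObj AlgebraicGeometry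
open Limits

/-- The fibres of a group scheme are separated. -/
theorem isSeparated_fibre_of_grpObj {S : Scheme.{u}} (H : Over S) [GrpObj H] (s : S) :
    IsSeparated (pullback.snd H.hom (S.fromSpecResidueField s)) := by
  letI : GrpObj (Over.mk H.hom) := inferInstanceAs (GrpObj H)
  letI : GrpObj (Over.mk (pullback.snd H.hom (S.fromSpecResidueField s))) :=
    Over.grpObjMkPullbackSnd
  have : DiscreteTopology ↥(Spec (S.residueField s)) :=
    inferInstanceAs (DiscreteTopology (PrimeSpectrum (S.residueField s)))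
  exact isSeparated_of_discrete _ (Over.mk (pullback.snd H.hom (S.fromSpecResidueField s)))

/-- Relative schematic density passes to an open subscheme containing... (restriction to an
open `Ω`, viewed as an `S`-scheme). -/
theorem relSchDense_restrict {S : Scheme.{u}} (X : Over S) (Ω V : X.left.Opens)
    (hV : ∀ (S' : Scheme.{u}) (g : S' ⟶ S),
      CInt.IsSchematicallyDense ((pullback.fst X.hom g) ⁻¹ᵁ V))
    (S' : Scheme.{u}) (g : S' ⟶ S) :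
    CInt.IsSchematicallyDense ((pullback.fst (Ω.ι ≫ X.hom) g) ⁻¹ᵁ (Ω.ι ⁻¹ᵁ V)) := by
  let j : pullback (Ω.ι ≫ X.hom) g ⟶ pullback X.hom g :=
    pullback.map (Ω.ι ≫ X.hom) g X.hom g Ω.ι (𝟙 S') (𝟙 S) (by simp) (by simp)
  have hj : j ≫ pullback.fst X.hom g = pullback.fst (Ω.ι ≫ X.hom) g ≫ Ω.ι :=
    pullback.lift_fst _ _ _
  have := isSchematicallyDense_preimage_of_isOpenImmersion j _ (hV S' g)
  rwa [← Scheme.Hom.comp_preimage, hj, Scheme.Hom.comp_preimage] at this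

section
variable {S : Scheme.{u}} {G H : Over S} [GrpObj G] [GrpObj H]
  (U : G.left.Opens) (jU : Over.mk (U.ι ≫ G.hom) ⟶ G) (hjU : jU.left = U.ι)

include hjU in
lemma mono_jU : Mono jU := by
  have : Mono jU.left := by rw [hjU]; infer_instance
  exact (Over.forget _).mono_of_mono_map this

include hjU in
lemma exists_liftU {T : Over S} (p : T ⟶ G) (hp : Set.range p.left.base ⊆ (U : Set ↥G.left)) :
    ∃ p' : T ⟶ Over.mk (U.ι ≫ G.hom), p' ≫ jU = p := by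
  have hr : Set.range p.left ⊆ Set.range U.ι := by rw [Scheme.Opens.range_ι]; exact hp
  refine ⟨Over.homMk (IsOpenImmersion.lift U.ι p.left hr) ?_, ?_⟩
  · change _ ≫ U.ι ≫ G.hom = _
    rw [IsOpenImmersion.lift_fac_assoc, Over.w]
  · ext1
    rw [Over.comp_left, hjU]
    exact IsOpenImmersion.lift_fac _ _ _

include hjU in
lemma range_comp_jU {T : Over S} (a : T ⟶ Over.mk (U.ι ≫ G.hom)) :
    Set.range (a ≫ jU).left.base ⊆ (U : Set ↥G.left) := by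
  rintro _ ⟨y, rfl⟩
  rw [Over.comp_left, hjU]
  exact (a.left y).2

variable (fbar : Over.mk (U.ι ≫ G.hom) ⟶ H) (V : (G ⊗ G).left.Opens)
  (hV : ∀ (S' : Scheme.{u}) (g : S' ⟶ S),
    CInt.IsSchematicallyDense ((pullback.fst (G ⊗ G).hom g) ⁻¹ᵁ V))
  (hV1 : V ≤ (fst G G).left ⁻¹ᵁ U) (hV2 : V ≤ (snd G G).left ⁻¹ᵁ U)
  (hVm : V ≤ μ[G].left ⁻¹ᵁ U)
  (hmul : ∀ (X : Over S) (a b : X ⟶ Over.mk (U.ι ≫ G.hom)),
      Set.range (lift (a ≫ jU) (b ≫ jU)).left.base ⊆ (V : Set ↥(G ⊗ G).left) →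
      ∃ c : X ⟶ Over.mk (U.ι ≫ G.hom), c ≫ jU = (a ≫ jU) * (b ≫ jU) ∧
        c ≫ fbar = (a ≫ fbar) * (b ≫ fbar))

include hjU hV hmul in
/-- Multiplicativity of `fbar` on all pairs `(a, b)` of points of `U` with `a * b` in `U`. -/
theorem mulOn_of_mulOn_dense (T : Over S) (a b c : T ⟶ Over.mk (U.ι ≫ G.hom))
    (habc : (a ≫ jU) * (b ≫ jU) = c ≫ jU) : c ≫ fbar = (a ≫ fbar) * (b ≫ fbar) := by
  have hmono := mono_jU U jU hjU
  -- the universal case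
  let Ω : (G ⊗ G).left.Opens := (fst G G).left ⁻¹ᵁ U ⊓ (snd G G).left ⁻¹ᵁ U ⊓ μ[G].left ⁻¹ᵁ U
  let ΩΩ : Over S := Over.mk (Ω.ι ≫ (G ⊗ G).hom)
  let ω : ΩΩ ⟶ G ⊗ G := Over.homMk Ω.ι rfl
  obtain ⟨a₀, ha₀⟩ := exists_liftU U jU hjU (ω ≫ fst G G) (by
    rintro _ ⟨y, rfl⟩; exact y.2.1.1)
  obtain ⟨b₀, hb₀⟩ := exists_liftU U jU hjU (ω ≫ snd G G) (by
    rintro _ ⟨y, rfl⟩; exact y.2.1.2)
  obtain ⟨c₀, hc₀⟩ := exists_liftU U jU hjU (ω ≫ μ[G]) (by
    rintro _ ⟨y, rfl⟩; exact y.2.2)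
  have hlift₀ : lift (a₀ ≫ jU) (b₀ ≫ jU) = ω := by
    rw [ha₀, hb₀]
    apply CartesianMonoidalCategory.hom_ext <;> simp
  have huniv : c₀ ≫ fbar = (a₀ ≫ fbar) * (b₀ ≫ fbar) := by
    let VΩ : ΩΩ.left.Opens := Ω.ι ⁻¹ᵁ V
    refine eq_of_relSchDense_of_fibres_separated S ΩΩ H VΩ
      (relSchDense_restrict (G ⊗ G) Ω V hV) (isSeparated_fibre_of_grpObj H) _ _ ?_
    let VV : Over S := Over.mk (VΩ.ι ≫ ΩΩ.hom)
    let v : VV ⟶ ΩΩ := Over.homMk VΩ.ι rfl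
    suffices h : v ≫ c₀ ≫ fbar = v ≫ ((a₀ ≫ fbar) * (b₀ ≫ fbar)) from
      congrArg (fun k ↦ k.left) h
    obtain ⟨c, hc1, hc2⟩ := hmul VV (v ≫ a₀) (v ≫ b₀) (by
      rw [Category.assoc, Category.assoc, ← comp_lift, hlift₀]
      rintro _ ⟨y, rfl⟩
      exact y.2)
    have hc : c = v ≫ c₀ := by
      rw [← cancel_mono jU, hc1, Category.assoc, Category.assoc, Category.assoc, hc₀,
        ← MonObj.comp_mul, ha₀, hb₀]
      change v ≫ (lift (ω ≫ fst G G) (ω ≫ snd G G) ≫ μ[G]) = _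
      congr 2
      apply CartesianMonoidalCategory.hom_ext <;> simp
    rw [← Category.assoc, ← hc, hc2, MonObj.comp_mul]
    simp only [Category.assoc]
  -- the general case
  obtain ⟨τ, hτ⟩ : ∃ τ : T ⟶ ΩΩ, τ ≫ ω = lift (a ≫ jU) (b ≫ jU) := by
    have hr : Set.range (lift (a ≫ jU) (b ≫ jU)).left ⊆ Set.range Ω.ι := by
      rw [Scheme.Opens.range_ι]
      rintro _ ⟨y, rfl⟩
      refine ⟨⟨?_, ?_⟩, ?_⟩
      · change (fst G G).left ((lift (a ≫ jU) (b ≫ jU)).left y) ∈ U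
        rw [← Scheme.Hom.comp_apply, ← Over.comp_left, lift_fst]
        exact range_comp_jU U jU hjU a ⟨y, rfl⟩
      · change (snd G G).left ((lift (a ≫ jU) (b ≫ jU)).left y) ∈ U
        rw [← Scheme.Hom.comp_apply, ← Over.comp_left, lift_snd]
        exact range_comp_jU U jU hjU b ⟨y, rfl⟩
      · change μ[G].left ((lift (a ≫ jU) (b ≫ jU)).left y) ∈ U
        rw [← Scheme.Hom.comp_apply, ← Over.comp_left]
        change ((a ≫ jU) * (b ≫ jU)).left y ∈ U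
        rw [habc]
        exact range_comp_jU U jU hjU c ⟨y, rfl⟩
    have hfac : IsOpenImmersion.lift Ω.ι (lift (a ≫ jU) (b ≫ jU)).left hr ≫ Ω.ι =
        (lift (a ≫ jU) (b ≫ jU)).left := IsOpenImmersion.lift_fac _ _ _
    refine ⟨Over.homMk (IsOpenImmersion.lift Ω.ι (lift (a ≫ jU) (b ≫ jU)).left hr) ?_, ?_⟩
    · change _ ≫ Ω.ι ≫ (G ⊗ G).hom = _
      rw [reassoc_of% hfac, Over.w]
    · apply Over.OverMorphism.ext
      exact hfac
  have hτa : τ ≫ a₀ = a := by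
    rw [← cancel_mono jU, Category.assoc, ha₀, reassoc_of% hτ, lift_fst]
  have hτb : τ ≫ b₀ = b := by
    rw [← cancel_mono jU, Category.assoc, hb₀, reassoc_of% hτ, lift_snd]
  have hτc : τ ≫ c₀ = c := by
    rw [← cancel_mono jU, Category.assoc, hc₀, reassoc_of% hτ, ← habc]
    rfl
  rw [← hτa, ← hτb, ← hτc, Category.assoc, huniv, MonObj.comp_mul]
  simp only [Category.assoc]

/-- "multiplicative on `U`": the conclusion of `mulOn_of_mulOn_dense`. -/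
def MulOnU : Prop :=
  ∀ (T : Over S) (a b c : T ⟶ Over.mk (U.ι ≫ G.hom)),
    (a ≫ jU) * (b ≫ jU) = c ≫ jU → c ≫ fbar = (a ≫ fbar) * (b ≫ fbar)

variable {U jU fbar}

lemma MulOnU.aux (hA : MulOnU U jU fbar) {T₁ : Over S} (A B u₁ v₁ w₁ : T₁ ⟶ Over.mk (U.ι ≫ G.hom))
    (hv : v₁ ≫ jU = (A ≫ jU)⁻¹ * (u₁ ≫ jU))
    (hw : w₁ ≫ jU = (u₁ ≫ jU)⁻¹ * ((A ≫ jU) * (B ≫ jU))) :
    (A ≫ fbar) * (B ≫ fbar) = (u₁ ≫ fbar) * (w₁ ≫ fbar) := by
  have h1 : u₁ ≫ fbar = (A ≫ fbar) * (v₁ ≫ fbar) := by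
    apply hA
    rw [hv, mul_inv_cancel_left]
  have h2 : B ≫ fbar = (v₁ ≫ fbar) * (w₁ ≫ fbar) := by
    apply hA
    rw [hv, hw]
    group
  rw [h1, h2, _root_.mul_assoc]

variable [Flat G.hom]
  (hUd : ∀ (S' : Scheme.{u}) (g : S' ⟶ S),
      Dense (((pullback.fst G.hom g) ⁻¹ᵁ U : (pullback G.hom g).Opens) : Set ↥(pullback G.hom g)))

include hjU hUd in
/-- The descent condition: `fbar a * fbar b` only depends on `a * b`. -/
lemma MulOnU.desc_cond (hA : MulOnU U jU fbar) (T : Over S)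
    (a b a'' b'' : T ⟶ Over.mk (U.ι ≫ G.hom))
    (h : (a ≫ jU) * (b ≫ jU) = (a'' ≫ jU) * (b'' ≫ jU)) :
    (a ≫ fbar) * (b ≫ fbar) = (a'' ≫ fbar) * (b'' ≫ fbar) := by
  let x : T ⟶ G := (a ≫ jU) * (b ≫ jU)
  let p : T ⟶ G := (a ≫ jU)⁻¹
  let p'' : T ⟶ G := (a'' ≫ jU)⁻¹
  let q : T ⟶ G := x⁻¹
  let O₁ : (G ⊗ T).left.Opens := (fst G T).left ⁻¹ᵁ U
  let O₂ : (G ⊗ T).left.Opens := (translL p T (𝟙 T) ≫ fst G T).left ⁻¹ᵁ U
  let O₃ : (G ⊗ T).left.Opens := (translL p'' T (𝟙 T) ≫ fst G T).left ⁻¹ᵁ U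
  let O₄ : (G ⊗ T).left.Opens := (translL q T (𝟙 T) ≫ invT T ≫ fst G T).left ⁻¹ᵁ U
  let O : (G ⊗ T).left.Opens := O₁ ⊓ O₂ ⊓ O₃ ⊓ O₄
  have hO : RelDense G T O :=
    (((relDense_fst U hUd T).inf (relDense_translL U hUd p)).inf
      (relDense_translL U hUd p'')).inf (relDense_translL_inv U hUd q)
  have hepi := epi_of_relDense hO
  let o := openIncl O
  let r := o ≫ snd G T
  let u := o ≫ fst G T
  rw [← cancel_epi r]
  obtain ⟨u₁, hu₁⟩ := exists_liftU U jU hjU u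
    (range_openIncl_comp U O (fst G T) (fun y hy ↦ hy.1.1.1))
  obtain ⟨v₁, hv₁⟩ := exists_liftU U jU hjU (o ≫ translL p T (𝟙 T) ≫ fst G T)
    (range_openIncl_comp U O _ (fun y hy ↦ hy.1.1.2))
  obtain ⟨v₁'', hv₁''⟩ := exists_liftU U jU hjU (o ≫ translL p'' T (𝟙 T) ≫ fst G T)
    (range_openIncl_comp U O _ (fun y hy ↦ hy.1.2))
  obtain ⟨w₁, hw₁⟩ := exists_liftU U jU hjU (o ≫ translL q T (𝟙 T) ≫ invT T ≫ fst G T)
    (range_openIncl_comp U O _ (fun y hy ↦ hy.2))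
  have e_v : o ≫ translL p T (𝟙 T) ≫ fst G T = ((r ≫ a) ≫ jU)⁻¹ * (u₁ ≫ jU) := by
    rw [translL_fst, MonObj.comp_mul, hu₁]
    simp only [p, r, u, Category.assoc, Category.id_comp, GrpObj.comp_inv]
  have e_v'' : o ≫ translL p'' T (𝟙 T) ≫ fst G T = ((r ≫ a'') ≫ jU)⁻¹ * (u₁ ≫ jU) := by
    rw [translL_fst, MonObj.comp_mul, hu₁]
    simp only [p'', r, u, Category.assoc, Category.id_comp, GrpObj.comp_inv]
  have e_w : o ≫ translL q T (𝟙 T) ≫ invT T ≫ fst G T =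
      (u₁ ≫ jU)⁻¹ * (((r ≫ a) ≫ jU) * ((r ≫ b) ≫ jU)) := by
    rw [invT_fst, hu₁]
    simp only [q, x, r, u, Category.assoc, Category.id_comp, GrpObj.comp_inv, translL_fst,
      MonObj.comp_mul, _root_.mul_inv_rev, _root_.inv_inv]
  have e_w'' : o ≫ translL q T (𝟙 T) ≫ invT T ≫ fst G T =
      (u₁ ≫ jU)⁻¹ * (((r ≫ a'') ≫ jU) * ((r ≫ b'') ≫ jU)) := by
    rw [e_w, Category.assoc, Category.assoc, Category.assoc, Category.assoc, ← MonObj.comp_mul,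
      ← MonObj.comp_mul, h]
    simp only [r, Category.assoc, MonObj.comp_mul]
  rw [MonObj.comp_mul, MonObj.comp_mul, ← Category.assoc, ← Category.assoc r b, ← Category.assoc r a'',
    ← Category.assoc r b'']
  rw [hA.aux (r ≫ a) (r ≫ b) u₁ v₁ w₁ (hv₁.trans e_v) (hw₁.trans e_w),
    hA.aux (r ≫ a'') (r ≫ b'') u₁ v₁'' w₁ (hv₁''.trans e_v'') (hw₁.trans e_w'')]

end

section
variable {S : Scheme.{u}} (G : Over S) [GrpObj G]

lemma lfp_mul_left [LocallyOfFinitePresentation G.hom] :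
    LocallyOfFinitePresentation (μ[G].left) := by
  rw [mul_eq_shearHom_snd, Over.comp_left]
  have h2 : IsIso (shearHom (𝟙 G)).left :=
    inferInstanceAs (IsIso ((Over.forget _).map (shearHom (𝟙 G))))
  have h3 : LocallyOfFinitePresentation (snd G G).left := by
    rw [Over.snd_left]
    infer_instance
  infer_instance

end

section
variable {S : Scheme.{u}} (G H : Over S) [GrpObj G] [GrpObj H]

/-- A morphism of group objects in a cartesian category which preserves multiplication preserves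
the unit. -/
lemma isMonHom_of_mul_hom (f : G ⟶ H) (hf : μ[G] ≫ f = (f ⊗ₘ f) ≫ μ[H]) : IsMonHom f := by
  refine ⟨?_, hf⟩
  have h1 : (η[G] ≫ f) * (η[G] ≫ f) = η[G] ≫ f := by
    change lift (η[G] ≫ f) (η[G] ≫ f) ≫ μ[H] = _
    have : lift (η[G] ≫ f) (η[G] ≫ f) = lift η[G] η[G] ≫ (f ⊗ₘ f) := by
      apply CartesianMonoidalCategory.hom_ext <;> simp
    rw [this, Category.assoc, ← hf, ← Category.assoc]
    change ((η[G] : 𝟙_ _ ⟶ G) * η[G]) ≫ f = _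
    rw [MonObj.one_eq_one, _root_.mul_one]
  have h2 : η[G] ≫ f = 1 := by
    have := congrArg (fun z ↦ (η[G] ≫ f)⁻¹ * z) h1
    simpa using this
  rw [h2, MonObj.one_eq_one]

end

section
variable {S : Scheme.{u}} (G H : Over S) [GrpObj G] [GrpObj H] [Flat G.hom]
  [LocallyOfFinitePresentation G.hom]
  (U : G.left.Opens)
  (hU : ∀ (S' : Scheme.{u}) (g : S' ⟶ S),
    CInt.IsSchematicallyDense ((pullback.fst G.hom g) ⁻¹ᵁ U))
  (jU : Over.mk (U.ι ≫ G.hom) ⟶ G) (hjU : jU.left = U.ι)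
  (fbar : Over.mk (U.ι ≫ G.hom) ⟶ H) (V : (G ⊗ G).left.Opens)
  (hV : ∀ (S' : Scheme.{u}) (g : S' ⟶ S),
    CInt.IsSchematicallyDense ((pullback.fst (G ⊗ G).hom g) ⁻¹ᵁ V))
  (hV1 : V ≤ (fst G G).left ⁻¹ᵁ U) (hV2 : V ≤ (snd G G).left ⁻¹ᵁ U)
  (hVm : V ≤ μ[G].left ⁻¹ᵁ U)
  (hmul : ∀ (X : Over S) (a b : X ⟶ Over.mk (U.ι ≫ G.hom)),
      Set.range (lift (a ≫ jU) (b ≫ jU)).left.base ⊆ (V : Set ↥(G ⊗ G).left) →
      ∃ c : X ⟶ Over.mk (U.ι ≫ G.hom), c ≫ jU = (a ≫ jU) * (b ≫ jU) ∧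
        c ≫ fbar = (a ≫ fbar) * (b ≫ fbar))

include hU hjU hV hV1 hV2 hVm hmul in
/-- SGA3 XVIII 2.3 (H a group scheme): a morphism `U ⟶ H` from a relatively schematically dense
open of `G` which is generically multiplicative extends uniquely to a homomorphism `G ⟶ H`. -/
theorem exists_unique_hom_extension : ∃! f : G ⟶ H, IsMonHom f ∧ jU ≫ f = fbar := by
  have hUd := fun S' g ↦ dense_of_isSchematicallyDense _ (hU S' g)
  have hA : MulOnU U jU fbar := mulOn_of_mulOn_dense U jU hjU fbar V hV hmul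
  have hmono := mono_jU U jU hjU
  -- the cover `W = U × U ⟶ G`
  let W : (G ⊗ G).left.Opens := (fst G G).left ⁻¹ᵁ U ⊓ (snd G G).left ⁻¹ᵁ U
  let WW : Over S := Over.mk (W.ι ≫ (G ⊗ G).hom)
  let w : WW ⟶ G ⊗ G := Over.homMk W.ι rfl
  obtain ⟨aW, haW⟩ := exists_liftU U jU hjU (w ≫ fst G G) (by
    rintro _ ⟨y, rfl⟩; exact y.2.1)
  obtain ⟨bW, hbW⟩ := exists_liftU U jU hjU (w ≫ snd G G) (by
    rintro _ ⟨y, rfl⟩; exact y.2.2)
  let φ : WW ⟶ H := (aW ≫ fbar) * (bW ≫ fbar)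
  let mW : WW ⟶ G := w ≫ μ[G]
  have hmW : (aW ≫ jU) * (bW ≫ jU) = mW := by
    rw [haW, hbW]
    change lift (w ≫ fst G G) (w ≫ snd G G) ≫ μ[G] = w ≫ μ[G]
    congr 1
    apply CartesianMonoidalCategory.hom_ext <;> simp
  -- points of `W`
  have hliftW : ∀ (T : Over S) (a b : T ⟶ Over.mk (U.ι ≫ G.hom)),
      ∃ τ : T ⟶ WW, τ ≫ aW = a ∧ τ ≫ bW = b := by
    intro T a b
    have hr : Set.range (lift (a ≫ jU) (b ≫ jU)).left ⊆ Set.range W.ι := by
      rw [Scheme.Opens.range_ι]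
      rintro _ ⟨y, rfl⟩
      refine ⟨?_, ?_⟩
      · change (fst G G).left ((lift (a ≫ jU) (b ≫ jU)).left y) ∈ U
        rw [← Scheme.Hom.comp_apply, ← Over.comp_left, lift_fst]
        exact range_comp_jU U jU hjU a ⟨y, rfl⟩
      · change (snd G G).left ((lift (a ≫ jU) (b ≫ jU)).left y) ∈ U
        rw [← Scheme.Hom.comp_apply, ← Over.comp_left, lift_snd]
        exact range_comp_jU U jU hjU b ⟨y, rfl⟩
    have hfac : IsOpenImmersion.lift W.ι (lift (a ≫ jU) (b ≫ jU)).left hr ≫ W.ι =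
        (lift (a ≫ jU) (b ≫ jU)).left := IsOpenImmersion.lift_fac _ _ _
    let τ : T ⟶ WW := Over.homMk (IsOpenImmersion.lift W.ι (lift (a ≫ jU) (b ≫ jU)).left hr) (by
      change _ ≫ W.ι ≫ (G ⊗ G).hom = _
      rw [reassoc_of% hfac, Over.w])
    have hτ : τ ≫ w = lift (a ≫ jU) (b ≫ jU) := by
      apply Over.OverMorphism.ext
      exact hfac
    refine ⟨τ, ?_, ?_⟩
    · rw [← cancel_mono jU, Category.assoc, haW, reassoc_of% hτ, lift_fst]
    · rw [← cancel_mono jU, Category.assoc, hbW, reassoc_of% hτ, lift_snd]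
  -- `mW` is an fppf cover
  have hflat : Flat mW.left := by
    have := Base.flat_mul_left G
    change Flat (W.ι ≫ μ[G].left)
    infer_instance
  have hlfp : LocallyOfFinitePresentation mW.left := by
    have := lfp_mul_left G
    change LocallyOfFinitePresentation (W.ι ≫ μ[G].left)
    infer_instance
  have hsurj : Surjective mW.left := by
    constructor
    intro x
    obtain ⟨z, hz1, hz2, hz3⟩ := exists_mul_of_fibrewise_dense G U hUd x
    exact ⟨⟨z, ⟨hz1, hz2⟩⟩, hz3⟩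
  have heff : EffectiveEpi mW.left := inferInstance
  have hepiL : Epi mW.left := Flat.epi_of_flat_of_surjective _
  -- descent
  have hdesc : ∀ {Z : Scheme.{u}} (g₁ g₂ : Z ⟶ WW.left),
      g₁ ≫ mW.left = g₂ ≫ mW.left → g₁ ≫ φ.left = g₂ ≫ φ.left := by
    intro Z g₁ g₂ hg
    let T : Over S := Over.mk (g₁ ≫ WW.hom)
    let g₁' : T ⟶ WW := Over.homMk g₁ rfl
    let g₂' : T ⟶ WW := Over.homMk g₂ (by
      change g₂ ≫ WW.hom = g₁ ≫ WW.hom
      rw [← Over.w mW, ← Category.assoc, ← hg, Category.assoc])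
    have hg' : g₁' ≫ mW = g₂' ≫ mW := by
      apply Over.OverMorphism.ext
      exact hg
    have h1 := hA.desc_cond hjU hUd T (g₁' ≫ aW) (g₁' ≫ bW) (g₂' ≫ aW) (g₂' ≫ bW) (by
      simp only [Category.assoc]
      rw [← MonObj.comp_mul, ← MonObj.comp_mul, hmW, hg'])
    have h2 : g₁' ≫ φ = g₂' ≫ φ := by
      simp only [φ, MonObj.comp_mul]
      simpa only [Category.assoc] using h1
    exact congrArg (fun k ↦ k.left) h2
  let f₀ : G.left ⟶ H.left := EffectiveEpi.desc mW.left φ.left hdesc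
  have hf₀ : mW.left ≫ f₀ = φ.left := EffectiveEpi.fac _ _ _
  let f : G ⟶ H := Over.homMk f₀ (by
    rw [← cancel_epi mW.left, reassoc_of% hf₀, Over.w, Over.w])
  have hf : mW ≫ f = φ := by
    apply Over.OverMorphism.ext
    exact hf₀
  -- `f` extends `fbar`
  have hfU : ∀ (T : Over S) (a : T ⟶ Over.mk (U.ι ≫ G.hom)), a ≫ jU ≫ f = a ≫ fbar := by
    intro T a
    let p : T ⟶ G := (a ≫ jU)⁻¹
    let O₁ : (G ⊗ T).left.Opens := (fst G T).left ⁻¹ᵁ U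
    let O₂ : (G ⊗ T).left.Opens := (translL p T (𝟙 T) ≫ invT T ≫ fst G T).left ⁻¹ᵁ U
    let O : (G ⊗ T).left.Opens := O₁ ⊓ O₂
    have hO : RelDense G T O := (relDense_fst U hUd T).inf (relDense_translL_inv U hUd p)
    have hepi := epi_of_relDense hO
    let o := openIncl O
    let r := o ≫ snd G T
    let u := o ≫ fst G T
    rw [← cancel_epi r]
    obtain ⟨u₁, hu₁⟩ := exists_liftU U jU hjU u
      (range_openIncl_comp U O (fst G T) (fun y hy ↦ hy.1))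
    obtain ⟨w₁, hw₁⟩ := exists_liftU U jU hjU (o ≫ translL p T (𝟙 T) ≫ invT T ≫ fst G T)
      (range_openIncl_comp U O _ (fun y hy ↦ hy.2))
    have e_w : o ≫ translL p T (𝟙 T) ≫ invT T ≫ fst G T = (u₁ ≫ jU)⁻¹ * ((r ≫ a) ≫ jU) := by
      rw [invT_fst, hu₁]
      simp only [p, r, u, Category.assoc, Category.id_comp, GrpObj.comp_inv, translL_fst,
        MonObj.comp_mul, _root_.mul_inv_rev, _root_.inv_inv]
    obtain ⟨τ, hτa, hτb⟩ := hliftW _ u₁ w₁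
    have hτm : τ ≫ mW = (r ≫ a) ≫ jU := by
      rw [← hmW, MonObj.comp_mul, ← Category.assoc, ← Category.assoc, hτa, hτb, hw₁, e_w,
        mul_inv_cancel_left]
    calc r ≫ a ≫ jU ≫ f = (τ ≫ mW) ≫ f := by rw [hτm]; simp only [Category.assoc]
      _ = τ ≫ φ := by rw [Category.assoc, hf]
      _ = (u₁ ≫ fbar) * (w₁ ≫ fbar) := by
        simp only [φ, MonObj.comp_mul]
        rw [← Category.assoc, ← Category.assoc, hτa, hτb]
      _ = (r ≫ a) ≫ fbar :=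
        (hA _ u₁ w₁ (r ≫ a) (by rw [hw₁, e_w, mul_inv_cancel_left])).symm
      _ = r ≫ a ≫ fbar := Category.assoc _ _ _
  have hfUU : jU ≫ f = fbar := by
    have := hfU _ (𝟙 _)
    simpa using this
  -- `f` is a homomorphism
  have hmulf : μ[G] ≫ f = (f ⊗ₘ f) ≫ μ[H] := by
    let Ω : (G ⊗ G).left.Opens := (fst G G).left ⁻¹ᵁ U ⊓ (snd G G).left ⁻¹ᵁ U ⊓ μ[G].left ⁻¹ᵁ U
    have hVΩ : V ≤ Ω := le_inf (le_inf hV1 hV2) hVm
    have hΩ : ∀ (S' : Scheme.{u}) (g : S' ⟶ S),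
        CInt.IsSchematicallyDense ((pullback.fst (G ⊗ G).hom g) ⁻¹ᵁ Ω) := fun S' g ↦
      isSchematicallyDense_mono' (fun y hy ↦ hVΩ hy) (hV S' g)
    refine eq_of_relSchDense_of_fibres_separated S (G ⊗ G) H Ω hΩ
      (isSeparated_fibre_of_grpObj H) _ _ ?_
    let ΩΩ : Over S := Over.mk (Ω.ι ≫ (G ⊗ G).hom)
    let ω : ΩΩ ⟶ G ⊗ G := Over.homMk Ω.ι rfl
    suffices h : ω ≫ μ[G] ≫ f = ω ≫ (f ⊗ₘ f) ≫ μ[H] from congrArg (fun k ↦ k.left) h
    obtain ⟨a₀, ha₀⟩ := exists_liftU U jU hjU (ω ≫ fst G G) (by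
      rintro _ ⟨y, rfl⟩; exact y.2.1.1)
    obtain ⟨b₀, hb₀⟩ := exists_liftU U jU hjU (ω ≫ snd G G) (by
      rintro _ ⟨y, rfl⟩; exact y.2.1.2)
    obtain ⟨c₀, hc₀⟩ := exists_liftU U jU hjU (ω ≫ μ[G]) (by
      rintro _ ⟨y, rfl⟩; exact y.2.2)
    have habc : (a₀ ≫ jU) * (b₀ ≫ jU) = c₀ ≫ jU := by
      rw [ha₀, hb₀, hc₀]
      change lift (ω ≫ fst G G) (ω ≫ snd G G) ≫ μ[G] = ω ≫ μ[G]
      congr 1
      apply CartesianMonoidalCategory.hom_ext <;> simp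
    calc ω ≫ μ[G] ≫ f = c₀ ≫ jU ≫ f := by rw [← Category.assoc, ← hc₀, Category.assoc]
      _ = c₀ ≫ fbar := hfU _ c₀
      _ = (a₀ ≫ fbar) * (b₀ ≫ fbar) := hA _ a₀ b₀ c₀ habc
      _ = (a₀ ≫ jU ≫ f) * (b₀ ≫ jU ≫ f) := by rw [hfU, hfU]
      _ = ω ≫ (f ⊗ₘ f) ≫ μ[H] := by
        rw [← Category.assoc, ← Category.assoc, ha₀, hb₀]
        change lift ((ω ≫ fst G G) ≫ f) ((ω ≫ snd G G) ≫ f) ≫ μ[H] = _
        rw [← Category.assoc]
        congr 1
        apply CartesianMonoidalCategory.hom_ext <;> simp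
  have hmon : IsMonHom f := isMonHom_of_mul_hom G H f hmulf
  refine ⟨f, ⟨hmon, hfUU⟩, ?_⟩
  rintro f' ⟨hf'mon, hf'⟩
  refine hom_eq_of_eq_on_relSchDense G H U hU f' f ?_
  rw [← hjU, ← Over.comp_left, ← Over.comp_left, hf', hfUU]

end

end Groth.Agent.H90
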