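import Groth.Prelude.Def_AlgGrp
import Groth.Agent.H40.ActPts
import Mathlib

/-! Automorphisms of a principal bundle correspond to equivariant maps to the group. -/

set_option autoImplicit false
universe u

open CategoryTheory CategoryTheory.Limits MonoidalCategory CartesianMonoidalCategory MonObj
  AlgebraicGeometry

namespace Groth.Agent.H90.BundleAut

open Groth.Agent.H40

variable {S : Scheme.{u}} {G X Y : Over S} [GrpObj G]

theorem S11418_aux (a : AlgGrp.Action G X) (π : X ⟶ Y)
    (hcart : IsPullback (snd G X) a.act π π)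
    (φ : X ≅ X) (hφ : φ.hom ≫ π = π) (hφeq : (G ◁ φ.hom) ≫ a.act = a.act ≫ φ.hom) :
    ∃! f : X ⟶ G, (∀ (T : Over S) (g : T ⟶ G) (x : T ⟶ X),
        lift g x ≫ a.act ≫ f = g * (x ≫ f) * g⁻¹) ∧ φ.hom = lift f (𝟙 X) ≫ a.act := by
  have hext : ∀ {T : Over S} (p q : T ⟶ G ⊗ X), p ≫ snd G X = q ≫ snd G X →
      p ≫ a.act = q ≫ a.act → p = q := fun p q h1 h2 => hcart.hom_ext h1 h2
  let w : X ⟶ G ⊗ X := hcart.lift (𝟙 X) φ.hom (by rw [Category.id_comp, hφ])
  have hw1 : w ≫ snd G X = 𝟙 X := hcart.lift_fst _ _ _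
  have hw2 : w ≫ a.act = φ.hom := hcart.lift_snd _ _ _
  let f : X ⟶ G := w ≫ fst G X
  have hwf : w = lift f (𝟙 X) := by
    apply CartesianMonoidalCategory.hom_ext
    · rw [lift_fst]
    · rw [lift_snd, hw1]
  have hfφ : lift f (𝟙 X) ≫ a.act = φ.hom := by rw [← hwf, hw2]
  have hpt : ∀ {T : Over S} (x : T ⟶ X), psmul a (x ≫ f) x = x ≫ φ.hom := by
    intro T x
    have e : lift (x ≫ f) x = x ≫ lift f (𝟙 X) := by
      apply CartesianMonoidalCategory.hom_ext <;> simp
    rw [psmul_def, e, Category.assoc, hfφ]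
  refine ⟨f, ⟨?_, hfφ.symm⟩, ?_⟩
  · intro T g x
    set y := psmul a g x with hy
    have hyφ : psmul a g (x ≫ φ.hom) = y ≫ φ.hom := by
      have e : lift g (x ≫ φ.hom) = lift g x ≫ (G ◁ φ.hom) := by
        apply CartesianMonoidalCategory.hom_ext <;> simp
      rw [hy, psmul_def, psmul_def, Category.assoc, ← hφeq, e, Category.assoc]
    have key : lift (y ≫ f) y = lift (g * (x ≫ f) * g⁻¹) y := by
      apply hext
      · rw [lift_snd, lift_snd]
      · rw [← psmul_def, ← psmul_def, hpt, hy, ← mul_psmul, inv_mul_cancel_right, mul_psmul, hpt,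
          hyφ]
    have := congrArg (· ≫ fst G X) key
    simp only [lift_fst] at this
    rw [← this, hy, psmul_def, Category.assoc]
  · rintro f' ⟨-, hf'⟩
    have : lift f' (𝟙 X) = lift f (𝟙 X) := by
      apply hext
      · rw [lift_snd, lift_snd]
      · rw [← hf', hfφ]
    have := congrArg (· ≫ fst G X) this
    simpa using this

end Groth.Agent.H90.BundleAut
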