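import Mathlib

set_option autoImplicit false

namespace Groth.Agent.H90

open Finset

section
variable {K : Type*} [Field K]

/-- the sum appearing in the orbifold Riemann-Roch computation, as a function of `j` -/
noncomputable def rootSum (ζ : K) (N j : ℕ) : K :=
  ∑ i ∈ Finset.Ioo 0 N, ζ ^ (i * j) / (2 - ζ ^ i - (ζ ^ i)⁻¹)

/-- the closed form -/
noncomputable def rootClosed (N j : ℕ) : K :=
  (j : K) * ((j : K) - (N : K)) / 2 + ((N : K) ^ 2 - 1) / 12

theorem denom_ne_zero {x : K} (hx0 : x ≠ 0) (hx1 : x ≠ 1) : 2 - x - x⁻¹ ≠ 0 := by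
  intro h
  have h2 : (2 - x - x⁻¹) * x = 0 := by rw [h, zero_mul]
  have h3 : (2 - x - x⁻¹) * x = -((x - 1) ^ 2) := by
    field_simp
    ring
  rw [h3, neg_eq_zero, sq_eq_zero_iff, sub_eq_zero] at h2
  exact hx1 h2

theorem sum_Ioo_eq_sum_range_sub (f : ℕ → K) {N : ℕ} (hN : 0 < N) :
    ∑ i ∈ Finset.Ioo 0 N, f i = ∑ i ∈ Finset.range N, f i - f 0 := by
  rw [Finset.range_eq_Ico, ← Finset.Ioo_insert_left hN, Finset.sum_insert (by simp)]
  ring

theorem geom_sum_pow_eq_zero {ζ : K} {N : ℕ} (hζ : IsPrimitiveRoot ζ N) {m : ℕ} (hm0 : 0 < m) (hmN : m < N) :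
    ∑ i ∈ Finset.range N, (ζ ^ m) ^ i = 0 := by
  have hne : ζ ^ m ≠ 1 := hζ.pow_ne_one_of_pos_of_lt hm0.ne' hmN
  have h := geom_sum_mul (ζ ^ m) N
  have h1 : (ζ ^ m) ^ N = 1 := by rw [← pow_mul, mul_comm, pow_mul, hζ.pow_eq_one, one_pow]
  rw [h1, sub_self] at h
  rcases mul_eq_zero.mp h with h | h
  · exact h
  · exact absurd (sub_eq_zero.mp h) hne

theorem rootSum_second_diff {ζ : K} {N : ℕ} (hζ : IsPrimitiveRoot ζ N) (j : ℕ) (hj : j + 1 < N) :
    rootSum ζ N (j + 2) - 2 * rootSum ζ N (j + 1) + rootSum ζ N j = 1 := by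
  have hN : 0 < N := by omega
  have hζ0 : ζ ≠ 0 := hζ.ne_zero hN.ne'
  unfold rootSum
  rw [Finset.mul_sum, ← Finset.sum_sub_distrib, ← Finset.sum_add_distrib]
  have hterm : ∀ i ∈ Finset.Ioo 0 N,
      ζ ^ (i * (j + 2)) / (2 - ζ ^ i - (ζ ^ i)⁻¹) - 2 * (ζ ^ (i * (j + 1)) / (2 - ζ ^ i - (ζ ^ i)⁻¹))
        + ζ ^ (i * j) / (2 - ζ ^ i - (ζ ^ i)⁻¹) = -(ζ ^ (j + 1)) ^ i := by
    intro i hi
    obtain ⟨hi0, hiN⟩ := Finset.mem_Ioo.mp hi
    have hx0 : ζ ^ i ≠ 0 := pow_ne_zero _ hζ0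
    have hx1 : ζ ^ i ≠ 1 := hζ.pow_ne_one_of_pos_of_lt hi0.ne' hiN
    have hc := denom_ne_zero hx0 hx1
    have e1 : ζ ^ (i * (j + 2)) = ζ ^ (i * j) * (ζ ^ i) ^ 2 := by
      rw [mul_add, pow_add, pow_mul ζ i 2]
    have e2 : ζ ^ (i * (j + 1)) = ζ ^ (i * j) * ζ ^ i := by
      rw [mul_add, pow_add, mul_one]
    have e3 : (ζ ^ (j + 1)) ^ i = ζ ^ (i * j) * ζ ^ i := by
      rw [← pow_mul, mul_comm, e2]
    rw [e1, e2, e3]
    generalize ζ ^ (i * j) = y at *
    generalize ζ ^ i = x at *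
    have hcx : (2 - x - x⁻¹) * x = -((x - 1) ^ 2) := by
      field_simp
      ring
    generalize 2 - x - x⁻¹ = c at *
    have key : y * x ^ 2 / c - 2 * (y * x / c) + y / c = y * (x - 1) ^ 2 / c := by ring
    rw [key, div_eq_iff hc, show -(y * x) * c = -y * (c * x) by ring, hcx]
    ring
  rw [Finset.sum_congr rfl hterm, Finset.sum_neg_distrib,
    sum_Ioo_eq_sum_range_sub (fun i => (ζ ^ (j + 1)) ^ i) hN,
    geom_sum_pow_eq_zero hζ (Nat.succ_pos j) hj]
  simp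

theorem rootSum_period {ζ : K} {N : ℕ} (hζ : IsPrimitiveRoot ζ N) :
    rootSum ζ N N = rootSum ζ N 0 := by
  unfold rootSum
  apply Finset.sum_congr rfl
  intro i _
  rw [mul_zero, pow_zero, mul_comm, pow_mul, hζ.pow_eq_one, one_pow]

theorem sum_rootSum {ζ : K} {N : ℕ} (hζ : IsPrimitiveRoot ζ N) :
    ∑ j ∈ Finset.range N, rootSum ζ N j = 0 := by
  unfold rootSum
  rw [Finset.sum_comm]
  apply Finset.sum_eq_zero
  intro i hi
  obtain ⟨hi0, hiN⟩ := Finset.mem_Ioo.mp hi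
  rw [← Finset.sum_div]
  have : ∑ j ∈ Finset.range N, ζ ^ (i * j) = 0 := by
    have := geom_sum_pow_eq_zero hζ hi0 hiN
    simpa [pow_mul] using this
  rw [this, zero_div]

theorem rootClosed_second_diff (h6 : (6 : K) ≠ 0) (N j : ℕ) :
    (rootClosed N (j + 2) : K) - 2 * rootClosed N (j + 1) + rootClosed N j = 1 := by
  have h2 : (2 : K) ≠ 0 := fun h => h6 (by
    have : (6 : K) = 2 * 3 := by norm_num
    rw [this, h, zero_mul])
  have h12 : (12 : K) ≠ 0 := by
    have : (12 : K) = 2 * 6 := by norm_num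
    rw [this]; exact mul_ne_zero h2 h6
  unfold rootClosed
  push_cast
  field_simp
  ring

theorem rootClosed_period (N : ℕ) : (rootClosed N N : K) = rootClosed N 0 := by
  unfold rootClosed
  simp

theorem sum_rootClosed (h6 : (6 : K) ≠ 0) (N : ℕ) :
    ∑ j ∈ Finset.range N, (rootClosed N j : K) = 0 := by
  have h2 : (2 : K) ≠ 0 := fun h => h6 (by
    have : (6 : K) = 2 * 3 := by norm_num
    rw [this, h, zero_mul])
  have h12 : (12 : K) ≠ 0 := by
    have : (12 : K) = 2 * 6 := by norm_num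
    rw [this]; exact mul_ne_zero h2 h6
  have key : ∀ n : ℕ, 12 * ∑ j ∈ Finset.range n, (rootClosed N j : K)
      = (n : K) * ((n : K) - 1) * (2 * (n : K) - 1) - 3 * (N : K) * (n : K) * ((n : K) - 1)
        + (n : K) * ((N : K) ^ 2 - 1) := by
    intro n
    induction n with
    | zero => simp
    | succ n ih =>
      rw [Finset.sum_range_succ, mul_add, ih]
      unfold rootClosed
      push_cast
      field_simp
      ring
  have h := key N
  have : 12 * ∑ j ∈ Finset.range N, (rootClosed N j : K) = 0 := by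
    rw [h]; ring
  exact (mul_eq_zero.mp this).resolve_left h12

theorem rootSum_eq_rootClosed (h6 : (6 : K) ≠ 0) {N : ℕ} {ζ : K} (hζ : IsPrimitiveRoot ζ N)
    {j : ℕ} (hj : j < N) : rootSum ζ N j = rootClosed N j := by
  have hN : 0 < N := by omega
  have : NeZero N := ⟨hN.ne'⟩
  have hNK : (N : K) ≠ 0 := (hζ.neZero' (R := K)).ne
  set h : ℕ → K := fun j => rootSum ζ N j - rootClosed N j with hh
  have hdiff : ∀ j, j + 1 < N → h (j + 2) = 2 * h (j + 1) - h j := by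
    intro j hj
    have h1 := rootSum_second_diff hζ j hj
    have h2 := rootClosed_second_diff (K := K) h6 N j
    simp only [hh]
    linear_combination h1 - h2
  have haff : ∀ j, j ≤ N → h j = h 0 + (j : K) * (h 1 - h 0) := by
    intro j
    induction j using Nat.strong_induction_on with
    | _ j ih =>
      intro hjN
      match j with
      | 0 => simp
      | 1 => simp
      | (m + 2) =>
        rw [hdiff m (by omega), ih (m + 1) (by omega) (by omega), ih m (by omega) (by omega)]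
        push_cast
        ring
  have hper : h N = h 0 := by
    simp only [hh]
    rw [rootSum_period hζ, rootClosed_period]
  have hδ : h 1 - h 0 = 0 := by
    have := haff N le_rfl
    rw [hper] at this
    have h' : (N : K) * (h 1 - h 0) = 0 := by linear_combination -this
    exact (mul_eq_zero.mp h').resolve_left hNK
  have hconst : ∀ j, j ≤ N → h j = h 0 := by
    intro j hj
    rw [haff j hj, hδ, mul_zero, add_zero]
  have hsum : ∑ j ∈ Finset.range N, h j = 0 := by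
    simp only [hh]
    rw [Finset.sum_sub_distrib, sum_rootSum hζ, sum_rootClosed h6, sub_zero]
  have hsum' : ∑ j ∈ Finset.range N, h j = (N : K) * h 0 := by
    rw [Finset.sum_congr rfl (fun j hj => hconst j (Finset.mem_range.mp hj).le)]
    simp
  have h0 : h 0 = 0 := by
    rw [hsum'] at hsum
    exact (mul_eq_zero.mp hsum).resolve_left hNK
  have := hconst j hj.le
  rw [h0] at this
  simp only [hh] at this
  exact sub_eq_zero.mp this

end

end Groth.Agent.H90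

namespace Groth.Agent.H90

open Finset

theorem complex_denom_real_pos {z : ℂ} (hz : ‖z‖ = 1) (hz1 : z ≠ 1) :
    ∃ t : ℝ, 0 < t ∧ 2 - z - z⁻¹ = (t : ℂ) := by
  refine ⟨2 - 2 * z.re, ?_, ?_⟩
  · have hsq : z.re * z.re + z.im * z.im = 1 := by
      have := Complex.normSq_eq_norm_sq z
      rw [hz, one_pow, Complex.normSq_apply] at this
      exact this
    by_contra hcon
    rw [not_lt] at hcon
    have hre : z.re = 1 := by nlinarith [mul_self_nonneg z.im]
    have him : z.im = 0 := by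
      have : z.im * z.im = 0 := by rw [hre] at hsq; linarith
      exact mul_self_eq_zero.mp this
    exact hz1 (Complex.ext (by simp [hre]) (by simp [him]))
  · rw [Complex.inv_eq_conj hz]
    have := Complex.add_conj z
    push_cast at this ⊢
    linear_combination -this

/-- the averaged geometric sum is `0` or `1` -/
theorem geom_avg {ζ : ℂ} {N : ℕ} (hN : 0 < N) (hζ : IsPrimitiveRoot ζ N) (a : ℕ) :
    (∑ i ∈ Finset.range N, (ζ ^ a) ^ i) / (N : ℂ) = 0 ∨ (∑ i ∈ Finset.range N, (ζ ^ a) ^ i) / (N : ℂ) = 1 := by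
  have hNC : (N : ℂ) ≠ 0 := by exact_mod_cast hN.ne'
  by_cases h1 : ζ ^ a = 1
  · right
    rw [h1]
    simp [hNC]
  · left
    have h := geom_sum_mul (ζ ^ a) N
    have hpow : (ζ ^ a) ^ N = 1 := by rw [← pow_mul, mul_comm, pow_mul, hζ.pow_eq_one, one_pow]
    rw [hpow, sub_self] at h
    rcases mul_eq_zero.mp h with h | h
    · rw [h, zero_div]
    · exact absurd (sub_eq_zero.mp h) h1

theorem eps_real_nonneg (N : ℕ) (hN : 0 < N) (ζ : ℂ) (hζ : IsPrimitiveRoot ζ N) (m : ℕ) :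
    ∃ t : ℝ, 0 ≤ t ∧ (∑ i ∈ Finset.range N,
        ((i : ℂ) * ((i : ℂ) - (N : ℂ)) / 2 + ((N : ℂ) ^ 2 - 1) / 12) / (N : ℂ) * ζ ^ (m * i)) = (t : ℂ) := by
  have h6 : (6 : ℂ) ≠ 0 := by norm_num
  have hNC : (N : ℂ) ≠ 0 := by exact_mod_cast hN.ne'
  have hζ0 : ζ ≠ 0 := hζ.ne_zero hN.ne'
  have step1 : (∑ i ∈ Finset.range N,
        ((i : ℂ) * ((i : ℂ) - (N : ℂ)) / 2 + ((N : ℂ) ^ 2 - 1) / 12) / (N : ℂ) * ζ ^ (m * i))
      = ∑ l ∈ Finset.Ioo 0 N, ((∑ i ∈ Finset.range N, (ζ ^ (l + m)) ^ i) / (N : ℂ)) / (2 - ζ ^ l - (ζ ^ l)⁻¹) := by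
    have : ∀ i ∈ Finset.range N,
        ((i : ℂ) * ((i : ℂ) - (N : ℂ)) / 2 + ((N : ℂ) ^ 2 - 1) / 12) / (N : ℂ) * ζ ^ (m * i)
        = ∑ l ∈ Finset.Ioo 0 N, ((ζ ^ (l + m)) ^ i / (N : ℂ)) / (2 - ζ ^ l - (ζ ^ l)⁻¹) := by
      intro i hi
      have := rootSum_eq_rootClosed h6 hζ (Finset.mem_range.mp hi)
      unfold rootSum rootClosed at this
      rw [← this, Finset.sum_div, Finset.sum_mul]
      apply Finset.sum_congr rfl
      intro l _
      have e : (ζ ^ (l + m)) ^ i = ζ ^ (l * i) * ζ ^ (m * i) := by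
        rw [← pow_mul, add_mul, pow_add]
      rw [e]
      ring
    rw [Finset.sum_congr rfl this, Finset.sum_comm]
    apply Finset.sum_congr rfl
    intro l _
    rw [Finset.sum_div, Finset.sum_div]
  rw [step1]
  have hterm : ∀ l ∈ Finset.Ioo 0 N, ∃ t : ℝ, 0 ≤ t ∧
      ((∑ i ∈ Finset.range N, (ζ ^ (l + m)) ^ i) / (N : ℂ)) / (2 - ζ ^ l - (ζ ^ l)⁻¹) = (t : ℂ) := by
    intro l hl
    obtain ⟨hl0, hlN⟩ := Finset.mem_Ioo.mp hl
    have hx1 : ζ ^ l ≠ 1 := hζ.pow_ne_one_of_pos_of_lt hl0.ne' hlN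
    have hnorm : ‖ζ ^ l‖ = 1 := by
      rw [norm_pow, hζ.norm'_eq_one hN.ne', one_pow]
    obtain ⟨c, hc, hceq⟩ := complex_denom_real_pos hnorm hx1
    rw [hceq]
    rcases geom_avg hN hζ (l + m) with h | h
    · exact ⟨0, le_rfl, by rw [h]; simp⟩
    · refine ⟨1 / c, by positivity, ?_⟩
      rw [h]; push_cast; rfl
  choose! t ht using hterm
  refine ⟨∑ l ∈ Finset.Ioo 0 N, t l, Finset.sum_nonneg (fun l hl => (ht l hl).1), ?_⟩
  rw [Complex.ofReal_sum]
  exact Finset.sum_congr rfl (fun l hl => (ht l hl).2)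

end Groth.Agent.H90
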