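import Mathlib
import Groth.Agent.H90.RootSum

set_option autoImplicit false

namespace Groth.Agent.H90

open Finset Matrix

theorem zeta_pow_val_sub {ζ : ℂ} {N : ℕ} [NeZero N] (hζ : IsPrimitiveRoot ζ N) (l : ℕ) (i j : ZMod N) :
    ζ ^ (l * (j - i).val) = ζ ^ (l * j.val) * (starRingEnd ℂ) (ζ ^ (l * i.val)) := by
  have hnorm : ∀ a : ℕ, ‖ζ ^ a‖ = 1 := fun a => by
    rw [norm_pow, hζ.norm'_eq_one (NeZero.ne N), one_pow]
  rw [← Complex.inv_eq_conj (hnorm _),
    eq_mul_inv_iff_mul_eq₀ (pow_ne_zero _ (hζ.ne_zero (NeZero.ne N))), ← pow_add, ← mul_add,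
    pow_mul', pow_mul' ζ l j.val]
  congr 1
  have h1 : j.val = ((j - i).val + i.val) % N := by
    rw [← ZMod.val_add, sub_add_cancel]
  rw [h1]
  have hord : orderOf ζ = N := hζ.eq_orderOf.symm
  have := pow_mod_orderOf ζ ((j - i).val + i.val)
  rw [hord] at this
  exact this.symm

/-- the circulant kernel value -/
noncomputable def circF (N v : ℕ) : ℝ :=
  (((v : ℝ) * ((v : ℝ) - (N : ℝ))) / 2 + ((N : ℝ) ^ 2 - 1) / 12) / (N : ℝ)

theorem circF_symm (N : ℕ) [NeZero N] (a : ZMod N) : circF N (-a).val = circF N a.val := by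
  rw [ZMod.neg_val]
  split_ifs with h
  · rw [h]; simp
  · unfold circF
    have hlt : a.val < N := ZMod.val_lt a
    rw [Nat.cast_sub hlt.le]
    ring

theorem circF_complex {ζ : ℂ} {N : ℕ} [NeZero N] (hζ : IsPrimitiveRoot ζ N) {v : ℕ} (hv : v < N) :
    ((circF N v : ℝ) : ℂ) = (∑ l ∈ Finset.Ioo 0 N, ζ ^ (l * v) / (2 - ζ ^ l - (ζ ^ l)⁻¹)) / (N : ℂ) := by
  have h6 : (6 : ℂ) ≠ 0 := by norm_num
  have := rootSum_eq_rootClosed h6 hζ hv
  unfold rootSum rootClosed at this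
  rw [this]
  unfold circF
  push_cast
  ring

theorem circulant_quadratic_nonneg (N : ℕ) [NeZero N] (x : ZMod N → ℝ) :
    0 ≤ ∑ i : ZMod N, ∑ j : ZMod N, x i * circF N (j - i).val * x j := by
  have hN : 0 < N := Nat.pos_of_ne_zero (NeZero.ne N)
  have hNC : (N : ℂ) ≠ 0 := by exact_mod_cast hN.ne'
  set ζ : ℂ := Complex.exp (2 * Real.pi * Complex.I / N) with hζdef
  have hζ : IsPrimitiveRoot ζ N := Complex.isPrimitiveRoot_exp N hN.ne'
  -- positive real denominators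
  have hden : ∀ l ∈ Finset.Ioo 0 N, ∃ t : ℝ, 0 < t ∧ 2 - ζ ^ l - (ζ ^ l)⁻¹ = (t : ℂ) := by
    intro l hl
    obtain ⟨hl0, hlN⟩ := Finset.mem_Ioo.mp hl
    have hx1 : ζ ^ l ≠ 1 := hζ.pow_ne_one_of_pos_of_lt hl0.ne' hlN
    have hnorm : ‖ζ ^ l‖ = 1 := by
      rw [norm_pow, hζ.norm'_eq_one hN.ne', one_pow]
    exact complex_denom_real_pos hnorm hx1
  choose! t ht using hden
  set S : ℕ → ℂ := fun l => ∑ j : ZMod N, (x j : ℂ) * ζ ^ (l * j.val) with hS
  have key : ((∑ i : ZMod N, ∑ j : ZMod N, x i * circF N (j - i).val * x j : ℝ) : ℂ)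
      = ((∑ l ∈ Finset.Ioo 0 N, Complex.normSq (S l) / (t l * N) : ℝ) : ℂ) := by
    push_cast
    have h1 : ∀ i j : ZMod N, (x i : ℂ) * ((circF N (j - i).val : ℝ) : ℂ) * (x j : ℂ)
        = ∑ l ∈ Finset.Ioo 0 N, ((x j : ℂ) * ζ ^ (l * j.val)) *
            (starRingEnd ℂ) ((x i : ℂ) * ζ ^ (l * i.val)) / ((t l : ℂ) * (N : ℂ)) := by
      intro i j
      rw [circF_complex hζ (ZMod.val_lt _), Finset.sum_div, Finset.mul_sum, Finset.sum_mul]
      apply Finset.sum_congr rfl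
      intro l hl
      rw [(ht l hl).2, zeta_pow_val_sub hζ l i j, map_mul, Complex.conj_ofReal]
      ring
    simp_rw [h1]
    have h2 : ∀ i : ZMod N, ∑ j : ZMod N, ∑ l ∈ Finset.Ioo 0 N, ((x j : ℂ) * ζ ^ (l * j.val)) *
            (starRingEnd ℂ) ((x i : ℂ) * ζ ^ (l * i.val)) / ((t l : ℂ) * (N : ℂ))
        = ∑ l ∈ Finset.Ioo 0 N, ∑ j : ZMod N, ((x j : ℂ) * ζ ^ (l * j.val)) *
            (starRingEnd ℂ) ((x i : ℂ) * ζ ^ (l * i.val)) / ((t l : ℂ) * (N : ℂ)) :=
      fun i => Finset.sum_comm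
    rw [Finset.sum_congr rfl (fun i _ => h2 i), Finset.sum_comm]
    apply Finset.sum_congr rfl
    intro l _
    rw [← Complex.mul_conj]
    have h3 : S l * (starRingEnd ℂ) (S l)
        = ∑ i : ZMod N, ∑ j : ZMod N, ((x j : ℂ) * ζ ^ (l * j.val)) *
            (starRingEnd ℂ) ((x i : ℂ) * ζ ^ (l * i.val)) := by
      rw [hS]
      simp only [map_sum]
      rw [Finset.sum_mul_sum, Finset.sum_comm]
    rw [h3, Finset.sum_div]
    apply Finset.sum_congr rfl
    intro i _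
    rw [Finset.sum_div]
  have hnn : 0 ≤ ∑ l ∈ Finset.Ioo 0 N, Complex.normSq (S l) / (t l * N) := by
    apply Finset.sum_nonneg
    intro l hl
    have : (0 : ℝ) < t l * N := mul_pos (ht l hl).1 (by exact_mod_cast hN)
    exact div_nonneg (Complex.normSq_nonneg _) this.le
  have := Complex.ofReal_injective key
  rw [this]
  exact hnn

theorem circulant_psd (N : ℕ) [NeZero N] :
    (Matrix.of fun i j : ZMod N =>
        ((((j - i).val : ℝ) * (((j - i).val : ℝ) - (N : ℝ))) / 2 + ((N : ℝ) ^ 2 - 1) / 12) / (N : ℝ)).PosSemidef := by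
  apply Matrix.PosSemidef.of_dotProduct_mulVec_nonneg
  · ext i j
    simp only [Matrix.conjTranspose_apply, Matrix.of_apply, star_trivial]
    have := circF_symm N (j - i)
    rw [neg_sub] at this
    exact this
  · intro x
    have := circulant_quadratic_nonneg N x
    have e : star x ⬝ᵥ ((Matrix.of fun i j : ZMod N =>
        ((((j - i).val : ℝ) * (((j - i).val : ℝ) - (N : ℝ))) / 2 + ((N : ℝ) ^ 2 - 1) / 12) / (N : ℝ)) *ᵥ x)
        = ∑ i : ZMod N, ∑ j : ZMod N, x i * circF N (j - i).val * x j := by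
      simp only [dotProduct, Matrix.mulVec, Matrix.of_apply, star_trivial, Pi.star_apply]
      apply Finset.sum_congr rfl
      intro i _
      rw [Finset.mul_sum]
      apply Finset.sum_congr rfl
      intro j _
      unfold circF
      ring
    rw [e]
    exact this

end Groth.Agent.H90
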