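import Groth.Prelude.Def_AlgGrp
import Groth.Agent.H40.ActPts
import Groth.Agent.H90.GrpFlat
import Mathlib.AlgebraicGeometry.Morphisms.UniversallyOpen
import Mathlib.AlgebraicGeometry.Morphisms.Flat
import Mathlib.AlgebraicGeometry.Noetherian
import Mathlib.CategoryTheory.MorphismProperty.Descent

/-! The largest open over which an equivariant morphism has a property `P` is stable under the
group action. -/

set_option autoImplicit false
universe u

open CategoryTheory CategoryTheory.Limits MonoidalCategory CartesianMonoidalCategory MonObj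
  AlgebraicGeometry

namespace Groth.Agent.H90

section General

variable {P : MorphismProperty Scheme.{u}}

/-- `P` local at the target: `P` over each `U i` implies `P` over the union. -/
theorem prop_restrict_iSup [IsZariskiLocalAtTarget P] {X Y : Scheme.{u}} (f : X ⟶ Y)
    {J : Type*} (U : J → Y.Opens) (h : ∀ i, P (f ∣_ U i)) : P (f ∣_ (⨆ i, U i)) := by
  set V : Y.Opens := ⨆ i, U i with hV
  refine IsZariskiLocalAtTarget.of_iSup_eq_top (f := f ∣_ V) (fun i => V.ι ⁻¹ᵁ U i) ?_ ?_
  · apply le_antisymm le_top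
    rintro ⟨x, hx⟩ -
    have hx' : x ∈ (⨆ i, U i : Y.Opens) := hx
    rw [TopologicalSpace.Opens.mem_iSup] at hx'
    obtain ⟨i, hi⟩ := hx'
    exact TopologicalSpace.Opens.mem_iSup.mpr ⟨i, hi⟩
  · intro i
    rw [P.arrow_mk_iso_iff (morphismRestrictRestrict f V _)]
    have e : V.ι ''ᵁ (V.ι ⁻¹ᵁ U i) = U i := by
      rw [Scheme.Hom.image_preimage_eq_opensRange_inf, Scheme.Opens.opensRange_ι]
      exact inf_eq_right.mpr (le_iSup U i)
    rw [P.arrow_mk_iso_iff (morphismRestrictEq f e)]
    exact h i

/-- Base change of a restriction. -/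
theorem prop_restrict_of_isPullback [P.IsStableUnderBaseChange] {X Y X' Y' : Scheme.{u}}
    {f : X ⟶ Y} {c : Y' ⟶ Y} {t : X' ⟶ X} {p : X' ⟶ Y'} (sq : IsPullback t p f c)
    (V : Y.Opens) (h : P (f ∣_ V)) : P (p ∣_ (c ⁻¹ᵁ V)) := by
  have s1 := (isPullback_morphismRestrict p (c ⁻¹ᵁ V)).flip
  have s2 := s1.paste_horiz sq
  rw [← morphismRestrict_ι] at s2
  have s3 := IsPullback.of_right' s2 (isPullback_morphismRestrict f V).flip
  exact MorphismProperty.of_isPullback (P := P) s3 h

/-- Descent of `P` to the (open) image of a flat universally open morphism. -/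
theorem prop_restrict_of_descendsAlong
    [P.DescendsAlong (@Flat ⊓ @Surjective ⊓ @UniversallyOpen)] {X Y W XW : Scheme.{u}}
    (f : X ⟶ Y) (c : W ⟶ Y) [Flat c] [UniversallyOpen c] (U : Y.Opens)
    (hU : Set.range c = (U : Set Y)) (t : XW ⟶ X) (p : XW ⟶ W) (sq : IsPullback t p f c)
    (hp : P p) : P (f ∣_ U) := by
  have hsub : Set.range c ⊆ Set.range U.ι := by
    rw [hU, Scheme.Opens.range_ι]
  let c' : W ⟶ U := IsOpenImmersion.lift U.ι c hsub
  have hc' : c' ≫ U.ι = c := IsOpenImmersion.lift_fac U.ι c hsub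
  have sqc : IsPullback (𝟙 W) c' c U.ι :=
    IsPullback.of_horiz_isIso_mono ⟨by rw [Category.id_comp, hc']⟩
  have hflat : Flat c' := MorphismProperty.of_isPullback (P := @Flat) sqc inferInstance
  have huo : UniversallyOpen c' :=
    MorphismProperty.of_isPullback (P := @UniversallyOpen) sqc inferInstance
  have hsurj : Surjective c' := by
    refine ⟨fun u => ?_⟩
    have hu : (U.ι u) ∈ Set.range c := by
      rw [hU]
      exact u.2
    obtain ⟨w, hw⟩ := hu
    refine ⟨w, U.ι.injective ?_⟩
    rw [← Scheme.Hom.comp_apply, hc', hw]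
  have s2 : IsPullback t p f (c' ≫ U.ι) := by rw [hc']; exact sq
  have s3 := IsPullback.of_right' s2 (isPullback_morphismRestrict f U).flip
  exact MorphismProperty.of_isPullback_of_descendsAlong (P := P)
    (Q := @Flat ⊓ @Surjective ⊓ @UniversallyOpen) s3.flip ⟨⟨hflat, hsurj⟩, huo⟩ hp

end General

section Action

variable {S : Scheme.{u}} {G X Y : Over S} [GrpObj G]

open Groth.Agent.H40

/-- The shear isomorphism `(g, x) ↦ (g, g • x)`. -/
noncomputable def shearAct (a : AlgGrp.Action G X) : G ⊗ X ≅ G ⊗ X where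
  hom := lift (fst G X) a.act
  inv := lift (fst G X) (psmul a (fst G X)⁻¹ (snd G X))
  hom_inv_id := by
    apply CartesianMonoidalCategory.hom_ext
    · rw [Category.assoc, lift_fst, lift_fst, Category.id_comp]
    · rw [Category.assoc, lift_snd, comp_psmul, Category.id_comp]
      have h1 : lift (fst G X) a.act ≫ (fst G X)⁻¹ = (fst G X)⁻¹ := by
        rw [Hom.inv_def, ← Category.assoc, lift_fst]
      have h2 : lift (fst G X) a.act ≫ snd G X = psmul a (fst G X) (snd G X) := by
        rw [lift_snd, psmul_def, lift_fst_snd, Category.id_comp]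
      rw [h1, h2, inv_psmul_psmul]
  inv_hom_id := by
    apply CartesianMonoidalCategory.hom_ext
    · rw [Category.assoc, lift_fst, lift_fst, Category.id_comp]
    · rw [Category.assoc, lift_snd, Category.id_comp]
      have h3 : a.act = psmul a (fst G X) (snd G X) := by
        rw [psmul_def, lift_fst_snd, Category.id_comp]
      rw [h3, comp_psmul, lift_fst, lift_snd, psmul_inv_psmul]

@[reassoc]
lemma shearAct_hom_snd (a : AlgGrp.Action G X) : (shearAct a).hom ≫ snd G X = a.act :=
  lift_snd _ _

/-- The action square of an equivariant morphism is cartesian. -/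
theorem isPullback_act (aX : AlgGrp.Action G X) (aY : AlgGrp.Action G Y) (f : X ⟶ Y)
    (hf : (G ◁ f) ≫ aY.act = aX.act ≫ f) :
    IsPullback aX.act.left (G ◁ f).left f.left aY.act.left := by
  have hcomm : (shearAct aX).hom ≫ (G ◁ f) = (G ◁ f) ≫ (shearAct aY).hom := by
    apply CartesianMonoidalCategory.hom_ext
    · simp [shearAct]
    · simp [shearAct, hf]
  have hcomm' : (shearAct aX).hom.left ≫ (G ◁ f).left = (G ◁ f).left ≫ (shearAct aY).hom.left := by
    rw [← Over.comp_left, ← Over.comp_left, hcomm]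
  have hisoX : IsIso (shearAct aX).hom.left :=
    inferInstanceAs (IsIso ((Over.forget S).map (shearAct aX).hom))
  have hisoY : IsIso (shearAct aY).hom.left :=
    inferInstanceAs (IsIso ((Over.forget S).map (shearAct aY).hom))
  have sq1 : IsPullback (shearAct aX).hom.left (G ◁ f).left (G ◁ f).left (shearAct aY).hom.left :=
    IsPullback.of_horiz_isIso ⟨hcomm'⟩
  have sq2 : IsPullback (snd G X).left (G ◁ f).left f.left (snd G Y).left :=
    (isPullback_whiskerLeft_snd G f).flip
  have := sq1.paste_horiz sq2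
  rwa [← Over.comp_left, ← Over.comp_left, shearAct_hom_snd, shearAct_hom_snd] at this

end Action

section Main

variable (k : Type u) [Field k]

open Groth.Agent.H40

theorem exists_largest_open_stable
    (G X Y : Over (Spec (CommRingCat.of k))) [GrpObj G] [LocallyOfFiniteType G.hom]
    (aX : AlgGrp.Action G X) (aY : AlgGrp.Action G Y) (f : X ⟶ Y)
    (hf : (G ◁ f) ≫ aY.act = aX.act ≫ f)
    (P : MorphismProperty Scheme.{u}) [IsZariskiLocalAtTarget P] [P.IsStableUnderBaseChange]
    [P.DescendsAlong (@Flat ⊓ @Surjective ⊓ @UniversallyOpen)] :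
    ∃ V : Y.left.Opens, P (f.left ∣_ V) ∧ (∀ V' : Y.left.Opens, P (f.left ∣_ V') → V' ≤ V) ∧
      (snd G Y).left ⁻¹ᵁ V ≤ aY.act.left ⁻¹ᵁ V := by
  let 𝒮 : Set Y.left.Opens := {V' | P (f.left ∣_ V')}
  let V : Y.left.Opens := ⨆ V' : 𝒮, V'.1
  have hPV : P (f.left ∣_ V) := prop_restrict_iSup f.left (fun V' : 𝒮 => V'.1) (fun V' => V'.2)
  have hmax : ∀ V' : Y.left.Opens, P (f.left ∣_ V') → V' ≤ V := fun V' h =>
    le_iSup (fun V' : 𝒮 => V'.1) ⟨V', h⟩
  refine ⟨V, hPV, hmax, ?_⟩
  -- stability
  set F := (G ◁ f).left with hF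
  set W : (G ⊗ Y).left.Opens := (snd G Y).left ⁻¹ᵁ V with hW
  have sqA : IsPullback (snd G X).left F f.left (snd G Y).left :=
    (isPullback_whiskerLeft_snd G f).flip
  have hFW : P (F ∣_ W) := prop_restrict_of_isPullback sqA V hPV
  have sqB : IsPullback aX.act.left F f.left aY.act.left := isPullback_act aX aY f hf
  have hflatG : Flat G.hom := inferInstance
  have hlfp : LocallyOfFinitePresentation G.hom := inferInstance
  have huoG : UniversallyOpen G.hom := inferInstance
  have hsnd_flat : Flat (snd G Y).left := by rw [Over.snd_left]; infer_instance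
  have hsnd_uo : UniversallyOpen (snd G Y).left := by rw [Over.snd_left]; infer_instance
  have hiso : IsIso (shearAct aY).hom.left :=
    inferInstanceAs (IsIso ((Over.forget _).map (shearAct aY).hom))
  have hact : aY.act.left = (shearAct aY).hom.left ≫ (snd G Y).left := by
    rw [← Over.comp_left, shearAct_hom_snd]
  have hact_flat : Flat aY.act.left := by rw [hact]; infer_instance
  have hact_uo : UniversallyOpen aY.act.left := by rw [hact]; infer_instance
  let c : (W : Scheme.{u}) ⟶ Y.left := W.ι ≫ aY.act.left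
  have sqc : IsPullback ((F ⁻¹ᵁ W).ι ≫ aX.act.left) (F ∣_ W) f.left c :=
    (isPullback_morphismRestrict F W).flip.paste_horiz sqB
  let U : Y.left.Opens := ⟨Set.range c, c.isOpenMap.isOpen_range⟩
  have hPU : P (f.left ∣_ U) :=
    prop_restrict_of_descendsAlong f.left c U rfl _ _ sqc hFW
  have hUV : U ≤ V := hmax U hPU
  intro z hz
  have hzW : z ∈ W := hz
  have : aY.act.left z ∈ U := ⟨⟨z, hzW⟩, rfl⟩
  exact hUV this

end Main

end Groth.Agent.H90
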