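import Groth.Prelude.Def_AlgGrp
import Groth.Agent.H90.EquivOpenLocus
import Groth.Agent.H52.FlatDescent
import Groth.Agent.H46.GenFree.Scheme
import Mathlib

/-! Equivariant morphisms onto a homogeneous space are flat and surjective. -/

set_option autoImplicit false
universe u

open CategoryTheory CategoryTheory.Limits MonoidalCategory CartesianMonoidalCategory MonObj
  AlgebraicGeometry MorphismProperty

namespace Groth.Agent.H90

/-- fpqc descent implies descent along flat surjective universally open morphisms. -/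
theorem descendsAlong_flat_surjective_universallyOpen (P : MorphismProperty Scheme.{u})
    [P.DescendsAlong (@Surjective ⊓ @Flat ⊓ @QuasiCompact)] [IsZariskiLocalAtTarget P] :
    P.DescendsAlong (@Flat ⊓ @Surjective ⊓ @UniversallyOpen) := by
  apply IsZariskiLocalAtTarget.descendsAlong
  rintro R X Y f g ⟨⟨h₁, h₂⟩, h₃⟩ H
  obtain ⟨V : X.Opens, hV, e⟩ := f.isOpenMap.exists_opens_image_eq_of_prespectralSpace
    f.continuous (by simp) isOpen_univ isCompact_univ
  refine MorphismProperty.of_isPullback_of_descendsAlong (Q := @Surjective ⊓ @Flat ⊓ @QuasiCompact)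
    (.paste_vert (.of_hasPullback V.ι _) (.of_hasPullback f g)) ⟨⟨?_, inferInstance⟩,
      (quasiCompact_iff_compactSpace _).mpr (isCompact_iff_compactSpace.mp hV)⟩ ?_
  · exact ⟨fun x ↦ have ⟨y, hyV, e⟩ := e.ge (Set.mem_univ x); ⟨⟨y, hyV⟩, e⟩⟩
  · exact IsZariskiLocalAtTarget.of_isPullback (.flip <| .of_hasPullback _ _) H

section KPoints

variable (k K : Type u) [Field k] [Field K] [Algebra k K]

/-- `Spec K` over `Spec k`. -/
noncomputable abbrev specOver : Over (Spec (CommRingCat.of k)) :=
  Over.mk (Spec.map (CommRingCat.ofHom (algebraMap k K)))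

variable [IsAlgClosed K]

lemma exists_point_of_closed (Z : Over (Spec (CommRingCat.of k))) [LocallyOfFiniteType Z.hom]
    (z : (specOver k K ⊗ Z).left) (hz : IsClosed {z}) :
    ∃ ζ : specOver k K ⟶ Z, ∀ p, ζ.left p = (snd (specOver k K) Z).left z := by
  let φ : (specOver k K ⊗ Z).left ⟶ Spec (CommRingCat.of K) := (fst (specOver k K) Z).left
  have hφ : LocallyOfFiniteType φ := by
    change LocallyOfFiniteType (fst (specOver k K) Z).left
    rw [Over.fst_left]
    infer_instance
  refine ⟨Over.homMk (pointOfClosedPoint φ z hz ≫ (snd (specOver k K) Z).left) ?_, ?_⟩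
  · rw [Category.assoc, Over.w (snd (specOver k K) Z), ← Over.w (fst (specOver k K) Z)]
    change pointOfClosedPoint φ z hz ≫ φ ≫ _ = _
    rw [← Category.assoc, pointOfClosedPoint_comp, Category.id_comp]
  · intro p
    change (pointOfClosedPoint φ z hz ≫ (snd (specOver k K) Z).left) p = _
    rw [Scheme.Hom.comp_apply, pointOfClosedPoint_apply]

end KPoints

section Main

variable (k K : Type u) [Field k] [Field K] [Algebra k K] [IsAlgClosed K]

open Groth.Agent.H40 in
theorem flat_surjective_of_equivariant_of_transitive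
    (G X Y : Over (Spec (CommRingCat.of k))) [GrpObj G] [LocallyOfFiniteType G.hom]
    [LocallyOfFiniteType X.hom] [QuasiCompact X.hom] [LocallyOfFiniteType Y.hom]
    [Nonempty X.left] [IsReduced Y.left] (a : AlgGrp.Action G X) (b : AlgGrp.Action G Y)
    (f : X ⟶ Y) (hf : (G ◁ f) ≫ b.act = a.act ≫ f)
    (htr : ∀ y y' : specOver k K ⟶ Y, ∃ g : specOver k K ⟶ G, lift g y ≫ b.act = y') :
    Flat f.left ∧ Surjective f.left := by
  set T := specOver k K with hT
  have hYN : IsLocallyNoetherian Y.left := LocallyOfFiniteType.isLocallyNoetherian Y.hom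
  have hfft : LocallyOfFiniteType f.left := by
    have : LocallyOfFiniteType (f.left ≫ Y.hom) := by rw [Over.w f]; infer_instance
    exact locallyOfFiniteType_of_comp f.left Y.hom
  have hfqc : QuasiCompact f.left := by
    have : QuasiCompact (f.left ≫ Y.hom) := by rw [Over.w f]; infer_instance
    exact QuasiCompact.of_comp f.left Y.hom
  have hTsurj : Surjective T.hom := by
    refine ⟨fun y => ⟨IsLocalRing.closedPoint K, ?_⟩⟩
    exact Subsingleton.elim (α := PrimeSpectrum k) _ _
  have hpY_surj : Surjective (snd T Y).left := by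
    rw [Over.snd_left]
    infer_instance
  have hpX_surj : Surjective (snd T X).left := by
    rw [Over.snd_left]
    infer_instance
  have hJ : ∀ (Z : Over (Spec (CommRingCat.of k))) [LocallyOfFiniteType Z.hom],
      JacobsonSpace (T ⊗ Z).left := by
    intro Z _
    let φ : (T ⊗ Z).left ⟶ Spec (CommRingCat.of K) := (fst T Z).left
    have hφ : LocallyOfFiniteType φ := by
      change LocallyOfFiniteType (fst T Z).left
      rw [Over.fst_left]
      infer_instance
    exact LocallyOfFiniteType.jacobsonSpace φ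
  have hJY := hJ Y
  have hJX := hJ X
  obtain ⟨p⟩ : Nonempty T.left := ⟨IsLocalRing.closedPoint K⟩
  obtain ⟨x0⟩ := ‹Nonempty X.left›
  -- flatness
  have := descendsAlong_flat_surjective_universallyOpen @Flat.{u}
  obtain ⟨V, hPV, hmax, hstab⟩ := exists_largest_open_stable k G X Y a b f hf @Flat
  obtain ⟨U, hUd, hUflat, -⟩ := Groth.Agent.H46.GenFree.generic_flatness f.left
  have hUV : U ≤ V := hmax U hUflat
  have hVtop : V = ⊤ := by
    by_contra hne
    have : Nonempty Y.left := ⟨f.left x0⟩
    obtain ⟨y1, hy1⟩ := hUd.nonempty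
    obtain ⟨y2, hy2⟩ : ∃ y2, y2 ∉ V := by
      by_contra h
      push Not at h
      exact hne (top_unique (fun y _ => h y))
    obtain ⟨w1, hw1⟩ := (snd T Y).left.surjective y1
    obtain ⟨w2, hw2⟩ := (snd T Y).left.surjective y2
    have hO1 : IsOpen ((snd T Y).left ⁻¹' (V : Set Y.left)) :=
      V.2.preimage (snd T Y).left.continuous
    have hC2 : IsClosed ((snd T Y).left ⁻¹' (V : Set Y.left)ᶜ) :=
      V.2.isClosed_compl.preimage (snd T Y).left.continuous
    obtain ⟨u1, hu1V, hu1c⟩ := nonempty_inter_closedPoints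
      (Z := (snd T Y).left ⁻¹' (V : Set Y.left)) ⟨w1, by
        rw [Set.mem_preimage, hw1]
        exact hUV hy1⟩ hO1.isLocallyClosed
    obtain ⟨u2, hu2V, hu2c⟩ := nonempty_inter_closedPoints
      (Z := (snd T Y).left ⁻¹' (V : Set Y.left)ᶜ) ⟨w2, by
        rw [Set.mem_preimage, hw2]
        exact hy2⟩ hC2.isLocallyClosed
    obtain ⟨ζ1, hζ1⟩ := exists_point_of_closed k K Y u1 hu1c
    obtain ⟨ζ2, hζ2⟩ := exists_point_of_closed k K Y u2 hu2c
    obtain ⟨g, hg⟩ := htr ζ1 ζ2
    have h1 : (lift g ζ1).left p ∈ (snd G Y).left ⁻¹ᵁ V := by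
      change (snd G Y).left ((lift g ζ1).left p) ∈ V
      rw [← Scheme.Hom.comp_apply, ← Over.comp_left, lift_snd, hζ1]
      exact hu1V
    have h2 := hstab h1
    change b.act.left ((lift g ζ1).left p) ∈ V at h2
    rw [← Scheme.Hom.comp_apply, ← Over.comp_left, hg, hζ2] at h2
    exact hu2V h2
  have hflat : Flat f.left := by
    rw [hVtop] at hPV
    rw [IsZariskiLocalAtTarget.iff_of_iSup_eq_top (P := @Flat) (fun _ : Unit => (⊤ : Y.left.Opens))
      (by simp)]
    exact fun _ => hPV
  refine ⟨hflat, ?_⟩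
  -- surjectivity
  have hopen : IsOpenMap f.left := f.left.isOpenMap
  have hRo : IsOpen (Set.range f.left) := hopen.isOpen_range
  obtain ⟨v0, hv0⟩ := (snd T X).left.surjective x0
  obtain ⟨v, -, hvc⟩ := nonempty_inter_closedPoints (X := (T ⊗ X).left) (Z := Set.univ)
    ⟨v0, trivial⟩ isOpen_univ.isLocallyClosed
  obtain ⟨ξ, hξ⟩ := exists_point_of_closed k K X v hvc
  have hcl : ∀ w : (T ⊗ Y).left, IsClosed {w} → (snd T Y).left w ∈ Set.range f.left := by
    intro w hw
    obtain ⟨ζ, hζ⟩ := exists_point_of_closed k K Y w hw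
    obtain ⟨g, hg⟩ := htr (ξ ≫ f) ζ
    refine ⟨(lift g ξ ≫ a.act).left p, ?_⟩
    rw [← Scheme.Hom.comp_apply, ← Over.comp_left, Category.assoc, ← hf, ← hζ p, ← hg]
    congr 3
    rw [← Category.assoc]
    congr 1
    simp
  refine ⟨fun y => ?_⟩
  by_contra hy
  obtain ⟨w, hw⟩ := (snd T Y).left.surjective y
  have hC : IsClosed ((snd T Y).left ⁻¹' (Set.range f.left)ᶜ) :=
    hRo.isClosed_compl.preimage (snd T Y).left.continuous
  obtain ⟨u, huR, huc⟩ := nonempty_inter_closedPoints
    (Z := (snd T Y).left ⁻¹' (Set.range f.left)ᶜ) ⟨w, by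
      rw [Set.mem_preimage, hw]
      exact hy⟩ hC.isLocallyClosed
  exact huR (hcl u huc)

end Main

end Groth.Agent.H90
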