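import Groth.Agent.H90.ZeroDimAct
import Groth.Agent.H90.GrpGeomIrr
import Groth.Agent.H38.GrpComp
import Groth.Agent.H48.ProdComp
import Groth.Agent.H48.FibSurfCurve

/-! A curve with an action of a smooth connected group is almost homogeneous iff the action is
nontrivial. -/

set_option autoImplicit false
universe u

open CategoryTheory CategoryTheory.Limits MonoidalCategory CartesianMonoidalCategory MonObj GrpObj
  AlgebraicGeometry TopologicalSpace

namespace Groth.Agent.H90.CurveAlmostHomog

open Groth.Agent.H40 Groth.Agent.H90

variable (k : Type u) [Field k]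

theorem S14634_aux
    (G C : Over (Spec (CommRingCat.of k))) [GrpObj G] [Smooth G.hom]
    [ConnectedSpace ↥G.left]
    [IsSeparated C.hom] [LocallyOfFiniteType C.hom] [QuasiCompact C.hom]
    [GeometricallyIntegral C.hom] (hdim : topologicalKrullDim ↥C.left = 1)
    (a : AlgGrp.Action G C) :
    IsDominant (lift (snd G C) a.act).left ↔ a.act ≠ snd G C := by
  have hsub : Subsingleton ↥(Spec (CommRingCat.of k)) :=
    inferInstanceAs (Subsingleton (PrimeSpectrum k))
  have hCint : IsIntegral C.left := GeometricallyIntegral.isIntegral_of_subsingleton C.hom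
  have hCN : IsLocallyNoetherian C.left := LocallyOfFiniteType.isLocallyNoetherian C.hom
  have hCCint : IsIntegral (C ⊗ C).left :=
    inferInstanceAs (IsIntegral (pullback C.hom C.hom))
  -- dimension of `C × C`
  have hpb : IsPullback (fst C C).left (snd C C).left C.hom C.hom := by
    rw [Over.fst_left, Over.snd_left]
    exact IsPullback.of_hasPullback _ _
  have huniv : topologicalKrullDim ↥(Set.univ : Set (C ⊗ C).left) =
      topologicalKrullDim (C ⊗ C).left :=
    (Homeomorph.Set.univ (C ⊗ C).left).isHomeomorph.topologicalKrullDim_eq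
  have hdim2 : topologicalKrullDim (C ⊗ C).left = 2 := by
    have hT : (Set.univ : Set (C ⊗ C).left) ∈ irreducibleComponents (C ⊗ C).left := by
      rw [irreducibleComponents_eq_singleton]
      rfl
    have := Groth.Agent.H48.ProdComp.topologicalKrullDim_component_prod k C.hom C.hom
      (fst C C).left (snd C C).left hpb Set.univ hT
    rw [huniv, hdim] at this
    rw [this]
    norm_num
  -- the graph morphism, the unit section, the diagonal
  let Γ : G ⊗ C ⟶ C ⊗ C := lift (snd G C) a.act
  let s : C ⟶ G ⊗ C := lift (toUnit C ≫ η[G]) (𝟙 C)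
  let Δ : C ⟶ C ⊗ C := lift (𝟙 C) (𝟙 C)
  have hsΓ : s ≫ Γ = Δ := by
    apply CartesianMonoidalCategory.hom_ext
    · rw [Category.assoc, lift_fst, lift_snd, lift_fst]
    · rw [Category.assoc, lift_snd, lift_snd]
      have : (toUnit C ≫ η[G] : C ⟶ G) = 1 := (Hom.one_def).symm
      change lift (toUnit C ≫ η[G]) (𝟙 C) ≫ a.act = 𝟙 C
      rw [this, ← psmul_def, one_psmul]
  have hΔfst : Δ ≫ fst C C = 𝟙 C := lift_fst _ _
  have hΔsnd : Δ ≫ snd C C = 𝟙 C := lift_snd _ _
  have hΔcl : IsClosedImmersion Δ.left := by
    have h1 : IsClosedImmersion (Δ.left ≫ (fst C C).left) := by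
      rw [← Over.comp_left, hΔfst]
      change IsClosedImmersion (𝟙 C.left)
      infer_instance
    have h2 : IsSeparated (fst C C).left := by rw [Over.fst_left]; infer_instance
    exact IsClosedImmersion.of_comp Δ.left (fst C C).left
  have hΔclosed : IsClosed (Set.range Δ.left) := Δ.left.isClosedEmbedding.isClosed_range
  have hΔirr : IsIrreducible (Set.range Δ.left) := by
    have := (IrreducibleSpace.isIrreducible_univ C.left).image Δ.left
      Δ.left.continuous.continuousOn
    rwa [Set.image_univ] at this
  have hΔdim : topologicalKrullDim ↥(Set.range Δ.left) = 1 := by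
    rw [← hdim]
    exact (Δ.left.isEmbedding.toHomeomorph.isHomeomorph.topologicalKrullDim_eq).symm
  -- key: if the image of the graph lies in the diagonal, the action is trivial
  have hsm : Smooth (snd G C).left := by rw [Over.snd_left]; infer_instance
  have hWred : IsReduced (G ⊗ C).left :=
    Groth.Agent.H53.isReduced_of_smooth_scheme (snd G C).left
  have key : Set.range Γ.left ⊆ Set.range Δ.left → a.act = snd G C := by
    intro hrange
    obtain ⟨l, hl⟩ := OrbitSmooth.exists_lift_of_isReduced_of_range_subset_of_isImmersion
      Δ.left Γ.left hrange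
    have h1 : a.act.left = l := by
      have : a.act.left = Γ.left ≫ (snd C C).left := by
        rw [← Over.comp_left, lift_snd]
      rw [this, ← hl, Category.assoc, ← Over.comp_left, hΔsnd]
      exact Category.comp_id _
    have h2 : (snd G C).left = l := by
      have : (snd G C).left = Γ.left ≫ (fst C C).left := by
        rw [← Over.comp_left, lift_fst]
      rw [this, ← hl, Category.assoc, ← Over.comp_left, hΔfst]
      exact Category.comp_id _
    exact Over.OverMorphism.ext (h1.trans h2.symm)
  have hfin : topologicalKrullDim (C ⊗ C).left < ⊤ := by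
    rw [hdim2]
    exact WithBot.coe_lt_coe.mpr (ENat.natCast_lt_top 2)
  constructor
  · -- dominant ⇒ nontrivial
    intro hdom htriv
    have hΓ : Γ = snd G C ≫ Δ := by
      apply CartesianMonoidalCategory.hom_ext
      · rw [lift_fst, Category.assoc, hΔfst, Category.comp_id]
      · rw [lift_snd, Category.assoc, hΔsnd, Category.comp_id, htriv]
    have hsubset : Set.range Γ.left ⊆ Set.range Δ.left := by
      rintro _ ⟨w, rfl⟩
      refine ⟨(snd G C).left w, ?_⟩
      change (snd G C ≫ Δ).left w = _
      rw [← hΓ]
    have hdense : Dense (Set.range Γ.left) := hdom.denseRange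
    have hall : Set.range Δ.left = Set.univ := by
      apply Set.eq_univ_of_univ_subset
      rw [← hdense.closure_eq]
      exact closure_minimal hsubset hΔclosed
    rw [hall, huniv, hdim2] at hΔdim
    norm_num at hΔdim
  · -- nontrivial ⇒ dominant
    intro hne
    by_contra hnd
    apply hne
    apply key
    -- the closure of the image
    set Z := closure (Set.range Γ.left) with hZ
    have hZne : Z ≠ Set.univ := by
      intro h
      apply hnd
      exact ⟨dense_iff_closure_eq.mpr h⟩
    have hZss : Z ⊂ Set.univ := ⟨Set.subset_univ _, fun h => hZne (Set.eq_univ_of_univ_subset h)⟩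
    have hGirr : IrreducibleSpace G.left :=
      Groth.Agent.H38.GrpConnIrr.irreducibleSpace_of_connectedSpace k G
    have hGgi : GeometricallyIrreducible G.hom := by
      have hr : Set.range ⇑(𝟙 G.left : G.left ⟶ G.left) = Set.univ := by
        ext x
        simp
      have := geometricallyIrreducible_component_one k G G.left (𝟙 G.left)
        (by rw [hr, irreducibleComponents_eq_singleton]; rfl) (by rw [hr]; trivial)
      rwa [Category.id_comp] at this
    have hWirr : IrreducibleSpace (G ⊗ C).left :=
      Groth.Agent.H38.GrpComp.irreducibleSpace_tensor k G C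
    have hZirr : IsIrreducible Z := by
      have := (IrreducibleSpace.isIrreducible_univ (G ⊗ C).left).image Γ.left
        Γ.left.continuous.continuousOn
      rw [Set.image_univ] at this
      exact this.closure
    have hZdim : topologicalKrullDim ↥Z < 2 := by
      have := Groth.Agent.H58.ConnDim.dim_lt_of_ssubset isClosed_closure
        (IrreducibleSpace.isIrreducible_univ (C ⊗ C).left) hZss (by rw [huniv]; exact hfin)
      rwa [huniv, hdim2] at this
    have hΔZ : Set.range Δ.left ⊆ Z := by
      rintro _ ⟨c, rfl⟩
      apply subset_closure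
      refine ⟨s.left c, ?_⟩
      change (s ≫ Γ).left c = _
      rw [hsΓ]
    have hΔeqZ : Set.range Δ.left = Z := by
      by_contra hne'
      have hss : Set.range Δ.left ⊂ Z := ⟨hΔZ, fun h => hne' (Set.Subset.antisymm hΔZ h)⟩
      have hlt := Groth.Agent.H58.ConnDim.dim_lt_of_ssubset hΔclosed hZirr hss
        (lt_trans hZdim (WithBot.coe_lt_coe.mpr (ENat.natCast_lt_top 2)))
      rw [hΔdim] at hlt
      exact Groth.Agent.H48.FibSurfCurve.not_one_lt_lt_two hlt hZdim
    rw [hΔeqZ]
    exact subset_closure

end Groth.Agent.H90.CurveAlmostHomog
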