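import Mathlib

set_option autoImplicit false

universe u v

namespace Groth.Agent.H90

section
variable {k : Type u} [CommRing k] {A : Type v} [CommRing A] [Algebra k A]
  (I : Ideal A) (D : Derivation k A A)

/-- a derivation maps `I ^ (n + 1)` into `I ^ n` -/
theorem derivation_pow_succ_le (n : ℕ) : ∀ a ∈ I ^ (n + 1), D a ∈ I ^ n := by
  induction n with
  | zero =>
    intro a _
    rw [pow_zero, Ideal.one_eq_top]
    exact Submodule.mem_top
  | succ n ih =>
    intro a ha
    rw [pow_succ'] at ha
    refine Submodule.mul_induction_on ha ?_ ?_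
    · intro x hx y hy
      rw [Derivation.leibniz]
      apply Ideal.add_mem
      · rw [smul_eq_mul, pow_succ']
        exact Ideal.mul_mem_mul hx (ih y hy)
      · rw [smul_eq_mul]
        exact Ideal.mul_mem_right _ _ hy
    · intro x y hx hy
      rw [map_add]
      exact Ideal.add_mem _ hx hy

theorem derivation_smul_top_le (n : ℕ) :
    ((I ^ (n + 1) • ⊤ : Ideal A).restrictScalars k)
      ≤ ((I ^ n • ⊤ : Ideal A).restrictScalars k).comap D.toLinearMap := by
  intro a ha
  have ha' : a ∈ I ^ (n + 1) := by simpa using ha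
  have := derivation_pow_succ_le I D n a ha'
  show D a ∈ (I ^ n • ⊤ : Ideal A)
  simpa using this

/-- the induced map on truncations -/
noncomputable def Dbar (n : ℕ) :
    (A ⧸ (I ^ (n + 1) • ⊤ : Ideal A)) →ₗ[k] (A ⧸ (I ^ n • ⊤ : Ideal A)) :=
  (Submodule.Quotient.restrictScalarsEquiv k (I ^ n • ⊤ : Ideal A)).toLinearMap ∘ₗ
    (Submodule.mapQ _ _ D.toLinearMap (derivation_smul_top_le I D n)) ∘ₗ
      (Submodule.Quotient.restrictScalarsEquiv k (I ^ (n + 1) • ⊤ : Ideal A)).symm.toLinearMap

theorem Dbar_mk (n : ℕ) (a : A) :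
    Dbar I D n (Submodule.Quotient.mk a) = Submodule.Quotient.mk (D a) := by
  unfold Dbar
  simp only [LinearMap.comp_apply, LinearEquiv.coe_coe]
  rw [Submodule.Quotient.restrictScalarsEquiv_symm_mk, Submodule.mapQ_apply,
    Submodule.Quotient.restrictScalarsEquiv_mk]
  rfl

theorem Dbar_compat {m n : ℕ} (hmn : m ≤ n) (X : A ⧸ (I ^ (n + 1) • ⊤ : Ideal A)) :
    AdicCompletion.transitionMap I A hmn (Dbar I D n X)
      = Dbar I D m (AdicCompletion.transitionMap I A (Nat.succ_le_succ hmn) X) := by
  obtain ⟨a, rfl⟩ := Submodule.Quotient.mk_surjective _ X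
  have h1 : AdicCompletion.transitionMap I A (Nat.succ_le_succ hmn)
      (Submodule.Quotient.mk a) = Submodule.Quotient.mk a := rfl
  rw [h1, Dbar_mk, Dbar_mk]
  rfl

theorem Dbar_leibniz (n : ℕ) (X Y : A ⧸ (I ^ (n + 1) • ⊤ : Ideal A)) :
    Dbar I D n (X * Y)
      = AdicCompletion.transitionMap I A (Nat.le_succ n) X * Dbar I D n Y
        + AdicCompletion.transitionMap I A (Nat.le_succ n) Y * Dbar I D n X := by
  obtain ⟨a, rfl⟩ := Submodule.Quotient.mk_surjective _ X
  obtain ⟨b, rfl⟩ := Submodule.Quotient.mk_surjective _ Y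
  have hab : (Submodule.Quotient.mk a : A ⧸ (I ^ (n + 1) • ⊤ : Ideal A)) * Submodule.Quotient.mk b
      = Submodule.Quotient.mk (a * b) := rfl
  have h1 : AdicCompletion.transitionMap I A (Nat.le_succ n)
      (Submodule.Quotient.mk a) = Submodule.Quotient.mk a := rfl
  have h2 : AdicCompletion.transitionMap I A (Nat.le_succ n)
      (Submodule.Quotient.mk b) = Submodule.Quotient.mk b := rfl
  rw [hab, Dbar_mk, Dbar_mk, Dbar_mk, h1, h2, Derivation.leibniz]
  rfl

/-- the extension of `D` to the completion, as a linear map -/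
noncomputable def DhatLin : AdicCompletion I A →ₗ[k] AdicCompletion I A where
  toFun x := ⟨fun n => Dbar I D n (x.val (n + 1)), by
    intro m n hmn
    exact (Dbar_compat I D hmn (x.val (n + 1))).trans
      (congrArg (Dbar I D m) (x.property (Nat.succ_le_succ hmn)))⟩
  map_add' x y := by
    apply AdicCompletion.ext
    intro n
    exact map_add (Dbar I D n) (x.val (n + 1)) (y.val (n + 1))
  map_smul' c x := by
    apply AdicCompletion.ext
    intro n
    exact map_smul (Dbar I D n) c (x.val (n + 1))

theorem DhatLin_val (x : AdicCompletion I A) (n : ℕ) :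
    (DhatLin I D x).val n = Dbar I D n (x.val (n + 1)) := rfl

theorem DhatLin_leibniz (x y : AdicCompletion I A) :
    DhatLin I D (x * y) = x • DhatLin I D y + y • DhatLin I D x := by
  apply AdicCompletion.ext
  intro n
  have hx := x.property (Nat.le_succ n)
  have hy := y.property (Nat.le_succ n)
  exact (Dbar_leibniz I D n (x.val (n + 1)) (y.val (n + 1))).trans
    (congrArg₂ (fun u v => u * Dbar I D n (y.val (n + 1)) + v * Dbar I D n (x.val (n + 1))) hx hy)

/-- the extension of `D` to the completion -/
noncomputable def Dhat : Derivation k (AdicCompletion I A) (AdicCompletion I A) :=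
  Derivation.mk' (DhatLin I D) (DhatLin_leibniz I D)

theorem Dhat_of (a : A) :
    Dhat I D (algebraMap A (AdicCompletion I A) a) = algebraMap A (AdicCompletion I A) (D a) := by
  apply AdicCompletion.ext
  intro n
  exact Dbar_mk I D n a

end

end Groth.Agent.H90
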