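import Mathlib

set_option autoImplicit false

namespace Groth.Agent.H90

open IsLocalRing Matrix

theorem det_mem_maximalIdeal_pow {R : Type*} [CommRing R] [IsLocalRing R] :
    ∀ (n : ℕ) (M : Matrix (Fin n) (Fin n) R) (r : ℕ),
      (M.map (IsLocalRing.residue R)).rank ≤ r → M.det ∈ IsLocalRing.maximalIdeal R ^ (n - r) := by
  intro n
  induction n with
  | zero =>
    intro M r _
    simp
  | succ n ih =>
    intro M r hr
    by_cases hnr : n + 1 ≤ r
    · have : n + 1 - r = 0 := by omega
      rw [this, pow_zero, Ideal.one_eq_top]
      exact Submodule.mem_top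
    · have hrn : r ≤ n := by omega
      have hexp : n + 1 - r = (n - r) + 1 := by omega
      set Mb := M.map (IsLocalRing.residue R) with hMb
      have hdet0 : Mb.det = 0 := by
        by_contra hne
        have hunit : IsUnit Mb := (Matrix.isUnit_iff_isUnit_det Mb).mpr (isUnit_iff_ne_zero.mpr hne)
        have := Matrix.rank_of_isUnit Mb hunit
        rw [Fintype.card_fin] at this
        omega
      obtain ⟨vb, hvb0, hvb⟩ := Matrix.exists_mulVec_eq_zero_iff.mpr hdet0
      obtain ⟨j, hj⟩ : ∃ j, vb j ≠ 0 := by
        by_contra hcon
        rw [not_exists] at hcon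
        apply hvb0
        funext i
        have := hcon i
        rw [not_not] at this
        exact this
      have hsurj := IsLocalRing.residue_surjective (R := R)
      choose v hv using fun i => hsurj (vb i)
      have hvj : IsUnit (v j) := by
        have : v j ∉ IsLocalRing.maximalIdeal R := by
          intro hmem
          have := (IsLocalRing.residue_eq_zero_iff (v j)).mpr hmem
          rw [hv j] at this
          exact hj this
        exact (IsLocalRing.notMem_maximalIdeal).mp this
      have hw : ∀ i, (M *ᵥ v) i ∈ IsLocalRing.maximalIdeal R := by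
        intro i
        rw [← IsLocalRing.residue_eq_zero_iff, RingHom.map_mulVec]
        have : (⇑(IsLocalRing.residue R) ∘ v) = vb := funext hv
        rw [this, ← hMb, hvb]
        rfl
      have hcr : M.det * v j = (M.updateCol j (M *ᵥ v)).det := by
        have h1 : Matrix.cramer M (M *ᵥ v) = M.det • v := by
          rw [Matrix.cramer_eq_adjugate_mulVec, Matrix.mulVec_mulVec, Matrix.adjugate_mul,
            Matrix.smul_mulVec, Matrix.one_mulVec]
        have h2 := congrFun h1 j
        rw [Matrix.cramer_apply] at h2
        rw [h2]
        simp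
      have hmem : (M.updateCol j (M *ᵥ v)).det ∈ IsLocalRing.maximalIdeal R ^ (n + 1 - r) := by
        rw [Matrix.det_succ_column _ j, hexp, pow_succ]
        apply Ideal.sum_mem
        intro i _
        rw [Matrix.updateCol_self, Matrix.submatrix_updateCol_succAbove]
        have h1 : (M.submatrix i.succAbove j.succAbove).det ∈ IsLocalRing.maximalIdeal R ^ (n - r) := by
          apply ih
          have : (M.submatrix i.succAbove j.succAbove).map (IsLocalRing.residue R)
              = Mb.submatrix i.succAbove j.succAbove := by
            rw [hMb]; rfl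
          rw [this]
          exact le_trans (Matrix.rank_submatrix_le Mb _ _) hr
        have h2 : (-1) ^ (↑i + ↑j : ℕ) * (M *ᵥ v) i * (M.submatrix i.succAbove j.succAbove).det
            = (M.submatrix i.succAbove j.succAbove).det * ((-1) ^ (↑i + ↑j : ℕ) * (M *ᵥ v) i) := by ring
        rw [h2]
        exact Ideal.mul_mem_mul h1 (Ideal.mul_mem_left _ _ (hw i))
      rw [← hcr] at hmem
      obtain ⟨u, hu⟩ := hvj
      have : M.det = M.det * v j * ↑u⁻¹ := by
        rw [← hu, mul_assoc, Units.mul_inv, mul_one]
      rw [this]
      exact Ideal.mul_mem_right _ _ hmem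

end Groth.Agent.H90
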