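import Groth.Agent.H90.ImageSmooth
import Groth.Agent.H39.GenericSmooth
import Groth.Agent.H90.GrpPerfectSmooth

/-! A property of an equivariant morphism onto a homogeneous space which holds over a nonempty open
holds everywhere.  Application: orbit maps in characteristic zero are smooth. -/

set_option autoImplicit false
universe u

open CategoryTheory CategoryTheory.Limits MonoidalCategory CartesianMonoidalCategory MonObj
  AlgebraicGeometry MorphismProperty

namespace Groth.Agent.H90

open Groth.Agent.H40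

section General

variable (k K : Type u) [Field k] [Field K] [Algebra k K] [IsAlgClosed K]

theorem prop_of_equivariant_of_transitive
    (G X Y : Over (Spec (CommRingCat.of k))) [GrpObj G] [LocallyOfFiniteType G.hom]
    [LocallyOfFiniteType Y.hom] (a : AlgGrp.Action G X) (b : AlgGrp.Action G Y)
    (f : X ⟶ Y) (hf : (G ◁ f) ≫ b.act = a.act ≫ f)
    (htr : ∀ y y' : specOver k K ⟶ Y, ∃ g : specOver k K ⟶ G, lift g y ≫ b.act = y')
    (P : MorphismProperty Scheme.{u}) [IsZariskiLocalAtTarget P] [P.IsStableUnderBaseChange]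
    [P.DescendsAlong (@Flat ⊓ @Surjective ⊓ @UniversallyOpen)]
    (U : Y.left.Opens) (hUne : (U : Set Y.left).Nonempty) (hU : P (f.left ∣_ U)) : P f.left := by
  set T := specOver k K with hT
  have hTsurj : Surjective T.hom := by
    refine ⟨fun y => ⟨IsLocalRing.closedPoint K, ?_⟩⟩
    exact Subsingleton.elim (α := PrimeSpectrum k) _ _
  have hpY_surj : Surjective (snd T Y).left := by
    rw [Over.snd_left]
    infer_instance
  have hJY : JacobsonSpace (T ⊗ Y).left := by
    let φ : (T ⊗ Y).left ⟶ Spec (CommRingCat.of K) := (fst T Y).left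
    have hφ : LocallyOfFiniteType φ := locallyOfFiniteType_fst_specOver k K Y
    exact LocallyOfFiniteType.jacobsonSpace φ
  obtain ⟨p⟩ : Nonempty T.left := ⟨IsLocalRing.closedPoint K⟩
  obtain ⟨V, hPV, hmax, hstab⟩ := exists_largest_open_stable k G X Y a b f hf P
  have hUV : U ≤ V := hmax U hU
  have hVtop : V = ⊤ := by
    by_contra hne
    obtain ⟨y1, hy1⟩ := hUne
    obtain ⟨y2, hy2⟩ : ∃ y2, y2 ∉ V := by
      by_contra h
      push Not at h
      exact hne (top_unique (fun y _ => h y))
    obtain ⟨w1, hw1⟩ := (snd T Y).left.surjective y1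
    obtain ⟨w2, hw2⟩ := (snd T Y).left.surjective y2
    have hO1 : IsOpen ((snd T Y).left ⁻¹' (V : Set Y.left)) :=
      V.2.preimage (snd T Y).left.continuous
    have hC2 : IsClosed ((snd T Y).left ⁻¹' (V : Set Y.left)ᶜ) :=
      V.2.isClosed_compl.preimage (snd T Y).left.continuous
    obtain ⟨u1, hu1V, hu1c⟩ := nonempty_inter_closedPoints
      (Z := (snd T Y).left ⁻¹' (V : Set Y.left)) ⟨w1, by
        rw [Set.mem_preimage, hw1]
        exact hUV hy1⟩ hO1.isLocallyClosed
    obtain ⟨u2, hu2V, hu2c⟩ := nonempty_inter_closedPoints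
      (Z := (snd T Y).left ⁻¹' (V : Set Y.left)ᶜ) ⟨w2, by
        rw [Set.mem_preimage, hw2]
        exact hy2⟩ hC2.isLocallyClosed
    obtain ⟨ζ1, hζ1⟩ := exists_point_of_closed k K Y u1 hu1c
    obtain ⟨ζ2, hζ2⟩ := exists_point_of_closed k K Y u2 hu2c
    obtain ⟨g, hg⟩ := htr ζ1 ζ2
    have h1 : (lift g ζ1).left p ∈ (snd G Y).left ⁻¹ᵁ V := by
      change (snd G Y).left ((lift g ζ1).left p) ∈ V
      rw [← Scheme.Hom.comp_apply, ← Over.comp_left, lift_snd, hζ1]
      exact hu1V
    have h2 := hstab h1
    change b.act.left ((lift g ζ1).left p) ∈ V at h2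
    rw [← Scheme.Hom.comp_apply, ← Over.comp_left, hg, hζ2] at h2
    exact hu2V h2
  rw [hVtop] at hPV
  rw [IsZariskiLocalAtTarget.iff_of_iSup_eq_top (P := P) (fun _ : Unit => (⊤ : Y.left.Opens))
    (by simp)]
  exact fun _ => hPV

end General

section CharZero

variable (k : Type u) [Field k] [IsAlgClosed k] [CharZero k]

theorem smooth_orbitMap_of_transitive
    (G X : Over (Spec (CommRingCat.of k))) [GrpObj G] (a : AlgGrp.Action G X)
    [IsIntegral G.left] [LocallyOfFiniteType G.hom] [QuasiCompact G.hom]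
    [IsIntegral X.left] [LocallyOfFiniteType X.hom]
    (htrans : ∀ x x' : 𝟙_ (Over (Spec (CommRingCat.of k))) ⟶ X,
      ∃ σ : 𝟙_ (Over (Spec (CommRingCat.of k))) ⟶ G, lift σ x ≫ a.act = x')
    (x : 𝟙_ (Over (Spec (CommRingCat.of k))) ⟶ X) :
    Smooth (a.orbitMap x).left := by
  set π := a.orbitMap x with hπ
  let e : specOver k k ≅ 𝟙_ (Over (Spec (CommRingCat.of k))) :=
    Over.isoMk (Iso.refl _) (by
      change 𝟙 _ ≫ 𝟙 _ = (specOver k k).hom
      rw [specOver_hom_self, Category.id_comp]
      rfl)
  have htr : ∀ y y' : specOver k k ⟶ X, ∃ g : specOver k k ⟶ G, lift g y ≫ a.act = y' := by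
    intro y y'
    obtain ⟨σ, hσ⟩ := htrans (e.inv ≫ y) (e.inv ≫ y')
    refine ⟨e.hom ≫ σ, ?_⟩
    have h1 : lift (e.hom ≫ σ) y = e.hom ≫ lift σ (e.inv ≫ y) := by
      rw [comp_lift, Iso.hom_inv_id_assoc]
    rw [h1, Category.assoc, hσ, Iso.hom_inv_id_assoc]
  have hXN : IsLocallyNoetherian X.left := LocallyOfFiniteType.isLocallyNoetherian X.hom
  have hGN : IsLocallyNoetherian G.left := LocallyOfFiniteType.isLocallyNoetherian G.hom
  have hGsm : Smooth G.hom := smooth_of_reduced_perfect k G
  have hreg : ∀ g : G.left, IsRegularLocalRing (G.left.presheaf.stalk g) := by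
    intro g
    rw [← Groth.Agent.H47.SLF.mem_smoothLocus_iff_isRegularLocalRing_of_perfectField k G.hom g,
      Scheme.Hom.smoothLocus_eq_top]
    trivial
  have hπft : LocallyOfFiniteType π.left := by
    have : LocallyOfFiniteType (π.left ≫ X.hom) := by rw [Over.w π]; infer_instance
    exact locallyOfFiniteType_of_comp π.left X.hom
  have hπqc : QuasiCompact π.left := by
    have : QuasiCompact (π.left ≫ X.hom) := by rw [Over.w π]; infer_instance
    exact QuasiCompact.of_comp π.left X.hom
  have hperf : PerfectField X.left.functionField := by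
    let φ : k →+* X.left.functionField :=
      ((X.left.presheaf.germ ⊤ (genericPoint X.left) trivial).hom.comp
        (X.hom.appTop).hom).comp (Scheme.ΓSpecIso (CommRingCat.of k)).inv.hom
    have : CharZero X.left.functionField := charZero_of_injective_ringHom φ.injective
    infer_instance
  obtain ⟨V, hVd, hVsm⟩ := Groth.Agent.H39.GenericSmooth.exists_dense_open_smooth_restrict
    G.left X.left hreg π.left
  have := descendsAlong_flat_surjective_universallyOpen @Smooth.{u}
  exact prop_of_equivariant_of_transitive k k G G X (leftMulAction G) a π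
    (orbitMap_equivariant a x) htr @Smooth V hVd.nonempty hVsm

end CharZero

end Groth.Agent.H90
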