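import Mathlib

/-!
A pre-relation `j : R ⟶ U ×_S U` with unramified projections, injective on geometric points and
carrying `e`, `i`, `c` is an equivalence relation.
-/

set_option autoImplicit false

universe u

namespace Groth.Agent.H90

open CategoryTheory CategoryTheory.Limits AlgebraicGeometry

/-- An unramified morphism which is injective on points with values in algebraically closed fields
is a monomorphism. -/
theorem mono_of_unramified_of_injective_geometric {X Y : Scheme.{u}} (j : X ⟶ Y)
    [FormallyUnramified j] [LocallyOfFiniteType j]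
    (h : ∀ (k : Type u) [Field k] [IsAlgClosed k],
      Function.Injective (fun r : Spec (CommRingCat.of k) ⟶ X => r ≫ j)) : Mono j := by
  have hopen : IsOpenImmersion (pullback.diagonal j) := inferInstance
  have hsurj : Surjective (pullback.diagonal j) := by
    constructor
    intro z
    obtain ⟨zb, hzb⟩ : ∃ zb : Spec (CommRingCat.of (AlgebraicClosure
        ((pullback j j).residueField z))) ⟶ pullback j j, ∀ t, zb t = z := by
      refine ⟨Spec.map (CommRingCat.ofHom (algebraMap ((pullback j j).residueField z)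
        (AlgebraicClosure ((pullback j j).residueField z)))) ≫
          (pullback j j).fromSpecResidueField z, ?_⟩
      intro t
      rw [Scheme.Hom.comp_apply]
      exact Scheme.fromSpecResidueField_apply _ _
    have h1 : zb ≫ pullback.fst j j = zb ≫ pullback.snd j j := by
      apply h (AlgebraicClosure ((pullback j j).residueField z))
      change (zb ≫ pullback.fst j j) ≫ j = (zb ≫ pullback.snd j j) ≫ j
      rw [Category.assoc, Category.assoc, pullback.condition]
    have h2 : zb = (zb ≫ pullback.fst j j) ≫ pullback.diagonal j := by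
      apply pullback.hom_ext
      · rw [Category.assoc, pullback.diagonal_fst, Category.comp_id]
      · rw [Category.assoc, pullback.diagonal_snd, Category.comp_id, h1]
    refine ⟨(zb ≫ pullback.fst j j) (IsLocalRing.closedPoint _), ?_⟩
    rw [← Scheme.Hom.comp_apply, ← h2, hzb]
  have : IsIso (pullback.diagonal j) :=
    (isIso_iff_isOpenImmersion_and_surjective _).mpr ⟨hopen, hsurj⟩
  exact (pullback.isIso_diagonal_iff j).mp this

theorem equivRel_of_unramified {S U R : Scheme.{u}} (pU : U ⟶ S) (j : R ⟶ pullback pU pU)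
    [FormallyUnramified (j ≫ pullback.fst pU pU)] [LocallyOfFiniteType (j ≫ pullback.fst pU pU)]
    (h₂ : ∀ (k : Type u) [Field k] [IsAlgClosed k],
      Function.Injective (fun r : Spec (CommRingCat.of k) ⟶ R => r ≫ j))
    (e : U ⟶ R) (he : e ≫ j = pullback.lift (𝟙 U) (𝟙 U) rfl) (i : R ⟶ R)
    (hi : i ≫ j = j ≫ (pullbackSymmetry pU pU).hom)
    (c : pullback (j ≫ pullback.snd pU pU) (j ≫ pullback.fst pU pU) ⟶ R)
    (hc₁ : c ≫ j ≫ pullback.fst pU pU =
      pullback.fst (j ≫ pullback.snd pU pU) (j ≫ pullback.fst pU pU) ≫ j ≫ pullback.fst pU pU)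
    (hc₂ : c ≫ j ≫ pullback.snd pU pU =
      pullback.snd (j ≫ pullback.snd pU pU) (j ≫ pullback.fst pU pU) ≫ j ≫ pullback.snd pU pU) :
    Mono j ∧ ∀ T : Scheme.{u}, Equivalence (fun a b : T ⟶ U =>
      ∃ r : T ⟶ R, r ≫ j ≫ pullback.fst pU pU = a ∧ r ≫ j ≫ pullback.snd pU pU = b) := by
  have hju : FormallyUnramified j := FormallyUnramified.of_comp j (pullback.fst pU pU)
  have hjft : LocallyOfFiniteType j := locallyOfFiniteType_of_comp j (pullback.fst pU pU)
  refine ⟨mono_of_unramified_of_injective_geometric j h₂, fun T => ⟨?_, ?_, ?_⟩⟩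
  · intro a
    refine ⟨a ≫ e, ?_, ?_⟩
    · rw [Category.assoc, ← Category.assoc e, he, pullback.lift_fst, Category.comp_id]
    · rw [Category.assoc, ← Category.assoc e, he, pullback.lift_snd, Category.comp_id]
  · rintro a b ⟨r, h1, h2⟩
    refine ⟨r ≫ i, ?_, ?_⟩
    · rw [Category.assoc, ← Category.assoc i, hi, Category.assoc, pullbackSymmetry_hom_comp_fst, h2]
    · rw [Category.assoc, ← Category.assoc i, hi, Category.assoc, pullbackSymmetry_hom_comp_snd, h1]
  · rintro a b d ⟨r₁, h1, h2⟩ ⟨r₂, h3, h4⟩
    have hcond : r₁ ≫ j ≫ pullback.snd pU pU = r₂ ≫ j ≫ pullback.fst pU pU := by rw [h2, h3]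
    refine ⟨pullback.lift r₁ r₂ hcond ≫ c, ?_, ?_⟩
    · rw [Category.assoc, hc₁, ← Category.assoc, pullback.lift_fst, h1]
    · rw [Category.assoc, hc₂, ← Category.assoc, pullback.lift_snd, h4]

end Groth.Agent.H90
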