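import Mathlib.Tactic
import Mathlib.Algebra.BigOperators.Intervals
import Mathlib.Data.Nat.GCD.Basic
import Mathlib.Algebra.Order.Field.Rat
import Groth.Prelude.Def_W4c5stcicurvesp3Euclid

set_option autoImplicit false

namespace Groth.Agent.H90

open W4c5stcicurvesp3

theorem irem_zero' (a b : ℕ) : irem a b 0 = b := rfl
theorem irem_one' (a b : ℕ) : irem a b 1 = a % b := rfl
theorem irem_add_two (a b n : ℕ) :
    irem a b (n + 2) = if irem a b (n + 1) = 0 then 0 else irem a b n % irem a b (n + 1) := by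
  rw [irem]
theorem idiv_one' (a b : ℕ) : idiv a b 1 = a / b := rfl
theorem idiv_add_two (a b n : ℕ) :
    idiv a b (n + 2) = if irem a b (n + 1) = 0 then 0 else irem a b n / irem a b (n + 1) := by
  rw [idiv]

theorem irem_shift (a b : ℕ) (h : a % b ≠ 0) : ∀ n, irem a b (n + 1) = irem b (a % b) n := by
  intro n
  induction n using Nat.strong_induction_on with
  | _ n ih =>
    match n with
    | 0 => rfl
    | 1 =>
      rw [irem_add_two, irem_one', irem_zero', irem_one', if_neg h]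
    | (m + 2) =>
      rw [irem_add_two, irem_add_two b, ih (m + 1) (by omega), ih m (by omega)]

theorem idiv_shift (a b : ℕ) (h : a % b ≠ 0) : ∀ n, idiv a b (n + 2) = idiv b (a % b) (n + 1) := by
  intro n
  match n with
  | 0 =>
    rw [idiv_add_two, irem_one', irem_zero', idiv_one', if_neg h]
  | (m + 1) =>
    rw [idiv_add_two, idiv_add_two b, irem_shift a b h (m + 1), irem_shift a b h m]

theorem sum_idiv_mul_gcd_le_gen : ∀ (t a b : ℕ), 0 < b → b ≤ a → 0 < t →
    irem a b t = 0 → (∀ i, 0 < i → i < t → irem a b i ≠ 0) →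
    (∑ i ∈ Finset.Icc 1 t, idiv a b i) * Nat.gcd b a ≤ a := by
  intro t
  induction t with
  | zero => intro a b _ _ h; omega
  | succ t ih =>
    intro a b hb hba _ hzero hmin
    rcases Nat.eq_zero_or_pos t with rfl | htpos
    · -- t = 1
      have hmod : a % b = 0 := hzero
      have hdvd : b ∣ a := Nat.dvd_of_mod_eq_zero hmod
      have hg : Nat.gcd b a = b := Nat.gcd_eq_left hdvd
      simp only [zero_add, Finset.Icc_self, Finset.sum_singleton, idiv_one', hg]
      exact le_of_eq (Nat.div_mul_cancel hdvd)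
    · -- t ≥ 1, so t+1 ≥ 2
      have hr : a % b ≠ 0 := hmin 1 Nat.one_pos (by omega)
      have hrpos : 0 < a % b := Nat.pos_of_ne_zero hr
      have hrlt : a % b < b := Nat.mod_lt a hb
      have hz' : irem b (a % b) t = 0 := by rw [← irem_shift a b hr]; exact hzero
      have hmin' : ∀ i, 0 < i → i < t → irem b (a % b) i ≠ 0 := by
        intro i hi hit
        rw [← irem_shift a b hr]
        exact hmin (i + 1) (by omega) (by omega)
      have IH := ih b (a % b) hrpos hrlt.le htpos hz' hmin'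
      have hsum : ∑ i ∈ Finset.Icc 1 (t + 1), idiv a b i
          = a / b + ∑ i ∈ Finset.Icc 1 t, idiv b (a % b) i := by
        rw [← Finset.sum_Ioc_add_eq_sum_Icc (by omega : 1 ≤ t + 1), add_comm, idiv_one']
        congr 1
        have : Finset.Ioc 1 (t + 1) = (Finset.Icc 1 t).map ⟨fun i => i + 1, add_left_injective 1⟩ := by
          ext i
          simp only [Finset.mem_Ioc, Finset.mem_map, Finset.mem_Icc, Function.Embedding.coeFn_mk]
          constructor
          · intro h; exact ⟨i - 1, by omega, by omega⟩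
          · rintro ⟨j, hj, rfl⟩; omega
        rw [this, Finset.sum_map]
        apply Finset.sum_congr rfl
        intro i hi
        simp only [Function.Embedding.coeFn_mk]
        have hi1 : 1 ≤ i := (Finset.mem_Icc.mp hi).1
        obtain ⟨j, rfl⟩ : ∃ j, i = j + 1 := ⟨i - 1, by omega⟩
        exact idiv_shift a b hr j
      have hgcd : Nat.gcd (a % b) b = Nat.gcd b a := (Nat.gcd_rec b a).symm
      rw [hgcd] at IH
      rw [hsum, add_mul]
      have hgr : Nat.gcd b a ∣ a % b := (Nat.dvd_mod_iff (Nat.gcd_dvd_left b a)).mpr (Nat.gcd_dvd_right b a)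
      have hgle : Nat.gcd b a ≤ a % b := Nat.le_of_dvd hrpos hgr
      have hq : 1 ≤ a / b := Nat.div_pos hba hb
      have hdm := Nat.div_add_mod a b
      generalize Nat.gcd b a = g at *
      generalize a / b = q at *
      generalize a % b = r at *
      obtain ⟨q', rfl⟩ : ∃ q', q = q' + 1 := ⟨q - 1, by omega⟩
      have h1 : q' * g ≤ q' * b := Nat.mul_le_mul_left _ (by omega)
      nlinarith

theorem three_step_rat (x y a b : ℕ) (hx : 2 ≤ x) (hy : 1 ≤ y) (hb : 0 < b) (hba : b < a) :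
    (((a * y + b : ℕ) : ℚ) - a) / x + ((a : ℚ) - b) / ((x : ℚ) + y) + (b : ℚ) / ((x : ℚ) + y + 1)
      ≤ ((a * y + b : ℕ) : ℚ) ^ 2 / (((a * y + b) * x + a : ℕ) : ℚ) := by
  obtain ⟨p, rfl⟩ : ∃ p, x = 2 + p := ⟨x - 2, by omega⟩
  obtain ⟨q, rfl⟩ : ∃ q, y = 1 + q := ⟨y - 1, by omega⟩
  obtain ⟨v, rfl⟩ : ∃ v, a = b + v := ⟨a - b, by omega⟩
  push_cast
  have hp : (0 : ℚ) ≤ p := Nat.cast_nonneg p
  have hq : (0 : ℚ) ≤ q := Nat.cast_nonneg q
  have hv : (0 : ℚ) ≤ v := Nat.cast_nonneg v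
  have hb' : (0 : ℚ) < b := Nat.cast_pos.mpr hb
  generalize (p : ℚ) = p at *
  generalize (q : ℚ) = q at *
  generalize (v : ℚ) = v at *
  generalize (b : ℚ) = b at *
  have h1 : (0 : ℚ) < 2 + p := by linarith
  have h2 : (0 : ℚ) < 2 + p + (1 + q) := by linarith
  have h3 : (0 : ℚ) < 2 + p + (1 + q) + 1 := by linarith
  have hN : (0 : ℚ) < ((b + v) * (1 + q) + b) * (2 + p) + (b + v) := by positivity
  rw [div_add_div _ _ h1.ne' h2.ne', div_add_div _ _ (mul_pos h1 h2).ne' h3.ne',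
    div_le_div_iff₀ (mul_pos (mul_pos h1 h2) h3) hN]
  have key : ((b + v) * (1 + q) + b) ^ 2 * ((2 + p) * (2 + p + (1 + q)) * (2 + p + (1 + q) + 1))
      - ((((b + v) * (1 + q) + b - (b + v)) * (2 + p + (1 + q)) + (2 + p) * (b + v - b)) * (2 + p + (1 + q) + 1)
          + (2 + p) * (2 + p + (1 + q)) * b) * (((b + v) * (1 + q) + b) * (2 + p) + (b + v))
      = 19*b*p*q*v + 13*b*p*q^2*v + 2*b*p*q^3*v + 4*b*p*v + 4*b*p^2*q*v + 2*b*p^2*q^2*v + 1*b*p^2*v
        + 15*b*q*v + 11*b*q^2*v + 2*b*q^3*v + 2*b*v + 6*b^2 + 8*b^2*p + 14*b^2*p*q + 7*b^2*p*q^2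
        + 1*b^2*p*q^3 + 2*b^2*p^2 + 3*b^2*p^2*q + 1*b^2*p^2*q^2 + 11*b^2*q + 6*b^2*q^2 + 1*b^2*q^3
        + 5*p*q*v^2 + 6*p*q^2*v^2 + 1*p*q^3*v^2 + 1*p^2*q*v^2 + 1*p^2*q^2*v^2 + 4*q*v^2 + 5*q^2*v^2
        + 1*q^3*v^2 := by ring
  have hnn : (0 : ℚ) ≤ 19*b*p*q*v + 13*b*p*q^2*v + 2*b*p*q^3*v + 4*b*p*v + 4*b*p^2*q*v + 2*b*p^2*q^2*v + 1*b*p^2*v
        + 15*b*q*v + 11*b*q^2*v + 2*b*q^3*v + 2*b*v + 6*b^2 + 8*b^2*p + 14*b^2*p*q + 7*b^2*p*q^2
        + 1*b^2*p*q^3 + 2*b^2*p^2 + 3*b^2*p^2*q + 1*b^2*p^2*q^2 + 11*b^2*q + 6*b^2*q^2 + 1*b^2*q^3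
        + 5*p*q*v^2 + 6*p*q^2*v^2 + 1*p*q^3*v^2 + 1*p^2*q*v^2 + 1*p^2*q^2*v^2 + 4*q*v^2 + 5*q^2*v^2
        + 1*q^3*v^2 := by positivity
  linarith

theorem three_step (k N : ℕ) (hk : 0 < k) (hkN : 2 * k ≤ N)
    (h1 : irem N k 1 ≠ 0) (h2 : irem N k 2 ≠ 0) :
    ((irem N k 0 : ℚ) - irem N k 1) / (idiv N k 1)
      + ((irem N k 1 : ℚ) - irem N k 2) / ((idiv N k 1 : ℚ) + idiv N k 2)
      + (irem N k 2 : ℚ) / ((idiv N k 1 : ℚ) + idiv N k 2 + 1)
      ≤ (k : ℚ) ^ 2 / N := by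
  have h1' : N % k ≠ 0 := h1
  have e2 : irem N k 2 = k % (N % k) := by
    rw [irem_add_two, irem_one', irem_zero', if_neg h1']
  have d2 : idiv N k 2 = k / (N % k) := by
    rw [idiv_add_two, irem_one', irem_zero', if_neg h1']
  rw [e2] at h2
  rw [e2, d2, irem_zero', irem_one', idiv_one']
  have hx : 2 ≤ N / k := (Nat.le_div_iff_mul_le hk).mpr hkN
  have halt : N % k < k := Nat.mod_lt N hk
  have hapos : 0 < N % k := Nat.pos_of_ne_zero h1'
  have hy : 1 ≤ k / (N % k) := Nat.div_pos halt.le hapos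
  have hb : 0 < k % (N % k) := Nat.pos_of_ne_zero h2
  have hba : k % (N % k) < N % k := Nat.mod_lt k hapos
  have hN : N = k * (N / k) + N % k := (Nat.div_add_mod N k).symm
  have hkk : k = (N % k) * (k / (N % k)) + k % (N % k) := (Nat.div_add_mod k (N % k)).symm
  generalize N / k = x at *
  generalize hya : k / (N % k) = y at *
  generalize hbb : k % (N % k) = b at *
  generalize N % k = a at *
  have := three_step_rat x y a b hx hy hb hba
  rw [← hkk] at this
  rw [← hN] at this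
  exact this

theorem irem_add_two_le (a b n : ℕ) : irem a b (n + 2) ≤ irem a b (n + 1) := by
  rw [irem_add_two]
  split_ifs with h
  · exact Nat.zero_le _
  · exact (Nat.mod_lt _ (Nat.pos_of_ne_zero h)).le

theorem two_step_rat (x y a : ℕ) (hx : 1 ≤ x) (hy : 1 ≤ y) (ha : 0 < a) :
    (((a * y : ℕ) : ℚ) - a) / x + (a : ℚ) / ((x : ℚ) + y)
      ≤ ((a * y : ℕ) : ℚ) ^ 2 / (((a * y) * x + a : ℕ) : ℚ) := by
  obtain ⟨p, rfl⟩ : ∃ p, x = 1 + p := ⟨x - 1, by omega⟩
  obtain ⟨q, rfl⟩ : ∃ q, y = 1 + q := ⟨y - 1, by omega⟩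
  push_cast
  have hp : (0 : ℚ) ≤ p := Nat.cast_nonneg p
  have hq : (0 : ℚ) ≤ q := Nat.cast_nonneg q
  have ha' : (0 : ℚ) < a := Nat.cast_pos.mpr ha
  generalize (p : ℚ) = p at *
  generalize (q : ℚ) = q at *
  generalize (a : ℚ) = a at *
  have h1 : (0 : ℚ) < 1 + p := by linarith
  have h2 : (0 : ℚ) < 1 + p + (1 + q) := by linarith
  have hN : (0 : ℚ) < a * (1 + q) * (1 + p) + a := by positivity
  rw [div_add_div _ _ h1.ne' h2.ne', div_le_div_iff₀ (mul_pos h1 h2) hN]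
  have key : (a * (1 + q)) ^ 2 * ((1 + p) * (1 + p + (1 + q)))
      - ((a * (1 + q) - a) * (1 + p + (1 + q)) + (1 + p) * a) * (a * (1 + q) * (1 + p) + a)
      = a ^ 2 * (1 + q) * p * q := by ring
  have hnn : (0 : ℚ) ≤ a ^ 2 * (1 + q) * p * q := by positivity
  linarith

theorem sum_idiv_mono (a b : ℕ) {m n : ℕ} (h : m ≤ n) :
    (∑ j ∈ Finset.Icc 1 m, (idiv a b j : ℚ)) ≤ ∑ j ∈ Finset.Icc 1 n, (idiv a b j : ℚ) := by
  apply Finset.sum_le_sum_of_subset_of_nonneg
  · exact Finset.Icc_subset_Icc_right h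
  · intro i _ _; exact Nat.cast_nonneg _

theorem telescoping (k N t : ℕ) (hk : 0 < k) (hkN : 2 * k ≤ N) (ht : 0 < t)
    (hzero : irem N k t = 0) (hmin : ∀ i, 0 < i → i < t → irem N k i ≠ 0) :
    ∑ i ∈ Finset.range t, ((irem N k i : ℚ) - irem N k (i + 1)) /
        (∑ j ∈ Finset.Icc 1 (i + 1), (idiv N k j : ℚ))
      ≤ (k : ℚ) ^ 2 / N := by
  have hx : 2 ≤ N / k := (Nat.le_div_iff_mul_le hk).mpr hkN
  have hN : N = k * (N / k) + N % k := (Nat.div_add_mod N k).symm
  match t, ht, hzero, hmin with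
  | 1, _, hzero, _ =>
    have hmod : N % k = 0 := hzero
    simp only [Finset.range_one, Finset.sum_singleton, zero_add, Finset.Icc_self, irem_zero',
      irem_one', idiv_one', hmod, Nat.cast_zero, sub_zero]
    rw [hmod, add_zero] at hN
    have hxq : (0 : ℚ) < ((N / k : ℕ) : ℚ) := by exact_mod_cast (by omega : 0 < N / k)
    have hkq : (0 : ℚ) < (k : ℚ) := by exact_mod_cast hk
    have hNq : (N : ℚ) = (k : ℚ) * ((N / k : ℕ) : ℚ) := by exact_mod_cast hN
    rw [hNq, div_le_div_iff₀ hxq (mul_pos hkq hxq)]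
    apply le_of_eq; ring
  | 2, _, hzero, hmin =>
    have h1' : N % k ≠ 0 := hmin 1 Nat.one_pos (by omega)
    have e2 : irem N k 2 = k % (N % k) := by
      rw [irem_add_two, irem_one', irem_zero', if_neg h1']
    have d2 : idiv N k 2 = k / (N % k) := by
      rw [idiv_add_two, irem_one', irem_zero', if_neg h1']
    have hb0 : k % (N % k) = 0 := by rw [← e2]; exact hzero
    have halt : N % k < k := Nat.mod_lt N hk
    have hapos : 0 < N % k := Nat.pos_of_ne_zero h1'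
    have hy : 1 ≤ k / (N % k) := Nat.div_pos halt.le hapos
    have hkk : k = (N % k) * (k / (N % k)) + k % (N % k) := (Nat.div_add_mod k (N % k)).symm
    rw [hb0, add_zero] at hkk
    have hsum : ∑ i ∈ Finset.range 2, ((irem N k i : ℚ) - irem N k (i + 1)) /
        (∑ j ∈ Finset.Icc 1 (i + 1), (idiv N k j : ℚ))
        = ((k : ℚ) - (N % k : ℕ)) / ((N / k : ℕ) : ℚ)
          + ((N % k : ℕ) : ℚ) / (((N / k : ℕ) : ℚ) + ((k / (N % k) : ℕ) : ℚ)) := by
      rw [Finset.sum_range_succ, Finset.sum_range_one]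
      have hI2 : Finset.Icc 1 2 = {1, 2} := by decide
      simp only [zero_add, Finset.Icc_self, Finset.sum_singleton, irem_zero', irem_one', idiv_one']
      rw [show (1 + 1 : ℕ) = 2 from rfl, hI2, Finset.sum_pair (by norm_num), e2, hb0, d2, idiv_one']
      simp
    rw [hsum]
    generalize N / k = x at *
    generalize hya : k / (N % k) = y at *
    generalize N % k = a at *
    have := two_step_rat x y a (by omega) hy hapos
    rw [← hkk] at this
    rw [← hN] at this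
    exact this
  | (m + 3), _, hzero, hmin =>
    have h1 : irem N k 1 ≠ 0 := hmin 1 Nat.one_pos (by omega)
    have h2 : irem N k 2 ≠ 0 := hmin 2 (by norm_num) (by omega)
    refine le_trans ?_ (three_step k N hk hkN h1 h2)
    rw [Finset.sum_range_succ', Finset.sum_range_succ']
    have hI2 : Finset.Icc 1 2 = {1, 2} := by decide
    have hD1 : (∑ j ∈ Finset.Icc 1 (0 + 1), (idiv N k j : ℚ)) = (idiv N k 1 : ℚ) := by
      simp
    have hD2 : (∑ j ∈ Finset.Icc 1 (0 + 1 + 1), (idiv N k j : ℚ)) = (idiv N k 1 : ℚ) + idiv N k 2 := by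
      rw [show (0 + 1 + 1 : ℕ) = 2 from rfl, hI2, Finset.sum_pair (by norm_num)]
    rw [hD1, hD2]
    have hd3 : 1 ≤ idiv N k 3 := by
      rw [show (3 : ℕ) = 1 + 2 from rfl, idiv_add_two, if_neg h2]
      have hlt : irem N k 2 ≤ irem N k 1 := irem_add_two_le N k 0
      exact Nat.div_pos hlt (Nat.pos_of_ne_zero h2)
    have hc : (0 : ℚ) < (idiv N k 1 : ℚ) + idiv N k 2 + 1 := by positivity
    have hI3 : Finset.Icc 1 3 = {1, 2, 3} := by decide
    have hD3 : (idiv N k 1 : ℚ) + idiv N k 2 + 1 ≤ ∑ j ∈ Finset.Icc 1 3, (idiv N k j : ℚ) := by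
      rw [hI3, Finset.sum_insert (by decide), Finset.sum_pair (by norm_num)]
      have : (1 : ℚ) ≤ (idiv N k 3 : ℚ) := by exact_mod_cast hd3
      linarith
    have hterm : ∀ i ∈ Finset.range (m + 1),
        ((irem N k (i + 1 + 1) : ℚ) - irem N k (i + 1 + 1 + 1)) /
          (∑ j ∈ Finset.Icc 1 (i + 1 + 1 + 1), (idiv N k j : ℚ))
        ≤ ((irem N k (i + 2) : ℚ) - irem N k (i + 2 + 1)) / ((idiv N k 1 : ℚ) + idiv N k 2 + 1) := by
      intro i _
      have hnum : (0 : ℚ) ≤ (irem N k (i + 2) : ℚ) - irem N k (i + 2 + 1) := by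
        have := irem_add_two_le N k (i + 1)
        have h' : (irem N k (i + 1 + 2) : ℚ) ≤ (irem N k (i + 1 + 1) : ℚ) := by exact_mod_cast this
        have e : i + 2 + 1 = i + 1 + 2 := by ring
        rw [e]
        linarith
      have hDi : (idiv N k 1 : ℚ) + idiv N k 2 + 1 ≤ ∑ j ∈ Finset.Icc 1 (i + 1 + 1 + 1), (idiv N k j : ℚ) :=
        le_trans hD3 (sum_idiv_mono N k (by omega))
      exact div_le_div_of_nonneg_left hnum hc hDi
    have hsumle := Finset.sum_le_sum hterm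
    have htel : ∑ i ∈ Finset.range (m + 1),
        ((irem N k (i + 2) : ℚ) - irem N k (i + 2 + 1)) / ((idiv N k 1 : ℚ) + idiv N k 2 + 1)
        = (irem N k 2 : ℚ) / ((idiv N k 1 : ℚ) + idiv N k 2 + 1) := by
      rw [← Finset.sum_div]
      congr 1
      have := Finset.sum_range_sub' (fun i => (irem N k (i + 2) : ℚ)) (m + 1)
      have e : ∀ i, i + 1 + 2 = i + 2 + 1 := fun i => by ring
      simp only [e] at this
      rw [this]
      have hz : irem N k (m + 1 + 2) = 0 := hzero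
      simp [hz]
    rw [htel] at hsumle
    simp only [zero_add] at hsumle ⊢
    linarith

end Groth.Agent.H90
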