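import Mathlib

set_option autoImplicit false

universe u

namespace Groth.Agent.H90

open Cardinal

theorem exists_ringEquiv_of_transcendenceBasis {R K L ι κ : Type*} [CommRing R] [Field K]
    [Field L] [Algebra R K] [Algebra R L] [IsAlgClosed K] [IsAlgClosed L] (v : ι → K)
    (w : κ → L) (e : ι ≃ κ) (hv : IsTranscendenceBasis R v) (hw : IsTranscendenceBasis R w) :
    ∃ f : K ≃+* L, ∀ r : R, f (algebraMap R K r) = algebraMap R L r := by
  let := IsAlgClosed.isAlgClosure_of_transcendence_basis v hv
  let := IsAlgClosed.isAlgClosure_of_transcendence_basis w hw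
  let e' : Algebra.adjoin R (Set.range v) ≃ₐ[R] Algebra.adjoin R (Set.range w) :=
    hv.1.aevalEquiv.symm.trans ((MvPolynomial.renameEquiv R e).trans hw.1.aevalEquiv)
  refine ⟨IsAlgClosure.equivOfEquiv K L e'.toRingEquiv, fun r => ?_⟩
  rw [IsScalarTower.algebraMap_apply R (Algebra.adjoin R (Set.range v)) K,
    IsAlgClosure.equivOfEquiv_algebraMap,
    IsScalarTower.algebraMap_apply R (Algebra.adjoin R (Set.range w)) L]
  congr 1
  exact e'.commutes r

/-- Two algebraically closed extensions of `R` of the same cardinality, bigger than that of `R`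
and uncountable, are isomorphic over `R`. -/
theorem exists_ringEquiv_of_card {R K L : Type u} [Field R] [Field K]
    [Field L] [Algebra R K] [Algebra R L] [IsAlgClosed K] [IsAlgClosed L]
    (hR : #R < #K) (hK : ℵ₀ < #K) (hKL : #K = #L) :
    ∃ f : K ≃+* L, ∀ r : R, f (algebraMap R K r) = algebraMap R L r := by
  obtain ⟨s, hs⟩ := exists_isTranscendenceBasis R K
  obtain ⟨t, ht⟩ := exists_isTranscendenceBasis R L
  have h1 : #K = #s := by
    apply le_antisymm
    · have := IsAlgClosed.cardinal_le_max_transcendence_basis' _ hs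
      by_contra hlt
      rw [not_le] at hlt
      exact absurd this (not_le.mpr (max_lt (max_lt hR hlt) hK))
    · exact mk_set_le s
  have h2 : #L = #t := by
    apply le_antisymm
    · have := IsAlgClosed.cardinal_le_max_transcendence_basis' _ ht
      by_contra hlt
      rw [not_le] at hlt
      rw [← hKL] at hlt this
      exact absurd this (not_le.mpr (max_lt (max_lt hR hlt) hK))
    · exact mk_set_le t
  have h3 : #s = #t := by rw [← h1, ← h2, hKL]
  obtain ⟨e⟩ := Cardinal.eq.mp h3
  exact exists_ringEquiv_of_transcendenceBasis _ _ e hs ht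

/-- Given two embeddings `σ τ : k → K` of fields, there is an algebraically closed extension
`ι : K → k'` and an automorphism `α` of `k'` with `α ∘ ι ∘ τ = ι ∘ σ`. -/
theorem exists_algClosed_aut {k K : Type u} [Field k] [Field K] (σ τ : k →+* K) :
    ∃ (k' : Type u) (_ : Field k') (_ : IsAlgClosed k') (ι : K →+* k') (α : k' ≃+* k'),
      ∀ x, α (ι (τ x)) = ι (σ x) := by
  let I : Type u := Set (K ⊕ ULift.{u} ℕ)
  let F := FractionRing (MvPolynomial I K)
  let k' := AlgebraicClosure F
  let ι : K →+* k' := (algebraMap F k').comp ((algebraMap (MvPolynomial I K) F).comp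
    (algebraMap K (MvPolynomial I K)))
  have hI1 : #K < #I := by
    calc #K ≤ #(K ⊕ ULift.{u} ℕ) := by
          rw [mk_sum]; simp
      _ < #I := by
          rw [mk_set]; exact cantor _
  have hI2 : ℵ₀ < #I := by
    calc ℵ₀ ≤ #(K ⊕ ULift.{u} ℕ) := by
          rw [mk_sum]; simp
      _ < #I := by
          rw [mk_set]; exact cantor _
  have hI3 : #I ≤ #k' := by
    refine mk_le_of_injective (f := fun i : I =>
      algebraMap F k' (algebraMap (MvPolynomial I K) F (MvPolynomial.X i))) ?_
    intro i j hij
    have h1 := (algebraMap F k').injective hij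
    have h2 := IsFractionRing.injective (MvPolynomial I K) F h1
    exact MvPolynomial.X_injective h2
  have hk : #k ≤ #K := mk_le_of_injective τ.injective
  obtain ⟨f, hf⟩ := @exists_ringEquiv_of_card k k' k' _ _ _ (ι.comp τ).toAlgebra
    (ι.comp σ).toAlgebra _ _ (lt_of_le_of_lt hk (lt_of_lt_of_le hI1 hI3))
    (lt_of_lt_of_le hI2 hI3) rfl
  exact ⟨k', inferInstance, inferInstance, ι, f, hf⟩

end Groth.Agent.H90
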