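import Mathlib
import Groth.Prelude.Def_HTop

set_option autoImplicit false

universe w u

namespace Groth.Agent.H90

open CategoryTheory CategoryTheory.Limits AlgebraicGeometry

theorem fpqc_of_standard_fpqc_refining_affines {T : Scheme.{u}} (E : PreZeroHypercover.{w} T)
    (hflat : ∀ i, Flat (E.f i))
    (href : ∀ (Z : Scheme.{u}) [IsAffine Z] (h : Z ⟶ T), ∃ F : PreZeroHypercover.{0} Z,
      Finite F.I₀ ∧ (∀ j, IsAffine (F.X j)) ∧ (∀ j, Flat (F.f j)) ∧
      (∀ z : Z, ∃ (j : F.I₀) (x : F.X j), F.f j x = z) ∧ HTop.RefinesOver h F E) :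
    E.presieve₀ ∈ Scheme.fpqcPrecoverage T := by
  refine ⟨?_, ?_⟩
  · rw [Scheme.presieve₀_mem_qcPrecoverage_iff]
    refine ⟨fun {U} hU => ?_⟩
    have hUaff : IsAffine (U : Scheme.{u}) := hU
    obtain ⟨F, hfin, haff, -, hsurj, href'⟩ := href U U.ι
    choose a t ht using href'
    have hg : IsCompactOpenCovered (fun j => ⇑(F.f j ≫ U.ι)) (U : Set T) := by
      refine IsCompactOpenCovered.of_finite (κ := F.I₀) id (fun j => ⊤) (fun j => ?_) ?_
      · have := haff j
        exact isCompact_univ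
      · apply subset_antisymm
        · intro x hx
          obtain ⟨j, hj⟩ := Set.mem_iUnion.1 hx
          obtain ⟨y, -, rfl⟩ := hj
          show (F.f j ≫ U.ι) y ∈ (U : Set T)
          rw [Scheme.Hom.comp_apply]
          have := Set.mem_range_self (f := U.ι) (F.f j y)
          rwa [Scheme.Opens.range_ι] at this
        · intro x hx
          have hx' : x ∈ Set.range U.ι := by rw [Scheme.Opens.range_ι]; exact hx
          obtain ⟨z, rfl⟩ := hx'
          obtain ⟨j, y, hy⟩ := hsurj z
          refine Set.mem_iUnion.2 ⟨j, y, trivial, ?_⟩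
          show (F.f j ≫ U.ι) y = U.ι z
          rw [Scheme.Hom.comp_apply, hy]
    exact IsCompactOpenCovered.of_comp (fun j => ⇑(F.f j ≫ U.ι)) (a := a) (fun j => ⇑(t j))
      (fun j => (t j).continuous)
      (fun j => by
        funext y
        show (F.f j ≫ U.ι) y = E.f (a j) (t j y)
        rw [← ht j, Scheme.Hom.comp_apply])
      (fun i => (E.f i).continuous) U.2 hg
  · rw [Scheme.presieve₀_mem_precoverage_iff]
    refine ⟨fun x => ?_, hflat⟩
    obtain ⟨_, ⟨U₀, hU, rfl⟩, hxU, -⟩ := T.isBasis_affineOpens.exists_subset_of_mem_open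
      (Set.mem_univ x) isOpen_univ
    let U : T.Opens := U₀
    have hUaff : IsAffine (U : Scheme.{u}) := hU
    obtain ⟨F, -, -, -, hsurj, href'⟩ := href U U.ι
    have hx' : x ∈ Set.range U.ι := by rw [Scheme.Opens.range_ι]; exact hxU
    obtain ⟨z, rfl⟩ := hx'
    obtain ⟨j, y, hy⟩ := hsurj z
    obtain ⟨i, t, ht⟩ := href' j
    refine ⟨i, t y, ?_⟩
    rw [← Scheme.Hom.comp_apply, ht, Scheme.Hom.comp_apply, hy]

end Groth.Agent.H90
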