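import Groth.Agent.H22.DVRUC
import Groth.Agent.H50.DVRSp1
import Groth.Agent.H12.RedClosure
import Groth.Agent.H63.EtaEtA
import Groth.Prelude.Def_W4c2lssmoduliGProp

/-! `G`-universally closed morphisms: closed image and properness of the image (S14998).
Includes a DVR criterion for universal closedness where lifts are only required after a dominating
extension of discrete valuation rings. -/

set_option autoImplicit false
set_option linter.style.haveILetI false
universe u

open CategoryTheory CategoryTheory.Limits MonoidalCategory CartesianMonoidalCategory MonObj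
  AlgebraicGeometry

namespace Groth.Agent.H90.GUnivClosed

section criterion

/-- The existence part of the valuative criterion for discrete valuation rings, where the lift is
only required to exist after a dominating extension of discrete valuation rings. -/
def DVRExistExt {X S : Scheme.{u}} (f : X ⟶ S) : Prop :=
  ∀ (A : Type u) [CommRing A] [IsDomain A] [IsDiscreteValuationRing A]
    (x : Spec (CommRingCat.of (FractionRing A)) ⟶ X) (y : Spec (CommRingCat.of A) ⟶ S),
    x ≫ f = Spec.map (CommRingCat.ofHom (algebraMap A (FractionRing A))) ≫ y →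
    ∃ (A' : Type u) (_ : CommRing A') (_ : IsDomain A') (_ : IsDiscreteValuationRing A')
      (K' : Type u) (_ : Field K') (_ : Algebra A' K')
      (e : Spec (CommRingCat.of A') ⟶ Spec (CommRingCat.of A))
      (eK : Spec (CommRingCat.of K') ⟶ Spec (CommRingCat.of (FractionRing A)))
      (l : Spec (CommRingCat.of A') ⟶ X),
      e.base (IsLocalRing.closedPoint A') = IsLocalRing.closedPoint A ∧
      Spec.map (CommRingCat.ofHom (algebraMap A' K')) ≫ e =
        eK ≫ Spec.map (CommRingCat.ofHom (algebraMap A (FractionRing A))) ∧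
      l ≫ f = e ≫ y ∧
      Spec.map (CommRingCat.ofHom (algebraMap A' K')) ≫ l = eK ≫ x

lemma DVRExistExt.baseChange {X S T : Scheme.{u}} {f : X ⟶ S} (H : DVRExistExt f) (h : T ⟶ S) :
    DVRExistExt (pullback.snd f h) := by
  intro A _ _ _ x y hxy
  obtain ⟨A', i1, i2, i3, K', i4, i5, e, eK, l, he, hc, hl1, hl2⟩ :=
    H A (x ≫ pullback.fst f h) (y ≫ h) (by
      rw [Category.assoc, pullback.condition, ← Category.assoc, hxy, Category.assoc])
  refine ⟨A', i1, i2, i3, K', i4, i5, e, eK, pullback.lift l (e ≫ y) (by
    rw [hl1, Category.assoc]), he, hc, pullback.lift_snd _ _ _, ?_⟩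
  apply pullback.hom_ext
  · rw [Category.assoc, pullback.lift_fst, hl2, Category.assoc]
  · rw [Category.assoc, pullback.lift_snd, Category.assoc, hxy, ← Category.assoc, hc,
      Category.assoc]

/-- A morphism locally of finite type to a locally Noetherian scheme with the extended DVR lifting
property is specializing. -/
theorem specializingMap_of_dvrExistExt {X Y : Scheme.{u}} [IsLocallyNoetherian Y] (g : X ⟶ Y)
    [LocallyOfFiniteType g] (H : DVRExistExt g) : SpecializingMap g.base := by
  intro z w hzw
  by_cases hw : w = g.base z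
  · exact ⟨z, specializes_rfl, hw.symm⟩
  obtain ⟨A, h, hA, hcl, hcomm⟩ :=
    Groth.Agent.H22.DVRSpec.exists_dvr_through_specialization g z w hzw hw
  let j : Spec (X.residueField z) ⟶ Spec (CommRingCat.of A) :=
    Spec.map (CommRingCat.ofHom A.subtype)
  let e' : X.residueField z →+* FractionRing A :=
    ((FractionRing.algEquiv A (X.residueField z)).symm : X.residueField z →+* FractionRing A)
  have hι : Spec.map (CommRingCat.ofHom (algebraMap A (FractionRing A))) =
      Spec.map (CommRingCat.ofHom e') ≫ j := by
    change _ = Spec.map (CommRingCat.ofHom e') ≫ Spec.map (CommRingCat.ofHom A.subtype)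
    rw [← Spec.map_comp]
    congr 1
    ext a
    exact ((FractionRing.algEquiv A (X.residueField z)).symm.commutes a).symm
  obtain ⟨A', i1, i2, i3, K', i4, i5, e, eK, l, he, hc, hl1, hl2⟩ :=
    H A (Spec.map (CommRingCat.ofHom e') ≫ X.fromSpecResidueField z) h (by
      rw [Category.assoc, ← hcomm, hι, Category.assoc]; rfl)
  refine ⟨l.base (IsLocalRing.closedPoint A'), ?_, ?_⟩
  · -- `z ⤳ l (closed point)`
    have hgen : l.base ((Spec.map (CommRingCat.ofHom (algebraMap A' K'))).base
        (IsLocalRing.closedPoint K')) = z := by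
      have h1 := congrArg (fun φ => φ.base (IsLocalRing.closedPoint K')) hl2
      exact h1.trans (Scheme.fromSpecResidueField_apply z _)
    have hsp := (IsLocalRing.specializes_closedPoint
      ((Spec.map (CommRingCat.ofHom (algebraMap A' K'))).base
        (IsLocalRing.closedPoint K'))).map l.base.hom.continuous
    rw [hgen] at hsp
    exact hsp
  · have h1 := congrArg (fun φ => φ.base (IsLocalRing.closedPoint A')) hl1
    change g.base (l.base _) = h.base (e.base _) at h1
    rw [h1, he, hcl]

/-- **Noetherian valuative criterion with extensions**: over a locally Noetherian base, a morphism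
of finite type satisfying the existence part of the valuative criterion for discrete valuation
rings after dominating extensions is universally closed. -/
theorem universallyClosed_of_dvrExistExt {X S : Scheme.{u}} [IsLocallyNoetherian S] (f : X ⟶ S)
    [LocallyOfFiniteType f] [QuasiCompact f] (H : DVRExistExt f) : UniversallyClosed f := by
  apply Groth.Agent.H22.UCAn.universallyClosed_of_affineSpace
  intro n
  have : IsLocallyNoetherian 𝔸(ULift.{u} (Fin n); S) :=
    LocallyOfFiniteType.isLocallyNoetherian (𝔸(ULift.{u} (Fin n); S) ↘ S)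
  exact (isClosedMap_iff_specializingMap _).mpr
    (specializingMap_of_dvrExistExt _ (H.baseChange _))

end criterion

section main

variable {k : Type u} [Field k]
variable {G R S T : Over (Spec (CommRingCat.of k))} [GrpObj G]

/-- `A`-points of `S` whose generic point lifts to `R` lift to `R` (`A` a discrete valuation
ring). -/
lemma exists_lift_of_generic (a : AlgGrp.Action G R) (f : R ⟶ S) (q : S ⟶ T) [IsSeparated q.left]
    (hf : W4c2lssmoduli.IsInvariantMor a f) (hp : W4c2lssmoduli.IsGUnivClosed a (f ≫ q))
    (A : Type u) [CommRing A] [IsDomain A] [IsDiscreteValuationRing A]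
    (ξ : Spec (CommRingCat.of (FractionRing A)) ⟶ R.left) (h : Spec (CommRingCat.of A) ⟶ S.left)
    (hξ : ξ ≫ f.left = Spec.map (CommRingCat.ofHom (algebraMap A (FractionRing A))) ≫ h) :
    ∃ i : Spec (CommRingCat.of A) ⟶ R.left, i ≫ f.left = h := by
  let sA : Spec (CommRingCat.of A) ⟶ Spec (CommRingCat.of k) := h ≫ S.hom
  let g : Over.mk (Spec.map (CommRingCat.ofHom (algebraMap A (FractionRing A))) ≫ sA) ⟶ R :=
    Over.homMk ξ (by
      change ξ ≫ R.hom = Spec.map (CommRingCat.ofHom (algebraMap A (FractionRing A))) ≫ h ≫ S.hom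
      rw [← Over.w f, ← Category.assoc, hξ, Category.assoc])
  let hS : Over.mk sA ⟶ S := Over.homMk h rfl
  have hcomm : g ≫ (f ≫ q) =
      Over.homMk (Spec.map (CommRingCat.ofHom (algebraMap A (FractionRing A)))) rfl ≫
        (hS ≫ q) := by
    ext
    change ξ ≫ f.left ≫ q.left = Spec.map _ ≫ h ≫ q.left
    rw [← Category.assoc, hξ, Category.assoc]
  obtain ⟨i, gm, hi1, hi2⟩ := hp.2 A (FractionRing A) sA g (hS ≫ q) hcomm
  refine ⟨i.left, ?_⟩
  have hgen : Spec.map (CommRingCat.ofHom (algebraMap A (FractionRing A))) ≫ (i.left ≫ f.left) =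
      Spec.map (CommRingCat.ofHom (algebraMap A (FractionRing A))) ≫ h := by
    have h0 : (lift gm g ≫ a.act) ≫ f = g ≫ f := by
      rw [Category.assoc, hf, lift_snd_assoc]
    have h1 := congrArg (fun φ => (φ ≫ f).left) hi2
    simp only [h0] at h1
    rw [← hξ]
    exact h1
  have hbase : (i.left ≫ f.left) ≫ q.left = h ≫ q.left := by
    have h1 := congrArg (fun φ => φ.left) hi1
    simpa [hS] using h1
  let Sq : ValuativeCommSq q.left :=
    { R := A
      K := FractionRing A
      i₁ := ξ ≫ f.left
      i₂ := h ≫ q.left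
      commSq := ⟨by rw [hξ, Category.assoc]⟩ }
  have hU := IsSeparated.valuativeCriterion q.left Sq
  let l1 : Sq.commSq.LiftStruct := ⟨i.left ≫ f.left, hgen.trans hξ.symm, hbase⟩
  let l2 : Sq.commSq.LiftStruct := ⟨h, hξ.symm, rfl⟩
  have := congrArg CommSq.LiftStruct.l (hU.elim l1 l2)
  exact this

/-- The image of `f` is closed. -/
theorem isClosed_range [LocallyOfFiniteType R.hom] [CompactSpace ↥R.left]
    [LocallyOfFiniteType S.hom]
    (a : AlgGrp.Action G R) (f : R ⟶ S) (q : S ⟶ T) [IsSeparated q.left]
    (hf : W4c2lssmoduli.IsInvariantMor a f) (hp : W4c2lssmoduli.IsGUnivClosed a (f ≫ q)) :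
    IsClosed (Set.range f.left.base) := by
  haveI : IsLocallyNoetherian S.left := LocallyOfFiniteType.isLocallyNoetherian S.hom
  haveI : LocallyOfFiniteType (f.left ≫ S.hom) := by rw [Over.w f]; infer_instance
  haveI : LocallyOfFiniteType f.left := locallyOfFiniteType_of_comp f.left S.hom
  haveI : QuasiCompact f.left := inferInstance
  rw [← closure_subset_iff_isClosed]
  intro s' hs'
  obtain ⟨A, i1, i2, i3, h, ξ, h1, h2⟩ :=
    Groth.Agent.H50.DVRSp.exists_dvr_of_mem_closure f.left s' hs'
  obtain ⟨i, hi⟩ := exists_lift_of_generic a f q hf hp A ξ h h1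
  refine ⟨i.base (IsLocalRing.closedPoint A), ?_⟩
  rw [← h2, ← hi]
  rfl

/-- In a discrete valuation ring the generic point is not the closed point. -/
lemma closedPoint_ne_generic (A : Type u) [CommRing A] [IsDomain A] [IsDiscreteValuationRing A] :
    IsLocalRing.closedPoint A ≠
      (Spec.map (CommRingCat.ofHom (algebraMap A (FractionRing A)))).base
        (IsLocalRing.closedPoint (FractionRing A)) := by
  intro h
  have h1 : (IsLocalRing.closedPoint A).asIdeal =
      Ideal.comap (algebraMap A (FractionRing A))
        (IsLocalRing.closedPoint (FractionRing A)).asIdeal := congrArg PrimeSpectrum.asIdeal h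
  have h2 : (IsLocalRing.closedPoint (FractionRing A)).asIdeal = ⊥ :=
    IsLocalRing.maximalIdeal_eq_bot
  rw [h2] at h1
  have h3 : Ideal.comap (algebraMap A (FractionRing A)) ⊥ = ⊥ := by
    rw [← RingHom.ker_eq_comap_bot]
    exact (RingHom.injective_iff_ker_eq_bot _).mp (IsFractionRing.injective A (FractionRing A))
  rw [h3] at h1
  exact IsDiscreteValuationRing.not_a_field A h1

/-- A morphism from a reduced scheme with range in a closed set factors through the reduced
closed subscheme on that set. -/
lemma exists_lift_reduced {W X : Scheme.{u}} [IsReduced W] (Z : TopologicalSpace.Closeds X)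
    (h : W ⟶ X) (hZ : Set.range h.base ⊆ (Z : Set X)) :
    ∃ l : W ⟶ (Scheme.IdealSheafData.vanishingIdeal Z).subscheme,
      l ≫ (Scheme.IdealSheafData.vanishingIdeal Z).subschemeι = h := by
  refine ⟨IsClosedImmersion.lift (Scheme.IdealSheafData.vanishingIdeal Z).subschemeι h ?_,
    IsClosedImmersion.lift_fac _ _ _⟩
  rw [Scheme.IdealSheafData.ker_subschemeι, Groth.Agent.H12.RedClosure.ker_eq_vanishingIdeal]
  apply Scheme.IdealSheafData.vanishingIdeal_antimono
  exact closure_minimal hZ Z.isClosed

/-- Lifting a DVR test diagram whose generic point comes from `R` to the reduced image. -/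
lemma exists_lift_image (a : AlgGrp.Action G R) (f : R ⟶ S) (q : S ⟶ T)
    (hf : W4c2lssmoduli.IsInvariantMor a f) (hp : W4c2lssmoduli.IsGUnivClosed a (f ≫ q))
    (Zc : TopologicalSpace.Closeds ↥S.left) (hZc : Set.range f.left.base ⊆ (Zc : Set S.left))
    (A' : Type u) [CommRing A'] [IsDomain A'] [IsDiscreteValuationRing A']
    (K' : Type u) [Field K'] [Algebra A' K'] [IsFractionRing A' K']
    (ρR : Spec (CommRingCat.of K') ⟶ R.left) (eY : Spec (CommRingCat.of A') ⟶ T.left)
    (hkey : ρR ≫ f.left ≫ q.left = Spec.map (CommRingCat.ofHom (algebraMap A' K')) ≫ eY) :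
    ∃ l : Spec (CommRingCat.of A') ⟶ (Scheme.IdealSheafData.vanishingIdeal Zc).subscheme,
      l ≫ (Scheme.IdealSheafData.vanishingIdeal Zc).subschemeι ≫ q.left = eY ∧
      Spec.map (CommRingCat.ofHom (algebraMap A' K')) ≫ l ≫
        (Scheme.IdealSheafData.vanishingIdeal Zc).subschemeι = ρR ≫ f.left := by
  let sA : Spec (CommRingCat.of A') ⟶ Spec (CommRingCat.of k) := eY ≫ T.hom
  let g : Over.mk (Spec.map (CommRingCat.ofHom (algebraMap A' K')) ≫ sA) ⟶ R :=
    Over.homMk ρR (by
      change ρR ≫ R.hom = Spec.map (CommRingCat.ofHom (algebraMap A' K')) ≫ eY ≫ T.hom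
      rw [← Over.w f, ← Over.w q, ← Category.assoc, ← Category.assoc, ← Category.assoc,
        Category.assoc ρR, hkey])
  let hT : Over.mk sA ⟶ T := Over.homMk eY rfl
  have hcomm : g ≫ (f ≫ q) =
      Over.homMk (Spec.map (CommRingCat.ofHom (algebraMap A' K'))) rfl ≫ hT := by
    ext
    exact hkey
  obtain ⟨i, gm, hi1, hi2⟩ := hp.2 A' K' sA g hT hcomm
  haveI : IsReduced (Over.mk sA).left := (inferInstance : IsReduced (Spec (CommRingCat.of A')))
  obtain ⟨l, hl⟩ := exists_lift_reduced Zc (i.left ≫ f.left) (by
    rintro _ ⟨t, rfl⟩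
    exact hZc ⟨i.left.base t, rfl⟩)
  refine ⟨l, ?_, ?_⟩
  · rw [← Category.assoc, hl]
    have h1 := congrArg (fun φ => φ.left) hi1
    simpa [hT] using h1
  · rw [hl]
    have h0 : (lift gm g ≫ a.act) ≫ f = g ≫ f := by
      rw [Category.assoc, hf, lift_snd_assoc]
    have h1 := congrArg (fun φ => (φ ≫ f).left) hi2
    simp only [h0] at h1
    exact h1

/-- The structure morphism of the reduced image has the extended DVR lifting property. -/
theorem dvrExistExt_image [LocallyOfFiniteType R.hom] [CompactSpace ↥R.left]
    [LocallyOfFiniteType S.hom]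
    (a : AlgGrp.Action G R) (f : R ⟶ S) (q : S ⟶ T) [IsSeparated q.left]
    (hf : W4c2lssmoduli.IsInvariantMor a f) (hp : W4c2lssmoduli.IsGUnivClosed a (f ≫ q)) :
    DVRExistExt ((Scheme.IdealSheafData.vanishingIdeal
      (⟨closure (Set.range f.left.base), isClosed_closure⟩ :
        TopologicalSpace.Closeds ↥S.left)).subschemeι ≫ q.left) := by
  intro A _ _ _ x y hxy
  haveI : IsLocallyNoetherian S.left := LocallyOfFiniteType.isLocallyNoetherian S.hom
  haveI : LocallyOfFiniteType (f.left ≫ S.hom) := by rw [Over.w f]; infer_instance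
  haveI : LocallyOfFiniteType f.left := locallyOfFiniteType_of_comp f.left S.hom
  have hcl : closure (Set.range f.left.base) = Set.range f.left.base :=
    (isClosed_range a f q hf hp).closure_eq
  generalize hZc : (⟨closure (Set.range f.left.base), isClosed_closure⟩ :
    TopologicalSpace.Closeds ↥S.left) = Zc at x hxy ⊢
  have hZc' : (Zc : Set S.left) = Set.range f.left.base := by rw [← hZc]; exact hcl
  -- a point of `R` over the generic point
  have hz : ((Scheme.IdealSheafData.vanishingIdeal Zc).subschemeι).base
      (x.base (IsLocalRing.closedPoint _)) ∈ Set.range f.left.base := by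
    rw [← hZc']
    have h1 : Set.range (Scheme.IdealSheafData.vanishingIdeal Zc).subschemeι.base =
        (Zc : Set S.left) := by
      rw [Scheme.IdealSheafData.range_subschemeι,
        Scheme.IdealSheafData.coe_support_vanishingIdeal]
    rw [← h1]
    exact ⟨_, rfl⟩
  obtain ⟨r, hr⟩ := hz
  obtain ⟨w, hw1, hw2⟩ := Scheme.Pullback.exists_preimage_pullback
    (f := x ≫ (Scheme.IdealSheafData.vanishingIdeal Zc).subschemeι) (g := f.left)
    (IsLocalRing.closedPoint _) r hr.symm
  -- the morphism `W ⟶ Spec A` is locally of finite type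
  haveI : IsOpenImmersion (Spec.map (CommRingCat.ofHom (algebraMap A (FractionRing A)))) := by
    obtain ⟨ϖ, hϖ⟩ := IsDiscreteValuationRing.exists_irreducible A
    haveI := Groth.Agent.H63.EtaEt.isLocalization_away_of_dvr A ϖ hϖ (FractionRing A)
    exact IsOpenImmersion.of_isLocalization ϖ
  have hsp : (pullback.fst (x ≫ (Scheme.IdealSheafData.vanishingIdeal Zc).subschemeι) f.left ≫
      Spec.map (CommRingCat.ofHom (algebraMap A (FractionRing A)))).base w ⤳
      IsLocalRing.closedPoint A := IsLocalRing.specializes_closedPoint _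
  have hne : IsLocalRing.closedPoint A ≠
      (pullback.fst (x ≫ (Scheme.IdealSheafData.vanishingIdeal Zc).subschemeι) f.left ≫
      Spec.map (CommRingCat.ofHom (algebraMap A (FractionRing A)))).base w := by
    rw [Scheme.Hom.comp_base, TopCat.comp_app]
    erw [hw1]
    exact closedPoint_ne_generic A
  obtain ⟨A', e, hA', hcl', hcomm⟩ :=
    Groth.Agent.H22.DVRSpec.exists_dvr_through_specialization _ w _ hsp hne
  haveI := hA'
  obtain ⟨l, hl1, hl2⟩ := exists_lift_image a f q hf hp Zc (by rw [hZc'])
    A' ((pullback (x ≫ (Scheme.IdealSheafData.vanishingIdeal Zc).subschemeι) f.left).residueField w)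
    ((pullback (x ≫ (Scheme.IdealSheafData.vanishingIdeal Zc).subschemeι)
      f.left).fromSpecResidueField w ≫ pullback.snd _ _) (e ≫ y) (by
      rw [Category.assoc, ← pullback.condition_assoc, Category.assoc, hxy]
      have := congrArg (fun φ => φ ≫ y) hcomm
      simp only [Category.assoc] at this
      exact this.symm)
  refine ⟨A', inferInstance, inferInstance, hA',
    (pullback (x ≫ (Scheme.IdealSheafData.vanishingIdeal Zc).subschemeι) f.left).residueField w,
    inferInstance, inferInstance, e,
    (pullback (x ≫ (Scheme.IdealSheafData.vanishingIdeal Zc).subschemeι)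
      f.left).fromSpecResidueField w ≫ pullback.fst _ _, l, hcl', ?_, hl1, ?_⟩
  · rw [Category.assoc]
    exact hcomm
  · rw [← cancel_mono (Scheme.IdealSheafData.vanishingIdeal Zc).subschemeι, Category.assoc, hl2,
      Category.assoc, Category.assoc, Category.assoc, pullback.condition]

/-- **S14998.** -/
theorem S14998_aux (k : Type u) [Field k]
    (G R S T : Over (Spec (CommRingCat.of k))) [GrpObj G]
    [LocallyOfFiniteType R.hom] [CompactSpace ↥R.left] [LocallyOfFiniteType S.hom]
    [CompactSpace ↥S.left] [LocallyOfFiniteType T.hom] [CompactSpace ↥T.left]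
    (a : AlgGrp.Action G R) (f : R ⟶ S) (q : S ⟶ T) [IsSeparated q.left]
    (hf : W4c2lssmoduli.IsInvariantMor a f) (hp : W4c2lssmoduli.IsGUnivClosed a (f ≫ q)) :
    IsClosed (Set.range f.left.base) ∧
      IsProper ((Scheme.IdealSheafData.vanishingIdeal
          (⟨closure (Set.range f.left.base), isClosed_closure⟩ :
            TopologicalSpace.Closeds ↥S.left)).subschemeι ≫ q.left) := by
  refine ⟨isClosed_range a f q hf hp, ?_⟩
  haveI : IsLocallyNoetherian T.left := LocallyOfFiniteType.isLocallyNoetherian T.hom
  haveI : IsLocallyNoetherian S.left := LocallyOfFiniteType.isLocallyNoetherian S.hom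
  haveI : LocallyOfFiniteType (q.left ≫ T.hom) := by rw [Over.w q]; infer_instance
  haveI : LocallyOfFiniteType q.left := locallyOfFiniteType_of_comp q.left T.hom
  haveI : QuasiCompact q.left := inferInstance
  haveI : UniversallyClosed ((Scheme.IdealSheafData.vanishingIdeal
          (⟨closure (Set.range f.left.base), isClosed_closure⟩ :
            TopologicalSpace.Closeds ↥S.left)).subschemeι ≫ q.left) :=
    universallyClosed_of_dvrExistExt _ (dvrExistExt_image a f q hf hp)
  exact {}

end main

end Groth.Agent.H90.GUnivClosed
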