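import Groth.Agent.H90.GUnivClosed
import Groth.Agent.H13.NagataDescent
import Groth.Agent.H38.FieldNagata

/-! Invariant functions of a `G`-universally closed morphism to an affine scheme of finite type
over a field form a finite module (S14999). -/

set_option autoImplicit false
set_option linter.style.haveILetI false
universe u

open CategoryTheory CategoryTheory.Limits MonoidalCategory CartesianMonoidalCategory MonObj
  AlgebraicGeometry

namespace Groth.Agent.H90.GUnivClosedInv

section toSpec

/-- The morphism to an affine scheme attached to a ring homomorphism to the global sections. -/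
noncomputable def toSpec {X : Scheme.{u}} {R : CommRingCat.{u}} (φ : R ⟶ Γ(X, ⊤)) : X ⟶ Spec R :=
  X.toSpecΓ ≫ Spec.map φ

lemma toSpec_appTop {X : Scheme.{u}} {R : CommRingCat.{u}} (φ : R ⟶ Γ(X, ⊤)) :
    (Scheme.ΓSpecIso R).inv ≫ (toSpec φ).appTop = φ := by
  rw [toSpec, Scheme.Hom.comp_appTop, Scheme.toSpecΓ_appTop, ← Category.assoc,
    ← Scheme.ΓSpecIso_inv_naturality, Category.assoc, Iso.inv_hom_id, Category.comp_id]

lemma eq_toSpec {X : Scheme.{u}} {R : CommRingCat.{u}} (g : X ⟶ Spec R) :
    g = toSpec ((Scheme.ΓSpecIso R).inv ≫ g.appTop) := by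
  rw [toSpec, Spec.map_comp, ← Scheme.toSpecΓ_naturality_assoc,
    toSpecΓ_SpecMap_ΓSpecIso_inv, Category.comp_id]

lemma comp_toSpec {W X : Scheme.{u}} {R : CommRingCat.{u}} (h : W ⟶ X) (φ : R ⟶ Γ(X, ⊤)) :
    h ≫ toSpec φ = toSpec (φ ≫ h.appTop) := by
  rw [toSpec, toSpec, Scheme.toSpecΓ_naturality_assoc, Spec.map_comp]

lemma toSpec_comp_SpecMap {X : Scheme.{u}} {R R' : CommRingCat.{u}} (φ : R ⟶ Γ(X, ⊤))
    (ψ : R' ⟶ R) : toSpec φ ≫ Spec.map ψ = toSpec (ψ ≫ φ) := by
  rw [toSpec, toSpec, Category.assoc, Spec.map_comp]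

end toSpec

section main

variable (k : Type u) [Field k] (A : Type u) [CommRing A] [Algebra k A]

/-- `Spec A` over `k`. -/
noncomputable abbrev TA : Over (Spec (CommRingCat.of k)) :=
  Over.mk (Spec.map (CommRingCat.ofHom (algebraMap k A)))

/-- The affine line over `A`, over `k`. -/
noncomputable abbrev SA : Over (Spec (CommRingCat.of k)) :=
  Over.mk (Spec.map (CommRingCat.ofHom (algebraMap k (Polynomial A))))

/-- The projection of the affine line. -/
noncomputable def qA : SA k A ⟶ TA k A :=
  Over.homMk (Spec.map (CommRingCat.ofHom (Polynomial.C : A →+* Polynomial A))) (by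
    change Spec.map _ ≫ Spec.map _ = Spec.map _
    rw [← Spec.map_comp]
    rfl)

variable {k A}
variable {G Y : Over (Spec (CommRingCat.of k))} [GrpObj G]

/-- The ring homomorphism `A[X] ⟶ Γ(Y, ⊤)` attached to a global function. -/
noncomputable def phi (p : Y ⟶ TA k A) (s : Γ(Y.left, ⊤)) :
    CommRingCat.of (Polynomial A) ⟶ Γ(Y.left, ⊤) :=
  CommRingCat.ofHom
    (Polynomial.eval₂RingHom ((Scheme.ΓSpecIso (CommRingCat.of A)).inv ≫ p.left.appTop).hom s)

lemma C_phi (p : Y ⟶ TA k A) (s : Γ(Y.left, ⊤)) :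
    CommRingCat.ofHom (Polynomial.C : A →+* Polynomial A) ≫ phi p s =
      (Scheme.ΓSpecIso (CommRingCat.of A)).inv ≫ p.left.appTop := by
  ext a
  simp [phi]

lemma phi_X (p : Y ⟶ TA k A) (s : Γ(Y.left, ⊤)) : (phi p s).hom Polynomial.X = s := by
  simp [phi]

/-- The morphism `Y ⟶ 𝔸¹_A` attached to a global function. -/
noncomputable def fs (p : Y ⟶ TA k A) (s : Γ(Y.left, ⊤)) : Y ⟶ SA k A :=
  Over.homMk (toSpec (phi p s)) (by
    have h1 : (SA k A).hom = (qA k A).left ≫ (TA k A).hom := (Over.w (qA k A)).symm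
    rw [h1]
    change toSpec (phi p s) ≫ Spec.map (CommRingCat.ofHom Polynomial.C) ≫ _ = _
    rw [← Category.assoc, toSpec_comp_SpecMap, C_phi, ← eq_toSpec]
    exact Over.w p)

lemma fs_qA (p : Y ⟶ TA k A) (s : Γ(Y.left, ⊤)) : fs p s ≫ qA k A = p := by
  ext
  change toSpec (phi p s) ≫ Spec.map (CommRingCat.ofHom Polynomial.C) = _
  rw [toSpec_comp_SpecMap, C_phi, ← eq_toSpec]

lemma isInvariantMor_fs (a : AlgGrp.Action G Y) (p : Y ⟶ TA k A)
    (hp : W4c2lssmoduli.IsInvariantMor a p) (s : Γ(Y.left, ⊤))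
    (hs : a.act.left.appTop s = (snd G Y).left.appTop s) :
    W4c2lssmoduli.IsInvariantMor a (fs p s) := by
  change a.act ≫ fs p s = snd G Y ≫ fs p s
  ext1
  change a.act.left ≫ toSpec (phi p s) = (snd G Y).left ≫ toSpec (phi p s)
  rw [comp_toSpec, comp_toSpec]
  congr 1
  ext1
  apply Polynomial.ringHom_ext
  · intro c
    have h1 := congrArg (fun φ => φ.left.appTop) hp
    simp only [Over.comp_left, Scheme.Hom.comp_appTop] at h1
    have h2 := congrArg (fun φ => ((Scheme.ΓSpecIso (CommRingCat.of A)).inv ≫ φ).hom c) h1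
    simpa [phi] using h2
  · simpa [phi] using hs

lemma locallyOfFiniteType_specMap_algebraMap (R B : Type u) [CommRing R] [CommRing B] [Algebra R B]
    [Algebra.FiniteType R B] :
    LocallyOfFiniteType (Spec.map (CommRingCat.ofHom (algebraMap R B))) := by
  rw [HasRingHomProperty.Spec_iff (P := @LocallyOfFiniteType)]
  exact RingHom.finiteType_algebraMap.mpr inferInstance

/-- An invariant global function is integral over `A`. -/
theorem isIntegralElem_of_invariant [LocallyOfFiniteType Y.hom] [CompactSpace ↥Y.left]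
    [IsReduced Y.left] [Algebra.FiniteType k A]
    (a : AlgGrp.Action G Y) (p : Y ⟶ TA k A) (hp : W4c2lssmoduli.IsGUnivClosed a p)
    (s : Γ(Y.left, ⊤)) (hs : a.act.left.appTop s = (snd G Y).left.appTop s) :
    ((Scheme.ΓSpecIso (CommRingCat.of A)).inv ≫ p.left.appTop).hom.IsIntegralElem s := by
  have hinv := isInvariantMor_fs a p hp.1 s hs
  have hfq := fs_qA p s
  haveI : LocallyOfFiniteType (SA k A).hom :=
    locallyOfFiniteType_specMap_algebraMap k (Polynomial A)
  haveI : LocallyOfFiniteType (TA k A).hom := locallyOfFiniteType_specMap_algebraMap k A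
  haveI : CompactSpace ↥(SA k A).left :=
    (inferInstance : CompactSpace ↥(Spec (CommRingCat.of (Polynomial A))))
  haveI : CompactSpace ↥(TA k A).left :=
    (inferInstance : CompactSpace ↥(Spec (CommRingCat.of A)))
  haveI : IsSeparated (qA k A).left :=
    (inferInstance : IsSeparated (Spec.map (CommRingCat.ofHom (Polynomial.C : A →+* Polynomial A))))
  obtain ⟨hcl, hprop⟩ := Groth.Agent.H90.GUnivClosed.S14998_aux k G Y (SA k A) (TA k A) a
    (fs p s) (qA k A) hinv (by rw [hfq]; exact hp)
  generalize hZc : (⟨closure (Set.range (fs p s).left.base), isClosed_closure⟩ :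
    TopologicalSpace.Closeds ↥(SA k A).left) = Zc at hprop
  -- the structure morphism of the image is finite
  haveI : IsAffineHom ((Scheme.IdealSheafData.vanishingIdeal Zc).subschemeι ≫ (qA k A).left) := by
    haveI : IsAffineHom (qA k A).left :=
      (inferInstance : IsAffineHom (Spec.map (CommRingCat.ofHom
        (Polynomial.C : A →+* Polynomial A))))
    infer_instance
  have hfin : IsFinite ((Scheme.IdealSheafData.vanishingIdeal Zc).subschemeι ≫ (qA k A).left) :=
    IsFinite.iff_isProper_and_isAffineHom.mpr ⟨hprop, inferInstance⟩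
  haveI : IsAffine (TA k A).left := (inferInstance : IsAffine (Spec (CommRingCat.of A)))
  have hfin' := ((HasAffineProperty.iff_of_isAffine (P := @IsFinite)).mp hfin).2
  -- lift `fs` through the image
  obtain ⟨l, hl⟩ := Groth.Agent.H90.GUnivClosed.exists_lift_reduced Zc (fs p s).left (by
    rw [← hZc]; exact subset_closure)
  -- the coordinate function on the image
  let z : Γ((Scheme.IdealSheafData.vanishingIdeal Zc).subscheme, ⊤) :=
    (Scheme.IdealSheafData.vanishingIdeal Zc).subschemeι.appTop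
      ((Scheme.ΓSpecIso (CommRingCat.of (Polynomial A))).inv Polynomial.X)
  have hz : l.appTop z = s := by
    have h1 : (Scheme.IdealSheafData.vanishingIdeal Zc).subschemeι.appTop ≫ l.appTop =
        (fs p s).left.appTop := by
      rw [← Scheme.Hom.comp_appTop, hl]
    have h2 : (Scheme.ΓSpecIso (CommRingCat.of (Polynomial A))).inv ≫ (fs p s).left.appTop =
        phi p s := toSpec_appTop (phi p s)
    have h3 : ((Scheme.ΓSpecIso (CommRingCat.of (Polynomial A))).inv ≫
        (fs p s).left.appTop).hom Polynomial.X = s := by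
      rw [h2]; exact phi_X p s
    rw [← h1] at h3
    exact h3
  have hint : (((Scheme.IdealSheafData.vanishingIdeal Zc).subschemeι ≫
      (qA k A).left).appTop).hom.IsIntegralElem z := hfin'.to_isIntegral z
  obtain ⟨P, hPm, hP⟩ := hint
  refine ⟨P.map (Scheme.ΓSpecIso (CommRingCat.of A)).hom.hom, hPm.map _, ?_⟩
  rw [Polynomial.eval₂_map]
  have h4 : (((Scheme.ΓSpecIso (CommRingCat.of A)).inv ≫ p.left.appTop).hom).comp
      (Scheme.ΓSpecIso (CommRingCat.of A)).hom.hom =
      (l.appTop.hom).comp (((Scheme.IdealSheafData.vanishingIdeal Zc).subschemeι ≫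
      (qA k A).left).appTop).hom := by
    have h5 : l ≫ (Scheme.IdealSheafData.vanishingIdeal Zc).subschemeι ≫ (qA k A).left =
        p.left := by
      rw [← Category.assoc, hl]
      exact congrArg (fun φ => φ.left) hfq
    rw [← h5]
    ext x
    simp
  rw [h4, ← hz, ← Polynomial.hom_eval₂, hP, map_zero]

/-- **S14999.** -/
theorem S14999_aux (k : Type u) [Field k]
    (G Y : Over (Spec (CommRingCat.of k))) [GrpObj G]
    [LocallyOfFiniteType Y.hom] [CompactSpace ↥Y.left] [IsIntegral Y.left]
    (A : Type u) [CommRing A] [Algebra k A] [Algebra.FiniteType k A]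
    (a : AlgGrp.Action G Y)
    (p : Y ⟶ Over.mk (Spec.map (CommRingCat.ofHom (algebraMap k A))))
    (hp : W4c2lssmoduli.IsGUnivClosed a p) :
    ∃ t : Finset ↑Γ(Y.left, ⊤),
      (∀ s ∈ t, a.act.left.appTop s = (snd G Y).left.appTop s) ∧
      ∀ s : ↑Γ(Y.left, ⊤), a.act.left.appTop s = (snd G Y).left.appTop s →
        ∃ c : ↑Γ(Y.left, ⊤) → A,
          s = ∑ x ∈ t, ((Scheme.ΓSpecIso (CommRingCat.of A)).inv ≫ p.left.appTop) (c x) * x := by
  classical
  let pA : A →+* Γ(Y.left, ⊤) := ((Scheme.ΓSpecIso (CommRingCat.of A)).inv ≫ p.left.appTop).hom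
  letI : Algebra A Γ(Y.left, ⊤) := pA.toAlgebra
  -- the subalgebra of invariants
  have hinvA : ∀ c : A, a.act.left.appTop (pA c) = (snd G Y).left.appTop (pA c) := by
    intro c
    have h1 := congrArg (fun φ => φ.left.appTop) hp.1
    simp only [Over.comp_left, Scheme.Hom.comp_appTop] at h1
    have h2 := congrArg (fun φ => ((Scheme.ΓSpecIso (CommRingCat.of A)).inv ≫ φ).hom c) h1
    simpa [pA] using h2
  let Binv : Subalgebra A Γ(Y.left, ⊤) :=
    { (RingHom.eqLocus a.act.left.appTop.hom (snd G Y).left.appTop.hom).toSubsemiring with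
      algebraMap_mem' := fun c => hinvA c }
  have hmem : ∀ s : Γ(Y.left, ⊤), s ∈ Binv ↔
      a.act.left.appTop s = (snd G Y).left.appTop s := fun s => Iff.rfl
  -- all invariants are integral over `A`
  have hintegral : ∀ s ∈ Binv, IsIntegral A s := fun s hs =>
    isIntegralElem_of_invariant a p hp s ((hmem s).mp hs)
  -- an affine chart
  obtain ⟨y₀⟩ : Nonempty Y.left := inferInstance
  obtain ⟨U, hU, hyU, -⟩ := exists_isAffineOpen_mem_and_subset (x := y₀) (U := ⊤) trivial
  haveI : Nonempty U := ⟨⟨y₀, hyU⟩⟩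
  let res : Γ(Y.left, ⊤) →+* Γ(Y.left, U) := (Y.left.presheaf.map (homOfLE le_top).op).hom
  have hres : Function.Injective res :=
    map_injective_of_isIntegral Y.left (homOfLE (le_top : U ≤ ⊤))
  letI : Algebra A Γ(Y.left, U) := (res.comp pA).toAlgebra
  letI : Algebra Γ(Y.left, ⊤) Γ(Y.left, U) := res.toAlgebra
  haveI : IsScalarTower A Γ(Y.left, ⊤) Γ(Y.left, U) := IsScalarTower.of_algebraMap_eq fun _ => rfl
  -- finite type
  haveI : LocallyOfFiniteType (p.left ≫ (TA k A).hom) := by
    rw [Over.w p]; infer_instance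
  haveI : LocallyOfFiniteType p.left := locallyOfFiniteType_of_comp p.left (TA k A).hom
  haveI : Algebra.FiniteType A Γ(Y.left, U) := by
    have h1 := Scheme.Hom.finiteType_appLE p.left
      (isAffineOpen_top (Spec (CommRingCat.of A))) hU (le_top : U ≤ p.left ⁻¹ᵁ ⊤)
    have h2 : (res.comp pA) = (p.left.appLE ⊤ U le_top).hom.comp
        (Scheme.ΓSpecIso (CommRingCat.of A)).inv.hom := rfl
    have h3 : (res.comp pA).FiniteType := by
      rw [h2]
      have hs : Function.Surjective (Scheme.ΓSpecIso (CommRingCat.of A)).inv.hom :=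
        (ConcreteCategory.bijective_of_isIso (Scheme.ΓSpecIso (CommRingCat.of A)).inv).2
      exact h1.comp (RingHom.FiniteType.of_surjective _ hs)
    exact RingHom.finiteType_algebraMap.mp h3
  have hNag : CAlg.IsNagata A := Groth.Agent.H38.FieldNagata.isNagata_of_finiteType_field k A
  haveI : IsNoetherianRing A := Algebra.FiniteType.isNoetherianRing k A
  haveI : Module.Finite A (integralClosure A Γ(Y.left, U)) :=
    Groth.Agent.H13.NagataDescent.finite_integralClosure_of_reduced A hNag Γ(Y.left, U)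
  haveI : IsNoetherian A (integralClosure A Γ(Y.left, U)) :=
    isNoetherian_of_isNoetherianRing_of_finite A _
  let resA : Γ(Y.left, ⊤) →ₐ[A] Γ(Y.left, U) := { res with commutes' := fun _ => rfl }
  let ψ : Binv →ₗ[A] integralClosure A Γ(Y.left, U) :=
    { toFun := fun b => ⟨resA b.1, (hintegral b.1 b.2).map resA⟩
      map_add' := fun b b' => Subtype.ext (map_add resA b.1 b'.1)
      map_smul' := fun c b => Subtype.ext (map_smul resA c b.1) }
  have hψ : Function.Injective ψ := fun b b' h =>
    Subtype.ext (hres (congrArg Subtype.val h))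
  haveI : Module.Finite A Binv := Module.Finite.of_injective ψ hψ
  have hfg : (Subalgebra.toSubmodule Binv).FG := Module.Finite.iff_fg.mp this
  obtain ⟨t, ht⟩ := hfg
  refine ⟨t, ?_, ?_⟩
  · intro s hs
    have : s ∈ Subalgebra.toSubmodule Binv := by rw [← ht]; exact Submodule.subset_span hs
    exact (hmem s).mp this
  · intro s hs
    have h1 : s ∈ Submodule.span A (t : Set Γ(Y.left, ⊤)) := by rw [ht]; exact (hmem s).mpr hs
    obtain ⟨c, -, hc⟩ := Submodule.mem_span_finset.mp h1
    refine ⟨c, ?_⟩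
    rw [← hc]
    rfl

end main

end Groth.Agent.H90.GUnivClosedInv
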