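import Mathlib

/-!
Over an algebraically closed field, the local rings of a locally finite type group scheme at
closed points are all isomorphic (translation).
-/

set_option autoImplicit false

universe u

namespace Groth.Agent.H90

open CategoryTheory MonoidalCategory CartesianMonoidalCategory MonObj GrpObj AlgebraicGeometry
open Limits

lemma stalk_iso_of_isIso {X Y : Scheme.{u}} (φ : X ⟶ Y) [IsIso φ] (p : X) (q : Y)
    (h : φ p = q) : Nonempty (Y.presheaf.stalk q ≅ X.presheaf.stalk p) := by
  subst h
  exact ⟨asIso (φ.stalkMap p)⟩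

section
variable {C : Type*} [Category C] [CartesianMonoidalCategory C] {A : C} [GrpObj A]

lemma one_comp_mulRight (x : 𝟙_ C ⟶ A) : η[A] ≫ (GrpObj.mulRight x).hom = x := by
  have h0 : lift (𝟙 (𝟙_ C) ≫ η[A]) x ≫ μ[A] = x := lift_comp_one_left _ x
  rw [Category.id_comp] at h0
  simp only [GrpObj.mulRight_hom, comp_lift_assoc, Category.comp_id]
  rw [← Category.assoc, toUnit_unique (η[A] ≫ toUnit A) (𝟙 _), Category.id_comp]
  exact h0

end

variable (k : Type u) [Field k] [IsAlgClosed k] (G : Over (Spec (CommRingCat.of k))) [GrpObj G]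
  [LocallyOfFiniteType G.hom]

/-- The rational point associated with a closed point. -/
noncomputable def ratPoint (x : G.left) (hx : IsClosed ({x} : Set G.left)) :
    𝟙_ (Over (Spec (CommRingCat.of k))) ⟶ G :=
  Over.homMk (pointOfClosedPoint G.hom x hx) (pointOfClosedPoint_comp G.hom x hx)

lemma ratPoint_left_apply (x : G.left) (hx : IsClosed ({x} : Set G.left))
    (a : ↥(𝟙_ (Over (Spec (CommRingCat.of k)))).left) : (ratPoint k G x hx).left a = x :=
  pointOfClosedPoint_apply G.hom x hx a

/-- Translation to a closed point. -/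
theorem exists_iso_unit_to_closed (pt : ↥(𝟙_ (Over (Spec (CommRingCat.of k)))).left) (x : G.left)
    (hx : IsClosed ({x} : Set G.left)) :
    ∃ α : G ≅ G, α.hom.left (η[G].left pt) = x := by
  refine ⟨GrpObj.mulRight (ratPoint k G x hx), ?_⟩
  rw [← Scheme.Hom.comp_apply, ← Over.comp_left, one_comp_mulRight, ratPoint_left_apply]

theorem stalk_unit_iso_stalk_closed (pt : ↥(𝟙_ (Over (Spec (CommRingCat.of k)))).left) (x : G.left)
    (hx : IsClosed ({x} : Set G.left)) :
    Nonempty (G.left.presheaf.stalk (η[G].left pt) ≅ G.left.presheaf.stalk x) := by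
  obtain ⟨α, hα⟩ := exists_iso_unit_to_closed k G pt x hx
  have : IsIso α.hom.left := inferInstanceAs (IsIso ((Over.forget _).map α.hom))
  obtain ⟨e⟩ := stalk_iso_of_isIso α.hom.left _ _ hα
  exact ⟨e.symm⟩

end Groth.Agent.H90
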