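import Mathlib
import Groth.Agent.H90.GrpStalkTranslate

/-!
Over an algebraically closed field, every rational point of a locally finite type group scheme is
a quotient `u₂ u₁⁻¹` of rational points of a given dense open.
-/

set_option autoImplicit false

universe u

namespace Groth.Agent.H90

open CategoryTheory MonoidalCategory CartesianMonoidalCategory MonObj GrpObj AlgebraicGeometry
open Limits

section
variable {C : Type*} [Category C] [CartesianMonoidalCategory C] {A : C} [GrpObj A]

lemma comp_mulRight_hom (v x : 𝟙_ C ⟶ A) : v ≫ (GrpObj.mulRight x).hom = v * x := by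
  simp only [GrpObj.mulRight_hom, comp_lift_assoc, Category.comp_id]
  rw [← Category.assoc, toUnit_unique (v ≫ toUnit A) (𝟙 _), Category.id_comp]
  rfl

/-- Inversion as an isomorphism. -/
def invIso : A ≅ A where
  hom := ι[A]
  inv := ι[A]
  hom_inv_id := GrpObj.inv_comp_inv A
  inv_hom_id := GrpObj.inv_comp_inv A

end

variable (k : Type u) [Field k] [IsAlgClosed k] (H : Over (Spec (CommRingCat.of k))) [GrpObj H]
  [LocallyOfFiniteType H.hom]

theorem exists_mul_inv_of_dense (U : H.left.Opens) (hU : Dense (U : Set ↥H.left))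
    (pt : ↥(𝟙_ (Over (Spec (CommRingCat.of k)))).left)
    (h : 𝟙_ (Over (Spec (CommRingCat.of k))) ⟶ H) :
    ∃ u₁ u₂ : 𝟙_ (Over (Spec (CommRingCat.of k))) ⟶ H,
      u₁.left pt ∈ U ∧ u₂.left pt ∈ U ∧ h = u₂ * u₁⁻¹ := by
  have := LocallyOfFiniteType.jacobsonSpace H.hom
  let R : H ≅ H := GrpObj.mulRight h
  let I : H ≅ H := invIso
  have hI : IsIso I.hom.left := inferInstanceAs (IsIso ((Over.forget _).map I.hom))
  have hR : IsIso R.hom.left := inferInstanceAs (IsIso ((Over.forget _).map R.hom))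
  let U' : H.left.Opens := I.hom.left ⁻¹ᵁ U
  let U'' : H.left.Opens := R.hom.left ⁻¹ᵁ U'
  have hd' : Dense (U' : Set ↥H.left) := hU.preimage I.hom.left.homeomorph.isOpenMap
  have hd'' : Dense (U'' : Set ↥H.left) := hd'.preimage R.hom.left.homeomorph.isOpenMap
  have hne : Nonempty ↥H.left := ⟨h.left pt⟩
  have hdense : Dense ((U' : Set ↥H.left) ∩ (U'' : Set ↥H.left)) :=
    hd'.inter_of_isOpen_right hd'' U''.isOpen
  obtain ⟨v₀, ⟨hv1, hv2⟩, hvc⟩ := nonempty_inter_closedPoints hdense.nonempty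
    (U'.isOpen.inter U''.isOpen).isLocallyClosed
  let v := ratPoint k H v₀ hvc
  have hv : v.left pt = v₀ := ratPoint_left_apply k H v₀ hvc pt
  refine ⟨(v * h)⁻¹, v⁻¹, ?_, ?_, ?_⟩
  · rw [← comp_mulRight_hom, Hom.inv_def]
    change ι[H].left (R.hom.left (v.left pt)) ∈ U
    rw [hv]
    exact hv2
  · rw [Hom.inv_def]
    change ι[H].left (v.left pt) ∈ U
    rw [hv]
    exact hv1
  · rw [_root_.inv_inv, inv_mul_cancel_left]

end Groth.Agent.H90
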