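import Mathlib
import Groth.Prelude.Def_Grpd
import Groth.Agent.H90.FieldProd
import Groth.Agent.H90.GrpdFibre
import Groth.Agent.H90.GrpdRank

/-!
Left translation in a groupoid scheme, and openness of "cosets" over a field.
-/

set_option autoImplicit false

universe u

namespace Groth.Agent.H90

open CategoryTheory CategoryTheory.Limits AlgebraicGeometry

section
variable {S : Scheme.{u}} (G : Grpd.GroupoidScheme S)

/-- left translation by a `T`-point `γ` of `R`: `(τ, x) ↦ (τ, γ(τ) ∘ x)`. -/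
noncomputable def ltrans {T : Scheme.{u}} (γ : T ⟶ G.R) (a b : T ⟶ G.U) (ha : γ ≫ G.s = a)
    (hb : γ ≫ G.t = b) : pullback a G.t ⟶ pullback b G.t :=
  pullback.lift (pullback.fst a G.t)
    (gcomp G (pullback.fst a G.t ≫ γ) (pullback.snd a G.t)
      (by rw [Category.assoc, ha, pullback.condition]))
    (by rw [gcomp_t, Category.assoc, hb])

lemma ltrans_congr {T : Scheme.{u}} {γ γ' : T ⟶ G.R} (hγ : γ = γ') (a b : T ⟶ G.U)
    (ha : γ ≫ G.s = a) (hb : γ ≫ G.t = b) (ha' : γ' ≫ G.s = a) (hb' : γ' ≫ G.t = b) :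
    ltrans G γ a b ha hb = ltrans G γ' a b ha' hb' := by
  subst hγ
  rfl

lemma ltrans_fst {T : Scheme.{u}} (γ : T ⟶ G.R) (a b : T ⟶ G.U) (ha : γ ≫ G.s = a)
    (hb : γ ≫ G.t = b) :
    ltrans G γ a b ha hb ≫ pullback.fst b G.t = pullback.fst a G.t :=
  pullback.lift_fst _ _ _

lemma ltrans_snd {T : Scheme.{u}} (γ : T ⟶ G.R) (a b : T ⟶ G.U) (ha : γ ≫ G.s = a)
    (hb : γ ≫ G.t = b) :
    ltrans G γ a b ha hb ≫ pullback.snd b G.t =
      gcomp G (pullback.fst a G.t ≫ γ) (pullback.snd a G.t)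
        (by rw [Category.assoc, ha, pullback.condition]) :=
  pullback.lift_snd _ _ _

lemma ltrans_ltrans_inv {T : Scheme.{u}} (γ : T ⟶ G.R) (a b : T ⟶ G.U) (ha : γ ≫ G.s = a)
    (hb : γ ≫ G.t = b) :
    ltrans G γ a b ha hb ≫ ltrans G (γ ≫ G.i) b a
      (by rw [Category.assoc, G.i_s, hb]) (by rw [Category.assoc, G.i_t, ha]) = 𝟙 _ := by
  apply pullback.hom_ext
  · rw [Category.assoc, ltrans_fst, ltrans_fst, Category.id_comp]
  · rw [Category.assoc, ltrans_snd, comp_gcomp, Category.id_comp]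
    have h1 : ltrans G γ a b ha hb ≫ pullback.fst b G.t ≫ γ ≫ G.i =
        (pullback.fst a G.t ≫ γ) ≫ G.i := by
      rw [← Category.assoc, ltrans_fst, Category.assoc]
    have h2 : ltrans G γ a b ha hb ≫ pullback.snd b G.t =
        gcomp G (pullback.fst a G.t ≫ γ) (pullback.snd a G.t)
          (by rw [Category.assoc, ha, pullback.condition]) := ltrans_snd G γ a b ha hb
    have h3 : ((pullback.fst a G.t ≫ γ) ≫ G.i) ≫ G.s =
        gcomp G (pullback.fst a G.t ≫ γ) (pullback.snd a G.t)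
          (by rw [Category.assoc, ha, pullback.condition]) ≫ G.t := by
      rw [gcomp_t, Category.assoc, Category.assoc, Category.assoc, G.i_s]
    rw [gcomp_congr G h1 h2 _ h3]
    rw [← gcomp_assoc G ((pullback.fst a G.t ≫ γ) ≫ G.i) (pullback.fst a G.t ≫ γ)
      (pullback.snd a G.t)
      (by rw [Category.assoc, Category.assoc, Category.assoc, G.i_s])
      (by rw [Category.assoc, ha, pullback.condition])]
    apply e_gcomp
    rw [i_gcomp G (pullback.fst a G.t ≫ γ) _ rfl, Category.assoc, ← Category.assoc γ, ha,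
      ← Category.assoc, pullback.condition, Category.assoc]

/-- the left-translation isomorphism -/
noncomputable def ltransIso {T : Scheme.{u}} (γ : T ⟶ G.R) (a b : T ⟶ G.U) (ha : γ ≫ G.s = a)
    (hb : γ ≫ G.t = b) : pullback a G.t ≅ pullback b G.t where
  hom := ltrans G γ a b ha hb
  inv := ltrans G (γ ≫ G.i) b a
      (by rw [Category.assoc, G.i_s, hb]) (by rw [Category.assoc, G.i_t, ha])
  hom_inv_id := ltrans_ltrans_inv G γ a b ha hb
  inv_hom_id := by
    have h := ltrans_ltrans_inv G (γ ≫ G.i) b a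
      (by rw [Category.assoc, G.i_s, hb]) (by rw [Category.assoc, G.i_t, ha])
    rwa [ltrans_congr G (comp_i_i G γ) a b _ _ ha hb] at h

/-- the "product" map `Z ×_U W → R`, `(z, w) ↦ a(z) ∘ w`, as a composite. -/
lemma gcomp_eq_ltrans {Z X : Scheme.{u}} (a : Z ⟶ G.R) (w : X ⟶ G.R) :
    gcomp G (pullback.fst (a ≫ G.s) (w ≫ G.t) ≫ a) (pullback.snd (a ≫ G.s) (w ≫ G.t) ≫ w)
      ((Category.assoc _ _ _).trans (pullback.condition.trans (Category.assoc _ _ _).symm)) =
    pullback.map (a ≫ G.s) (w ≫ G.t) (a ≫ G.s) G.t (𝟙 Z) w (𝟙 G.U)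
      (by rw [Category.comp_id, Category.id_comp]) (by rw [Category.comp_id]) ≫
      ltrans G a (a ≫ G.s) (a ≫ G.t) rfl rfl ≫ pullback.snd (a ≫ G.t) G.t := by
  rw [ltrans_snd, comp_gcomp]
  apply gcomp_congr
  · rw [← Category.assoc, pullback.lift_fst, Category.comp_id]
  · rw [pullback.lift_snd]

theorem isOpenMap_gcomp (k : Type u) [Field k] (eU : G.U ≅ Spec (CommRingCat.of k))
    {Z X : Scheme.{u}} (a : Z ⟶ G.R) (w : X ⟶ G.R) [IsOpenImmersion w] :
    IsOpenMap ⇑(gcomp G (pullback.fst (a ≫ G.s) (w ≫ G.t) ≫ a)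
      (pullback.snd (a ≫ G.s) (w ≫ G.t) ≫ w)
      ((Category.assoc _ _ _).trans (pullback.condition.trans (Category.assoc _ _ _).symm))) := by
  rw [gcomp_eq_ltrans]
  have h1 : IsOpenMap ⇑(pullback.map (a ≫ G.s) (w ≫ G.t) (a ≫ G.s) G.t (𝟙 Z) w (𝟙 G.U)
      (by rw [Category.comp_id, Category.id_comp]) (by rw [Category.comp_id])) :=
    (Scheme.Hom.isOpenEmbedding _).isOpenMap
  have h2 : IsOpenMap ⇑(ltrans G a (a ≫ G.s) (a ≫ G.t) rfl rfl) :=
    (Scheme.homeoOfIso (ltransIso G a (a ≫ G.s) (a ≫ G.t) rfl rfl)).isOpenMap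
  have h3 : IsOpenMap ⇑(pullback.snd (a ≫ G.t) G.t) := by
    have : UniversallyOpen (a ≫ G.t) := universallyOpen_of_iso_spec_field eU _
    exact (pullback.snd (a ≫ G.t) G.t).isOpenMap
  simp only [Scheme.Hom.comp_base, TopCat.coe_comp]
  exact h3.comp (h2.comp h1)

end

end Groth.Agent.H90
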