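import Mathlib
import Groth.Prelude.Def_Grpd
import Groth.Agent.H90.FieldProd
import Groth.Agent.H90.GrpdFibre
import Groth.Agent.H90.GrpdLTrans
import Groth.Agent.H90.GrpMinPrime

/-!
Groupoid schemes on a field: local rings of `R` have a unique minimal prime and there is a unique
irreducible component through the identity.
-/

set_option autoImplicit false

universe u

namespace Groth.Agent.H90

open CategoryTheory CategoryTheory.Limits AlgebraicGeometry

/-- Every morphism to a scheme isomorphic to the spectrum of a field is flat. -/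
lemma flat_of_iso_spec_field {B : Scheme.{u}} {k : Type u} [Field k]
    (e : B ≅ Spec (CommRingCat.of k)) {T : Scheme.{u}} (h : T ⟶ B) : Flat h := by
  have : Flat (h ≫ e.hom) := inferInstance
  exact (MorphismProperty.cancel_right_of_respectsIso @Flat h e.hom).mp this

section
variable {S : Scheme.{u}} (G : Grpd.GroupoidScheme S) {V : Scheme.{u}} (g : V ⟶ G.U)

local notation "p₁" => pullback.fst g G.t
local notation "p₂" => pullback.snd g G.t
local notation "q₁" => pullback.fst (pullback.snd g G.t ≫ G.s) g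
local notation "q₂" => pullback.snd (pullback.snd g G.t ≫ G.s) g

/-- the identity section of the `t`-fibre `V ×_{g,U,t} R` -/
noncomputable def tfE : V ⟶ pullback g G.t :=
  pullback.lift (𝟙 V) (g ≫ G.e) (by rw [Category.id_comp, Category.assoc, G.e_t, Category.comp_id])

lemma tfE_fst : tfE G g ≫ p₁ = 𝟙 V := pullback.lift_fst _ _ _

lemma tfE_snd : tfE G g ≫ p₂ = g ≫ G.e := pullback.lift_snd _ _ _

/-- the identity section of `(V ×_{g,U,t} R) ×_{s,U,g} V` -/
noncomputable def tfEE : V ⟶ pullback (pullback.snd g G.t ≫ G.s) g :=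
  pullback.lift (tfE G g) (𝟙 V) (by
    rw [← Category.assoc, tfE_snd, Category.assoc, G.e_s, Category.comp_id, Category.id_comp])

lemma tfEE_fst : tfEE G g ≫ q₁ = tfE G g := pullback.lift_fst _ _ _

lemma tfEE_snd : tfEE G g ≫ q₂ = 𝟙 V := pullback.lift_snd _ _ _

lemma tfMul_aux {W : Scheme.{u}} (α : W ⟶ pullback (pullback.snd g G.t ≫ G.s) g)
    (β : W ⟶ pullback g G.t) (h : α ≫ q₂ = β ≫ p₁) :
    (α ≫ q₁ ≫ p₂) ≫ G.s = (β ≫ p₂) ≫ G.t := by
  have h1 : q₁ ≫ p₂ ≫ G.s = q₂ ≫ g := pullback.condition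
  have h2 : p₁ ≫ g = p₂ ≫ G.t := pullback.condition
  rw [Category.assoc, Category.assoc, h1, ← Category.assoc, h, Category.assoc, h2, Category.assoc]

/-- multiplication of `W`-points: `((v, x, v'), (v', x')) ↦ (v, x ∘ x')`. -/
noncomputable def tfMul {W : Scheme.{u}} (α : W ⟶ pullback (pullback.snd g G.t ≫ G.s) g)
    (β : W ⟶ pullback g G.t) (h : α ≫ q₂ = β ≫ p₁) : W ⟶ pullback g G.t :=
  pullback.lift (α ≫ q₁ ≫ p₁)
    (gcomp G (α ≫ q₁ ≫ p₂) (β ≫ p₂) (tfMul_aux G g α β h))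
    (by
      have h2 : p₁ ≫ g = p₂ ≫ G.t := pullback.condition
      rw [gcomp_t, Category.assoc, Category.assoc, h2, Category.assoc, Category.assoc])

lemma tfMul_fst {W : Scheme.{u}} (α : W ⟶ pullback (pullback.snd g G.t ≫ G.s) g)
    (β : W ⟶ pullback g G.t) (h : α ≫ q₂ = β ≫ p₁) :
    tfMul G g α β h ≫ p₁ = α ≫ q₁ ≫ p₁ := pullback.lift_fst _ _ _

lemma tfMul_snd {W : Scheme.{u}} (α : W ⟶ pullback (pullback.snd g G.t ≫ G.s) g)
    (β : W ⟶ pullback g G.t) (h : α ≫ q₂ = β ≫ p₁) :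
    tfMul G g α β h ≫ p₂ = gcomp G (α ≫ q₁ ≫ p₂) (β ≫ p₂) (tfMul_aux G g α β h) :=
  pullback.lift_snd _ _ _

lemma tfMul_congr {W : Scheme.{u}} {α α' : W ⟶ pullback (pullback.snd g G.t ≫ G.s) g}
    {β β' : W ⟶ pullback g G.t} (hα : α = α') (hβ : β = β') (h : α ≫ q₂ = β ≫ p₁)
    (h' : α' ≫ q₂ = β' ≫ p₁) : tfMul G g α β h = tfMul G g α' β' h' := by
  subst hα hβ
  rfl

lemma comp_tfMul {W W' : Scheme.{u}} (x : W' ⟶ W)
    (α : W ⟶ pullback (pullback.snd g G.t ≫ G.s) g)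
    (β : W ⟶ pullback g G.t) (h : α ≫ q₂ = β ≫ p₁) :
    x ≫ tfMul G g α β h = tfMul G g (x ≫ α) (x ≫ β)
      (by rw [Category.assoc, Category.assoc, h]) := by
  apply pullback.hom_ext
  · rw [Category.assoc, tfMul_fst, tfMul_fst, Category.assoc]
  · rw [Category.assoc, tfMul_snd, tfMul_snd, comp_gcomp]
    apply gcomp_congr
    · rw [Category.assoc]
    · rw [Category.assoc]

lemma tfMul_tfE {W : Scheme.{u}} (α : W ⟶ pullback (pullback.snd g G.t ≫ G.s) g)
    (β : W ⟶ pullback g G.t) (hβ : β = α ≫ q₂ ≫ tfE G g) (h : α ≫ q₂ = β ≫ p₁) :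
    tfMul G g α β h = α ≫ q₁ := by
  have h1 : q₁ ≫ p₂ ≫ G.s = q₂ ≫ g := pullback.condition
  apply pullback.hom_ext
  · rw [tfMul_fst, Category.assoc]
  · rw [tfMul_snd, Category.assoc]
    apply gcomp_e
    rw [hβ, Category.assoc, Category.assoc, tfE_snd, Category.assoc, Category.assoc,
      ← Category.assoc p₂, ← Category.assoc q₁, h1, Category.assoc]

lemma tfEE_tfMul {W : Scheme.{u}} (α : W ⟶ pullback (pullback.snd g G.t ≫ G.s) g)
    (β : W ⟶ pullback g G.t) (hα : α = β ≫ p₁ ≫ tfEE G g) (h : α ≫ q₂ = β ≫ p₁) :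
    tfMul G g α β h = β := by
  have h2 : p₁ ≫ g = p₂ ≫ G.t := pullback.condition
  apply pullback.hom_ext
  · rw [tfMul_fst, hα, Category.assoc, Category.assoc, ← Category.assoc (tfEE G g), tfEE_fst,
      tfE_fst, Category.comp_id]
  · rw [tfMul_snd]
    apply e_gcomp
    rw [hα, Category.assoc, Category.assoc, ← Category.assoc (tfEE G g), tfEE_fst, tfE_snd,
      Category.assoc, ← Category.assoc p₂, ← h2, Category.assoc]

end

section
variable {S : Scheme.{u}} (G : Grpd.GroupoidScheme S) (k : Type u) [Field k]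
  (eU : G.U ≅ Spec (CommRingCat.of k))
  (Ω : Type u) [Field Ω] [IsAlgClosed Ω] (g : Spec (CommRingCat.of Ω) ⟶ G.U)

local notation "p₁" => pullback.fst g G.t
local notation "p₂" => pullback.snd g G.t
local notation "q₁" => pullback.fst (pullback.snd g G.t ≫ G.s) g
local notation "q₂" => pullback.snd (pullback.snd g G.t ≫ G.s) g

include eU in
/-- Over an algebraically closed field `Ω`, a maximal point of the `t`-fibre over `g : Spec Ω ⟶ U`
specializing to the identity is unique. -/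
theorem eq_of_specializes_tfE
    (y y' : ↥(pullback g G.t))
    (hy : y ⤳ tfE G g (IsLocalRing.closedPoint Ω))
    (hy' : y' ⤳ tfE G g (IsLocalRing.closedPoint Ω))
    (hmax : ∀ c : ↥(pullback g G.t), c ⤳ y → c = y)
    (hmax' : ∀ c : ↥(pullback g G.t), c ⤳ y' → c = y') : y = y' := by
  have hsub : Subsingleton ↥(Spec (CommRingCat.of Ω)) :=
    inferInstanceAs (Subsingleton (PrimeSpectrum Ω))
  have hflatg : Flat g := flat_of_iso_spec_field eU g
  have hgen : GeneralizingMap q₁ := Flat.generalizingMap _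
  have h0 : q₁ (tfEE G g (IsLocalRing.closedPoint Ω)) = tfE G g (IsLocalRing.closedPoint Ω) := by
    rw [← Scheme.Hom.comp_apply, tfEE_fst]
  have hy0 := hy
  rw [← h0] at hy0
  obtain ⟨yh, hyh, hyhy⟩ := hgen hy0
  -- the two points
  obtain ⟨a, ha⟩ : ∃ a : Spec ((pullback (pullback.snd g G.t ≫ G.s) g).residueField yh) ⟶
      pullback (pullback.snd g G.t ≫ G.s) g, ∀ t, a t = yh :=
    ⟨Scheme.fromSpecResidueField _ yh, fun t => Scheme.fromSpecResidueField_apply _ _⟩
  obtain ⟨b, hb⟩ : ∃ b : Spec ((pullback g G.t).residueField y') ⟶ pullback g G.t,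
      ∀ t, b t = y' :=
    ⟨Scheme.fromSpecResidueField _ y', fun t => Scheme.fromSpecResidueField_apply _ _⟩
  have hirr : IrreducibleSpace ↥(pullback (a ≫ q₂) (b ≫ p₁)) := by
    have h1 : GeometricallyIrreducible (b ≫ p₁) :=
      geometricallyIrreducible_of_isAlgClosed Ω _ _
    have h2 : IrreducibleSpace ↥(Spec ((pullback (pullback.snd g G.t ≫ G.s) g).residueField yh)) :=
      inferInstanceAs (IrreducibleSpace (PrimeSpectrum _))
    infer_instance
  obtain ⟨t₀, -⟩ : ∃ t₀ : ↥(Spec ((pullback (pullback.snd g G.t ≫ G.s) g).residueField yh)),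
      True := ⟨IsLocalRing.closedPoint _, trivial⟩
  obtain ⟨t₀', -⟩ : ∃ t₀' : ↥(Spec ((pullback g G.t).residueField y')), True :=
    ⟨IsLocalRing.closedPoint _, trivial⟩
  have hcond : (pullback.fst (a ≫ q₂) (b ≫ p₁) ≫ a) ≫ q₂ =
      (pullback.snd (a ≫ q₂) (b ≫ p₁) ≫ b) ≫ p₁ := by
    rw [Category.assoc, Category.assoc]; exact pullback.condition
  obtain ⟨M, hM⟩ : ∃ M : pullback (a ≫ q₂) (b ≫ p₁) ⟶ pullback g G.t,
      M = tfMul G g (pullback.fst (a ≫ q₂) (b ≫ p₁) ≫ a) (pullback.snd (a ≫ q₂) (b ≫ p₁) ≫ b)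
        hcond := ⟨_, rfl⟩
  obtain ⟨c, hc⟩ : ∃ c : ↥(pullback g G.t),
      c = M (genericPoint ↥(pullback (a ≫ q₂) (b ≫ p₁))) := ⟨_, rfl⟩
  have hrange : ∀ p : ↥(pullback (a ≫ q₂) (b ≫ p₁)), c ⤳ M p := by
    intro p
    rw [hc]
    exact (genericPoint_specializes p).map M.continuous
  -- `c ⤳ y`
  have h1 : c ⤳ y := by
    have hcond₁ : (pullback.fst (a ≫ q₂) p₁ ≫ a) ≫ q₂ = pullback.snd (a ≫ q₂) p₁ ≫ p₁ := by
      rw [Category.assoc]; exact pullback.condition
    obtain ⟨M₁, hM₁⟩ : ∃ M₁ : pullback (a ≫ q₂) p₁ ⟶ pullback g G.t,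
        M₁ = tfMul G g (pullback.fst (a ≫ q₂) p₁ ≫ a) (pullback.snd (a ≫ q₂) p₁) hcond₁ :=
      ⟨_, rfl⟩
    obtain ⟨j₁, hj₁⟩ : ∃ j₁ : pullback (a ≫ q₂) (b ≫ p₁) ⟶ pullback (a ≫ q₂) p₁,
        j₁ = pullback.map (a ≫ q₂) (b ≫ p₁) (a ≫ q₂) p₁ (𝟙 _) b (𝟙 _)
          (by rw [Category.comp_id, Category.id_comp]) (by rw [Category.comp_id]) := ⟨_, rfl⟩
    have hj₁fst : j₁ ≫ pullback.fst (a ≫ q₂) p₁ = pullback.fst (a ≫ q₂) (b ≫ p₁) := by
      rw [hj₁, pullback.lift_fst, Category.comp_id]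
    have hj₁snd : j₁ ≫ pullback.snd (a ≫ q₂) p₁ = pullback.snd (a ≫ q₂) (b ≫ p₁) ≫ b := by
      rw [hj₁, pullback.lift_snd]
    have hj₁M : j₁ ≫ M₁ = M := by
      rw [hM₁, hM, comp_tfMul]
      apply tfMul_congr
      · rw [← Category.assoc, hj₁fst]
      · exact hj₁snd
    obtain ⟨ε₁, hε₁⟩ : ∃ ε₁ : Spec ((pullback (pullback.snd g G.t ≫ G.s) g).residueField yh) ⟶
        pullback (a ≫ q₂) p₁, ε₁ = pullback.lift (𝟙 _) (a ≫ q₂ ≫ tfE G g)
          (by rw [Category.id_comp, Category.assoc, Category.assoc, tfE_fst, Category.comp_id]) :=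
      ⟨_, rfl⟩
    have hε₁fst : ε₁ ≫ pullback.fst (a ≫ q₂) p₁ = 𝟙 _ := by rw [hε₁, pullback.lift_fst]
    have hε₁snd : ε₁ ≫ pullback.snd (a ≫ q₂) p₁ = a ≫ q₂ ≫ tfE G g := by
      rw [hε₁, pullback.lift_snd]
    have hε₁M : ε₁ ≫ M₁ = a ≫ q₁ := by
      rw [hM₁, comp_tfMul]
      have e1 : ε₁ ≫ pullback.fst (a ≫ q₂) p₁ ≫ a = a := by
        rw [← Category.assoc, hε₁fst, Category.id_comp]
      rw [tfMul_congr G g e1 hε₁snd _ (by rw [Category.assoc, Category.assoc, tfE_fst,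
        Category.comp_id])]
      exact tfMul_tfE G g a _ rfl _
    have hopen : UniversallyOpen (a ≫ q₂) := universallyOpen_of_iso_spec_field (Iso.refl _) _
    have hq₀snd : pullback.snd (a ≫ q₂) p₁ (ε₁ t₀) = tfE G g (IsLocalRing.closedPoint Ω) := by
      rw [← Scheme.Hom.comp_apply, hε₁snd, Scheme.Hom.comp_apply, Scheme.Hom.comp_apply]
      congr 1
      exact Subsingleton.elim _ _
    have hq₀cl : ε₁ t₀ ∈ closure (Set.range j₁) := by
      rw [hj₁, Scheme.Pullback.range_map]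
      have : Set.range (𝟙 (Spec ((pullback (pullback.snd g G.t ≫ G.s) g).residueField yh))) =
          Set.univ := by
        rw [Set.range_eq_univ]; intro z; exact ⟨z, rfl⟩
      rw [this, Set.preimage_univ, Set.univ_inter]
      apply (pullback.snd (a ≫ q₂) p₁).isOpenMap.preimage_closure_subset_closure_preimage
      rw [Set.mem_preimage, hq₀snd]
      have : Set.range b = {y'} := by
        ext z
        constructor
        · rintro ⟨t, rfl⟩; exact hb t
        · rintro rfl; exact ⟨t₀', hb t₀'⟩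
      rw [this, ← specializes_iff_mem_closure]
      exact hy'
    have hr : M₁ (ε₁ t₀) = y := by
      rw [← Scheme.Hom.comp_apply, hε₁M, Scheme.Hom.comp_apply, ha, hyhy]
    rw [← hr, specializes_iff_mem_closure]
    have hcl := map_mem_closure M₁.continuous hq₀cl (t := closure {c}) ?_
    · rwa [closure_closure] at hcl
    · rintro _ ⟨p, rfl⟩
      rw [← specializes_iff_mem_closure, ← Scheme.Hom.comp_apply, hj₁M]
      exact hrange p
  -- `c ⤳ y'`
  have h2 : c ⤳ y' := by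
    have hcond₂ : pullback.fst q₂ (b ≫ p₁) ≫ q₂ = (pullback.snd q₂ (b ≫ p₁) ≫ b) ≫ p₁ := by
      rw [Category.assoc]; exact pullback.condition
    obtain ⟨M₂, hM₂⟩ : ∃ M₂ : pullback q₂ (b ≫ p₁) ⟶ pullback g G.t,
        M₂ = tfMul G g (pullback.fst q₂ (b ≫ p₁)) (pullback.snd q₂ (b ≫ p₁) ≫ b) hcond₂ :=
      ⟨_, rfl⟩
    obtain ⟨j₂, hj₂⟩ : ∃ j₂ : pullback (a ≫ q₂) (b ≫ p₁) ⟶ pullback q₂ (b ≫ p₁),
        j₂ = pullback.map (a ≫ q₂) (b ≫ p₁) q₂ (b ≫ p₁) a (𝟙 _) (𝟙 _)
          (by rw [Category.comp_id]) (by rw [Category.comp_id, Category.id_comp]) := ⟨_, rfl⟩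
    have hj₂fst : j₂ ≫ pullback.fst q₂ (b ≫ p₁) = pullback.fst (a ≫ q₂) (b ≫ p₁) ≫ a := by
      rw [hj₂, pullback.lift_fst]
    have hj₂snd : j₂ ≫ pullback.snd q₂ (b ≫ p₁) = pullback.snd (a ≫ q₂) (b ≫ p₁) := by
      rw [hj₂, pullback.lift_snd, Category.comp_id]
    have hj₂M : j₂ ≫ M₂ = M := by
      rw [hM₂, hM, comp_tfMul]
      apply tfMul_congr
      · exact hj₂fst
      · rw [← Category.assoc, hj₂snd]
    obtain ⟨ε₂, hε₂⟩ : ∃ ε₂ : Spec ((pullback g G.t).residueField y') ⟶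
        pullback q₂ (b ≫ p₁), ε₂ = pullback.lift (b ≫ p₁ ≫ tfEE G g) (𝟙 _)
          (by rw [Category.id_comp, Category.assoc, Category.assoc, tfEE_snd, Category.comp_id]) :=
      ⟨_, rfl⟩
    have hε₂fst : ε₂ ≫ pullback.fst q₂ (b ≫ p₁) = b ≫ p₁ ≫ tfEE G g := by
      rw [hε₂, pullback.lift_fst]
    have hε₂snd : ε₂ ≫ pullback.snd q₂ (b ≫ p₁) = 𝟙 _ := by rw [hε₂, pullback.lift_snd]
    have hε₂M : ε₂ ≫ M₂ = b := by
      rw [hM₂, comp_tfMul]
      have e1 : ε₂ ≫ pullback.snd q₂ (b ≫ p₁) ≫ b = b := by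
        rw [← Category.assoc, hε₂snd, Category.id_comp]
      rw [tfMul_congr G g hε₂fst e1 _ (by rw [Category.assoc, Category.assoc, tfEE_snd,
        Category.comp_id])]
      exact tfEE_tfMul G g _ b rfl _
    have hopen : UniversallyOpen (b ≫ p₁) := universallyOpen_of_iso_spec_field (Iso.refl _) _
    have hq₀fst : pullback.fst q₂ (b ≫ p₁) (ε₂ t₀') = tfEE G g (IsLocalRing.closedPoint Ω) := by
      rw [← Scheme.Hom.comp_apply, hε₂fst, Scheme.Hom.comp_apply, Scheme.Hom.comp_apply]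
      congr 1
      exact Subsingleton.elim _ _
    have hq₀cl : ε₂ t₀' ∈ closure (Set.range j₂) := by
      rw [hj₂, Scheme.Pullback.range_map]
      have : Set.range (𝟙 (Spec ((pullback g G.t).residueField y'))) = Set.univ := by
        rw [Set.range_eq_univ]; intro z; exact ⟨z, rfl⟩
      rw [this, Set.preimage_univ, Set.inter_univ]
      apply (pullback.fst q₂ (b ≫ p₁)).isOpenMap.preimage_closure_subset_closure_preimage
      rw [Set.mem_preimage, hq₀fst]
      have : Set.range a = {yh} := by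
        ext z
        constructor
        · rintro ⟨t, rfl⟩; exact ha t
        · rintro rfl; exact ⟨t₀, ha t₀⟩
      rw [this, ← specializes_iff_mem_closure]
      exact hyh
    have hr : M₂ (ε₂ t₀') = y' := by
      rw [← Scheme.Hom.comp_apply, hε₂M, hb]
    rw [← hr, specializes_iff_mem_closure]
    have hcl := map_mem_closure M₂.continuous hq₀cl (t := closure {c}) ?_
    · rwa [closure_closure] at hcl
    · rintro _ ⟨p, rfl⟩
      rw [← specializes_iff_mem_closure, ← Scheme.Hom.comp_apply, hj₂M]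
      exact hrange p
  rw [← hmax c h1, ← hmax' c h2]

end

section
variable {S : Scheme.{u}} (G : Grpd.GroupoidScheme S) (k : Type u) [Field k]
  (eU : G.U ≅ Spec (CommRingCat.of k))

include eU in
/-- In a groupoid scheme on a field, every point of `R` has a unique maximal generization. -/
theorem grpd_eq_of_specializes (x y y' : G.R) (hy : y ⤳ x) (hy' : y' ⤳ x)
    (hmax : ∀ c : G.R, c ⤳ y → c = y) (hmax' : ∀ c : G.R, c ⤳ y' → c = y') : y = y' := by
  obtain ⟨Ω, hΩ⟩ : ∃ Ω : Type u, Ω = AlgebraicClosure (G.R.residueField x) := ⟨_, rfl⟩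
  subst hΩ
  obtain ⟨ρ, hρ⟩ : ∃ ρ : Spec (CommRingCat.of (AlgebraicClosure (G.R.residueField x))) ⟶ G.R,
      ∀ t, ρ t = x := by
    refine ⟨Spec.map (CommRingCat.ofHom (algebraMap (G.R.residueField x)
      (AlgebraicClosure (G.R.residueField x)))) ≫ G.R.fromSpecResidueField x, ?_⟩
    intro t
    rw [Scheme.Hom.comp_apply]
    exact Scheme.fromSpecResidueField_apply _ _
  obtain ⟨L, hL⟩ : ∃ L : pullback (ρ ≫ G.s) G.t ≅ pullback (ρ ≫ G.t) G.t,
      L = ltransIso G ρ (ρ ≫ G.s) (ρ ≫ G.t) rfl rfl := ⟨_, rfl⟩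
  obtain ⟨x'', hx''def⟩ : ∃ x'' : Spec (CommRingCat.of (AlgebraicClosure (G.R.residueField x))) ⟶
      pullback (ρ ≫ G.t) G.t, x'' = pullback.lift (𝟙 _) ρ (by rw [Category.id_comp]) := ⟨_, rfl⟩
  have hLx : tfE G (ρ ≫ G.s) ≫ L.hom = x'' := by
    rw [hL, hx''def]
    change tfE G (ρ ≫ G.s) ≫ ltrans G ρ (ρ ≫ G.s) (ρ ≫ G.t) rfl rfl = _
    apply pullback.hom_ext
    · rw [Category.assoc, ltrans_fst, tfE_fst, pullback.lift_fst]
    · rw [Category.assoc, ltrans_snd, comp_gcomp, pullback.lift_snd]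
      have e1 : tfE G (ρ ≫ G.s) ≫ pullback.fst (ρ ≫ G.s) G.t ≫ ρ = ρ := by
        rw [← Category.assoc, tfE_fst, Category.id_comp]
      have e2 : tfE G (ρ ≫ G.s) ≫ pullback.snd (ρ ≫ G.s) G.t = ρ ≫ G.s ≫ G.e := by
        rw [tfE_snd, Category.assoc]
      rw [gcomp_congr G e1 e2 _ (by rw [Category.assoc, Category.assoc, G.e_t, Category.comp_id])]
      exact gcomp_e G ρ _ rfl _
  have hflat : Flat (pullback.snd (ρ ≫ G.t) G.t) := by
    have : Flat (ρ ≫ G.t) := flat_of_iso_spec_field eU _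
    infer_instance
  have hgen : GeneralizingMap (pullback.snd (ρ ≫ G.t) G.t) := Flat.generalizingMap _
  have hx'' : pullback.snd (ρ ≫ G.t) G.t (x'' (IsLocalRing.closedPoint _)) = x := by
    rw [← Scheme.Hom.comp_apply, hx''def, pullback.lift_snd, hρ]
  have hinvhom : ∀ w, L.inv (L.hom w) = w := by
    intro w
    rw [← Scheme.Hom.comp_apply, Iso.hom_inv_id]
    rfl
  have hhominv : ∀ w, L.hom (L.inv w) = w := by
    intro w
    rw [← Scheme.Hom.comp_apply, Iso.inv_hom_id]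
    rfl
  have lift_max : ∀ z : G.R, z ⤳ x → (∀ c : G.R, c ⤳ z → c = z) →
      ∃ w : ↥(pullback (ρ ≫ G.s) G.t), w ⤳ tfE G (ρ ≫ G.s) (IsLocalRing.closedPoint _) ∧
        (∀ c : ↥(pullback (ρ ≫ G.s) G.t), c ⤳ w → c = w) ∧
        pullback.snd (ρ ≫ G.t) G.t (L.hom w) = z := by
    intro z hz hzmax
    rw [← hx''] at hz
    obtain ⟨w₀, hw₀, hw₀z⟩ := hgen hz
    obtain ⟨w, hw, hwmax⟩ := exists_maximal_generization (pullback (ρ ≫ G.t) G.t) w₀
    refine ⟨L.inv w, ?_, ?_, ?_⟩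
    · have h1 := (hw.trans hw₀).map L.inv.continuous
      rwa [← hLx, Scheme.Hom.comp_apply, hinvhom] at h1
    · intro c hc
      have h1 := hc.map L.hom.continuous
      rw [hhominv] at h1
      rw [← hwmax _ h1, hinvhom]
    · rw [hhominv]
      apply hzmax
      rw [← hw₀z]
      exact hw.map (pullback.snd (ρ ≫ G.t) G.t).continuous
  obtain ⟨w, hw1, hw2, hw3⟩ := lift_max y hy hmax
  obtain ⟨w', hw1', hw2', hw3'⟩ := lift_max y' hy' hmax'
  have := eq_of_specializes_tfE G k eU _ (ρ ≫ G.s) w w' hw1 hw1' hw2 hw2'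
  rw [← hw3, ← hw3', this]

end

/-- If every point of a scheme has a unique maximal generization, its local rings have at most
one minimal prime. -/
theorem subsingleton_minimalPrimes_stalk_of_unique (X : Scheme.{u})
    (H : ∀ x y y' : X, y ⤳ x → y' ⤳ x → (∀ c : X, c ⤳ y → c = y) →
      (∀ c : X, c ⤳ y' → c = y') → y = y') (x : X) :
    (minimalPrimes (X.presheaf.stalk x)).Subsingleton := by
  intro p hp q hq
  have hpprime : p.IsPrime := hp.1.1
  have hqprime : q.IsPrime := hq.1.1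
  have hemb : Topology.IsEmbedding (X.fromSpecStalk x) := (X.fromSpecStalk x).isEmbedding
  have hmem : ∀ P : Spec (X.presheaf.stalk x), (X.fromSpecStalk x) P ⤳ x := by
    intro P
    have : (X.fromSpecStalk x) P ∈ Set.range (X.fromSpecStalk x) := ⟨P, rfl⟩
    rwa [Scheme.range_fromSpecStalk] at this
  have hmaxi : ∀ (r : Ideal (X.presheaf.stalk x)) (hr : r ∈ minimalPrimes (X.presheaf.stalk x))
      (c : X), c ⤳ (X.fromSpecStalk x) ⟨r, hr.1.1⟩ → c = (X.fromSpecStalk x) ⟨r, hr.1.1⟩ := by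
    intro r hr c hc
    have hcx : c ∈ Set.range (X.fromSpecStalk x) := by
      rw [Scheme.range_fromSpecStalk]
      exact hc.trans (hmem _)
    obtain ⟨C, rfl⟩ := hcx
    rw [hemb.isInducing.specializes_iff] at hc
    have hle : C.asIdeal ≤ r := (PrimeSpectrum.le_iff_specializes C ⟨r, hr.1.1⟩).mpr hc
    have hge : r ≤ C.asIdeal := hr.2 ⟨C.isPrime, bot_le⟩ hle
    congr 1
    exact PrimeSpectrum.ext (le_antisymm hle hge)
  have := H x _ _ (hmem ⟨p, hpprime⟩) (hmem ⟨q, hqprime⟩) (hmaxi p hp) (hmaxi q hq)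
  have h2 := hemb.injective this
  exact congrArg PrimeSpectrum.asIdeal h2

/-- If every point of a scheme has a unique maximal generization, every point lies on exactly one
irreducible component. -/
theorem existsUnique_irreducibleComponent_of_unique (X : Scheme.{u})
    (H : ∀ x y y' : X, y ⤳ x → y' ⤳ x → (∀ c : X, c ⤳ y → c = y) →
      (∀ c : X, c ⤳ y' → c = y') → y = y') (x : X) :
    ∃! Z : Set X, Z ∈ irreducibleComponents (X : Type u) ∧ x ∈ Z := by
  refine ⟨irreducibleComponent x,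
    ⟨irreducibleComponent_mem_irreducibleComponents _, mem_irreducibleComponent⟩, ?_⟩
  rintro Z ⟨hZ, heZ⟩
  have hgen : ∀ Z' : Set X, Z' ∈ irreducibleComponents (X : Type u) → x ∈ Z' →
      ∃ y : X, closure {y} = Z' ∧ y ⤳ x ∧ ∀ c : X, c ⤳ y → c = y := by
    intro Z' hZ' he
    obtain ⟨y, hy⟩ := QuasiSober.sober hZ'.1 (isClosed_of_mem_irreducibleComponents Z' hZ')
    refine ⟨y, hy.def, ?_, ?_⟩
    · rw [specializes_iff_mem_closure, hy.def]; exact he
    · apply eq_of_specializes_of_maximal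
      rw [hy.def]; exact hZ'
  obtain ⟨y, hy1, hy2, hy3⟩ := hgen Z hZ heZ
  obtain ⟨y', hy1', hy2', hy3'⟩ := hgen _ (irreducibleComponent_mem_irreducibleComponents _)
    mem_irreducibleComponent
  have := H x y y' hy2 hy2' hy3 hy3'
  rw [← hy1, ← hy1', this]

/-- Groupoid on a field: local rings of `R` have at most one minimal prime, and exactly one
irreducible component passes through the identity. -/
theorem grpd_on_field_irreducible {S : Scheme.{u}} (G : Grpd.GroupoidScheme S) (k : Type u)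
    [Field k] (eU : G.U ≅ Spec (CommRingCat.of k)) :
    (∀ r : G.R, (minimalPrimes (G.R.presheaf.stalk r)).Subsingleton) ∧
      ∃! Z : Set G.R, Z ∈ irreducibleComponents (G.R : Type u) ∧
        G.e (eU.inv (IsLocalRing.closedPoint k)) ∈ Z :=
  ⟨subsingleton_minimalPrimes_stalk_of_unique G.R (grpd_eq_of_specializes G k eU),
    existsUnique_irreducibleComponent_of_unique G.R (grpd_eq_of_specializes G k eU) _⟩

end Groth.Agent.H90
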