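import Mathlib
import Groth.Agent.H90.GrpMinPrime
import Groth.Agent.H90.GrpdMinPrime
import Groth.Agent.H90.GrpStalkTranslate
import Groth.Agent.H90.GrpDenseRat

/-!
Finitely many closed points of a locally finite type group scheme over an algebraically closed
field lie in a common affine open.
-/

set_option autoImplicit false

universe u

namespace Groth.Agent.H90

open CategoryTheory MonoidalCategory CartesianMonoidalCategory MonObj GrpObj AlgebraicGeometry
open Limits TopologicalSpace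

section Top
variable {X : Type*} [TopologicalSpace X]

lemma subset_irreducibleComponent_of_unique
    (H : ∀ x : X, ∀ Z ∈ irreducibleComponents X, ∀ Z' ∈ irreducibleComponents X,
      x ∈ Z → x ∈ Z' → Z = Z')
    {s : Set X} (hs : IsIrreducible s) {x : X} (hx : x ∈ s) : s ⊆ irreducibleComponent x := by
  obtain ⟨u, hu, hsu⟩ := exists_mem_irreducibleComponents_subset_of_isIrreducible s hs
  rw [H x _ (irreducibleComponent_mem_irreducibleComponents x) u hu mem_irreducibleComponent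
    (hsu hx)]
  exact hsu

lemma irreducibleComponent_eq_of_mem
    (H : ∀ x : X, ∀ Z ∈ irreducibleComponents X, ∀ Z' ∈ irreducibleComponents X,
      x ∈ Z → x ∈ Z' → Z = Z')
    {x y : X} (h : y ∈ irreducibleComponent x) :
    irreducibleComponent y = irreducibleComponent x :=
  H y _ (irreducibleComponent_mem_irreducibleComponents y) _
    (irreducibleComponent_mem_irreducibleComponents x) mem_irreducibleComponent h

end Top

/-- In a locally Noetherian scheme where every point lies on a unique irreducible component,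
every point has an affine open neighbourhood inside its component. -/
theorem exists_affine_nhds_subset_irreducibleComponent (X : Scheme.{u}) [IsLocallyNoetherian X]
    (H : ∀ x : X, ∀ Z ∈ irreducibleComponents X, ∀ Z' ∈ irreducibleComponents X,
      x ∈ Z → x ∈ Z' → Z = Z') (x : X) :
    ∃ U : X.Opens, IsAffineOpen U ∧ x ∈ U ∧ (U : Set X) ⊆ irreducibleComponent x := by
  obtain ⟨W, hW, hxW, -⟩ := exists_isAffineOpen_mem_and_subset (x := x) (U := ⊤) trivial
  have : IsNoetherianRing Γ(X, W) := IsLocallyNoetherian.component_noetherian ⟨W, hW⟩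
  have hN : NoetherianSpace ↥W := noetherianSpace_of_isAffineOpen W hW
  have hfin : (irreducibleComponents ↥W).Finite := NoetherianSpace.finite_irreducibleComponents
  obtain ⟨w₀, hw₀⟩ : ∃ w₀ : ↥W, w₀ = ⟨x, hxW⟩ := ⟨_, rfl⟩
  obtain ⟨T, hTdef⟩ : ∃ T : Set ↥W, T = ⋃₀ {Z ∈ irreducibleComponents ↥W | w₀ ∉ Z} := ⟨_, rfl⟩
  have hT : IsClosed T := by
    rw [hTdef, Set.sUnion_eq_biUnion]
    apply Set.Finite.isClosed_biUnion (hfin.subset (fun Z hZ => hZ.1))
    intro Z hZ
    exact isClosed_of_mem_irreducibleComponents Z hZ.1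
  have hN' : IsOpen (Subtype.val '' Tᶜ : Set X) :=
    W.isOpen.isOpenEmbedding_subtypeVal.isOpenMap _ hT.isOpen_compl
  have hxN : x ∈ (Subtype.val '' Tᶜ : Set X) := by
    refine ⟨w₀, ?_, by rw [hw₀]⟩
    rw [hTdef]
    rintro ⟨Z, ⟨-, hZ2⟩, hZ3⟩
    exact hZ2 hZ3
  have hsub : (Subtype.val '' Tᶜ : Set X) ⊆ irreducibleComponent x := by
    rintro _ ⟨y, hy, rfl⟩
    have hy' : w₀ ∈ irreducibleComponent y := by
      by_contra hcon
      apply hy
      rw [hTdef]
      exact ⟨irreducibleComponent y, ⟨irreducibleComponent_mem_irreducibleComponents y, hcon⟩,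
        mem_irreducibleComponent⟩
    have hirr : IsIrreducible (Subtype.val '' irreducibleComponent y : Set X) :=
      isIrreducible_irreducibleComponent.image _ continuous_subtype_val.continuousOn
    exact subset_irreducibleComponent_of_unique H hirr ⟨w₀, hy', by rw [hw₀]⟩
      ⟨y, mem_irreducibleComponent, rfl⟩
  obtain ⟨U, hU, hxU, hUsub⟩ := exists_isAffineOpen_mem_and_subset (x := x)
    (U := ⟨_, hN'⟩) hxN
  exact ⟨U, hU, hxU, hUsub.trans hsub⟩

section
variable {C : Type*} [Category C] [CartesianMonoidalCategory C] {A : C} [GrpObj A]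

lemma comp_mulRight_inv (v x : 𝟙_ C ⟶ A) : v ≫ (GrpObj.mulRight x).inv = v * x⁻¹ := by
  have : (GrpObj.mulRight x).inv = (GrpObj.mulRight x⁻¹).hom := by
    simp only [GrpObj.mulRight_inv, GrpObj.mulRight_hom, Hom.inv_def]
  rw [this, comp_mulRight_hom]

end

section
variable (k : Type u) [Field k] [IsAlgClosed k] (G : Over (Spec (CommRingCat.of k))) [GrpObj G]
  [LocallyOfFiniteType G.hom]

lemma unique_component (x : G.left) :
    ∀ Z ∈ irreducibleComponents G.left, ∀ Z' ∈ irreducibleComponents G.left,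
      x ∈ Z → x ∈ Z' → Z = Z' := by
  intro Z hZ Z' hZ' hxZ hxZ'
  obtain ⟨Z₀, -, huniq⟩ :=
    existsUnique_irreducibleComponent_of_unique G.left (eq_of_specializes k G) x
  rw [huniq Z ⟨hZ, hxZ⟩, huniq Z' ⟨hZ', hxZ'⟩]

open Classical in
theorem exists_affine_of_mem_component (pt : ↥(𝟙_ (Over (Spec (CommRingCat.of k)))).left)
    (a : G.left) (ha : IsClosed ({a} : Set G.left)) (n : ℕ) (g : Fin n → G.left)
    (hg : ∀ i, IsClosed ({g i} : Set G.left)) :
    ∃ V : G.left.Opens, IsAffineOpen V ∧ a ∈ V ∧ (V : Set G.left) ⊆ irreducibleComponent a ∧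
      ∀ i, g i ∈ irreducibleComponent a → g i ∈ V := by
  have hJ := LocallyOfFiniteType.jacobsonSpace G.hom
  have hLN : IsLocallyNoetherian G.left := LocallyOfFiniteType.isLocallyNoetherian G.hom
  have H := unique_component k G
  obtain ⟨U₀, hU₀, heU₀, hU₀sub⟩ :=
    exists_affine_nhds_subset_irreducibleComponent G.left H (η[G].left pt)
  -- the opens `O r`
  obtain ⟨O, hOdef⟩ : ∃ O : (𝟙_ (Over (Spec (CommRingCat.of k))) ⟶ G) → G.left.Opens,
      ∀ r, O r = ((GrpObj.mulRight r).inv ≫ ι[G]).left ⁻¹ᵁ U₀ := ⟨_, fun _ => rfl⟩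
  have hO : ∀ r v : 𝟙_ (Over (Spec (CommRingCat.of k))) ⟶ G,
      v.left pt ∈ O r ↔ (r * v⁻¹).left pt ∈ U₀ := by
    intro r v
    rw [hOdef]
    change ((GrpObj.mulRight r).inv ≫ ι[G]).left (v.left pt) ∈ U₀ ↔ _
    rw [← Scheme.Hom.comp_apply, ← Over.comp_left, ← Category.assoc, comp_mulRight_inv,
      ← Hom.inv_def, _root_.mul_inv_rev, _root_.inv_inv]
  have hone : (1 : 𝟙_ (Over (Spec (CommRingCat.of k))) ⟶ G).left pt = η[G].left pt := by
    rw [Hom.one_def, toUnit_unique (toUnit (𝟙_ (Over (Spec (CommRingCat.of k))))) (𝟙 _),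
      Category.id_comp]
  have hOself : ∀ r : 𝟙_ (Over (Spec (CommRingCat.of k))) ⟶ G, r.left pt ∈ O r := by
    intro r
    rw [hO, mul_inv_cancel, hone]
    exact heU₀
  obtain ⟨ra, hra⟩ : ∃ ra : 𝟙_ (Over (Spec (CommRingCat.of k))) ⟶ G, ra.left pt = a :=
    ⟨ratPoint k G a ha, ratPoint_left_apply k G a ha pt⟩
  obtain ⟨r, hr⟩ : ∃ r : Fin n → (𝟙_ (Over (Spec (CommRingCat.of k))) ⟶ G),
      ∀ i, (r i).left pt = g i :=
    ⟨fun i => ratPoint k G (g i) (hg i), fun i => ratPoint_left_apply k G (g i) (hg i) pt⟩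
  -- the finite family
  obtain ⟨𝒰, h𝒰⟩ : ∃ 𝒰 : Finset (Set G.left), 𝒰 = insert (O ra : Set G.left)
      ((Finset.univ.filter (fun i => g i ∈ irreducibleComponent a)).image
        (fun i => (O (r i) : Set G.left))) := ⟨_, rfl⟩
  have h𝒰open : ∀ u ∈ 𝒰, IsOpen u := by
    intro u hu
    rw [h𝒰, Finset.mem_insert, Finset.mem_image] at hu
    rcases hu with rfl | ⟨i, -, rfl⟩
    · exact (O ra).isOpen
    · exact (O (r i)).isOpen
  have h𝒰meet : ∀ u ∈ 𝒰, (irreducibleComponent a ∩ u).Nonempty := by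
    intro u hu
    rw [h𝒰, Finset.mem_insert, Finset.mem_image] at hu
    rcases hu with rfl | ⟨i, hi, rfl⟩
    · exact ⟨a, mem_irreducibleComponent, by rw [← hra]; exact hOself ra⟩
    · rw [Finset.mem_filter] at hi
      exact ⟨g i, hi.2, by rw [← hr i]; exact hOself (r i)⟩
  obtain ⟨x₀, -, hx₀⟩ := isIrreducible_iff_sInter.mp
    (isIrreducible_irreducibleComponent (x := a)) 𝒰 h𝒰open h𝒰meet
  have hZopen : IsOpen (⋂₀ (𝒰 : Set (Set G.left))) := 𝒰.finite_toSet.isOpen_sInter h𝒰open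
  obtain ⟨c, hcZ, hcc⟩ := nonempty_inter_closedPoints ⟨x₀, hx₀⟩ hZopen.isLocallyClosed
  obtain ⟨rc, hrc⟩ : ∃ rc : 𝟙_ (Over (Spec (CommRingCat.of k))) ⟶ G, rc.left pt = c :=
    ⟨ratPoint k G c hcc, ratPoint_left_apply k G c hcc pt⟩
  have hiso : IsIso (GrpObj.mulRight rc).inv.left :=
    inferInstanceAs (IsIso ((Over.forget _).map (GrpObj.mulRight rc).inv))
  obtain ⟨V, hVdef⟩ : ∃ V : G.left.Opens, V = (GrpObj.mulRight rc).inv.left ⁻¹ᵁ U₀ := ⟨_, rfl⟩
  have hV : ∀ v : 𝟙_ (Over (Spec (CommRingCat.of k))) ⟶ G,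
      v.left pt ∈ V ↔ (v * rc⁻¹).left pt ∈ U₀ := by
    intro v
    rw [hVdef]
    change (GrpObj.mulRight rc).inv.left (v.left pt) ∈ U₀ ↔ _
    rw [← Scheme.Hom.comp_apply, ← Over.comp_left, comp_mulRight_inv]
  have hkey : ∀ v : 𝟙_ (Over (Spec (CommRingCat.of k))) ⟶ G, (O v : Set G.left) ∈ 𝒰 →
      v.left pt ∈ V := by
    intro v hv
    have h1 : c ∈ (O v : Set G.left) := hcZ _ hv
    rw [← hrc] at h1
    exact (hV v).mpr ((hO v rc).mp h1)
  have haV : a ∈ V := by
    rw [← hra]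
    apply hkey
    rw [h𝒰]
    exact Finset.mem_insert_self _ _
  have hVirr : IsIrreducible (V : Set G.left) := by
    refine ⟨⟨a, haV⟩, ?_⟩
    rw [hVdef]
    exact (isIrreducible_irreducibleComponent.2.open_subset U₀.isOpen hU₀sub).preimage
      (GrpObj.mulRight rc).inv.left.isOpenEmbedding
  refine ⟨V, ?_, haV, subset_irreducibleComponent_of_unique H hVirr haV, ?_⟩
  · rw [hVdef]
    exact hU₀.preimage_of_isIso _
  · intro i hi
    rw [← hr i]
    apply hkey
    rw [h𝒰]
    apply Finset.mem_insert_of_mem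
    rw [Finset.mem_image]
    exact ⟨i, by rw [Finset.mem_filter]; exact ⟨Finset.mem_univ _, hi⟩, rfl⟩

open Classical in
/-- Finitely many closed points of a locally finite type group scheme over an algebraically
closed field lie in a common affine open. -/
theorem exists_affine_of_closedPoints (n : ℕ) (g : Fin n → G.left)
    (hg : ∀ i, IsClosed ({g i} : Set G.left)) :
    ∃ U : G.left.Opens, IsAffineOpen U ∧ ∀ i, g i ∈ U := by
  obtain ⟨pt⟩ : Nonempty ↥(𝟙_ (Over (Spec (CommRingCat.of k)))).left :=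
    ⟨IsLocalRing.closedPoint k⟩
  have H := unique_component k G
  obtain ⟨σ, hσ⟩ : ∃ σ : Set (Set G.left),
      σ = Set.range (fun i : Fin n => irreducibleComponent (g i)) := ⟨_, rfl⟩
  have hfinσ : Finite ↥σ := by
    rw [hσ]
    exact (Set.finite_range _).to_subtype
  have hσ' : ∀ Z : ↥σ, ∃ i : Fin n, irreducibleComponent (g i) = Z.1 := by
    intro Z
    have h2 : Z.1 ∈ Set.range (fun i : Fin n => irreducibleComponent (g i)) := by
      rw [← hσ]; exact Z.2
    exact h2
  choose rep hrep using hσ'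
  choose V hVaff hVmem hVsub hVall using fun Z : ↥σ =>
    exists_affine_of_mem_component k G pt (g (rep Z)) (hg _) n g hg
  have hdisj : Pairwise (Function.onFun Disjoint (fun Z : ↥σ => Set.range ⇑(V Z).ι)) := by
    intro Z Z' hne
    rw [Function.onFun, Set.disjoint_iff]
    rintro x ⟨hx1, hx2⟩
    rw [Scheme.Opens.range_ι] at hx1 hx2
    have h1 := hVsub Z hx1
    have h2 := hVsub Z' hx2
    rw [hrep] at h1 h2
    apply hne
    apply Subtype.ext
    exact H x Z.1 (hrep Z ▸ irreducibleComponent_mem_irreducibleComponents _) Z'.1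
      (hrep Z' ▸ irreducibleComponent_mem_irreducibleComponents _) h1 h2
  have hoi : IsOpenImmersion (Sigma.desc (fun Z : ↥σ => (V Z).ι)) :=
    isOpenImmersion_sigmaDesc _ _ hdisj
  have haff : ∀ Z : ↥σ, IsAffine ((V Z : G.left.Opens) : Scheme.{u}) := hVaff
  refine ⟨(Sigma.desc (fun Z : ↥σ => (V Z).ι)).opensRange, isAffineOpen_opensRange _,
    fun i => ?_⟩
  obtain ⟨Zi, hZi⟩ : ∃ Zi : ↥σ, Zi.1 = irreducibleComponent (g i) :=
    ⟨⟨irreducibleComponent (g i), by rw [hσ]; exact ⟨i, rfl⟩⟩, rfl⟩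
  have hmem : g i ∈ V Zi := hVall Zi i (by rw [hrep Zi, hZi]; exact mem_irreducibleComponent)
  refine ⟨Sigma.ι (fun Z : ↥σ => ((V Z : G.left.Opens) : Scheme.{u})) Zi ⟨g i, hmem⟩, ?_⟩
  rw [← Scheme.Hom.comp_apply, Sigma.ι_desc]
  rfl

end

end Groth.Agent.H90
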