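import Groth.Agent.H90.GrpKerDescent
import Mathlib.AlgebraicGeometry.Morphisms.FlatDescent
import Mathlib.AlgebraicGeometry.Morphisms.QuasiFinite
import Mathlib.AlgebraicGeometry.Artinian

/-! A finite flat surjective homomorphism of group schemes over a field is universally injective
iff its kernel is connected. -/

set_option autoImplicit false
universe u

open CategoryTheory CategoryTheory.Limits MonoidalCategory CartesianMonoidalCategory MonObj
  AlgebraicGeometry

namespace Groth.Agent.H90

/-- A morphism with a surjective section is universally injective. -/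
theorem universallyInjective_of_surjective_section {X S : Scheme.{u}} (p : X ⟶ S) (e : S ⟶ X)
    (he : e ≫ p = 𝟙 S) [Surjective e] : UniversallyInjective p := by
  refine ⟨?_⟩
  intro X' Y' i₁ i₂ p' H
  let e' : Y' ⟶ X' := H.lift (𝟙 Y') (i₂ ≫ e) (by rw [Category.id_comp, Category.assoc, he,
    Category.comp_id])
  have h1 : e' ≫ p' = 𝟙 Y' := H.lift_fst _ _ _
  have h2 : e' ≫ i₁ = i₂ ≫ e := H.lift_snd _ _ _
  have sq : IsPullback e' i₂ i₁ e := by
    refine IsPullback.of_right ?_ h2 H
    rw [h1, he]
    exact IsPullback.id_horiz i₂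
  have hsurj : Surjective e' := MorphismProperty.of_isPullback (P := @Surjective) sq.flip
    inferInstance
  intro a b hab
  obtain ⟨a₀, rfl⟩ := e'.surjective a
  obtain ⟨b₀, rfl⟩ := e'.surjective b
  have ha : p' (e' a₀) = a₀ := by
    rw [← Scheme.Hom.comp_apply, h1]; rfl
  have hb : p' (e' b₀) = b₀ := by
    rw [← Scheme.Hom.comp_apply, h1]; rfl
  have : a₀ = b₀ := by rw [← ha, ← hb]; exact hab
  rw [this]

theorem universallyInjective_iff_connected_kernel (k : Type u) [Field k]
    (X Y N : Over (Spec (CommRingCat.of k))) [GrpObj X] [GrpObj Y]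
    (f : X ⟶ Y) [IsMonHom f] [IsFinite f.left] [Flat f.left] [Surjective f.left]
    (i : N ⟶ X) (hN : IsPullback i (toUnit N) f η[Y]) :
    UniversallyInjective f.left ↔ ConnectedSpace ↥N.left := by
  rw [hom_prop_iff_kernel_prop @UniversallyInjective X Y N f i hN]
  have hsub : Subsingleton ↥(Spec (CommRingCat.of k)) :=
    inferInstanceAs (Subsingleton (PrimeSpectrum k))
  let e : 𝟙_ (Over (Spec (CommRingCat.of k))) ⟶ N :=
    hN.lift η[X] (𝟙 _) (by rw [IsMonHom.one_hom, Category.id_comp])
  have he : e.left ≫ N.hom = 𝟙 (Spec (CommRingCat.of k)) := Over.w e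
  let pt : ↥(Spec (CommRingCat.of k)) := IsLocalRing.closedPoint k
  constructor
  · intro h
    have hinj : Function.Injective N.hom := N.hom.injective
    have : Subsingleton ↥N.left := hinj.subsingleton
    have : Nonempty ↥N.left := ⟨e.left pt⟩
    have : PreconnectedSpace ↥N.left := inferInstance
    exact ⟨‹_›⟩
  · intro hconn
    have hNhom : N.hom = (toUnit N).left ≫ (𝟙_ (Over (Spec (CommRingCat.of k)))).hom :=
      (Over.w (toUnit N)).symm
    have h2 : IsIso (𝟙_ (Over (Spec (CommRingCat.of k)))).hom :=
      inferInstanceAs (IsIso (𝟙 (Spec (CommRingCat.of k))))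
    have sq := hN.map (Over.forget (Spec (CommRingCat.of k)))
    simp only [Over.forget_obj, Over.forget_map] at sq
    have h1 : IsFinite (toUnit N).left := MorphismProperty.of_isPullback (P := @IsFinite) sq
      inferInstance
    have hfin : IsFinite N.hom := by
      rw [hNhom]
      infer_instance
    have hart : IsLocallyArtinian (Spec (CommRingCat.of k)) :=
      Scheme.isLocallyArtinianScheme_Spec.mpr (inferInstanceAs (IsArtinianRing k))
    have : IsLocallyArtinian N.left := IsLocallyArtinian.of_locallyQuasiFinite N.hom
    have hsubN : Subsingleton ↥N.left := subsingleton_of_preconnected_totallyDisconnected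
    have hsurj : Surjective e.left := ⟨fun x => ⟨pt, Subsingleton.elim _ _⟩⟩
    exact universallyInjective_of_surjective_section N.hom e.left he

end Groth.Agent.H90
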