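import Mathlib
import Groth.Agent.H90.GrpStalkTranslate
import Groth.Agent.H90.GrpPerfectSmooth
import Groth.Agent.H24.FlatMono
import Groth.Agent.H10.WeaklyEtaleReduced
import Groth.Agent.H90.FlatAt

/-!
A group scheme locally of finite type over a field `k` such that `K ⊗_k O_{G,e}` is reduced for
some perfect extension `K` of `k` is smooth.
-/

set_option autoImplicit false

universe u

namespace Groth.Agent.H90

open CategoryTheory MonoidalCategory CartesianMonoidalCategory MonObj GrpObj AlgebraicGeometry
open Limits TensorProduct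

/-- A Jacobson scheme whose local rings at closed points are reduced is reduced. -/
theorem isReduced_of_forall_closed_stalk (X : Scheme.{u}) [JacobsonSpace X]
    (h : ∀ x : X, IsClosed ({x} : Set X) → _root_.IsReduced (X.presheaf.stalk x)) :
    AlgebraicGeometry.IsReduced X := by
  apply Groth.Agent.H10.isReduced_of_affine_cover
  intro x
  obtain ⟨_, ⟨U, hU, rfl⟩, hxU, -⟩ := X.isBasis_affineOpens.exists_subset_of_mem_open
    (Set.mem_univ x) isOpen_univ
  refine ⟨U, hU, hxU, ?_⟩
  apply isReduced_ofLocalizationMaximal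
  intro m hm
  let y : PrimeSpectrum Γ(X, U) := ⟨m, hm.isPrime⟩
  have hyU : hU.fromSpec y ∈ U := by
    rw [← SetLike.mem_coe, ← hU.range_fromSpec]
    exact ⟨y, rfl⟩
  have hloc := hU.isLocalization_stalk' y hyU
  have hclosed : IsClosed ({hU.fromSpec y} : Set X) := by
    have hy : y ∈ closedPoints (PrimeSpectrum Γ(X, U)) :=
      (PrimeSpectrum.isClosed_singleton_iff_isMaximal y).mpr hm
    have h2 := hU.fromSpec.isOpenEmbedding.preimage_closedPoints
    have h3 : y ∈ hU.fromSpec ⁻¹' closedPoints X := by
      rw [h2]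
      exact hy
    exact h3
  have hred := h _ hclosed
  let _ : Algebra Γ(X, U) (X.presheaf.stalk (hU.fromSpec y)) :=
    TopCat.Presheaf.algebra_section_stalk X.presheaf ⟨hU.fromSpec y, hyU⟩
  have hloc' : IsLocalization.AtPrime (X.presheaf.stalk (hU.fromSpec y)) m := hloc
  let e := IsLocalization.algEquiv m.primeCompl (Localization.AtPrime m)
    (X.presheaf.stalk (hU.fromSpec y))
  exact isReduced_of_injective e.toRingEquiv.toRingHom e.injective

lemma isReduced_of_iso {A B : CommRingCat.{u}} (e : A ≅ B) [_root_.IsReduced B] :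
    _root_.IsReduced A :=
  isReduced_of_injective e.commRingCatIsoToRingEquiv.toRingHom
    e.commRingCatIsoToRingEquiv.injective

/-- Over an algebraically closed field, a locally finite type group scheme whose local ring at one
closed point is reduced is reduced. -/
theorem isReduced_of_isReduced_stalk_closed (k : Type u) [Field k] [IsAlgClosed k]
    (G : Over (Spec (CommRingCat.of k))) [GrpObj G] [LocallyOfFiniteType G.hom]
    (x₀ : G.left) (hx₀ : IsClosed ({x₀} : Set G.left))
    (h : _root_.IsReduced (G.left.presheaf.stalk x₀)) : AlgebraicGeometry.IsReduced G.left := by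
  have := LocallyOfFiniteType.jacobsonSpace G.hom
  apply isReduced_of_forall_closed_stalk
  intro x hx
  obtain ⟨e₀⟩ := stalk_unit_iso_stalk_closed k G (IsLocalRing.closedPoint k) x₀ hx₀
  obtain ⟨e₁⟩ := stalk_unit_iso_stalk_closed k G (IsLocalRing.closedPoint k) x hx
  exact isReduced_of_iso (e₁.symm ≪≫ e₀)

/-- The local rings of the target of a flat monomorphism at points of the image are reduced if
the source is reduced. -/
lemma isReduced_stalk_of_flat_mono {P Y : Scheme.{u}} (j : P ⟶ Y) [Flat j] [Mono j]
    [AlgebraicGeometry.IsReduced P] (p : P) : _root_.IsReduced (Y.presheaf.stalk (j p)) := by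
  have := Groth.Agent.H24.isIso_stalkMap_of_flat_of_mono j p
  exact isReduced_of_iso (asIso (j.stalkMap p))

section main

variable (k : Type u) [Field k] (G : Over (Spec (CommRingCat.of k))) [GrpObj G]
  [LocallyOfFiniteType G.hom]

/-- Base change to an algebraically closed field: if the local ring at a rational point becomes
reduced after tensoring with an algebraically closed extension, the group is smooth. -/
theorem smooth_of_isReduced_tensor_algClosed (σ : Spec (CommRingCat.of k) ⟶ G.left)
    (hσ : σ ≫ G.hom = 𝟙 _) (e : G.left) (he : ∀ a, σ a = e)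
    [Algebra k (G.left.presheaf.stalk e)]
    (hcompat : Spec.map (CommRingCat.ofHom (algebraMap k (G.left.presheaf.stalk e))) =
      G.left.fromSpecStalk e ≫ G.hom)
    (Ω : Type u) [Field Ω] [IsAlgClosed Ω] [Algebra k Ω]
    (hred : _root_.IsReduced (G.left.presheaf.stalk e ⊗[k] Ω)) : Smooth G.hom := by
  let g : Spec (CommRingCat.of Ω) ⟶ Spec (CommRingCat.of k) :=
    Spec.map (CommRingCat.ofHom (algebraMap k Ω))
  let j := G.left.fromSpecStalk e
  have hG : GrpObj (Over.mk G.hom) := ‹GrpObj G›
  let _ : GrpObj (Over.mk (pullback.snd G.hom g)) := Over.grpObjMkPullbackSnd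
  -- the flat monomorphism
  let jΩ := pullback.snd j (pullback.fst G.hom g)
  have hPred : AlgebraicGeometry.IsReduced (pullback j (pullback.fst G.hom g)) := by
    have h1 : AlgebraicGeometry.IsReduced (Spec (CommRingCat.of (G.left.presheaf.stalk e ⊗[k] Ω))) :=
      inferInstance
    have h2 : AlgebraicGeometry.IsReduced
        (pullback (Spec.map (CommRingCat.ofHom (algebraMap k (G.left.presheaf.stalk e)))) g) :=
      isReduced_of_isOpenImmersion (pullbackSpecIso k (G.left.presheaf.stalk e) Ω).hom
    rw [hcompat] at h2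
    exact isReduced_of_isOpenImmersion (pullbackRightPullbackFstIso G.hom g j).hom
  -- the rational point
  let σΩ : Spec (CommRingCat.of Ω) ⟶ pullback G.hom g :=
    pullback.lift (g ≫ σ) (𝟙 _) (by rw [Category.assoc, hσ, Category.comp_id, Category.id_comp])
  have hσΩ : σΩ ≫ pullback.snd G.hom g = 𝟙 _ := pullback.lift_snd _ _ _
  let x₀ := σΩ (IsLocalRing.closedPoint Ω)
  have hx₀ : IsClosed ({x₀} : Set ↥(pullback G.hom g)) :=
    (pointEquivClosedPoint (pullback.snd G.hom g) ⟨σΩ, hσΩ⟩).2
  have hx₀range : x₀ ∈ Set.range jΩ := by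
    rw [Scheme.Pullback.range_snd]
    refine ⟨IsLocalRing.closedPoint _, ?_⟩
    rw [Scheme.fromSpecStalk_closedPoint]
    change e = (pullback.fst G.hom g) (σΩ (IsLocalRing.closedPoint Ω))
    rw [← Scheme.Hom.comp_apply, pullback.lift_fst, Scheme.Hom.comp_apply, he]
  obtain ⟨p, hp⟩ := hx₀range
  have hstalk : _root_.IsReduced ((pullback G.hom g).presheaf.stalk x₀) := by
    rw [← hp]
    exact isReduced_stalk_of_flat_mono jΩ p
  have hlft : LocallyOfFiniteType (Over.mk (pullback.snd G.hom g)).hom :=
    inferInstanceAs (LocallyOfFiniteType (pullback.snd G.hom g))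
  have hGΩred : AlgebraicGeometry.IsReduced (Over.mk (pullback.snd G.hom g)).left :=
    isReduced_of_isReduced_stalk_closed Ω (Over.mk (pullback.snd G.hom g)) x₀ hx₀ hstalk
  have hsmooth : Smooth (pullback.snd G.hom g) :=
    smooth_of_reduced_perfect Ω (Over.mk (pullback.snd G.hom g))
  apply MorphismProperty.of_pullback_snd_of_descendsAlong
    (Q := @Surjective ⊓ @Flat ⊓ @QuasiCompact) (g := g)
  · exact ⟨⟨inferInstance, inferInstance⟩, inferInstance⟩
  · exact hsmooth

/-- The case of a perfect extension. -/
theorem smooth_of_isReduced_tensor_perfect (σ : Spec (CommRingCat.of k) ⟶ G.left)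
    (hσ : σ ≫ G.hom = 𝟙 _) (e : G.left) (he : ∀ a, σ a = e)
    [Algebra k (G.left.presheaf.stalk e)]
    (hcompat : Spec.map (CommRingCat.ofHom (algebraMap k (G.left.presheaf.stalk e))) =
      G.left.fromSpecStalk e ≫ G.hom)
    (K : Type u) [Field K] [PerfectField K] [Algebra k K]
    (hred : _root_.IsReduced (K ⊗[k] G.left.presheaf.stalk e)) : Smooth G.hom := by
  let Ω := AlgebraicClosure K
  have : IsScalarTower k K Ω := inferInstance
  have hgr : Algebra.IsGeometricallyReduced K Ω := isGeometricallyReduced_of_perfectField' K Ω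
  have h1 : _root_.IsReduced (Ω ⊗[K] (K ⊗[k] G.left.presheaf.stalk e)) :=
    Groth.Agent.H13.isReduced_tensorProduct_of_isReduced_of_isGeometricallyReduced K Ω _
  let e1 := Algebra.TensorProduct.cancelBaseChange k K Ω Ω (G.left.presheaf.stalk e)
  let e2 := Algebra.TensorProduct.comm k (G.left.presheaf.stalk e) Ω
  have h2 : _root_.IsReduced (Ω ⊗[k] G.left.presheaf.stalk e) :=
    isReduced_of_injective e1.symm.toRingEquiv.toRingHom e1.symm.injective
  have h3 : _root_.IsReduced (G.left.presheaf.stalk e ⊗[k] Ω) :=
    isReduced_of_injective e2.toRingEquiv.toRingHom e2.injective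
  exact smooth_of_isReduced_tensor_algClosed k G σ hσ e he hcompat Ω h3

end main

end Groth.Agent.H90
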