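import Mathlib
import Groth.Agent.H90.GrpStalkReduced

set_option autoImplicit false

universe u

namespace Groth.Agent.H90

open CategoryTheory MonoidalCategory CartesianMonoidalCategory MonObj GrpObj AlgebraicGeometry
open Limits TensorProduct

lemma specMap_structure_stalk {R : CommRingCat.{u}} {X : Scheme.{u}} (f : X ⟶ Spec R) (x : X) :
    Spec.map ((Scheme.ΓSpecIso R).inv ≫ f.appTop ≫ X.presheaf.germ ⊤ x trivial) =
      X.fromSpecStalk x ≫ f := by
  rw [Spec.map_comp, Spec.map_comp, ← Scheme.fromSpecStalk_toSpecΓ]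
  simp only [Category.assoc]
  rw [← Scheme.toSpecΓ_naturality_assoc, toSpecΓ_SpecMap_ΓSpecIso_inv, Category.comp_id]

theorem smooth_of_isReduced_tensor_unit (k : Type u) [Field k]
    (G : Over (Spec (CommRingCat.of k))) [GrpObj G] [LocallyOfFiniteType G.hom]
    (pt : ↥(𝟙_ (Over (Spec (CommRingCat.of k)))).left) (K : Type u) [Field K] [Algebra k K]
    [PerfectField K] :
    letI := ((Scheme.ΓSpecIso (CommRingCat.of k)).inv ≫ G.hom.appTop ≫
      G.left.presheaf.germ ⊤ (η[G].left.base pt) trivial).hom.toAlgebra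
    _root_.IsReduced (TensorProduct k K (G.left.presheaf.stalk (η[G].left.base pt))) →
      Smooth G.hom := by
  intro h
  let inst : Algebra k (G.left.presheaf.stalk (η[G].left.base pt)) :=
    ((Scheme.ΓSpecIso (CommRingCat.of k)).inv ≫ G.hom.appTop ≫
      G.left.presheaf.germ ⊤ (η[G].left.base pt) trivial).hom.toAlgebra
  have hsub : Subsingleton ↥(Spec (CommRingCat.of k)) :=
    inferInstanceAs (Subsingleton (PrimeSpectrum k))
  refine smooth_of_isReduced_tensor_perfect k G η[G].left (Over.w η[G]) (η[G].left.base pt)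
    (fun a => ?_) ?_ K h
  · exact congrArg _ (Subsingleton.elim _ _)
  · exact specMap_structure_stalk G.hom (η[G].left.base pt)

end Groth.Agent.H90
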