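import Groth.Agent.H21.UnramFibre
import Mathlib.AlgebraicGeometry.Morphisms.IsIso
import Mathlib.CategoryTheory.Monoidal.Cartesian.Over
import Mathlib.CategoryTheory.Monoidal.Grp

set_option autoImplicit false
set_option linter.style.haveILetI false

universe u

open CategoryTheory CategoryTheory.Limits MonoidalCategory CartesianMonoidalCategory MonObj
  AlgebraicGeometry

namespace Groth.Agent.H90

/-- a section of a formally unramified morphism locally of finite type is an open immersion -/
theorem isOpenImmersion_of_section {X S : Scheme.{u}} (f : X ⟶ S) [FormallyUnramified f]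
    [LocallyOfFiniteType f] (e : S ⟶ X) (he : e ≫ f = 𝟙 S) : IsOpenImmersion e := by
  have h : (@FormallyUnramified ⊓ @LocallyOfFiniteType : MorphismProperty Scheme.{u}) ≤
      (@IsOpenImmersion : MorphismProperty Scheme.{u}).diagonal := by
    intro X Y f ⟨h1, h2⟩
    have : FormallyUnramified f := h1
    have : LocallyOfFiniteType f := h2
    exact inferInstanceAs (IsOpenImmersion (pullback.diagonal f))
  have := (MorphismProperty.hasOfPostcompProperty_iff_le_diagonal).mpr h
  have hq : (@FormallyUnramified ⊓ @LocallyOfFiniteType : MorphismProperty Scheme.{u}) f :=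
    ⟨‹_›, ‹_›⟩
  have hp : IsOpenImmersion (e ≫ f) := by rw [he]; infer_instance
  exact MorphismProperty.of_postcomp (W := @IsOpenImmersion) e f hq hp

/-- a morphism locally of finite type with a section, all of whose fibres are trivial, is an
isomorphism -/
theorem isIso_of_section_of_fibres {X S : Scheme.{u}} (f : X ⟶ S) [LocallyOfFiniteType f]
    (e : S ⟶ X) (he : e ≫ f = 𝟙 S)
    (h : ∀ s : S, IsIso (f.fiberToSpecResidueField s)) : IsIso f := by
  have hunr : FormallyUnramified f :=
    Groth.Agent.H21.UnramFibre.formallyUnramified_of_fiberToSpecResidueField f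
      (fun s => by haveI := h s; infer_instance)
  have hopen : IsOpenImmersion e := isOpenImmersion_of_section f e he
  have hsurj : Surjective e := by
    constructor
    intro x
    let s : S := f.base x
    refine ⟨s, ?_⟩
    haveI := h s
    have hsub : Subsingleton (f.fiber s) := by
      have hh : (f.fiber s) ≃ₜ Spec (S.residueField s) :=
        Scheme.homeoOfIso (asIso (f.fiberToSpecResidueField s))
      exact hh.subsingleton
    have h1 : x ∈ Set.range (f.fiberι s).base := by
      rw [f.range_fiberι s]; rfl
    have h2 : e.base s ∈ Set.range (f.fiberι s).base := by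
      rw [f.range_fiberι s]
      change f.base (e.base s) = s
      rw [← Scheme.Hom.comp_apply, he]; rfl
    obtain ⟨a, ha⟩ := h1
    obtain ⟨b, hb⟩ := h2
    rw [← ha, ← hb, Subsingleton.elim a b]
  have hiso : IsIso e := (isIso_iff_isOpenImmersion_and_surjective e).mpr ⟨hopen, hsurj⟩
  have : IsIso (e ≫ f) := by rw [he]; infer_instance
  exact IsIso.of_isIso_comp_left e f

/-- SGA3-style: a group scheme locally of finite type is trivial iff all its fibres are. -/
theorem grp_isIso_hom_iff_fibres (S : Scheme.{u}) (G : Over S) [GrpObj G]
    [LocallyOfFiniteType G.hom] :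
    IsIso G.hom ↔ ∀ s : S, IsIso (G.hom.fiberToSpecResidueField s) := by
  constructor
  · intro h s
    exact inferInstanceAs (IsIso (pullback.snd G.hom (S.fromSpecResidueField s)))
  · intro h
    exact isIso_of_section_of_fibres G.hom η[G].left (Over.w η[G]) h

end Groth.Agent.H90
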