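import Mathlib
import Groth.Prelude.Def_Grpd
import Groth.Agent.H90.GrpdFibre
import Groth.Agent.H90.GrpdRank

/-!
Automorphisms of the arrow scheme of a groupoid over a field moving the identity to a
"rational" point.
-/

set_option autoImplicit false

universe u

namespace Groth.Agent.H90

open CategoryTheory CategoryTheory.Limits AlgebraicGeometry

/-- The canonical morphism `Spec κ(x) ⟶ Spec k` is an isomorphism for a field `k`. -/
lemma isIso_fromSpecResidueField_spec_field (k : Type u) [Field k]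
    (pt : ↥(Spec (CommRingCat.of k))) :
    IsIso ((Spec (CommRingCat.of k)).fromSpecResidueField pt) := by
  rw [← Scheme.Spec.map_residueFieldIso_inv_eq_fromSpecResidueField]
  have : IsIso (CommRingCat.ofHom (algebraMap k pt.asIdeal.ResidueField)) := by
    have hbij : Function.Bijective (algebraMap k pt.asIdeal.ResidueField) :=
      (Ideal.algEquivResidueFieldOfField pt.asIdeal).bijective
    exact (ConcreteCategory.isIso_iff_bijective _).mpr hbij
  infer_instance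

/-- If `U ≅ Spec k` and `f : R ⟶ U` induces an isomorphism of residue fields at `r`, then
`Spec κ(r) ⟶ R ⟶ U` is an isomorphism. -/
lemma isIso_fromSpecResidueField_comp {R U : Scheme.{u}} (k : Type u) [Field k]
    (eU : U ≅ Spec (CommRingCat.of k)) (f : R ⟶ U) (r : R) (h : IsIso (f.residueFieldMap r)) :
    IsIso (R.fromSpecResidueField r ≫ f) := by
  have h1 : IsIso (U.fromSpecResidueField (f r)) := by
    have h2 := Scheme.Hom.SpecMap_residueFieldMap_fromSpecResidueField (f := eU.hom) (f r)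
    have h3 : IsIso ((Spec (CommRingCat.of k)).fromSpecResidueField (eU.hom (f r))) :=
      isIso_fromSpecResidueField_spec_field k _
    have h4 : IsIso (U.fromSpecResidueField (f r) ≫ eU.hom) := by
      rw [← h2]; infer_instance
    exact IsIso.of_isIso_comp_right _ eU.hom
  rw [← Scheme.Hom.SpecMap_residueFieldMap_fromSpecResidueField]
  infer_instance

section
variable {S : Scheme.{u}} (G : Grpd.GroupoidScheme S)

/-- Left translation by a section `ρ` of `s` whose composite with `t` is an automorphism of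
`U` is an automorphism of `R`, and it carries `e` to `ρ`. -/
theorem exists_aut_of_section (ρ : G.U ⟶ G.R) (hρs : ρ ≫ G.s = 𝟙 G.U) [IsIso (ρ ≫ G.t)] :
    ∃ φ : G.R ≅ G.R, G.e ≫ φ.hom = ρ := by
  obtain ⟨θ, hθ⟩ : ∃ θ : G.U ⟶ G.U, θ = ρ ≫ G.t := ⟨_, rfl⟩
  have hθiso : IsIso θ := by rw [hθ]; infer_instance
  have h1 : (G.t ≫ ρ) ≫ G.s = 𝟙 G.R ≫ G.t := by
    rw [Category.assoc, hρs, Category.comp_id, Category.id_comp]
  have h2 : (G.t ≫ inv θ ≫ ρ ≫ G.i) ≫ G.s = 𝟙 G.R ≫ G.t := by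
    rw [Category.assoc, Category.assoc, Category.assoc, G.i_s, ← hθ, IsIso.inv_hom_id,
      Category.comp_id, Category.id_comp]
  obtain ⟨φ, hφ⟩ : ∃ φ : G.R ⟶ G.R, φ = gcomp G (G.t ≫ ρ) (𝟙 G.R) h1 := ⟨_, rfl⟩
  obtain ⟨ψ, hψ⟩ : ∃ ψ : G.R ⟶ G.R, ψ = gcomp G (G.t ≫ inv θ ≫ ρ ≫ G.i) (𝟙 G.R) h2 := ⟨_, rfl⟩
  have hφt : φ ≫ G.t = G.t ≫ θ := by
    rw [hφ, gcomp_t, Category.assoc, hθ]
  have hψt : ψ ≫ G.t = G.t ≫ inv θ := by
    rw [hψ, gcomp_t, Category.assoc, Category.assoc, Category.assoc, G.i_t, hρs,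
      Category.comp_id]
  have hφψ : φ ≫ ψ = 𝟙 G.R := by
    rw [hψ, comp_gcomp]
    have e1 : φ ≫ G.t ≫ inv θ ≫ ρ ≫ G.i = (G.t ≫ ρ) ≫ G.i := by
      rw [← Category.assoc, hφt, Category.assoc, IsIso.hom_inv_id_assoc, Category.assoc]
    have e2 : φ ≫ 𝟙 G.R = gcomp G (G.t ≫ ρ) (𝟙 G.R) h1 := by rw [Category.comp_id, hφ]
    have e3 : ((G.t ≫ ρ) ≫ G.i) ≫ G.s = gcomp G (G.t ≫ ρ) (𝟙 G.R) h1 ≫ G.t := by
      rw [gcomp_t, Category.assoc, G.i_s]
    rw [gcomp_congr G e1 e2 _ e3]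
    rw [← gcomp_assoc G ((G.t ≫ ρ) ≫ G.i) (G.t ≫ ρ) (𝟙 G.R)
      (by rw [Category.assoc, G.i_s]) h1]
    apply e_gcomp
    rw [i_gcomp G (G.t ≫ ρ) _ rfl, Category.assoc, reassoc_of% hρs, Category.id_comp]
  have hψφ : ψ ≫ φ = 𝟙 G.R := by
    rw [hφ, comp_gcomp]
    have e1 : ψ ≫ G.t ≫ ρ = G.t ≫ inv θ ≫ ρ := by
      rw [← Category.assoc, hψt, Category.assoc]
    have e2 : ψ ≫ 𝟙 G.R = gcomp G ((G.t ≫ inv θ ≫ ρ) ≫ G.i) (𝟙 G.R)
        (by rw [← h2]; simp only [Category.assoc]) := by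
      rw [Category.comp_id, hψ]
      apply gcomp_congr
      · simp only [Category.assoc]
      · rfl
    have e3 : (G.t ≫ inv θ ≫ ρ) ≫ G.s = gcomp G ((G.t ≫ inv θ ≫ ρ) ≫ G.i) (𝟙 G.R)
        (by rw [← h2]; simp only [Category.assoc]) ≫ G.t := by
      rw [gcomp_t]; simp only [Category.assoc, G.i_t]
    rw [gcomp_congr G e1 e2 _ e3]
    rw [← gcomp_assoc G (G.t ≫ inv θ ≫ ρ) ((G.t ≫ inv θ ≫ ρ) ≫ G.i) (𝟙 G.R)
      (by simp only [Category.assoc, G.i_t]) (by rw [← h2]; simp only [Category.assoc])]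
    apply e_gcomp
    have hθ' : ρ ≫ G.t = θ := hθ.symm
    rw [gcomp_i G (G.t ≫ inv θ ≫ ρ) _ rfl]
    simp only [Category.assoc]
    rw [reassoc_of% hθ', IsIso.inv_hom_id_assoc, Category.id_comp]
  refine ⟨⟨φ, ψ, hφψ, hψφ⟩, ?_⟩
  change G.e ≫ φ = ρ
  rw [hφ, comp_gcomp]
  have e1 : G.e ≫ G.t ≫ ρ = ρ := by rw [← Category.assoc, G.e_t, Category.id_comp]
  have e2 : G.e ≫ 𝟙 G.R = G.e := Category.comp_id _
  rw [gcomp_congr G e1 e2 _ (by rw [hρs, G.e_t])]
  apply gcomp_e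
  rw [← Category.assoc, hρs, Category.id_comp]

theorem exists_aut_map_e_eq (k : Type u) [Field k] (eU : G.U ≅ Spec (CommRingCat.of k))
    (r : G.R) (hs : IsIso (G.s.residueFieldMap r)) (ht : IsIso (G.t.residueFieldMap r)) :
    ∃ φ : G.R ≅ G.R, φ.hom (G.e (eU.inv (IsLocalRing.closedPoint k))) = r := by
  have hσ : IsIso (G.R.fromSpecResidueField r ≫ G.s) :=
    isIso_fromSpecResidueField_comp k eU G.s r hs
  have hτ : IsIso (G.R.fromSpecResidueField r ≫ G.t) :=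
    isIso_fromSpecResidueField_comp k eU G.t r ht
  obtain ⟨ρ, hρ⟩ : ∃ ρ : G.U ⟶ G.R,
      ρ = inv (G.R.fromSpecResidueField r ≫ G.s) ≫ G.R.fromSpecResidueField r := ⟨_, rfl⟩
  have hρs : ρ ≫ G.s = 𝟙 G.U := by
    rw [hρ, Category.assoc, IsIso.inv_hom_id]
  have hρt : IsIso (ρ ≫ G.t) := by
    rw [hρ, Category.assoc]; infer_instance
  obtain ⟨φ, hφ⟩ := exists_aut_of_section G ρ hρs
  refine ⟨φ, ?_⟩
  rw [← Scheme.Hom.comp_apply, hφ, hρ, Scheme.Hom.comp_apply, Scheme.fromSpecResidueField_apply]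

end

end Groth.Agent.H90
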