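import Mathlib
import Groth.Prelude.Def_Grpd
import Groth.Agent.H90.GrpdRank

set_option autoImplicit false

universe u

namespace Groth.Agent.H90

open CategoryTheory CategoryTheory.Limits AlgebraicGeometry MorphismProperty

section
variable {P P' : MorphismProperty Scheme.{u}} [P.IsLocalAtTarget (Scheme.precoverage P')]

lemma P_of_isPullback_of_restrict {X Y V' Z : Scheme.{u}} (f : X ⟶ Y) (W : Y.Opens)
    (σ : V' ⟶ W.toScheme)
    (hσ : Presieve.singleton σ ∈ Scheme.precoverage P' W.toScheme) (hf : P (f ∣_ W))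
    {a : Z ⟶ X} {q : Z ⟶ V'} (sq : IsPullback a q f (σ ≫ W.ι)) : P q := by
  have sqr : IsPullback (f ⁻¹ᵁ W).ι (f ∣_ W) f W.ι := (isPullback_morphismRestrict f W).flip
  have sq' := IsPullback.of_right' sq sqr
  have h1 : P (pullback.snd (f ∣_ W) σ) :=
    IsLocalAtTarget.pullbackSnd hσ (Presieve.singleton.mk) hf
  rw [← sq'.isoPullback_hom_snd]
  exact (P.cancel_left_of_respectsIso _ _).mpr h1

lemma P_restrict_of_isPullback {X Y V' Z : Scheme.{u}} (f : X ⟶ Y) (W' : Y.Opens)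
    (τ : V' ⟶ W'.toScheme)
    (hτ : Presieve.singleton τ ∈ Scheme.precoverage P' W'.toScheme)
    {a : Z ⟶ X} {q : Z ⟶ V'} (sq : IsPullback a q f (τ ≫ W'.ι)) (hq : P q) : P (f ∣_ W') := by
  have sqr : IsPullback (f ⁻¹ᵁ W').ι (f ∣_ W') f W'.ι :=
    (isPullback_morphismRestrict f W').flip
  have sq' := IsPullback.of_right' sq sqr
  apply IsLocalAtTarget.of_forall_pullbackSnd hτ
  intro U g _ hg
  cases hg
  rw [← sq'.isoPullback_inv_snd]
  exact (P.cancel_left_of_respectsIso _ _).mpr hq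

lemma preimage_le_of_iso {U R X₁ : Scheme.{u}} (s t : R ⟶ U) (f₁ : X₁ ⟶ U)
    [P'.IsStableUnderBaseChange] [P'.IsStableUnderComposition]
    (hOI : ∀ {A B : Scheme.{u}} (j : A ⟶ B) [IsOpenImmersion j], P' j)
    (hopen : ∀ {A B : Scheme.{u}} (j : A ⟶ B), P' j → IsOpenMap j)
    (hs : P' s) (hs' : Function.Surjective s) (ht : P' t)
    (φ : pullback f₁ s ≅ pullback f₁ t) (hφ : φ.hom ≫ pullback.snd f₁ t = pullback.snd f₁ s)
    (W : U.Opens) (hW : P (f₁ ∣_ W)) (hmax : ∀ W' : U.Opens, P (f₁ ∣_ W') → W' ≤ W) :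
    s ⁻¹ᵁ W ≤ t ⁻¹ᵁ W := by
  obtain ⟨W', hW'⟩ : ∃ W' : U.Opens, (W' : Set U) = t '' (s ⁻¹ᵁ W : Set R) :=
    ⟨⟨t '' (s ⁻¹ᵁ W : Set R), hopen t ht _ (s ⁻¹ᵁ W).2⟩, rfl⟩
  -- τ
  have hrange : Set.range ((s ⁻¹ᵁ W).ι ≫ t) ⊆ Set.range W'.ι := by
    rintro _ ⟨x, rfl⟩
    rw [Scheme.Opens.range_ι, hW']
    exact ⟨(s ⁻¹ᵁ W).ι x, x.2, rfl⟩
  obtain ⟨τ, hτ⟩ : ∃ τ : (s ⁻¹ᵁ W).toScheme ⟶ W'.toScheme, τ ≫ W'.ι = (s ⁻¹ᵁ W).ι ≫ t :=
    ⟨IsOpenImmersion.lift W'.ι ((s ⁻¹ᵁ W).ι ≫ t) hrange, IsOpenImmersion.lift_fac _ _ _⟩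
  have hτK : Presieve.singleton τ ∈ Scheme.precoverage P' W'.toScheme := by
    rw [Scheme.singleton_mem_precoverage_iff]
    refine ⟨?_, ?_⟩
    · intro w'
      have hw' : w'.1 ∈ (W' : Set U) := w'.2
      rw [hW'] at hw'
      obtain ⟨ρ, hρ, hρw⟩ := hw'
      refine ⟨⟨ρ, hρ⟩, ?_⟩
      apply W'.ι.isOpenEmbedding.injective
      change (τ ≫ W'.ι) ⟨ρ, hρ⟩ = _
      rw [hτ]
      exact hρw
    · apply P'.of_postcomp τ W'.ι (W' := MorphismProperty.monomorphisms _)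
      · exact inferInstanceAs (Mono W'.ι)
      · rw [hτ]
        exact P'.comp_mem _ _ (hOI _) ht
  -- σ
  have hσ : (s ∣_ W) ≫ W.ι = (s ⁻¹ᵁ W).ι ≫ s := morphismRestrict_ι s W
  have hσK : Presieve.singleton (s ∣_ W) ∈ Scheme.precoverage P' W.toScheme := by
    rw [Scheme.singleton_mem_precoverage_iff]
    refine ⟨?_, ?_⟩
    · intro w
      obtain ⟨ρ, hρ⟩ := hs' w.1
      have hρW : ρ ∈ s ⁻¹ᵁ W := by
        change s ρ ∈ W
        rw [hρ]; exact w.2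
      refine ⟨⟨ρ, hρW⟩, ?_⟩
      apply W.ι.isOpenEmbedding.injective
      change ((s ∣_ W) ≫ W.ι) ⟨ρ, hρW⟩ = _
      rw [hσ]
      exact hρ
    · exact P'.of_isPullback (isPullback_morphismRestrict s W).flip hs
  -- the chain of pullback squares
  have sq_s : IsPullback (pullback.fst f₁ s) (pullback.snd f₁ s) f₁ s :=
    IsPullback.of_hasPullback f₁ s
  have sq_t : IsPullback (pullback.fst f₁ t) (pullback.snd f₁ t) f₁ t :=
    IsPullback.of_hasPullback f₁ t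
  have big : IsPullback (pullback.fst f₁ ((s ⁻¹ᵁ W).ι ≫ s)) (pullback.snd f₁ ((s ⁻¹ᵁ W).ι ≫ s))
      f₁ ((s ⁻¹ᵁ W).ι ≫ s) := IsPullback.of_hasPullback _ _
  have sqc := IsPullback.of_right' big sq_s
  have sqd : IsPullback φ.hom (pullback.snd f₁ s) (pullback.snd f₁ t) (𝟙 R) :=
    IsPullback.of_horiz_isIso ⟨by rw [hφ, Category.comp_id]⟩
  have sqe := sqc.paste_horiz sqd
  have sqf := sqe.paste_horiz sq_t
  have hbot : ((s ⁻¹ᵁ W).ι ≫ 𝟙 R) ≫ t = τ ≫ W'.ι := by rw [Category.comp_id, hτ]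
  rw [hbot] at sqf
  -- P q
  have big' : IsPullback (pullback.fst f₁ ((s ⁻¹ᵁ W).ι ≫ s))
      (pullback.snd f₁ ((s ⁻¹ᵁ W).ι ≫ s)) f₁ ((s ∣_ W) ≫ W.ι) := by
    rw [hσ]; exact big
  have hq : P (pullback.snd f₁ ((s ⁻¹ᵁ W).ι ≫ s)) :=
    P_of_isPullback_of_restrict f₁ W (s ∣_ W) hσK hW big'
  have hPW' : P (f₁ ∣_ W') := P_restrict_of_isPullback f₁ W' τ hτK sqf hq
  have hle := hmax W' hPW'
  intro ρ hρ
  apply hle
  change t ρ ∈ (W' : Set U)
  rw [hW']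
  exact ⟨ρ, hρ, rfl⟩

end

lemma preimage_maxOpen_eq_aux {S : Scheme.{u}} (G : Grpd.GroupoidScheme S)
    (P' : MorphismProperty Scheme.{u})
    [P'.IsStableUnderBaseChange] [P'.IsStableUnderComposition]
    (hOI : ∀ {A B : Scheme.{u}} (j : A ⟶ B) [IsOpenImmersion j], P' j)
    (hopen : ∀ {A B : Scheme.{u}} (j : A ⟶ B), P' j → IsOpenMap j)
    (P : MorphismProperty Scheme.{u}) [P.IsLocalAtTarget (Scheme.precoverage P')]
    (hs : Presieve.singleton G.s ∈ Scheme.precoverage P' G.U)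
    (ht : Presieve.singleton G.t ∈ Scheme.precoverage P' G.U) (W : G.U.Opens)
    (hW : P (G.s ∣_ W)) (hmax : ∀ W' : G.U.Opens, P (G.s ∣_ W') → W' ≤ W) :
    G.s ⁻¹ᵁ W = G.t ⁻¹ᵁ W := by
  rw [Scheme.singleton_mem_precoverage_iff] at hs ht
  have hφ : (isPullback_c_snd G).isoPullback.hom ≫ pullback.snd G.s G.s = pullback.snd G.s G.t :=
    (isPullback_c_snd G).isoPullback_hom_snd
  apply le_antisymm
  · exact preimage_le_of_iso G.s G.t G.s hOI hopen hs.2 hs.1 ht.2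
      (isPullback_c_snd G).isoPullback.symm (by rw [Iso.symm_hom, Iso.inv_comp_eq, hφ]) W hW hmax
  · exact preimage_le_of_iso G.t G.s G.s hOI hopen ht.2 ht.1 hs.2
      (isPullback_c_snd G).isoPullback hφ W hW hmax

theorem preimage_maxOpen_eq {S : Scheme.{u}} (G : Grpd.GroupoidScheme S)
    (K : Precoverage Scheme.{u})
    (hK : K = Scheme.zariskiPrecoverage ∨ K = Scheme.etalePrecoverage ∨
      K = Scheme.precoverage @Smooth ∨ K = Scheme.fppfPrecoverage)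
    (P : MorphismProperty Scheme.{u}) [P.IsLocalAtTarget K]
    (hs : Presieve.singleton G.s ∈ K G.U) (ht : Presieve.singleton G.t ∈ K G.U)
    (W : G.U.Opens) (hW : P (G.s ∣_ W)) (hmax : ∀ W' : G.U.Opens, P (G.s ∣_ W') → W' ≤ W) :
    G.s ⁻¹ᵁ W = G.t ⁻¹ᵁ W := by
  rcases hK with rfl | rfl | rfl | rfl
  · exact preimage_maxOpen_eq_aux G @IsOpenImmersion (fun j _ => inferInstance)
      (fun j (hj : IsOpenImmersion j) => j.isOpenEmbedding.isOpenMap) P hs ht W hW hmax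
  · have : P.IsLocalAtTarget (Scheme.precoverage @Etale) :=
      ‹P.IsLocalAtTarget Scheme.etalePrecoverage›
    exact preimage_maxOpen_eq_aux G @Etale (fun j _ => inferInstance)
      (fun j (hj : Etale j) => j.isOpenMap) P hs ht W hW hmax
  · exact preimage_maxOpen_eq_aux G @Smooth (fun j _ => inferInstance)
      (fun j (hj : Smooth j) => j.isOpenMap) P hs ht W hW hmax
  · have : P.IsLocalAtTarget (Scheme.precoverage (@Flat ⊓ @LocallyOfFinitePresentation)) :=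
      ‹P.IsLocalAtTarget Scheme.fppfPrecoverage›
    exact preimage_maxOpen_eq_aux G (@Flat ⊓ @LocallyOfFinitePresentation)
      (fun j _ => ⟨inferInstance, inferInstance⟩)
      (fun j hj => by
        have : Flat j := hj.1
        have : LocallyOfFinitePresentation j := hj.2
        exact j.isOpenMap) P hs ht W hW hmax

end Groth.Agent.H90
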