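import Mathlib
import Groth.Prelude.Def_Grpd
import Groth.Agent.H90.GrpdInvariant

set_option autoImplicit false

universe u

namespace Groth.Agent.H90

open CategoryTheory CategoryTheory.Limits AlgebraicGeometry MorphismProperty

section
variable {S : Scheme.{u}} (G : Grpd.GroupoidScheme S)

lemma j_fst : G.j ≫ pullback.fst G.pU G.pU = G.t := pullback.lift_fst _ _ _
lemma j_snd : G.j ≫ pullback.snd G.pU G.pU = G.s := pullback.lift_snd _ _ _
lemma diag_fst : G.diag ≫ pullback.fst G.pU G.pU = 𝟙 _ := pullback.lift_fst _ _ _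
lemma diag_snd : G.diag ≫ pullback.snd G.pU G.pU = 𝟙 _ := pullback.lift_snd _ _ _

lemma stab_fst_t : pullback.fst G.j G.diag ≫ G.t = pullback.snd G.j G.diag := by
  have h := pullback.condition (f := G.j) (g := G.diag)
  have h' := congrArg (· ≫ pullback.fst G.pU G.pU) h
  simp only [Category.assoc] at h'
  rw [j_fst, diag_fst, Category.comp_id] at h'
  exact h'

lemma stab_fst_s : pullback.fst G.j G.diag ≫ G.s = pullback.snd G.j G.diag := by
  have h := pullback.condition (f := G.j) (g := G.diag)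
  have h' := congrArg (· ≫ pullback.snd G.pU G.pU) h
  simp only [Category.assoc] at h'
  rw [j_snd, diag_snd, Category.comp_id] at h'
  exact h'

/-- a `T`-point of the stabilizer from an arrow with equal source and target -/
noncomputable def stabLift {T : Scheme.{u}} (γ : T ⟶ G.R) (v : T ⟶ G.U) (ht : γ ≫ G.t = v)
    (hs : γ ≫ G.s = v) : T ⟶ pullback G.j G.diag :=
  pullback.lift γ v (by
    apply pullback.hom_ext
    · rw [Category.assoc, Category.assoc, j_fst, diag_fst, ht, Category.comp_id]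
    · rw [Category.assoc, Category.assoc, j_snd, diag_snd, hs, Category.comp_id])

lemma stabLift_fst {T : Scheme.{u}} (γ : T ⟶ G.R) (v : T ⟶ G.U) (ht : γ ≫ G.t = v)
    (hs : γ ≫ G.s = v) : stabLift G γ v ht hs ≫ pullback.fst G.j G.diag = γ :=
  pullback.lift_fst _ _ _

lemma stabLift_snd {T : Scheme.{u}} (γ : T ⟶ G.R) (v : T ⟶ G.U) (ht : γ ≫ G.t = v)
    (hs : γ ≫ G.s = v) : stabLift G γ v ht hs ≫ pullback.snd G.j G.diag = v :=
  pullback.lift_snd _ _ _

lemma stab_hom_ext {T : Scheme.{u}} (x y : T ⟶ pullback G.j G.diag)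
    (h : x ≫ pullback.fst G.j G.diag = y ≫ pullback.fst G.j G.diag) : x = y := by
  apply pullback.hom_ext h
  rw [← stab_fst_t, ← Category.assoc, h, Category.assoc]

/-- conjugation `γ ↦ ρ ∘ γ ∘ ρ⁻¹` on `T`-points -/
noncomputable def conj {T : Scheme.{u}} (ρ γ : T ⟶ G.R) (h1 : γ ≫ G.t = ρ ≫ G.s)
    (h2 : γ ≫ G.s = ρ ≫ G.s) : T ⟶ G.R :=
  gcomp G (gcomp G ρ γ h1.symm) (ρ ≫ G.i) (by rw [gcomp_s, h2, Category.assoc, G.i_t])

lemma conj_s {T : Scheme.{u}} (ρ γ : T ⟶ G.R) (h1 : γ ≫ G.t = ρ ≫ G.s)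
    (h2 : γ ≫ G.s = ρ ≫ G.s) : conj G ρ γ h1 h2 ≫ G.s = ρ ≫ G.t := by
  unfold conj; rw [gcomp_s, Category.assoc, G.i_s]

lemma conj_t {T : Scheme.{u}} (ρ γ : T ⟶ G.R) (h1 : γ ≫ G.t = ρ ≫ G.s)
    (h2 : γ ≫ G.s = ρ ≫ G.s) : conj G ρ γ h1 h2 ≫ G.t = ρ ≫ G.t := by
  unfold conj; rw [gcomp_t, gcomp_t]

lemma conj_congr {T : Scheme.{u}} {ρ ρ' γ γ' : T ⟶ G.R} (hρ : ρ = ρ') (hγ : γ = γ')
    (h1 : γ ≫ G.t = ρ ≫ G.s) (h2 : γ ≫ G.s = ρ ≫ G.s) (h1' : γ' ≫ G.t = ρ' ≫ G.s)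
    (h2' : γ' ≫ G.s = ρ' ≫ G.s) : conj G ρ γ h1 h2 = conj G ρ' γ' h1' h2' := by
  subst hρ hγ; rfl

lemma comp_conj {T T' : Scheme.{u}} (x : T' ⟶ T) (ρ γ : T ⟶ G.R) (h1 : γ ≫ G.t = ρ ≫ G.s)
    (h2 : γ ≫ G.s = ρ ≫ G.s) :
    x ≫ conj G ρ γ h1 h2 = conj G (x ≫ ρ) (x ≫ γ)
      (by rw [Category.assoc, Category.assoc, h1]) (by rw [Category.assoc, Category.assoc, h2]) := by
  unfold conj
  rw [comp_gcomp]
  apply gcomp_congr
  · rw [comp_gcomp]
  · rw [Category.assoc]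

lemma conj_conj {T : Scheme.{u}} (ρ γ : T ⟶ G.R) (h1 : γ ≫ G.t = ρ ≫ G.s)
    (h2 : γ ≫ G.s = ρ ≫ G.s) :
    conj G (ρ ≫ G.i) (conj G ρ γ h1 h2)
      (by rw [conj_t, Category.assoc, G.i_s]) (by rw [conj_s, Category.assoc, G.i_s]) = γ := by
  have hi_s : (ρ ≫ G.i) ≫ G.s = ρ ≫ G.t := by rw [Category.assoc, G.i_s]
  have hi_t : (ρ ≫ G.i) ≫ G.t = ρ ≫ G.s := by rw [Category.assoc, G.i_t]
  have e1 : gcomp G (ρ ≫ G.i) ρ hi_s = ρ ≫ G.s ≫ G.e := i_gcomp G ρ _ rfl _
  have e2 : gcomp G (gcomp G (ρ ≫ G.i) ρ hi_s) γ (by rw [gcomp_s, h1]) = γ := by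
    apply e_gcomp
    rw [e1, ← Category.assoc, ← h1, Category.assoc]
  have e3 : gcomp G (ρ ≫ G.i) (gcomp G ρ γ h1.symm) (by rw [gcomp_t, hi_s]) = γ :=
    (gcomp_assoc G (ρ ≫ G.i) ρ γ hi_s h1.symm).symm.trans e2
  have e4 : gcomp G (ρ ≫ G.i) (conj G ρ γ h1 h2) (by rw [conj_t, hi_s]) =
      gcomp G γ (ρ ≫ G.i) (by rw [h2, hi_t]) := by
    unfold conj
    exact (gcomp_assoc G (ρ ≫ G.i) (gcomp G ρ γ h1.symm) (ρ ≫ G.i) (by rw [gcomp_t, hi_s])
      (by rw [gcomp_s, h2, hi_t])).symm.trans (gcomp_congr G e3 rfl _ _)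
  have e5 : conj G (ρ ≫ G.i) (conj G ρ γ h1 h2)
      (by rw [conj_t, Category.assoc, G.i_s]) (by rw [conj_s, Category.assoc, G.i_s]) =
      gcomp G (gcomp G γ (ρ ≫ G.i) (by rw [h2, hi_t])) ((ρ ≫ G.i) ≫ G.i)
        (by rw [gcomp_s]; simp only [Category.assoc, G.i_t]) := by
    conv_lhs => unfold conj
    exact gcomp_congr G e4 rfl _ _
  rw [e5, gcomp_assoc G γ (ρ ≫ G.i) ((ρ ≫ G.i) ≫ G.i) (by rw [h2, hi_t])
    (by rw [Category.assoc (ρ ≫ G.i), G.i_t])]
  apply gcomp_e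
  rw [gcomp_i G (ρ ≫ G.i) _ rfl, ← Category.assoc, hi_t, ← h2, Category.assoc]

/-- conjugation map between pullbacks of the stabilizer -/
noncomputable def cmap (a b : G.R ⟶ G.U) (σ : G.R ⟶ G.R) (ha : σ ≫ G.s = a) (hb : σ ≫ G.t = b) :
    pullback (pullback.snd G.j G.diag) a ⟶ pullback (pullback.snd G.j G.diag) b :=
  pullback.lift
    (stabLift G
      (conj G (pullback.snd (pullback.snd G.j G.diag) a ≫ σ)
        (pullback.fst (pullback.snd G.j G.diag) a ≫ pullback.fst G.j G.diag)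
        (by rw [Category.assoc, stab_fst_t, pullback.condition, Category.assoc, ha])
        (by rw [Category.assoc, stab_fst_s, pullback.condition, Category.assoc, ha]))
      (pullback.snd (pullback.snd G.j G.diag) a ≫ b)
      (by rw [conj_t, Category.assoc, hb]) (by rw [conj_s, Category.assoc, hb]))
    (pullback.snd (pullback.snd G.j G.diag) a)
    (by rw [stabLift_snd])

lemma cmap_snd (a b : G.R ⟶ G.U) (σ : G.R ⟶ G.R) (ha : σ ≫ G.s = a) (hb : σ ≫ G.t = b) :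
    cmap G a b σ ha hb ≫ pullback.snd (pullback.snd G.j G.diag) b =
      pullback.snd (pullback.snd G.j G.diag) a :=
  pullback.lift_snd _ _ _

lemma cmap_fst (a b : G.R ⟶ G.U) (σ : G.R ⟶ G.R) (ha : σ ≫ G.s = a) (hb : σ ≫ G.t = b) :
    cmap G a b σ ha hb ≫ pullback.fst (pullback.snd G.j G.diag) b ≫ pullback.fst G.j G.diag =
      conj G (pullback.snd (pullback.snd G.j G.diag) a ≫ σ)
        (pullback.fst (pullback.snd G.j G.diag) a ≫ pullback.fst G.j G.diag)
        (by rw [Category.assoc, stab_fst_t, pullback.condition, Category.assoc, ha])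
        (by rw [Category.assoc, stab_fst_s, pullback.condition, Category.assoc, ha]) := by
  unfold cmap
  rw [← Category.assoc, pullback.lift_fst, stabLift_fst]

lemma cmap_cmap (a b : G.R ⟶ G.U) (σ σ' : G.R ⟶ G.R) (ha : σ ≫ G.s = a) (hb : σ ≫ G.t = b)
    (ha' : σ' ≫ G.s = b) (hb' : σ' ≫ G.t = a) (hσ' : σ' = σ ≫ G.i) :
    cmap G a b σ ha hb ≫ cmap G b a σ' ha' hb' = 𝟙 _ := by
  apply pullback.hom_ext
  · apply stab_hom_ext
    rw [Category.assoc, Category.assoc, cmap_fst, comp_conj, Category.id_comp]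
    have h1 : cmap G a b σ ha hb ≫ pullback.snd (pullback.snd G.j G.diag) b ≫ σ' =
        (pullback.snd (pullback.snd G.j G.diag) a ≫ σ) ≫ G.i := by
      rw [← Category.assoc, cmap_snd, hσ', Category.assoc]
    have h2 := cmap_fst G a b σ ha hb
    rw [conj_congr G h1 h2 _ _ (by rw [conj_t, Category.assoc _ G.i, G.i_s])
      (by rw [conj_s, Category.assoc _ G.i, G.i_s])]
    exact conj_conj G _ _ _ _
  · rw [Category.assoc, cmap_snd, cmap_snd, Category.id_comp]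

/-- The conjugation isomorphism `s^* Stab ≅ t^* Stab` over `R`. -/
noncomputable def stabConjIso :
    pullback (pullback.snd G.j G.diag) G.s ≅ pullback (pullback.snd G.j G.diag) G.t where
  hom := cmap G G.s G.t (𝟙 _) (Category.id_comp _) (Category.id_comp _)
  inv := cmap G G.t G.s G.i G.i_s G.i_t
  hom_inv_id := cmap_cmap G G.s G.t (𝟙 _) G.i (Category.id_comp _) (Category.id_comp _)
    G.i_s G.i_t (Category.id_comp _).symm
  inv_hom_id := cmap_cmap G G.t G.s G.i (𝟙 _) G.i_s G.i_t (Category.id_comp _)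
    (Category.id_comp _) (i_i G).symm

lemma stabConjIso_hom_snd :
    (stabConjIso G).hom ≫ pullback.snd (pullback.snd G.j G.diag) G.t =
      pullback.snd (pullback.snd G.j G.diag) G.s :=
  cmap_snd G G.s G.t (𝟙 _) (Category.id_comp _) (Category.id_comp _)

end

lemma preimage_maxOpen_stab_eq_aux {S : Scheme.{u}} (G : Grpd.GroupoidScheme S)
    (P' : MorphismProperty Scheme.{u})
    [P'.IsStableUnderBaseChange] [P'.IsStableUnderComposition]
    (hOI : ∀ {A B : Scheme.{u}} (j : A ⟶ B) [IsOpenImmersion j], P' j)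
    (hopen : ∀ {A B : Scheme.{u}} (j : A ⟶ B), P' j → IsOpenMap j)
    (P : MorphismProperty Scheme.{u}) [P.IsLocalAtTarget (Scheme.precoverage P')]
    (hs : Presieve.singleton G.s ∈ Scheme.precoverage P' G.U)
    (ht : Presieve.singleton G.t ∈ Scheme.precoverage P' G.U) (W : G.U.Opens)
    (hW : P (G.stabilizerToU ∣_ W))
    (hmax : ∀ W' : G.U.Opens, P (G.stabilizerToU ∣_ W') → W' ≤ W) :
    G.s ⁻¹ᵁ W = G.t ⁻¹ᵁ W := by
  rw [Scheme.singleton_mem_precoverage_iff] at hs ht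
  apply le_antisymm
  · exact preimage_le_of_iso G.s G.t (pullback.snd G.j G.diag) hOI hopen hs.2 hs.1 ht.2
      (stabConjIso G) (stabConjIso_hom_snd G) W hW hmax
  · exact preimage_le_of_iso G.t G.s (pullback.snd G.j G.diag) hOI hopen ht.2 ht.1 hs.2
      (stabConjIso G).symm (by rw [Iso.symm_hom, Iso.inv_comp_eq, stabConjIso_hom_snd]) W hW hmax

theorem preimage_maxOpen_stab_eq {S : Scheme.{u}} (G : Grpd.GroupoidScheme S)
    (K : Precoverage Scheme.{u})
    (hK : K = Scheme.etalePrecoverage ∨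
      K = Scheme.precoverage @Smooth ∨ K = Scheme.fppfPrecoverage)
    (P : MorphismProperty Scheme.{u}) [P.IsLocalAtTarget K]
    (hs : Presieve.singleton G.s ∈ K G.U) (ht : Presieve.singleton G.t ∈ K G.U)
    (W : G.U.Opens) (hW : P (G.stabilizerToU ∣_ W))
    (hmax : ∀ W' : G.U.Opens, P (G.stabilizerToU ∣_ W') → W' ≤ W) :
    G.s ⁻¹ᵁ W = G.t ⁻¹ᵁ W := by
  rcases hK with rfl | rfl | rfl
  · have : P.IsLocalAtTarget (Scheme.precoverage @Etale) :=
      ‹P.IsLocalAtTarget Scheme.etalePrecoverage›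
    exact preimage_maxOpen_stab_eq_aux G @Etale (fun j _ => inferInstance)
      (fun j (hj : Etale j) => j.isOpenMap) P hs ht W hW hmax
  · exact preimage_maxOpen_stab_eq_aux G @Smooth (fun j _ => inferInstance)
      (fun j (hj : Smooth j) => j.isOpenMap) P hs ht W hW hmax
  · have : P.IsLocalAtTarget (Scheme.precoverage (@Flat ⊓ @LocallyOfFinitePresentation)) :=
      ‹P.IsLocalAtTarget Scheme.fppfPrecoverage›
    exact preimage_maxOpen_stab_eq_aux G (@Flat ⊓ @LocallyOfFinitePresentation)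
      (fun j _ => ⟨inferInstance, inferInstance⟩)
      (fun j hj => by
        have : Flat j := hj.1
        have : LocallyOfFinitePresentation j := hj.2
        exact j.isOpenMap) P hs ht W hW hmax

end Groth.Agent.H90
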