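import Mathlib
import Groth.Prelude.Def_Grpd
import Groth.Agent.H90.GrpdFibre
import Groth.Agent.H90.GrpdStab

/-!
The diagonal of `j = (t, s)` is a base change of the identity section of the stabilizer.
-/

set_option autoImplicit false

universe u

namespace Groth.Agent.H90

open CategoryTheory CategoryTheory.Limits AlgebraicGeometry MorphismProperty

section
variable {S : Scheme.{u}} (G : Grpd.GroupoidScheme S)

lemma jj_t : pullback.fst G.j G.j ≫ G.t = pullback.snd G.j G.j ≫ G.t := by
  rw [← j_fst, ← Category.assoc, pullback.condition, Category.assoc]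

lemma jj_s : pullback.fst G.j G.j ≫ G.s = pullback.snd G.j G.j ≫ G.s := by
  rw [← j_snd, ← Category.assoc, pullback.condition, Category.assoc]

lemma jj_cond : (pullback.fst G.j G.j ≫ G.i) ≫ G.s = pullback.snd G.j G.j ≫ G.t := by
  rw [Category.assoc, G.i_s, jj_t]

/-- the first projection of the stabilizer, typed on `G.stabilizer`. -/
noncomputable def stabFst : G.stabilizer ⟶ G.R := pullback.fst G.j G.diag

lemma stab_hom_ext' {T : Scheme.{u}} (x y : T ⟶ G.stabilizer)
    (h : x ≫ stabFst G = y ≫ stabFst G) : x = y := stab_hom_ext G x y h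

/-- `(r₁, r₂) ↦ r₁⁻¹ ∘ r₂` -/
noncomputable def jjDiff : pullback G.j G.j ⟶ G.stabilizer :=
  stabLift G (gcomp G (pullback.fst G.j G.j ≫ G.i) (pullback.snd G.j G.j) (jj_cond G))
    (pullback.snd G.j G.j ≫ G.s)
    (by rw [gcomp_t, Category.assoc, G.i_t, jj_s])
    (by rw [gcomp_s])

lemma jjDiff_fst : jjDiff G ≫ stabFst G =
    gcomp G (pullback.fst G.j G.j ≫ G.i) (pullback.snd G.j G.j) (jj_cond G) :=
  stabLift_fst G _ _ _ _

lemma jjDiff_snd : jjDiff G ≫ G.stabilizerToU = pullback.snd G.j G.j ≫ G.s :=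
  stabLift_snd G _ _ _ _

lemma eStab_fst : G.eStab ≫ stabFst G = G.e := pullback.lift_fst _ _ _
lemma eStab_snd : G.eStab ≫ G.stabilizerToU = 𝟙 _ := pullback.lift_snd _ _ _

lemma diagonal_jjDiff : pullback.diagonal G.j ≫ jjDiff G = G.s ≫ G.eStab := by
  apply stab_hom_ext'
  have hR : (G.s ≫ G.eStab) ≫ stabFst G = G.s ≫ G.e := by
    rw [Category.assoc, eStab_fst]
  have hL : (pullback.diagonal G.j ≫ jjDiff G) ≫ stabFst G =
      gcomp G (𝟙 G.R ≫ G.i) (𝟙 G.R) (by rw [Category.id_comp, G.i_s, Category.id_comp]) := by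
    rw [Category.assoc, jjDiff_fst, comp_gcomp]
    apply gcomp_congr
    · rw [pullback.diagonal_fst_assoc, Category.id_comp]
    · exact pullback.diagonal_snd _
  rw [hR, hL, i_gcomp G (𝟙 G.R) _ rfl, Category.id_comp]

theorem isPullback_diagonal_j :
    IsPullback (pullback.diagonal G.j) G.s (jjDiff G) G.eStab := by
  refine ⟨⟨diagonal_jjDiff G⟩, ⟨PullbackCone.IsLimit.mk _ (fun c => c.fst ≫ pullback.fst G.j G.j)
    ?_ ?_ ?_⟩⟩
  · intro c
    have hc := c.condition
    -- first components
    have h1 := congrArg (· ≫ stabFst G) hc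
    simp only [Category.assoc] at h1
    rw [jjDiff_fst, eStab_fst, comp_gcomp] at h1
    have h2 := congrArg (· ≫ G.stabilizerToU) hc
    simp only [Category.assoc] at h2
    rw [jjDiff_snd, eStab_snd, Category.comp_id] at h2
    -- `c.fst ≫ fst = c.fst ≫ snd`
    have hs' : (c.fst ≫ pullback.fst G.j G.j) ≫ G.s = c.snd := by
      rw [Category.assoc, jj_s, ← Category.assoc, ← h2]
      simp only [Category.assoc]
    have h0 : (c.fst ≫ pullback.fst G.j G.j) ≫ G.s =
        (c.fst ≫ pullback.fst G.j G.j ≫ G.i) ≫ G.t := by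
      rw [Category.assoc, Category.assoc, Category.assoc, G.i_t]
    have h0' : (c.fst ≫ pullback.fst G.j G.j ≫ G.i) ≫ G.s = (c.fst ≫ pullback.snd G.j G.j) ≫ G.t := by
      rw [Category.assoc, Category.assoc, Category.assoc, G.i_s, jj_t]
    have key := gcomp_assoc G (c.fst ≫ pullback.fst G.j G.j)
      (c.fst ≫ pullback.fst G.j G.j ≫ G.i) (c.fst ≫ pullback.snd G.j G.j) h0 h0'
    have e3 : gcomp G (gcomp G (c.fst ≫ pullback.fst G.j G.j)
        (c.fst ≫ pullback.fst G.j G.j ≫ G.i) h0) (c.fst ≫ pullback.snd G.j G.j)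
        ((gcomp_s G _ _ h0).trans h0') = c.fst ≫ pullback.snd G.j G.j := by
      apply e_gcomp
      rw [gcomp_i G (c.fst ≫ pullback.fst G.j G.j) _ (by rw [Category.assoc]) h0]
      simp only [Category.assoc]
      rw [reassoc_of% (jj_t G)]
    have e4 : gcomp G (c.fst ≫ pullback.fst G.j G.j)
        (gcomp G (c.fst ≫ pullback.fst G.j G.j ≫ G.i) (c.fst ≫ pullback.snd G.j G.j) h0')
        (h0.trans (gcomp_t G _ _ h0').symm) = c.fst ≫ pullback.fst G.j G.j := by
      apply gcomp_e
      rw [h1, ← hs', Category.assoc, Category.assoc]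
    have heq : c.fst ≫ pullback.fst G.j G.j = c.fst ≫ pullback.snd G.j G.j :=
      e4.symm.trans (key.symm.trans e3)
    apply pullback.hom_ext
    · rw [Category.assoc, pullback.diagonal_fst, Category.comp_id]
    · rw [Category.assoc, pullback.diagonal_snd, Category.comp_id, heq]
  · intro c
    have hc := c.condition
    have h2 := congrArg (· ≫ G.stabilizerToU) hc
    simp only [Category.assoc] at h2
    rw [jjDiff_snd, eStab_snd, Category.comp_id] at h2
    rw [Category.assoc, jj_s, ← h2]
  · intro c m hm1 _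
    rw [← hm1, Category.assoc, pullback.diagonal_fst, Category.comp_id]

theorem isSeparated_j_of_isClosedImmersion_eStab [IsClosedImmersion G.eStab] :
    IsSeparated G.j :=
  ⟨MorphismProperty.of_isPullback (P := @IsClosedImmersion) (isPullback_diagonal_j G).flip inferInstance⟩

theorem quasiSeparated_j_of_quasiCompact_eStab [QuasiCompact G.eStab] :
    QuasiSeparated G.j :=
  ⟨MorphismProperty.of_isPullback (P := @QuasiCompact) (isPullback_diagonal_j G).flip inferInstance⟩

theorem separated_tfae_j_stab_e :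
    ((IsSeparated G.j ↔ IsSeparated G.stabilizerToU) ∧
      (IsSeparated G.stabilizerToU ↔ IsClosedImmersion G.eStab)) ∧
    ((QuasiSeparated G.j ↔ QuasiSeparated G.stabilizerToU) ∧
      (QuasiSeparated G.stabilizerToU ↔ QuasiCompact G.eStab)) := by
  have hsec : G.eStab ≫ G.stabilizerToU = 𝟙 G.U := eStab_snd G
  have A1 : IsSeparated G.j → IsSeparated G.stabilizerToU := fun h =>
    inferInstanceAs (IsSeparated (pullback.snd G.j G.diag))
  have A2 : IsSeparated G.stabilizerToU → IsClosedImmersion G.eStab := fun h => by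
    have : IsClosedImmersion (G.eStab ≫ G.stabilizerToU) := by rw [hsec]; infer_instance
    exact IsClosedImmersion.of_comp G.eStab G.stabilizerToU
  have A3 : IsClosedImmersion G.eStab → IsSeparated G.j := fun h =>
    isSeparated_j_of_isClosedImmersion_eStab G
  have B1 : QuasiSeparated G.j → QuasiSeparated G.stabilizerToU := fun h =>
    inferInstanceAs (QuasiSeparated (pullback.snd G.j G.diag))
  have B2 : QuasiSeparated G.stabilizerToU → QuasiCompact G.eStab := fun h => by
    have : QuasiCompact (G.eStab ≫ G.stabilizerToU) := by rw [hsec]; infer_instance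
    exact QuasiCompact.of_comp G.eStab G.stabilizerToU
  have B3 : QuasiCompact G.eStab → QuasiSeparated G.j := fun h =>
    quasiSeparated_j_of_quasiCompact_eStab G
  exact ⟨⟨⟨A1, fun h => A3 (A2 h)⟩, ⟨A2, fun h => A1 (A3 h)⟩⟩,
    ⟨⟨B1, fun h => B3 (B2 h)⟩, ⟨B2, fun h => B1 (B3 h)⟩⟩⟩

end

end Groth.Agent.H90
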