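import Mathlib
import Groth.Prelude.Def_Grpd
import Groth.Agent.H90.GrpdMinPrime
import Groth.Agent.H90.GrpdHom
import Groth.Agent.H90.GrpGeomIrr

/-!
Groupoid schemes on a field: the irreducible component of `R` through the identity is
geometrically irreducible via `s` and via `t`.
-/

set_option autoImplicit false

universe u

namespace Groth.Agent.H90

open CategoryTheory CategoryTheory.Limits AlgebraicGeometry

/-- A point of a base change lying over the image of a section is the canonical one. -/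
lemma eq_of_snd_eq_section {B X V : Scheme.{u}} (f : X ⟶ B) (σ : B ⟶ X) (hσ : σ ≫ f = 𝟙 B)
    (g : V ⟶ B) [Subsingleton V] (v : V)
    (p : ↥(pullback g f)) (hp : pullback.snd g f p ∈ Set.range σ) :
    p = (pullback.lift (𝟙 V) (g ≫ σ) (by rw [Category.assoc, hσ, Category.comp_id,
      Category.id_comp])) v := by
  have hw : 𝟙 V ≫ g = (g ≫ σ) ≫ f := by
    rw [Category.assoc, hσ, Category.comp_id, Category.id_comp]
  have hbig : IsPullback (pullback.lift (𝟙 V) (g ≫ σ) hw ≫ pullback.fst g f) g g (σ ≫ f) := by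
    rw [pullback.lift_fst, hσ]
    exact IsPullback.of_horiz_isIso ⟨by rw [Category.id_comp, Category.comp_id]⟩
  have hleft : IsPullback (pullback.lift (𝟙 V) (g ≫ σ) hw) g (pullback.snd g f) σ :=
    IsPullback.of_right hbig (pullback.lift_snd _ _ hw) (IsPullback.of_hasPullback g f)
  obtain ⟨b, hb⟩ := hp
  obtain ⟨q, hq1, hq2⟩ := Scheme.Pullback.exists_preimage_pullback
    (f := pullback.snd g f) (g := σ) p b hb.symm
  have h1 : hleft.isoPullback.inv ≫ pullback.lift (𝟙 V) (g ≫ σ) hw =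
      pullback.fst (pullback.snd g f) σ := hleft.isoPullback_inv_fst
  rw [← hq1, ← h1, Scheme.Hom.comp_apply]
  congr 1
  exact Subsingleton.elim _ _

section
variable {S : Scheme.{u}} (G : Grpd.GroupoidScheme S) (k : Type u) [Field k]
  (eU : G.U ≅ Spec (CommRingCat.of k))

include eU in
/-- the base change (via `t`) of the identity component to an algebraically closed integral
extension is irreducible. -/
theorem irreducibleSpace_pullback_t (Ω : Type u) [Field Ω] [IsAlgClosed Ω]
    (g : Spec (CommRingCat.of Ω) ⟶ G.U) [IsIntegralHom g]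
    (Z : Scheme.{u}) (ι : Z ⟶ G.R) [IsClosedImmersion ι]
    (hZ : Set.range ⇑ι ∈ irreducibleComponents ↥G.R)
    (he : G.e (eU.inv (IsLocalRing.closedPoint k)) ∈ Set.range ⇑ι) :
    IrreducibleSpace ↥(pullback (ι ≫ G.t) g) := by
  have hsubΩ : Subsingleton ↥(Spec (CommRingCat.of Ω)) :=
    inferInstanceAs (Subsingleton (PrimeSpectrum Ω))
  have hsubk : Subsingleton ↥(Spec (CommRingCat.of k)) :=
    inferInstanceAs (Subsingleton (PrimeSpectrum k))
  have hsubU : Subsingleton ↥G.U := (Scheme.homeoOfIso eU).injective.subsingleton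
  have hflatg : Flat g := flat_of_iso_spec_field eU g
  have hgen : GeneralizingMap (pullback.snd g G.t) := Flat.generalizingMap _
  have hclosed : IsClosedMap (pullback.snd g G.t) := (pullback.snd g G.t).isClosedMap
  obtain ⟨e', he'⟩ : ∃ e' : ↥(pullback g G.t), e' = tfE G g (IsLocalRing.closedPoint Ω) :=
    ⟨_, rfl⟩
  have hρe' : pullback.snd g G.t e' = G.e (eU.inv (IsLocalRing.closedPoint k)) := by
    rw [he', ← Scheme.Hom.comp_apply, tfE_snd, Scheme.Hom.comp_apply]
    congr 1
    exact Subsingleton.elim _ _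
  have huniq : ∀ p : ↥(pullback g G.t),
      pullback.snd g G.t p = G.e (eU.inv (IsLocalRing.closedPoint k)) → p = e' := by
    intro p hp
    rw [he']
    exact eq_of_snd_eq_section G.t G.e G.e_t g _ p (by rw [hp]; exact ⟨_, rfl⟩)
  -- the generic points
  obtain ⟨ξ, hξ⟩ := QuasiSober.sober hZ.1 (isClosed_of_mem_irreducibleComponents _ hZ)
  have hξe : ξ ⤳ G.e (eU.inv (IsLocalRing.closedPoint k)) := by
    rw [specializes_iff_mem_closure, hξ.def]; exact he
  have hξmax : ∀ c : G.R, c ⤳ ξ → c = ξ := by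
    apply eq_of_specializes_of_maximal
    rw [hξ.def]; exact hZ
  obtain ⟨υ, hυe, hυmax⟩ := exists_maximal_generization (pullback g G.t) e'
  have hρmax : ∀ w : ↥(pullback g G.t), (∀ c : ↥(pullback g G.t), c ⤳ w → c = w) →
      ∀ c : G.R, c ⤳ pullback.snd g G.t w → c = pullback.snd g G.t w := by
    intro w hw c hc
    obtain ⟨c', hc', rfl⟩ := hgen hc
    rw [hw c' hc']
  have hρυ : pullback.snd g G.t υ = ξ := by
    apply grpd_eq_of_specializes G k eU (G.e (eU.inv (IsLocalRing.closedPoint k))) _ _ _ hξe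
      (hρmax υ hυmax) hξmax
    rw [← hρe']
    exact hυe.map (pullback.snd g G.t).continuous
  -- the key inclusion
  have hkey : ∀ w : ↥(pullback g G.t), pullback.snd g G.t w ∈ Set.range ⇑ι → υ ⤳ w := by
    intro w hw
    obtain ⟨w₁, hw₁, hw₁max⟩ := exists_maximal_generization (pullback g G.t) w
    have h1 : pullback.snd g G.t w₁ = ξ := by
      apply grpd_eq_of_specializes G k eU (pullback.snd g G.t w) _ _ _ _ (hρmax w₁ hw₁max) hξmax
      · exact hw₁.map (pullback.snd g G.t).continuous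
      · rw [specializes_iff_mem_closure, hξ.def]; exact hw
    have h2 : G.e (eU.inv (IsLocalRing.closedPoint k)) ∈
        (pullback.snd g G.t) '' closure {w₁} := by
      have hcl : IsClosed ((pullback.snd g G.t) '' closure {w₁}) :=
        hclosed _ isClosed_closure
      have hξmem : ξ ∈ (pullback.snd g G.t) '' closure {w₁} :=
        ⟨w₁, subset_closure rfl, h1⟩
      have := closure_minimal (Set.singleton_subset_iff.mpr hξmem) hcl
      rw [hξ.def] at this
      exact this he
    obtain ⟨p, hp, hpe⟩ := h2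
    have hpe' : p = e' := huniq p hpe
    rw [hpe', ← specializes_iff_mem_closure] at hp
    rw [he'] at hp hυe
    have h3 : w₁ = υ := eq_of_specializes_tfE G k eU Ω g w₁ υ hp hυe hw₁max hυmax
    rw [← h3]; exact hw₁
  -- the map `j`
  obtain ⟨j, hj⟩ : ∃ j : pullback (ι ≫ G.t) g ⟶ pullback g G.t,
      j = pullback.lift (pullback.snd (ι ≫ G.t) g) (pullback.fst (ι ≫ G.t) g ≫ ι)
        (by rw [Category.assoc]; exact pullback.condition.symm) := ⟨_, rfl⟩
  have hjfst : j ≫ pullback.fst g G.t = pullback.snd (ι ≫ G.t) g := by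
    rw [hj, pullback.lift_fst]
  have hjsnd : j ≫ pullback.snd g G.t = pullback.fst (ι ≫ G.t) g ≫ ι := by
    rw [hj, pullback.lift_snd]
  have sq : IsPullback j (pullback.fst (ι ≫ G.t) g) (pullback.snd g G.t) ι := by
    apply IsPullback.of_right _ hjsnd (IsPullback.of_hasPullback g G.t)
    rw [hjfst]
    exact (IsPullback.of_hasPullback (ι ≫ G.t) g).flip
  have hjci : IsClosedImmersion j :=
    MorphismProperty.of_isPullback (P := @IsClosedImmersion) sq.flip inferInstance
  have hjrange : Set.range ⇑j = (pullback.snd g G.t) ⁻¹' Set.range ⇑ι := by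
    ext w
    constructor
    · rintro ⟨q, rfl⟩
      rw [Set.mem_preimage, ← Scheme.Hom.comp_apply, hjsnd, Scheme.Hom.comp_apply]
      exact ⟨_, rfl⟩
    · rintro ⟨z, hz⟩
      obtain ⟨q, hq1, hq2⟩ := Scheme.Pullback.exists_preimage_pullback
        (f := pullback.snd g G.t) (g := ι) w z hz.symm
      have h1 : sq.isoPullback.inv ≫ j = pullback.fst (pullback.snd g G.t) ι :=
        sq.isoPullback_inv_fst
      refine ⟨sq.isoPullback.inv q, ?_⟩
      rw [← Scheme.Hom.comp_apply, h1, hq1]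
  have hjemb : Topology.IsEmbedding j := j.isEmbedding
  have hυrange : υ ∈ Set.range ⇑j := by
    rw [hjrange, Set.mem_preimage, hρυ, ← hξ.def]
    exact subset_closure rfl
  obtain ⟨p, hp⟩ := hυrange
  have hall : ∀ q : ↥(pullback (ι ≫ G.t) g), p ⤳ q := by
    intro q
    rw [← hjemb.isInducing.specializes_iff, hp]
    apply hkey
    have : j q ∈ Set.range ⇑j := ⟨q, rfl⟩
    rwa [hjrange] at this
  rw [irreducibleSpace_def, Set.top_eq_univ]
  have huniv : (Set.univ : Set ↥(pullback (ι ≫ G.t) g)) = closure {p} := by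
    symm
    rw [Set.eq_univ_iff_forall]
    intro q
    rw [← specializes_iff_mem_closure]
    exact hall q
  rw [huniv]
  exact isIrreducible_singleton.closure

include eU in
/-- the identity component is geometrically irreducible via `t`. -/
theorem geometricallyIrreducible_t
    (Z : Scheme.{u}) (ι : Z ⟶ G.R) [IsClosedImmersion ι]
    (hZ : Set.range ⇑ι ∈ irreducibleComponents ↥G.R)
    (he : G.e (eU.inv (IsLocalRing.closedPoint k)) ∈ Set.range ⇑ι) :
    GeometricallyIrreducible (ι ≫ G.t ≫ eU.hom) := by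
  obtain ⟨g₀, hg₀⟩ : ∃ g₀ : Spec (CommRingCat.of (AlgebraicClosure k)) ⟶ Spec (CommRingCat.of k),
      g₀ = Spec.map (CommRingCat.ofHom (algebraMap k (AlgebraicClosure k))) := ⟨_, rfl⟩
  have hgint : IsIntegralHom g₀ := by
    rw [hg₀, IsIntegralHom.SpecMap_iff]
    exact algebraMap_isIntegral_iff.mpr inferInstance
  have hgint' : IsIntegralHom (g₀ ≫ eU.inv) := inferInstance
  have h1 := irreducibleSpace_pullback_t G k eU (AlgebraicClosure k) (g₀ ≫ eU.inv) Z ι hZ he
  apply geometricallyIrreducible_of_pullback k (ι ≫ G.t ≫ eU.hom) (AlgebraicClosure k) g₀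
  have h2 : IrreducibleSpace ↥(pullback (ι ≫ G.t ≫ eU.hom) g₀) := by
    have e1 : (ι ≫ G.t) ≫ eU.hom = 𝟙 Z ≫ ι ≫ G.t ≫ eU.hom := by
      rw [Category.assoc, Category.id_comp]
    have e2 : (g₀ ≫ eU.inv) ≫ eU.hom = 𝟙 _ ≫ g₀ := by
      rw [Category.assoc, Iso.inv_hom_id, Category.comp_id, Category.id_comp]
    have hφ : IsIso (pullback.map (ι ≫ G.t) (g₀ ≫ eU.inv) (ι ≫ G.t ≫ eU.hom) g₀ (𝟙 Z) (𝟙 _)
        eU.hom e1 e2) := inferInstance
    exact (Scheme.Hom.homeomorph (pullback.map (ι ≫ G.t) (g₀ ≫ eU.inv) (ι ≫ G.t ≫ eU.hom) g₀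
      (𝟙 Z) (𝟙 _) eU.hom e1 e2)).irreducibleSpace_iff.mp h1
  exact geometricallyIrreducible_of_irreducibleSpace (AlgebraicClosure k) _

lemma e_i : G.e ≫ G.i = G.e := by
  have h : G.e ≫ G.s = G.e ≫ G.t := by rw [G.e_s, G.e_t]
  have h1 : gcomp G G.e G.e h = G.e ≫ G.s ≫ G.e := by
    rw [← Category.assoc, G.e_s, Category.id_comp]
    apply gcomp_e
    rw [← Category.assoc, G.e_s, Category.id_comp]
  exact (eq_i_of_gcomp_eq_e G G.e G.e h h1).symm

include eU in
/-- the identity component is geometrically irreducible via `s`. -/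
theorem geometricallyIrreducible_s
    (Z : Scheme.{u}) (ι : Z ⟶ G.R) [IsClosedImmersion ι]
    (hZ : Set.range ⇑ι ∈ irreducibleComponents ↥G.R)
    (he : G.e (eU.inv (IsLocalRing.closedPoint k)) ∈ Set.range ⇑ι) :
    GeometricallyIrreducible (ι ≫ G.s ≫ eU.hom) := by
  have hiso : IsIso G.i := ⟨G.i, i_i G, i_i G⟩
  have h1 : ι ≫ G.s ≫ eU.hom = (ι ≫ G.i) ≫ G.t ≫ eU.hom := by
    rw [Category.assoc, ← Category.assoc G.i, G.i_t]
  rw [h1]
  have hrange : Set.range ⇑(ι ≫ G.i) = ⇑G.i '' Set.range ⇑ι := by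
    ext w
    constructor
    · rintro ⟨z, rfl⟩
      exact ⟨ι z, ⟨z, rfl⟩, (Scheme.Hom.comp_apply _ _ _).symm⟩
    · rintro ⟨_, ⟨z, rfl⟩, rfl⟩
      exact ⟨z, Scheme.Hom.comp_apply _ _ _⟩
  apply geometricallyIrreducible_t G k eU Z (ι ≫ G.i)
  · rw [hrange]
    exact image_mem_irreducibleComponents_of_isPreirreducible_fiber ⇑G.i G.i.continuous
      (Scheme.Hom.homeomorph G.i).isOpenMap
      (fun x => (Set.subsingleton_singleton.preimage
        (Scheme.Hom.homeomorph G.i).injective).isPreirreducible)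
      (Scheme.Hom.homeomorph G.i).surjective hZ
  · obtain ⟨z, hz⟩ := he
    refine ⟨z, ?_⟩
    rw [Scheme.Hom.comp_apply, hz, ← Scheme.Hom.comp_apply, e_i]

include eU in
theorem geometricallyIrreducible_s_t
    (Z : Scheme.{u}) (ι : Z ⟶ G.R) [IsClosedImmersion ι]
    (hZ : Set.range ⇑ι ∈ irreducibleComponents ↥G.R)
    (he : G.e (eU.inv (IsLocalRing.closedPoint k)) ∈ Set.range ⇑ι) :
    GeometricallyIrreducible (ι ≫ G.s ≫ eU.hom) ∧ GeometricallyIrreducible (ι ≫ G.t ≫ eU.hom) :=
  ⟨geometricallyIrreducible_s G k eU Z ι hZ he, geometricallyIrreducible_t G k eU Z ι hZ he⟩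

end

end Groth.Agent.H90
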