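import Mathlib
import Groth.Prelude.Def_Grpd
import Groth.Agent.H90.FieldProd
import Groth.Agent.H90.GrpdFibre
import Groth.Agent.H90.GrpdRank
import Groth.Agent.H90.GrpdClosure
import Groth.Agent.H90.GrpdLTrans
import Groth.Agent.H90.GrpdHom

/-!
For a morphism of groupoid schemes over the spectrum of a field which is an isomorphism on
objects, a locally closed image is closed.
-/

set_option autoImplicit false

universe u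

namespace Groth.Agent.H90

open CategoryTheory CategoryTheory.Limits AlgebraicGeometry

section
variable {S : Scheme.{u}} {G₁ G₂ : Grpd.GroupoidScheme S} (f : Grpd.GroupoidScheme.Hom G₁ G₂)

/-- If `ρ ∘ f(α₁) = f(α₂)` then `ρ` is in the image of `f`. -/
lemma exists_comp_fR_eq [IsIso f.fU] {T : Scheme.{u}} (ρT : T ⟶ G₂.R) (α₁ α₂ : T ⟶ G₁.R)
    (h : ρT ≫ G₂.s = (α₁ ≫ f.fR) ≫ G₂.t)
    (hc : gcomp G₂ ρT (α₁ ≫ f.fR) h = α₂ ≫ f.fR) : ∃ β : T ⟶ G₁.R, β ≫ f.fR = ρT := by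
  have hα : α₂ ≫ G₁.s = (α₁ ≫ G₁.i) ≫ G₁.t := by
    rw [Category.assoc, G₁.i_t, ← cancel_mono f.fU, Category.assoc, Category.assoc, ← f.comm_s,
      ← Category.assoc, ← Category.assoc, ← hc, gcomp_s]
  refine ⟨gcomp G₁ α₂ (α₁ ≫ G₁.i) hα, ?_⟩
  rw [hom_gcomp]
  have h0 : (α₁ ≫ f.fR) ≫ G₂.s = ((α₁ ≫ f.fR) ≫ G₂.i) ≫ G₂.t := by
    rw [Category.assoc _ G₂.i, G₂.i_t]
  have e1 : (α₁ ≫ G₁.i) ≫ f.fR = (α₁ ≫ f.fR) ≫ G₂.i := by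
    rw [Category.assoc, hom_map_i, Category.assoc]
  have e2 : gcomp G₂ (α₂ ≫ f.fR) ((α₁ ≫ G₁.i) ≫ f.fR)
      (by rw [Category.assoc, Category.assoc, f.comm_s, f.comm_t, ← Category.assoc,
        ← Category.assoc, hα]) =
      gcomp G₂ (gcomp G₂ ρT (α₁ ≫ f.fR) h) ((α₁ ≫ f.fR) ≫ G₂.i)
        ((gcomp_s G₂ _ _ h).trans h0) := gcomp_congr G₂ hc.symm e1 _ _
  rw [e2, gcomp_assoc G₂ ρT (α₁ ≫ f.fR) ((α₁ ≫ f.fR) ≫ G₂.i) h h0]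
  apply gcomp_e
  rw [gcomp_i G₂ (α₁ ≫ f.fR) _ rfl h0, ← Category.assoc, ← h, Category.assoc]

lemma i_mem_range [IsIso f.fU] (x : G₂.R) (hx : x ∈ Set.range ⇑f.fR) :
    G₂.i x ∈ Set.range ⇑f.fR := by
  obtain ⟨x₁, rfl⟩ := hx
  refine ⟨G₁.i x₁, ?_⟩
  rw [← Scheme.Hom.comp_apply, ← Scheme.Hom.comp_apply, hom_map_i]

lemma e_mem_range [IsIso f.fU] (u : G₂.U) : G₂.e u ∈ Set.range ⇑f.fR := by
  refine ⟨(inv f.fU ≫ G₁.e) u, ?_⟩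
  rw [← Scheme.Hom.comp_apply, Category.assoc, hom_map_e, IsIso.inv_hom_id_assoc]

theorem isClosed_range_of_isLocallyClosed [IsIso f.fU] (k : Type u) [Field k]
    (eU : G₂.U ≅ Spec (CommRingCat.of k)) (hlc : IsLocallyClosed (Set.range ⇑f.fR)) :
    IsClosed (Set.range ⇑f.fR) := by
  rw [← closure_subset_iff_isClosed]
  intro r hr
  obtain ⟨Tk, ρ, pt, hρ⟩ : ∃ (Tk : Scheme.{u}) (ρ : Tk ⟶ G₂.R) (_ : Tk), ∀ y, ρ y = r :=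
    ⟨Spec (G₂.R.residueField r), G₂.R.fromSpecResidueField r, IsLocalRing.closedPoint _,
      fun y => Scheme.fromSpecResidueField_apply _ _⟩
  -- the translation map `m : (pt, x) ↦ r ∘ x`
  have hcond : (pullback.fst (ρ ≫ G₂.s) G₂.t ≫ ρ) ≫ G₂.s = pullback.snd (ρ ≫ G₂.s) G₂.t ≫ G₂.t := by
    rw [Category.assoc, pullback.condition]
  obtain ⟨m, hm⟩ : ∃ m : pullback (ρ ≫ G₂.s) G₂.t ⟶ G₂.R,
      m = gcomp G₂ (pullback.fst (ρ ≫ G₂.s) G₂.t ≫ ρ) (pullback.snd (ρ ≫ G₂.s) G₂.t) hcond :=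
    ⟨_, rfl⟩
  have hm_open : IsOpenMap ⇑m := by
    have e : m = ltrans G₂ ρ (ρ ≫ G₂.s) (ρ ≫ G₂.t) rfl rfl ≫ pullback.snd (ρ ≫ G₂.t) G₂.t := by
      rw [hm, ltrans_snd]
    rw [e]
    have h2 : IsOpenMap ⇑(ltrans G₂ ρ (ρ ≫ G₂.s) (ρ ≫ G₂.t) rfl rfl) :=
      (Scheme.homeoOfIso (ltransIso G₂ ρ (ρ ≫ G₂.s) (ρ ≫ G₂.t) rfl rfl)).isOpenMap
    have h3 : IsOpenMap ⇑(pullback.snd (ρ ≫ G₂.t) G₂.t) := by
      have : UniversallyOpen (ρ ≫ G₂.t) := universallyOpen_of_iso_spec_field eU _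
      exact (pullback.snd (ρ ≫ G₂.t) G₂.t).isOpenMap
    simp only [Scheme.Hom.comp_base, TopCat.coe_comp]
    exact h3.comp h2
  -- the base point of the fibre
  obtain ⟨y₀, hy₀⟩ : ∃ y₀ : Tk ⟶ pullback (ρ ≫ G₂.s) G₂.t,
      y₀ = pullback.lift (𝟙 Tk) (ρ ≫ G₂.s ≫ G₂.e)
        (by rw [Category.id_comp, Category.assoc, Category.assoc, G₂.e_t, Category.comp_id]) :=
    ⟨_, rfl⟩
  have hy₀fst : y₀ ≫ pullback.fst (ρ ≫ G₂.s) G₂.t = 𝟙 Tk := by rw [hy₀, pullback.lift_fst]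
  have hy₀snd : y₀ ≫ pullback.snd (ρ ≫ G₂.s) G₂.t = ρ ≫ G₂.s ≫ G₂.e := by
    rw [hy₀, pullback.lift_snd]
  have hy₀m : y₀ ≫ m = ρ := by
    rw [hm, comp_gcomp]
    have e1 : y₀ ≫ pullback.fst (ρ ≫ G₂.s) G₂.t ≫ ρ = ρ := by
      rw [← Category.assoc, hy₀fst, Category.id_comp]
    rw [gcomp_congr G₂ e1 hy₀snd _
      (by rw [Category.assoc, Category.assoc, G₂.e_t, Category.comp_id])]
    exact gcomp_e G₂ ρ _ rfl _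
  -- the open set around the base point
  have hw₀ : (pullback.snd (ρ ≫ G₂.s) G₂.t) (y₀ pt) ∈ Set.range ⇑f.fR := by
    rw [← Scheme.Hom.comp_apply, hy₀snd, ← Category.assoc, Scheme.Hom.comp_apply]
    exact e_mem_range f _
  have hN : IsOpen ((pullback.snd (ρ ≫ G₂.s) G₂.t) ⁻¹' coborder (Set.range ⇑f.fR)) :=
    hlc.isOpen_coborder.preimage (pullback.snd (ρ ≫ G₂.s) G₂.t).continuous
  have hrmem : r ∈ m '' ((pullback.snd (ρ ≫ G₂.s) G₂.t) ⁻¹' coborder (Set.range ⇑f.fR)) := by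
    refine ⟨y₀ pt, subset_coborder hw₀, ?_⟩
    rw [← Scheme.Hom.comp_apply, hy₀m, hρ]
  obtain ⟨_, ⟨y, hyN, rfl⟩, hmy⟩ :=
    mem_closure_iff.mp hr _ (hm_open _ hN) hrmem
  -- `π y` lies in the closure of the range
  have hq0 : (pullback.fst (ρ ≫ G₂.s) G₂.t ≫ ρ ≫ G₂.i) ≫ G₂.s = m ≫ G₂.t := by
    rw [hm, gcomp_t]
    simp only [Category.assoc, G₂.i_s]
  obtain ⟨q, hq⟩ : ∃ q : pullback (ρ ≫ G₂.s) G₂.t ⟶ pullback G₂.s G₂.t,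
      q = pullback.lift (pullback.fst (ρ ≫ G₂.s) G₂.t ≫ ρ ≫ G₂.i) m hq0 := ⟨_, rfl⟩
  have hqc : q ≫ G₂.c = pullback.snd (ρ ≫ G₂.s) G₂.t := by
    subst hq
    change gcomp G₂ _ _ _ = _
    have e0 : ((pullback.fst (ρ ≫ G₂.s) G₂.t ≫ ρ) ≫ G₂.i) ≫ G₂.s =
        (pullback.fst (ρ ≫ G₂.s) G₂.t ≫ ρ) ≫ G₂.t := by
      rw [Category.assoc _ G₂.i, G₂.i_s]
    have e1 : gcomp G₂ (pullback.fst (ρ ≫ G₂.s) G₂.t ≫ ρ ≫ G₂.i) m hq0 =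
        gcomp G₂ ((pullback.fst (ρ ≫ G₂.s) G₂.t ≫ ρ) ≫ G₂.i)
          (gcomp G₂ (pullback.fst (ρ ≫ G₂.s) G₂.t ≫ ρ) (pullback.snd (ρ ≫ G₂.s) G₂.t) hcond)
          (e0.trans (gcomp_t G₂ _ _ hcond).symm) :=
      gcomp_congr G₂ (by rw [Category.assoc]) hm _ _
    rw [e1, ← gcomp_assoc G₂ ((pullback.fst (ρ ≫ G₂.s) G₂.t ≫ ρ) ≫ G₂.i)
      (pullback.fst (ρ ≫ G₂.s) G₂.t ≫ ρ) (pullback.snd (ρ ≫ G₂.s) G₂.t) e0 hcond]
    apply e_gcomp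
    rw [i_gcomp G₂ (pullback.fst (ρ ≫ G₂.s) G₂.t ≫ ρ) _ rfl e0, ← Category.assoc, hcond,
      Category.assoc]
  have hπy : (pullback.snd (ρ ≫ G₂.s) G₂.t) y ∈ closure (Set.range ⇑f.fR) := by
    rw [← hqc, Scheme.Hom.comp_apply]
    apply comp_mem_closure_range G₁ G₂ f k eU
    · rw [← Scheme.Hom.comp_apply, hq, pullback.lift_fst, ← Category.assoc, Scheme.Hom.comp_apply,
        Scheme.Hom.comp_apply, hρ]
      exact map_mem_closure G₂.i.continuous hr (fun x hx => i_mem_range f x hx)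
    · rw [← Scheme.Hom.comp_apply, hq, pullback.lift_snd]
      exact subset_closure hmy
  have hπyW : (pullback.snd (ρ ≫ G₂.s) G₂.t) y ∈ Set.range ⇑f.fR := by
    rw [← coborder_inter_closure (s := Set.range ⇑f.fR)]
    exact ⟨hyN, hπy⟩
  -- the algebraic step
  obtain ⟨x₁, hx₁⟩ := hπyW
  obtain ⟨x₂, hx₂⟩ := hmy
  obtain ⟨T, q', α₁, α₂, π, hπ1, hπ2, hπq⟩ := exists_common_point f.fR f.fR
    (pullback.snd (ρ ≫ G₂.s) G₂.t) m x₁ x₂ y hx₁ hx₂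
  have hcondT : (π ≫ pullback.fst (ρ ≫ G₂.s) G₂.t ≫ ρ) ≫ G₂.s = (α₁ ≫ f.fR) ≫ G₂.t := by
    rw [← hπ1]
    simp only [Category.assoc]
    rw [pullback.condition]
  have hcT : gcomp G₂ (π ≫ pullback.fst (ρ ≫ G₂.s) G₂.t ≫ ρ) (α₁ ≫ f.fR) hcondT = α₂ ≫ f.fR := by
    rw [← hπ2, hm, comp_gcomp]
    exact gcomp_congr G₂ rfl hπ1.symm _ _
  obtain ⟨β, hβ⟩ := exists_comp_fR_eq f _ α₁ α₂ hcondT hcT
  refine ⟨β q', ?_⟩
  rw [← Scheme.Hom.comp_apply, hβ, ← Category.assoc, Scheme.Hom.comp_apply, hρ]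

end

end Groth.Agent.H90
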