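import Mathlib
import Groth.Prelude.Def_Grpd

set_option autoImplicit false

universe u

namespace Groth.Agent.H90

open CategoryTheory CategoryTheory.Limits AlgebraicGeometry

/-- composition of arrows on the level of points -/
theorem grpd_exists_comp {S : Scheme.{u}} (G : Grpd.GroupoidScheme S) (ρ₂ ρ₁ : G.R)
    (h : G.s ρ₂ = G.t ρ₁) : ∃ ρ : G.R, G.s ρ = G.s ρ₁ ∧ G.t ρ = G.t ρ₂ := by
  obtain ⟨z, hz1, hz2⟩ := Scheme.Pullback.exists_preimage_pullback (f := G.s) (g := G.t) ρ₂ ρ₁ h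
  have hs := G.comp_s (pullback.fst G.s G.t) (pullback.snd G.s G.t) pullback.condition
  have ht := G.comp_t (pullback.fst G.s G.t) (pullback.snd G.s G.t) pullback.condition
  have hid : pullback.lift (pullback.fst G.s G.t) (pullback.snd G.s G.t) pullback.condition
      = 𝟙 (pullback G.s G.t) := by
    apply pullback.hom_ext <;> simp
  rw [hid, Category.id_comp] at hs ht
  refine ⟨G.c z, ?_, ?_⟩
  · rw [← Scheme.Hom.comp_apply, hs, Scheme.Hom.comp_apply, hz2]
  · rw [← Scheme.Hom.comp_apply, ht, Scheme.Hom.comp_apply, hz1]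

theorem grpd_not_specializes_of_same_orbit_finite {S : Scheme.{u}} (G : Grpd.GroupoidScheme S)
    [IsFinite G.s] [IsFinite G.t] (r : G.R) (hne : G.s r ≠ G.t r) : ¬ (G.s r ⤳ G.t r) := by
  intro hspec
  set u := G.s r with hu
  set u' := G.t r with hu'
  -- the orbit of `u`
  let O : Set G.U := G.t '' (G.s ⁻¹' {u})
  have hOfin : O.Finite := (G.s.finite_preimage_singleton u).image _
  have hu'O : u' ∈ O := ⟨r, rfl, rfl⟩
  -- a point of the orbit with no proper specialization in the orbit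
  let _ := specializationPreorder G.U
  obtain ⟨v, hv⟩ := hOfin.exists_minimal ⟨u', hu'O⟩
  obtain ⟨⟨ρ, hρs, hρt⟩, hvmin⟩ := hv
  have hρs' : G.s ρ = u := hρs
  -- lift the specialization along `s`
  have hcl : IsClosedMap G.s := G.s.isClosedMap
  have hsp : SpecializingMap G.s := hcl.specializingMap
  have hspec' : G.s ρ ⤳ u' := by rw [hρs']; exact hspec
  obtain ⟨ρ', hρρ', hρ's⟩ := hsp hspec'
  -- `t ρ'` is in the orbit
  have hw'O : G.t ρ' ∈ O := by
    obtain ⟨σ, hσs, hσt⟩ := grpd_exists_comp G ρ' r (by rw [hρ's])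
    exact ⟨σ, hσs, hσt⟩
  have hvw : v ⤳ G.t ρ' := by
    rw [← hρt]
    exact hρρ'.map G.t.continuous
  have hwv : G.t ρ' ⤳ v := hvmin hw'O hvw
  have heq : G.t ρ' = v := (hwv.antisymm hvw).eq
  -- both `ρ`, `ρ'` lie in the fibre of `t` over `v`
  have hdisc := G.t.isDiscrete_preimage_singleton v
  rw [isDiscrete_iff_discreteTopology] at hdisc
  have h1 : ρ ∈ G.t ⁻¹' {v} := hρt
  have h2 : ρ' ∈ G.t ⁻¹' {v} := heq
  have hsub : (⟨ρ, h1⟩ : ↥(G.t ⁻¹' {v})) ⤳ ⟨ρ', h2⟩ :=
    Topology.IsInducing.subtypeVal.specializes_iff.mp hρρ'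
  have := hsub.eq
  have hρeq : ρ = ρ' := congrArg Subtype.val this
  apply hne
  rw [← hρs', hρeq, hρ's]

end Groth.Agent.H90
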