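import Mathlib
import Groth.Prelude.Def_Grpd
import Groth.Agent.H90.FieldAut

set_option autoImplicit false

universe u

namespace Groth.Agent.H90

open CategoryTheory CategoryTheory.Limits AlgebraicGeometry

lemma isIso_of_isIso_comp_of_mono {C : Type*} [Category C] {A B D : C} (g : A ⟶ B) (h : B ⟶ D)
    [Mono h] [IsIso (g ≫ h)] : IsIso g := by
  refine ⟨h ≫ inv (g ≫ h), ?_, ?_⟩
  · rw [← Category.assoc, IsIso.hom_inv_id]
  · rw [← cancel_mono h, Category.assoc, Category.assoc, IsIso.inv_hom_id, Category.comp_id,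
      Category.id_comp]

lemma isIso_residueFieldMap_of_isIso_comp {X Y Z : Scheme.{u}} (x : X ⟶ Y) (f : Y ⟶ Z)
    [IsIso (x ≫ f)] (p : X) : IsIso (f.residueFieldMap (x p)) := by
  have h1 : IsIso ((x ≫ f).residueFieldMap p) := inferInstance
  rw [Scheme.residueFieldMap_comp] at h1
  have : Mono (x.residueFieldMap p) :=
    ConcreteCategory.mono_of_injective _ (x.residueFieldMap p).hom.injective
  exact @isIso_of_isIso_comp_of_mono _ _ _ _ _ (f.residueFieldMap (x p)) (x.residueFieldMap p)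
    this h1

section
variable {S : Scheme.{u}} (G : Grpd.GroupoidScheme S)

lemma exists_point_restriction_aux {U' : Scheme.{u}} (g : U' ⟶ G.U) (x₁ : U' ⟶ G.R)
    (x₂ : U' ⟶ U') [IsIso x₂] (h1 : g = x₁ ≫ G.t) (h2 : x₁ ≫ G.s = x₂ ≫ g) (p : U') :
    ∃ r' : ↑(pullback (pullback.snd g G.t ≫ G.s) g),
      (pullback.fst (pullback.snd g G.t ≫ G.s) g ≫ pullback.snd g G.t) r' = x₁ p ∧
      IsIso ((pullback.snd (pullback.snd g G.t ≫ G.s) g).residueFieldMap r') ∧
      IsIso ((pullback.fst (pullback.snd g G.t ≫ G.s) g ≫ pullback.fst g G.t).residueFieldMap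
        r') := by
  obtain ⟨y₁, hy₁⟩ : ∃ y₁ : U' ⟶ pullback g G.t,
    y₁ = pullback.lift (𝟙 U') x₁ (by rw [Category.id_comp, h1]) := ⟨_, rfl⟩
  have hy₁fst : y₁ ≫ pullback.fst g G.t = 𝟙 U' := by rw [hy₁, pullback.lift_fst]
  have hy₁snd : y₁ ≫ pullback.snd g G.t = x₁ := by rw [hy₁, pullback.lift_snd]
  obtain ⟨y, hy⟩ : ∃ y : U' ⟶ pullback (pullback.snd g G.t ≫ G.s) g,
    y = pullback.lift y₁ x₂ (by rw [← Category.assoc, hy₁snd, h2]) := ⟨_, rfl⟩
  have hyfst : y ≫ pullback.fst (pullback.snd g G.t ≫ G.s) g = y₁ := by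
    rw [hy, pullback.lift_fst]
  have hysnd : y ≫ pullback.snd (pullback.snd g G.t ≫ G.s) g = x₂ := by
    rw [hy, pullback.lift_snd]
  refine ⟨y p, ?_, ?_, ?_⟩
  · rw [← Scheme.Hom.comp_apply, ← Category.assoc, hyfst, hy₁snd]
  · have : IsIso (y ≫ pullback.snd (pullback.snd g G.t ≫ G.s) g) := by rw [hysnd]; infer_instance
    exact isIso_residueFieldMap_of_isIso_comp y _ p
  · have : IsIso (y ≫ pullback.fst (pullback.snd g G.t ≫ G.s) g ≫ pullback.fst g G.t) := by
      rw [← Category.assoc, hyfst, hy₁fst]; infer_instance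
    exact isIso_residueFieldMap_of_isIso_comp y _ p

theorem exists_point_restriction (k : Type u) [Field k]
    (eU : G.U ≅ Spec (CommRingCat.of k)) (r : G.R) :
    ∃ (k' : Type u) (_ : Field k') (_ : IsAlgClosed k') (_ : Algebra k k'),
      ∃ r' : ↑(pullback (pullback.snd (Spec.map (CommRingCat.ofHom (algebraMap k k')) ≫ eU.inv)
          G.t ≫ G.s) (Spec.map (CommRingCat.ofHom (algebraMap k k')) ≫ eU.inv)),
        (pullback.fst (pullback.snd (Spec.map (CommRingCat.ofHom (algebraMap k k')) ≫ eU.inv)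
          G.t ≫ G.s) (Spec.map (CommRingCat.ofHom (algebraMap k k')) ≫ eU.inv) ≫
          pullback.snd (Spec.map (CommRingCat.ofHom (algebraMap k k')) ≫ eU.inv) G.t) r' = r ∧
        IsIso ((pullback.snd (pullback.snd (Spec.map (CommRingCat.ofHom (algebraMap k k')) ≫
          eU.inv) G.t ≫ G.s) (Spec.map (CommRingCat.ofHom (algebraMap k k')) ≫
          eU.inv)).residueFieldMap r') ∧
        IsIso ((pullback.fst (pullback.snd (Spec.map (CommRingCat.ofHom (algebraMap k k')) ≫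
          eU.inv) G.t ≫ G.s) (Spec.map (CommRingCat.ofHom (algebraMap k k')) ≫ eU.inv) ≫
          pullback.fst (Spec.map (CommRingCat.ofHom (algebraMap k k')) ≫ eU.inv)
          G.t).residueFieldMap r') := by
  obtain ⟨σ, hσ⟩ : ∃ σ : CommRingCat.of k ⟶ G.R.residueField r,
      Spec.map σ = G.R.fromSpecResidueField r ≫ G.s ≫ eU.hom :=
    ⟨Spec.preimage _, Spec.map_preimage _⟩
  obtain ⟨τ, hτ⟩ : ∃ τ : CommRingCat.of k ⟶ G.R.residueField r,
      Spec.map τ = G.R.fromSpecResidueField r ≫ G.t ≫ eU.hom :=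
    ⟨Spec.preimage _, Spec.map_preimage _⟩
  obtain ⟨k', _, _, ι, α, hα⟩ := exists_algClosed_aut σ.hom τ.hom
  refine ⟨k', inferInstance, inferInstance, (ι.comp τ.hom).toAlgebra, ?_⟩
  have halg : @algebraMap k k' _ _ (ι.comp τ.hom).toAlgebra = ι.comp τ.hom := rfl
  rw [halg]
  have h1 : Spec.map (CommRingCat.ofHom (ι.comp τ.hom)) ≫ eU.inv =
      (Spec.map (CommRingCat.ofHom ι) ≫ G.R.fromSpecResidueField r) ≫ G.t := by
    have : CommRingCat.ofHom (ι.comp τ.hom) = τ ≫ CommRingCat.ofHom ι := rfl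
    rw [this, Spec.map_comp, hτ]
    simp only [Category.assoc, Iso.hom_inv_id, Category.comp_id]
    rfl
  have h2 : (Spec.map (CommRingCat.ofHom ι) ≫ G.R.fromSpecResidueField r) ≫ G.s =
      Spec.map (CommRingCat.ofHom α.toRingHom) ≫
        Spec.map (CommRingCat.ofHom (ι.comp τ.hom)) ≫ eU.inv := by
    have e1 : CommRingCat.ofHom (ι.comp τ.hom) ≫ CommRingCat.ofHom α.toRingHom =
        σ ≫ CommRingCat.ofHom ι := by
      ext x
      exact hα x
    rw [← Category.assoc (Spec.map _), ← Spec.map_comp, e1, Spec.map_comp, hσ]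
    simp only [Category.assoc, Iso.hom_inv_id, Category.comp_id]
    rfl
  have : IsIso (Spec.map (CommRingCat.ofHom α.toRingHom)) := by
    have : IsIso (CommRingCat.ofHom α.toRingHom) :=
      (ConcreteCategory.isIso_iff_bijective _).mpr α.bijective
    infer_instance
  obtain ⟨r', hr1, hr2, hr3⟩ := exists_point_restriction_aux G
    (Spec.map (CommRingCat.ofHom (ι.comp τ.hom)) ≫ eU.inv)
    (Spec.map (CommRingCat.ofHom ι) ≫ G.R.fromSpecResidueField r)
    (Spec.map (CommRingCat.ofHom α.toRingHom)) h1 h2 (IsLocalRing.closedPoint k')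
  refine ⟨r', ?_, hr2, hr3⟩
  rw [hr1, Scheme.Hom.comp_apply, Scheme.fromSpecResidueField_apply]

end

end Groth.Agent.H90
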