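import Mathlib
import Groth.Prelude.Def_Grpd
import Groth.Agent.H90.GrpdRank

set_option autoImplicit false

universe u

namespace Groth.Agent.H90

open CategoryTheory CategoryTheory.Limits AlgebraicGeometry MorphismProperty

section
variable {S : Scheme.{u}} (G : Grpd.GroupoidScheme S)

/-- The identity section of a groupoid scheme over a field is a closed immersion. -/
lemma isClosedImmersion_e (k : Type u) [Field k] (eU : G.U ≅ Spec (CommRingCat.of k)) :
    IsClosedImmersion G.e := by
  have hsub : Subsingleton G.U := eU.hom.homeomorph.injective.subsingleton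
  have haff : IsAffine G.U := .of_isIso eU.hom
  rw [IsZariskiLocalAtTarget.iff_of_openCover (P := @IsClosedImmersion) G.R.affineCover]
  intro i
  have hp : IsClosedImmersion (pullback.fst G.e (G.R.affineCover.f i)) :=
    IsClosedImmersion.of_isPreimmersion _ (isClosed_discrete _)
  have hcomp : pullback.snd G.e (G.R.affineCover.f i) ≫ (G.R.affineCover.f i ≫ G.s) =
      pullback.fst G.e (G.R.affineCover.f i) := by
    rw [← Category.assoc, ← pullback.condition, Category.assoc, G.e_s, Category.comp_id]
  have h2 : IsClosedImmersion (pullback.snd G.e (G.R.affineCover.f i) ≫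
      (G.R.affineCover.f i ≫ G.s)) := by rw [hcomp]; exact hp
  exact @IsClosedImmersion.of_comp _ _ _ (pullback.snd G.e (G.R.affineCover.f i))
    (G.R.affineCover.f i ≫ G.s) h2 inferInstance

lemma isPullback_t_lift :
    IsPullback G.t (pullback.lift (G.t ≫ G.e) (𝟙 G.R)
      (by rw [Category.assoc, G.e_s, Category.comp_id, Category.id_comp])) G.e
      (pullback.fst G.s G.t) := by
  refine ⟨⟨?_⟩, ⟨PullbackCone.IsLimit.mk _ (fun cone => cone.snd ≫ pullback.snd G.s G.t)
    ?_ ?_ ?_⟩⟩
  · rw [pullback.lift_fst]
  · intro cone
    rw [Category.assoc, ← pullback.condition, ← Category.assoc, ← cone.condition, Category.assoc,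
      G.e_s, Category.comp_id]
  · intro cone
    apply pullback.hom_ext
    · rw [Category.assoc, pullback.lift_fst, ← cone.condition, Category.assoc,
        ← Category.assoc (pullback.snd G.s G.t), ← pullback.condition, ← Category.assoc,
        ← Category.assoc, ← cone.condition]
      simp only [Category.assoc, G.e_s, Category.comp_id]
    · rw [Category.assoc, pullback.lift_snd, Category.comp_id]
  · intro cone m _ hm2
    rw [← hm2, Category.assoc, pullback.lift_snd, Category.comp_id]

lemma diagonal_s_eq :
    pullback.diagonal G.s = pullback.lift (G.t ≫ G.e) (𝟙 G.R)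
      (by rw [Category.assoc, G.e_s, Category.comp_id, Category.id_comp]) ≫
      (isPullback_c_snd G).isoPullback.hom := by
  apply pullback.hom_ext
  · rw [pullback.diagonal_fst, Category.assoc, IsPullback.isoPullback_hom_fst, comp_c]
    symm
    exact (gcomp_congr G (pullback.lift_fst _ _ _) (pullback.lift_snd _ _ _) _
      (by rw [Category.assoc, G.e_s, Category.comp_id, Category.id_comp])).trans
      (e_gcomp G (𝟙 G.R) (G.t ≫ G.e) (by rw [Category.id_comp]) _)
  · rw [pullback.diagonal_snd, Category.assoc, IsPullback.isoPullback_hom_snd, pullback.lift_snd]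

theorem isSeparated_R (k : Type u) [Field k] (eU : G.U ≅ Spec (CommRingCat.of k)) :
    G.R.IsSeparated := by
  have he := isClosedImmersion_e G k eU
  have h1 : IsClosedImmersion (pullback.lift (G.t ≫ G.e) (𝟙 G.R)
      (by rw [Category.assoc, G.e_s, Category.comp_id, Category.id_comp]) :
      G.R ⟶ pullback G.s G.t) :=
    MorphismProperty.of_isPullback (P := @IsClosedImmersion) (isPullback_t_lift G) he
  have hs : IsSeparated G.s := ⟨by rw [diagonal_s_eq]; infer_instance⟩
  have haff : IsAffine G.U := .of_isIso eU.hom
  constructor
  rw [← terminal.comp_from G.s]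
  infer_instance

end

end Groth.Agent.H90
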