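import Groth.Agent.H38.GrpComp
import Groth.Agent.H12.Topo
import Groth.Agent.H22.LocNoeth
import Groth.Agent.H51.GrpFieldDim
import Groth.Agent.H58.ConnDim
import Groth.Agent.H96.WeilDim

/-! Identity components of group schemes locally of finite type over a field: they are
irreducible, of the dimension of the group. -/

set_option autoImplicit false
universe u

open CategoryTheory CategoryTheory.Limits MonoidalCategory CartesianMonoidalCategory MonObj GrpObj
  AlgebraicGeometry

namespace Groth.Agent.H90.IdCompDim

variable (k : Type u) [Field k]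

/-- In a group scheme locally of finite type over a field, connected components are irreducible
components. -/
lemma connectedComponent_eq_irreducibleComponent (G : Over (Spec (CommRingCat.of k))) [GrpObj G]
    [LocallyOfFiniteType G.hom] (x : G.left) :
    connectedComponent x = irreducibleComponent x := by
  have hN : IsLocallyNoetherian G.left := LocallyOfFiniteType.isLocallyNoetherian G.hom
  apply Groth.Agent.H12.connectedComponent_eq_irreducibleComponent_of_isOpen
  apply Groth.Agent.H12.isOpen_irreducibleComponents_of_pairwiseDisjoint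
  · intro y
    obtain ⟨U, hyU, hU⟩ :=
      Groth.Agent.H22.exists_noetherianSpace_nhds_of_isLocallyNoetherian G.left y
    exact ⟨U, U.2.mem_nhds hyU, hU⟩
  · intro Z₁ h₁ Z₂ h₂ hne
    change Disjoint Z₁ Z₂
    by_contra hnd
    obtain ⟨z, hz1, hz2⟩ := Set.not_disjoint_iff.mp hnd
    exact hne (Groth.Agent.H38.GrpComp.eq_of_mem_of_mem k G h₁ h₂ z hz1 hz2)

/-- The identity component of a group scheme locally of finite type over a field has the
dimension of the group, and this dimension is finite. -/
lemma dim_unitComponent (G : Over (Spec (CommRingCat.of k))) [GrpObj G]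
    [LocallyOfFiniteType G.hom] :
    topologicalKrullDim ↥(irreducibleComponent (Groth.Agent.H38.GrpComp.unitPt k G)) =
      topologicalKrullDim ↥G.left ∧
    topologicalKrullDim ↥(irreducibleComponent (Groth.Agent.H38.GrpComp.unitPt k G)) < ⊤ := by
  refine ⟨(Groth.Agent.H51.s5341 k G).1 _ (irreducibleComponent_mem_irreducibleComponents _), ?_⟩
  obtain ⟨Z₀, _, incl, _, hci, -, hrange, -, hc⟩ :=
    Groth.Agent.H38.GrpComp.exists_unitComponent_subgroup k G
  have hft : LocallyOfFiniteType Z₀.hom := by
    rw [← CategoryTheory.Over.w incl]
    infer_instance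
  have h1 := Groth.Agent.H96.WeilDim.topologicalKrullDim_lt_top_of_locallyOfFiniteType k Z₀.hom
  have h2 : topologicalKrullDim ↥(Set.range ⇑incl.left) = topologicalKrullDim ↥Z₀.left :=
    (incl.left.isEmbedding.toHomeomorph.isHomeomorph.topologicalKrullDim_eq).symm
  rw [← hrange, h2]
  exact h1

theorem S18027_aux
    (G H : Over (Spec (CommRingCat.of k))) [GrpObj G] [GrpObj H]
    [Smooth G.hom] [Smooth H.hom] (u : G ⟶ H) [IsMonHom u] [IsClosedImmersion u.left]
    (hdim : topologicalKrullDim ↥G.left = topologicalKrullDim ↥H.left)
    (t : ↥((𝟙_ (Over (Spec (CommRingCat.of k)))).left)) :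
    ⇑u.left.base '' connectedComponent (η[G].left.base t) =
      connectedComponent (η[H].left.base t) := by
  have htG : η[G].left.base t = Groth.Agent.H38.GrpComp.unitPt k G :=
    Groth.Agent.H38.GrpComp.unit_left_apply k G t
  have htH : η[H].left.base t = Groth.Agent.H38.GrpComp.unitPt k H :=
    Groth.Agent.H38.GrpComp.unit_left_apply k H t
  rw [htG, htH, connectedComponent_eq_irreducibleComponent k G,
    connectedComponent_eq_irreducibleComponent k H]
  set eG := Groth.Agent.H38.GrpComp.unitPt k G with heG
  set eH := Groth.Agent.H38.GrpComp.unitPt k H with heH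
  have hue : u.left eG = eH := by
    change (η[G] ≫ u).left (IsLocalRing.closedPoint k) = _
    rw [IsMonHom.one_hom]
  obtain ⟨hdG, -⟩ := dim_unitComponent k G
  obtain ⟨hdH, hfinH⟩ := dim_unitComponent k H
  set ZG := irreducibleComponent eG with hZG
  set ZH := irreducibleComponent eH with hZH
  have himg_irr : IsIrreducible (u.left '' ZG) :=
    isIrreducible_irreducibleComponent.image _ u.left.continuous.continuousOn
  have himg_cl : IsClosed (u.left '' ZG) :=
    u.left.isClosedEmbedding.isClosedMap _ isClosed_irreducibleComponent
  have himg_sub : u.left '' ZG ⊆ ZH := by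
    rw [hZH, ← connectedComponent_eq_irreducibleComponent k H]
    apply himg_irr.isConnected.isPreconnected.subset_connectedComponent
    exact ⟨eG, mem_irreducibleComponent, hue⟩
  have himg_dim : topologicalKrullDim ↥(u.left '' ZG) = topologicalKrullDim ↥ZG :=
    ((u.left.isEmbedding.homeomorphImage ZG).isHomeomorph.topologicalKrullDim_eq).symm
  by_contra hne
  have hss : u.left '' ZG ⊂ ZH := lt_of_le_of_ne himg_sub hne
  have := Groth.Agent.H58.ConnDim.dim_lt_of_ssubset himg_cl isIrreducible_irreducibleComponent
    hss hfinH
  rw [himg_dim, hdG, hdH, hdim] at this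
  exact lt_irrefl _ this

end Groth.Agent.H90.IdCompDim
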