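import Mathlib
import Groth.Prelude.Def_ProCons

/-!
Ind-constructible subsets contain locally closed neighbourhoods (inside the set) of each of their
points; application to products of ind-constructible subsets of group schemes.
-/

set_option autoImplicit false

universe u

namespace Groth.Agent.H90

open Topology Set

section top
variable {X : Type*} [TopologicalSpace X]

lemma exists_isLocallyClosed_of_isConstructible {s : Set X} (hs : IsConstructible s) :
    ∀ x ∈ s, ∃ L : Set X, IsLocallyClosed L ∧ x ∈ L ∧ L ⊆ s := by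
  induction s, hs using BooleanSubalgebra.closure_sdiff_sup_induction with
  | isSublattice =>
    exact ⟨fun s hs t ht ↦ ⟨hs.1.union ht.1, hs.2.union ht.2⟩,
      fun s hs t ht ↦ ⟨hs.1.inter ht.1, hs.2.inter_isOpen ht.2 ht.1⟩⟩
  | bot_mem => exact ⟨isOpen_empty, .empty⟩
  | top_mem => exact ⟨isOpen_univ, .univ⟩
  | sdiff U hU V hV =>
    intro x hx
    exact ⟨U \ V, ⟨U, Vᶜ, hU.1, hV.1.isClosed_compl, rfl⟩, hx, subset_rfl⟩
  | sup s _ t _ hs' ht' =>
    intro x hx
    rcases hx with hx | hx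
    · obtain ⟨L, hL, hxL, hLs⟩ := hs' x hx
      exact ⟨L, hL, hxL, hLs.trans subset_union_left⟩
    · obtain ⟨L, hL, hxL, hLs⟩ := ht' x hx
      exact ⟨L, hL, hxL, hLs.trans subset_union_right⟩

lemma isLocallyClosed_image_val {U : Set X} (hU : IsOpen U) {L : Set ↥U}
    (hL : IsLocallyClosed L) : IsLocallyClosed (Subtype.val '' L) := by
  apply hL.image Topology.IsInducing.subtypeVal
  rw [Subtype.range_coe]
  exact hU.isLocallyClosed

lemma exists_isLocallyClosed_of_isLocallyConstructible {s : Set X}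
    (hs : IsLocallyConstructible s) :
    ∀ x ∈ s, ∃ L : Set X, IsLocallyClosed L ∧ x ∈ L ∧ L ⊆ s := by
  intro x hx
  obtain ⟨U, hUx, hU, hc⟩ := hs x
  have hxU : x ∈ U := mem_of_mem_nhds hUx
  obtain ⟨L, hL, hxL, hLs⟩ := exists_isLocallyClosed_of_isConstructible hc ⟨x, hxU⟩ hx
  refine ⟨Subtype.val '' L, isLocallyClosed_image_val hU hL, ⟨⟨x, hxU⟩, hxL, rfl⟩, ?_⟩
  rintro _ ⟨y, hy, rfl⟩
  exact hLs hy

lemma exists_isLocallyClosed_of_isIndConstructible {A : Set X}
    (hA : ProCons.IsIndConstructible A) :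
    ∀ x ∈ A, ∃ L : Set X, IsLocallyClosed L ∧ x ∈ L ∧ L ⊆ A := by
  intro x hx
  obtain ⟨U, hU, hxU, S, hS, hAS⟩ := hA x
  have hx' : (⟨x, hxU⟩ : ↥U) ∈ (Subtype.val ⁻¹' A : Set ↥U) := hx
  rw [hAS] at hx'
  obtain ⟨T, hTS, hxT⟩ := hx'
  obtain ⟨L, hL, hxL, hLT⟩ := exists_isLocallyClosed_of_isLocallyConstructible (hS T hTS) _ hxT
  refine ⟨Subtype.val '' L, isLocallyClosed_image_val hU hL, ⟨⟨x, hxU⟩, hxL, rfl⟩, ?_⟩
  rintro _ ⟨y, hy, rfl⟩
  have : y ∈ ⋃₀ S := ⟨T, hTS, hLT hy⟩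
  rw [← hAS] at this
  exact this

end top

open CategoryTheory MonoidalCategory CartesianMonoidalCategory MonObj GrpObj AlgebraicGeometry
open Limits

/-- Rational points of a product of ind-constructible sets. -/
theorem exists_closed_point_mul (k : Type u) [Field k] (G : Over (Spec (CommRingCat.of k)))
    [GrpObj G] [LocallyOfFiniteType G.hom] (A B : Set G.left)
    (hA : ProCons.IsIndConstructible A) (hB : ProCons.IsIndConstructible B)
    (z : G.left) (hz : IsClosed ({z} : Set G.left))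
    (hzAB : z ∈ μ[G].left.base '' {w : ↥(G ⊗ G).left |
      (fst G G).left.base w ∈ A ∧ (snd G G).left.base w ∈ B}) :
    ∃ w : ↥(G ⊗ G).left, IsClosed ({w} : Set ↥(G ⊗ G).left) ∧ (fst G G).left.base w ∈ A ∧
      (snd G G).left.base w ∈ B ∧ μ[G].left.base w = z := by
  obtain ⟨w₀, ⟨hw₀A, hw₀B⟩, hw₀z⟩ := hzAB
  obtain ⟨LA, hLA, hxLA, hLAA⟩ := exists_isLocallyClosed_of_isIndConstructible hA _ hw₀A
  obtain ⟨LB, hLB, hxLB, hLBB⟩ := exists_isLocallyClosed_of_isIndConstructible hB _ hw₀B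
  have hlft : LocallyOfFiniteType (G ⊗ G).hom := by
    have h1 : (G ⊗ G).hom = (fst G G).left ≫ G.hom := (Over.w (fst G G)).symm
    have h2 : LocallyOfFiniteType (fst G G).left := by
      rw [Over.fst_left]
      infer_instance
    rw [h1]
    infer_instance
  have hjac : JacobsonSpace ↥(G ⊗ G).left := LocallyOfFiniteType.jacobsonSpace (G ⊗ G).hom
  let L : Set ↥(G ⊗ G).left := ((fst G G).left.base ⁻¹' LA ∩ (snd G G).left.base ⁻¹' LB) ∩
    μ[G].left.base ⁻¹' {z}
  have hL : IsLocallyClosed L :=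
    ((hLA.preimage (fst G G).left.continuous).inter
      (hLB.preimage (snd G G).left.continuous)).inter
      ((hz.preimage μ[G].left.continuous).isLocallyClosed)
  have hLne : L.Nonempty := ⟨w₀, ⟨hxLA, hxLB⟩, hw₀z⟩
  obtain ⟨w, ⟨⟨hwA, hwB⟩, hwz⟩, hwc⟩ := nonempty_inter_closedPoints hLne hL
  exact ⟨w, hwc, hLAA hwA, hLBB hwB, hwz⟩

end Groth.Agent.H90
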