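import Groth.Prelude.Def_NonAbH2
import Groth.Agent.H40.ActPts
import Groth.Agent.H90.GrpUnitSection
import Mathlib.AlgebraicGeometry.Sites.Fpqc

/-! Torsors under infinitesimal group schemes over a field which become trivial over a separable
extension are trivial. -/

set_option autoImplicit false
universe u

open CategoryTheory CategoryTheory.Limits MonoidalCategory CartesianMonoidalCategory MonObj
  AlgebraicGeometry

namespace Groth.Agent.H90

/-- Two morphisms from a reduced scheme to a one-point finite group scheme over the base which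
agree after the structure map are equal. -/
theorem eq_of_isReduced_of_subsingleton_grp {S : Scheme.{u}} (I : Over S) [GrpObj I]
    [IsSeparated I.hom] [Subsingleton ↥I.left] {R : Scheme.{u}} [IsReduced R]
    (u v : R ⟶ I.left) (h : u ≫ I.hom = v ≫ I.hom) : u = v := by
  have hcl : IsClosedImmersion η[I].left := (separated_iff_unit S I).1.mp inferInstance
  have he : η[I].left ≫ I.hom = 𝟙 S := Over.w η[I]
  have key : ∀ w : R ⟶ I.left, w = (w ≫ I.hom) ≫ η[I].left := by
    intro w
    have hsurj : Surjective η[I].left := ⟨fun y => ⟨I.hom y, Subsingleton.elim _ _⟩⟩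
    have h1 : IsClosedImmersion (pullback.fst w η[I].left) := inferInstance
    have h2 : Surjective (pullback.fst w η[I].left) := inferInstance
    have h3 : IsIso (pullback.fst w η[I].left) := isIso_of_isClosedImmersion_of_surjective _
    have h4 : w = inv (pullback.fst w η[I].left) ≫ pullback.snd w η[I].left ≫ η[I].left := by
      rw [← pullback.condition, IsIso.inv_hom_id_assoc]
    have h5 : inv (pullback.fst w η[I].left) ≫ pullback.snd w η[I].left = w ≫ I.hom := by
      conv_rhs => rw [h4]
      simp only [Category.assoc]
      rw [he]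
      erw [Category.comp_id]
    rw [← h5, Category.assoc]
    exact h4
  rw [key u, key v, h]

section Main

variable (k : Type u) [Field k] (L : Type u) [Field L] [Algebra k L]

open Groth.Agent.H40

theorem hasSection_of_hasSection_separable [IsReduced (TensorProduct k L L)]
    (I E : Over (Spec (CommRingCat.of k))) [GrpObj I] [IsFinite I.hom] [Subsingleton ↥(I.left)]
    (a : AlgGrp.Action I E) (hE : IsIso (lift a.act (snd I E)))
    (hL : NonAbH1.HasSectionOver E (Spec.map (CommRingCat.ofHom (algebraMap k L)))) :
    NonAbH1.HasSectionOver E (𝟙 (Spec (CommRingCat.of k))) := by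
  obtain ⟨s, hs⟩ := hL
  set t : Spec (CommRingCat.of L) ⟶ Spec (CommRingCat.of k) :=
    Spec.map (CommRingCat.ofHom (algebraMap k L)) with ht
  -- the double fibre product is reduced
  have hred : IsReduced (pullback t t) := by
    have : IsReduced (Spec (CommRingCat.of (TensorProduct k L L))) := inferInstance
    exact isReduced_of_isOpenImmersion (pullbackSpecIso k L L).hom
  -- points over the double fibre product
  let T₂ : Over (Spec (CommRingCat.of k)) := Over.mk (pullback.fst t t ≫ t)
  let x₁ : T₂ ⟶ E := Over.homMk (pullback.fst t t ≫ s) (by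
    change (pullback.fst t t ≫ s) ≫ E.hom = pullback.fst t t ≫ t
    rw [Category.assoc, hs])
  let x₂ : T₂ ⟶ E := Over.homMk (pullback.snd t t ≫ s) (by
    change (pullback.snd t t ≫ s) ≫ E.hom = pullback.fst t t ≫ t
    rw [Category.assoc, hs, pullback.condition])
  let w : T₂ ⟶ I ⊗ E := lift x₁ x₂ ≫ inv (lift a.act (snd I E))
  have hw : w ≫ lift a.act (snd I E) = lift x₁ x₂ := by
    simp only [w, Category.assoc, IsIso.inv_hom_id, Category.comp_id]
  have hw1 : w ≫ a.act = x₁ := by
    have := congrArg (· ≫ fst E E) hw
    simpa only [Category.assoc, lift_fst] using this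
  have hw2 : w ≫ snd I E = x₂ := by
    have := congrArg (· ≫ snd E E) hw
    simpa only [Category.assoc, lift_snd] using this
  let g : T₂ ⟶ I := w ≫ fst I E
  have hg : g = 1 := by
    have hsep : IsSeparated I.hom := inferInstance
    have hR : IsReduced T₂.left := hred
    ext
    apply eq_of_isReduced_of_subsingleton_grp I
    rw [Over.w g, Over.w (1 : T₂ ⟶ I)]
  have hx : x₁ = x₂ := by
    have h1 : x₁ = psmul a g x₂ := by
      rw [psmul_def, ← hw1, ← hw2]
      congr 1
      apply CartesianMonoidalCategory.hom_ext
      · rw [lift_fst]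
      · rw [lift_snd]
    rw [h1, hg, one_psmul]
  have hkey : pullback.fst t t ≫ s = pullback.snd t t ≫ s := congrArg (fun φ => φ.left) hx
  -- descent
  have hflat : Flat t := by
    rw [ht, Flat.SpecMap_iff]
    exact (RingHom.flat_algebraMap_iff.mpr inferInstance)
  have hsurj : Surjective t := by
    refine ⟨fun y => ⟨IsLocalRing.closedPoint L, ?_⟩⟩
    exact Subsingleton.elim (α := PrimeSpectrum k) _ _
  have heff : EffectiveEpi t := inferInstance
  let s₀ : Spec (CommRingCat.of k) ⟶ E.left := EffectiveEpi.desc t s (by
    intro W p q hpq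
    have h1 : pullback.lift p q hpq ≫ pullback.fst t t = p := pullback.lift_fst _ _ _
    have h2 : pullback.lift p q hpq ≫ pullback.snd t t = q := pullback.lift_snd _ _ _
    calc p ≫ s = (pullback.lift p q hpq ≫ pullback.fst t t) ≫ s := by rw [h1]
      _ = (pullback.lift p q hpq ≫ pullback.snd t t) ≫ s := by
        rw [Category.assoc, hkey, ← Category.assoc]
      _ = q ≫ s := by rw [h2])
  have hfac : t ≫ s₀ = s := EffectiveEpi.fac _ _ _
  have hepi : Epi t := Flat.epi_of_flat_of_surjective t
  refine ⟨s₀, ?_⟩
  rw [← cancel_epi t, reassoc_of% hfac, hs, Category.comp_id]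

end Main

end Groth.Agent.H90
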