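import Mathlib

set_option autoImplicit false

namespace Groth.Agent.H90

open Polynomial

/-- the subring of integers inside `ℚ` -/
abbrev ZZ : Subring ℚ := (Int.castRingHom ℚ).range

theorem int_mem_ZZ (z : ℤ) : (z : ℚ) ∈ ZZ := ⟨z, rfl⟩
theorem nat_mem_ZZ (n : ℕ) : (n : ℚ) ∈ ZZ := ⟨(n : ℤ), by simp⟩

theorem prod_range_sub_eq_descFactorial (y k : ℕ) :
    ∏ j ∈ Finset.range k, ((y : ℚ) - (j : ℚ)) = (y.descFactorial k : ℚ) := by
  rw [← descPochhammer_eval_eq_prod_range, descPochhammer_eval_eq_descFactorial]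

/-- the monic polynomial vanishing at `a₀, a₀+1, …, a₀+g` -/
noncomputable def vanishPoly (a₀ : ℤ) (k : ℕ) : Polynomial ℚ :=
  ∏ m ∈ Finset.range k, (X - C (((a₀ + (m : ℤ) : ℤ)) : ℚ))

theorem vanishPoly_eq_map (a₀ : ℤ) (k : ℕ) :
    vanishPoly a₀ k = (∏ m ∈ Finset.range k, (X - C (a₀ + (m : ℤ)) : Polynomial ℤ)).map (Int.castRingHom ℚ) := by
  unfold vanishPoly
  rw [Polynomial.map_prod]
  apply Finset.prod_congr rfl
  intro m _
  simp

theorem vanishPoly_coeff_mem (a₀ : ℤ) (k j : ℕ) : (vanishPoly a₀ k).coeff j ∈ ZZ := by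
  rw [vanishPoly_eq_map, Polynomial.coeff_map]
  exact ⟨_, rfl⟩

theorem vanishPoly_monic (a₀ : ℤ) (k : ℕ) : (vanishPoly a₀ k).Monic := by
  unfold vanishPoly
  exact monic_prod_of_monic _ _ (fun m _ => monic_X_sub_C _)

theorem vanishPoly_natDegree (a₀ : ℤ) (k : ℕ) : (vanishPoly a₀ k).natDegree = k := by
  unfold vanishPoly
  rw [natDegree_prod_of_monic _ _ (fun m _ => monic_X_sub_C _)]
  simp only [natDegree_X_sub_C, Finset.sum_const, Finset.card_range, smul_eq_mul, mul_one]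

theorem vanishPoly_eval (a₀ : ℤ) (k y : ℕ) :
    (vanishPoly a₀ k).eval (((a₀ + (y : ℤ) : ℤ)) : ℚ) = (y.descFactorial k : ℚ) := by
  unfold vanishPoly
  rw [eval_prod, ← prod_range_sub_eq_descFactorial]
  apply Finset.prod_congr rfl
  intro m _
  simp

theorem intValued_aux : ∀ (g : ℕ) (R : Polynomial ℚ), R.natDegree ≤ g → ∀ a₀ : ℤ,
    (∀ i : ℕ, i ≤ g → R.eval (((a₀ + (i : ℤ) : ℤ)) : ℚ) ∈ ZZ) →
    (∀ y : ℕ, R.eval (((a₀ + (y : ℤ) : ℤ)) : ℚ) ∈ ZZ) ∧ (∀ j, (g.factorial : ℚ) * R.coeff j ∈ ZZ) := by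
  intro g
  induction g with
  | zero =>
    intro R hR a₀ h
    have hC := eq_C_of_natDegree_le_zero hR
    have h0 := h 0 le_rfl
    rw [hC, eval_C] at h0
    constructor
    · intro y
      rw [hC, eval_C]; exact h0
    · intro j
      rw [hC, coeff_C]
      split_ifs
      · simpa using h0
      · simp
  | succ g ih =>
    intro R hR a₀ h
    set c := R.coeff (g + 1) with hc
    set T := vanishPoly a₀ (g + 1) with hT
    set R' := R - C c * T with hR'
    have hTdeg : T.natDegree = g + 1 := vanishPoly_natDegree a₀ (g + 1)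
    have hTlead : T.coeff (g + 1) = 1 := by
      have := (vanishPoly_monic a₀ (g + 1)).coeff_natDegree
      rw [vanishPoly_natDegree] at this
      exact this
    have hR'deg : R'.natDegree ≤ g := by
      rw [natDegree_le_iff_coeff_eq_zero]
      intro N hN
      rw [hR', coeff_sub, coeff_C_mul]
      rcases Nat.lt_or_ge (g + 1) N with hlt | hge
      · rw [coeff_eq_zero_of_natDegree_lt (lt_of_le_of_lt hR hlt),
          coeff_eq_zero_of_natDegree_lt (by rw [hTdeg]; exact hlt)]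
        ring
      · have : N = g + 1 := by omega
        rw [this, hTlead]
        ring
    have hTvan : ∀ i : ℕ, i ≤ g → T.eval (((a₀ + (i : ℤ) : ℤ)) : ℚ) = 0 := by
      intro i hi
      rw [hT, vanishPoly_eval]
      have : i.descFactorial (g + 1) = 0 := Nat.descFactorial_eq_zero_iff_lt.mpr (by omega)
      rw [this]; simp
    have hR'val : ∀ i : ℕ, i ≤ g → R'.eval (((a₀ + (i : ℤ) : ℤ)) : ℚ) ∈ ZZ := by
      intro i hi
      rw [hR', eval_sub, eval_mul, eval_C, hTvan i hi, mul_zero, sub_zero]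
      exact h i (by omega)
    obtain ⟨IH1, IH2⟩ := ih R' hR'deg a₀ hR'val
    have hRsplit : ∀ y : ℕ, R.eval (((a₀ + (y : ℤ) : ℤ)) : ℚ)
        = R'.eval (((a₀ + (y : ℤ) : ℤ)) : ℚ) + c * (y.descFactorial (g + 1) : ℚ) := by
      intro y
      rw [hR', eval_sub, eval_mul, eval_C, hT, vanishPoly_eval]
      ring
    have hn : c * ((g + 1).factorial : ℚ) ∈ ZZ := by
      have h1 := h (g + 1) le_rfl
      rw [hRsplit (g + 1), Nat.descFactorial_self] at h1
      have h2 := IH1 (g + 1)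
      have : c * ((g + 1).factorial : ℚ)
          = (R'.eval (((a₀ + ((g + 1 : ℕ) : ℤ) : ℤ)) : ℚ) + c * ((g + 1).factorial : ℚ))
            - R'.eval (((a₀ + ((g + 1 : ℕ) : ℤ) : ℤ)) : ℚ) := by ring
      rw [this]
      exact Subring.sub_mem _ h1 h2
    constructor
    · intro y
      rw [hRsplit y, Nat.descFactorial_eq_factorial_mul_choose]
      have : c * (((g + 1).factorial * y.choose (g + 1) : ℕ) : ℚ)
          = (c * ((g + 1).factorial : ℚ)) * (y.choose (g + 1) : ℚ) := by push_cast; ring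
      rw [this]
      exact Subring.add_mem _ (IH1 y) (Subring.mul_mem _ hn (nat_mem_ZZ _))
    · intro j
      have hRj : R.coeff j = R'.coeff j + c * T.coeff j := by
        rw [hR', coeff_sub, coeff_C_mul]; ring
      have : ((g + 1).factorial : ℚ) * R.coeff j
          = ((g + 1 : ℕ) : ℚ) * ((g.factorial : ℚ) * R'.coeff j) + (c * ((g + 1).factorial : ℚ)) * T.coeff j := by
        rw [hRj, Nat.factorial_succ]; push_cast; ring
      rw [this]
      exact Subring.add_mem _ (Subring.mul_mem _ (nat_mem_ZZ _) (IH2 j))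
        (Subring.mul_mem _ hn (vanishPoly_coeff_mem a₀ (g + 1) j))

theorem mem_ZZ_of_coprime_pow (x : ℚ) (B e : ℕ) (h1 : x * (B : ℚ) ^ e ∈ ZZ)
    (h2 : x * ((B + 1 : ℕ) : ℚ) ^ e ∈ ZZ) : x ∈ ZZ := by
  have hcop : IsCoprime ((B : ℤ) ^ e) (((B + 1 : ℕ) : ℤ) ^ e) := by
    apply IsCoprime.pow
    have : Nat.Coprime B (B + 1) := by simp
    exact Nat.isCoprime_iff_coprime.mpr this
  obtain ⟨s, t, hst⟩ := hcop
  have : x = (s : ℚ) * (x * (B : ℚ) ^ e) + (t : ℚ) * (x * ((B + 1 : ℕ) : ℚ) ^ e) := by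
    have h := congrArg (fun z : ℤ => (z : ℚ)) hst
    simp only [Int.cast_add, Int.cast_mul, Int.cast_pow, Int.cast_natCast, Int.cast_one] at h
    calc x = x * 1 := by ring
      _ = x * ((s : ℚ) * (B : ℚ) ^ e + (t : ℚ) * ((B + 1 : ℕ) : ℚ) ^ e) := by rw [h]
      _ = _ := by ring
  rw [this]
  exact Subring.add_mem _ (Subring.mul_mem _ (int_mem_ZZ s) h1) (Subring.mul_mem _ (int_mem_ZZ t) h2)

/-- The integrality statement for rank-function polynomials. -/
theorem coeff_integrality (g : ℕ) (Q : Polynomial ℚ) (hQ : Q.natDegree ≤ g) (u v : ℚ) (huv : u < v)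
    (hh : ℤ → ℕ → ℕ)
    (hpoly : ∀ (a : ℤ) (b : ℕ), 0 < b → u < (a : ℚ) / (b : ℚ) → (a : ℚ) / (b : ℚ) < v →
      ((hh a b : ℕ) : ℚ) / (b : ℚ) ^ (2 * g) = Q.eval ((a : ℚ) / (b : ℚ)))
    (j : ℕ) : ∃ z : ℤ, (Nat.factorial g : ℚ) * Q.coeff j = (z : ℚ) := by
  rcases Nat.lt_or_ge g j with hj | hj
  · refine ⟨0, ?_⟩
    rw [coeff_eq_zero_of_natDegree_lt (lt_of_le_of_lt hQ hj)]
    simp
  -- j ≤ g
  have hvu : 0 < v - u := sub_pos.mpr huv
  -- for large b, g! c_j b^(2g-j) is an integer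
  have hlarge : ∀ b : ℕ, ((g : ℚ) + 2) / (v - u) < (b : ℚ) →
      (Nat.factorial g : ℚ) * Q.coeff j * (b : ℚ) ^ (2 * g - j) ∈ ZZ := by
    intro b hb
    have hbpos : (0 : ℚ) < (b : ℚ) := lt_trans (by positivity) hb
    have hbpos' : 0 < b := by exact_mod_cast hbpos
    have hb' : (g : ℚ) + 2 < (b : ℚ) * (v - u) := by
      rwa [div_lt_iff₀ hvu] at hb
    set R : Polynomial ℚ := (Q.comp (C (1 / (b : ℚ)) * X)) * C ((b : ℚ) ^ (2 * g)) with hRdef
    have hRdeg : R.natDegree ≤ g := by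
      rw [hRdef]
      refine le_trans (natDegree_mul_C_le _ _) ?_
      refine le_trans natDegree_comp_le ?_
      have : (C (1 / (b : ℚ)) * X : Polynomial ℚ).natDegree ≤ 1 := by
        refine le_trans (natDegree_C_mul_le _ _) ?_
        simp
      calc Q.natDegree * (C (1 / (b : ℚ)) * X : Polynomial ℚ).natDegree ≤ Q.natDegree * 1 :=
            Nat.mul_le_mul_left _ this
        _ ≤ g := by rw [mul_one]; exact hQ
    set a₀ : ℤ := ⌊u * (b : ℚ)⌋ + 1 with ha₀
    have ha₀lo : u * (b : ℚ) < (a₀ : ℚ) := by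
      rw [ha₀]; push_cast
      exact Int.lt_floor_add_one _
    have ha₀hi : (a₀ : ℚ) ≤ u * (b : ℚ) + 1 := by
      rw [ha₀]; push_cast
      have := Int.floor_le (u * (b : ℚ))
      linarith
    have hvals : ∀ i : ℕ, i ≤ g → R.eval (((a₀ + (i : ℤ) : ℤ)) : ℚ) ∈ ZZ := by
      intro i hi
      have hiq : (i : ℚ) ≤ (g : ℚ) := by exact_mod_cast hi
      have hlo : u < (((a₀ + (i : ℤ) : ℤ)) : ℚ) / (b : ℚ) := by
        rw [lt_div_iff₀ hbpos]; push_cast
        have : (0 : ℚ) ≤ (i : ℚ) := Nat.cast_nonneg i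
        linarith
      have hhi : (((a₀ + (i : ℤ) : ℤ)) : ℚ) / (b : ℚ) < v := by
        rw [div_lt_iff₀ hbpos]; push_cast
        nlinarith
      have := hpoly (a₀ + (i : ℤ)) b hbpos' hlo hhi
      rw [hRdef, eval_mul, eval_C, eval_comp, eval_mul, eval_C, eval_X]
      have e : 1 / (b : ℚ) * (((a₀ + (i : ℤ) : ℤ)) : ℚ) = (((a₀ + (i : ℤ) : ℤ)) : ℚ) / (b : ℚ) := by ring
      rw [e, ← this, div_mul_cancel₀ _ (pow_ne_zero _ hbpos.ne')]
      exact nat_mem_ZZ _
    have hcoef := (intValued_aux g R hRdeg a₀ hvals).2 j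
    have hRj : R.coeff j = Q.coeff j * (b : ℚ) ^ (2 * g - j) := by
      rw [hRdef, coeff_mul_C, comp_C_mul_X_coeff]
      have : (b : ℚ) ^ (2 * g) = (b : ℚ) ^ (2 * g - j) * (b : ℚ) ^ j := by
        rw [← pow_add]; congr 1; omega
      rw [this, one_div, inv_pow]
      field_simp
    rw [hRj, ← mul_assoc] at hcoef
    exact hcoef
  -- pick B
  set B : ℕ := ⌊((g : ℚ) + 2) / (v - u)⌋₊ + 1 with hB
  have hB1 : ((g : ℚ) + 2) / (v - u) < (B : ℚ) := by
    rw [hB]; push_cast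
    exact Nat.lt_floor_add_one _
  have hB2 : ((g : ℚ) + 2) / (v - u) < ((B + 1 : ℕ) : ℚ) := by
    push_cast; linarith
  have := mem_ZZ_of_coprime_pow ((Nat.factorial g : ℚ) * Q.coeff j) B (2 * g - j) (hlarge B hB1)
    (hlarge (B + 1) hB2)
  obtain ⟨z, hz⟩ := this
  exact ⟨z, hz.symm⟩

end Groth.Agent.H90
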