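import Groth.Agent.H90.IsogFinFlat
import Groth.Prelude.Def_Red

/-! Homomorphisms of abelian schemes with fibres of equal dimension: quasi-finite iff surjective. -/

set_option autoImplicit false
universe u

open CategoryTheory CategoryTheory.Limits MonoidalCategory CartesianMonoidalCategory MonObj GrpObj
  AlgebraicGeometry TopologicalSpace

namespace Groth.Agent.H90.IsogFibre

open Groth.Agent.H90.IsogFinFlat

section Field

variable (k : Type u) [Field k]

/-- A smooth geometrically connected group scheme over a field is integral. -/
lemma isIntegral_of_smooth_geomConn (G : Over (Spec (CommRingCat.of k))) [GrpObj G]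
    [Smooth G.hom] [GeometricallyConnected G.hom] : IsIntegral G.left := by
  have hsub : Subsingleton ↥(Spec (CommRingCat.of k)) :=
    inferInstanceAs (Subsingleton (PrimeSpectrum k))
  have hconn : ConnectedSpace G.left :=
    GeometricallyConnected.connectedSpace_of_subsingleton (f := G.hom)
  have hirr := Groth.Agent.H38.GrpConnIrr.irreducibleSpace_of_connectedSpace k G
  have hred := Groth.Agent.H22.GeomRedSections.isReduced_of_smooth_field k G.hom
  exact (isIntegral_iff_irreducibleSpace_and_isReduced G.left).mpr ⟨hirr, hred⟩

/-- A quasi-finite morphism between proper irreducible schemes of the same dimension over a field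
is surjective. -/
theorem surjective_of_locallyQuasiFinite (X Y : Over (Spec (CommRingCat.of k)))
    [IsProper X.hom] [IrreducibleSpace X.left] [IsProper Y.hom] [IrreducibleSpace Y.left]
    (f : X ⟶ Y) [LocallyQuasiFinite f.left]
    (hdim : topologicalKrullDim X.left = topologicalKrullDim Y.left) : Surjective f.left := by
  have hf_comp : f.left ≫ Y.hom = X.hom := Over.w f
  have hfprop : IsProper f.left := by
    have : IsProper (f.left ≫ Y.hom) := by rw [hf_comp]; infer_instance
    exact IsProper.of_comp f.left Y.hom
  by_contra hns
  have hclosed : IsClosed (Set.range f.left.base) := f.left.isClosedMap.isClosed_range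
  have hss : Set.range f.left.base ⊂ Set.univ := by
    refine ⟨Set.subset_univ _, fun h => hns ⟨fun y => h (Set.mem_univ y)⟩⟩
  have hYc : CompactSpace Y.left := QuasiCompact.compactSpace_of_compactSpace Y.hom
  have hfinY : topologicalKrullDim Y.left < ⊤ :=
    Groth.Agent.H96.WeilDim.topologicalKrullDim_lt_top_of_locallyOfFiniteType k Y.hom
  have huniv : topologicalKrullDim ↥(Set.univ : Set Y.left) = topologicalKrullDim Y.left :=
    (Homeomorph.Set.univ Y.left).isHomeomorph.topologicalKrullDim_eq
  have hlt := Groth.Agent.H58.ConnDim.dim_lt_of_ssubset hclosed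
    (IrreducibleSpace.isIrreducible_univ Y.left) hss (by rw [huniv]; exact hfinY)
  rw [huniv] at hlt
  have hformula := Groth.Agent.H17.Chev.topologicalKrullDim_eq_closure_range_add k X.hom Y.hom
    f.left hf_comp
  rw [hclosed.closure_eq] at hformula
  set y₀ := f.left (genericPoint X.left) with hy₀
  have hF0 : topologicalKrullDim ↥(f.left.fiber y₀) = 0 := by
    apply le_antisymm (topologicalKrullDim_zero_of_discreteTopology _)
    have : Nonempty (IrreducibleCloseds ↥(f.left.fiber y₀)) :=
      ⟨⟨closure {f.left.asFiber (genericPoint X.left)}, isIrreducible_singleton.closure,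
        isClosed_closure⟩⟩
    exact Order.krullDim_nonneg
  rw [hF0, add_zero] at hformula
  rw [← hformula, hdim] at hlt
  exact lt_irrefl _ hlt

end Field

section Base

variable {S : Scheme.{u}}

/-- The base change square of a morphism of `S`-schemes. -/
lemma isPullback_pullback_map {S' : Scheme.{u}} (g : S' ⟶ S) {A B : Over S} (f : A ⟶ B) :
    IsPullback (pullback.fst A.hom g) ((Over.pullback g).map f).left f.left
      (pullback.fst B.hom g) := by
  have hbot : IsPullback (pullback.fst B.hom g) (pullback.snd B.hom g) B.hom g :=
    IsPullback.of_hasPullback _ _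
  have hbig : IsPullback (pullback.fst A.hom g) (pullback.snd A.hom g) A.hom g :=
    IsPullback.of_hasPullback _ _
  have e1 : ((Over.pullback g).map f).left ≫ pullback.snd B.hom g = pullback.snd A.hom g :=
    Over.w ((Over.pullback g).map f)
  have e2 : f.left ≫ B.hom = A.hom := Over.w f
  have e3 : pullback.fst A.hom g ≫ f.left =
      ((Over.pullback g).map f).left ≫ pullback.fst B.hom g :=
    (pullback.lift_fst _ _ _).symm
  have hbig' : IsPullback (pullback.fst A.hom g)
      (((Over.pullback g).map f).left ≫ pullback.snd B.hom g) (f.left ≫ B.hom) g := by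
    rw [e1, e2]
    exact hbig
  exact IsPullback.of_bot hbig' e3 hbot

theorem S18385_aux (A B : Over S)
    [GrpObj A] [Smooth A.hom] [IsProper A.hom] [GeometricallyConnected A.hom]
    [GrpObj B] [Smooth B.hom] [IsProper B.hom] [GeometricallyConnected B.hom]
    (f : A ⟶ B) [IsMonHom f]
    (hdim : ∀ s : S, topologicalKrullDim ↥(A.hom.fiber s) = topologicalKrullDim ↥(B.hom.fiber s)) :
    LocallyQuasiFinite f.left ↔ Surjective f.left := by
  have key : ∀ s : S,
      (LocallyQuasiFinite ((Over.pullback (S.fromSpecResidueField s)).map f).left ↔
        Surjective ((Over.pullback (S.fromSpecResidueField s)).map f).left) := by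
    intro s
    set g := S.fromSpecResidueField s with hg
    let As := Red.bc g A
    let Bs := Red.bc g B
    let fs : As ⟶ Bs := (Over.pullback g).map f
    have hA1 : Smooth As.hom := inferInstanceAs (Smooth (pullback.snd A.hom g))
    have hA2 : IsProper As.hom := inferInstanceAs (IsProper (pullback.snd A.hom g))
    have hA3 : GeometricallyConnected As.hom :=
      inferInstanceAs (GeometricallyConnected (pullback.snd A.hom g))
    have hB1 : Smooth Bs.hom := inferInstanceAs (Smooth (pullback.snd B.hom g))
    have hB2 : IsProper Bs.hom := inferInstanceAs (IsProper (pullback.snd B.hom g))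
    have hB3 : GeometricallyConnected Bs.hom :=
      inferInstanceAs (GeometricallyConnected (pullback.snd B.hom g))
    have hAint : IsIntegral As.left := isIntegral_of_smooth_geomConn (S.residueField s) As
    have hBint : IsIntegral Bs.left := isIntegral_of_smooth_geomConn (S.residueField s) Bs
    have hfs : IsMonHom fs := inferInstance
    constructor
    · intro h
      exact surjective_of_locallyQuasiFinite (S.residueField s) As Bs fs (hdim s)
    · intro h
      have := (core (S.residueField s) As Bs fs (hdim s)).1
      infer_instance
  constructor
  · intro hlqf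
    refine ⟨fun b => ?_⟩
    set s := B.hom b with hs
    set g := S.fromSpecResidueField s with hg
    have sq := isPullback_pullback_map g f
    have hfs_lqf : LocallyQuasiFinite ((Over.pullback g).map f).left :=
      MorphismProperty.of_isPullback (P := @LocallyQuasiFinite) sq hlqf
    have hfs_surj := (key s).mp hfs_lqf
    obtain ⟨b', hb'⟩ : b ∈ Set.range (B.hom.fiberι s) := by
      rw [Scheme.Hom.range_fiberι]
      rfl
    obtain ⟨a', ha'⟩ := hfs_surj.surj b'
    refine ⟨(pullback.fst A.hom g) a', ?_⟩
    rw [← Scheme.Hom.comp_apply, sq.w, Scheme.Hom.comp_apply, ha']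
    exact hb'
  · intro hsurj
    apply LocallyQuasiFinite.of_fiberToSpecResidueField
    intro b
    set s := B.hom b with hs
    set g := S.fromSpecResidueField s with hg
    have sq := isPullback_pullback_map g f
    have hfs_surj : Surjective ((Over.pullback g).map f).left :=
      MorphismProperty.of_isPullback (P := @Surjective) sq hsurj
    have hfs_lqf := (key s).mpr hfs_surj
    let t : Spec (B.left.residueField b) ⟶ pullback B.hom g :=
      pullback.lift (B.left.fromSpecResidueField b) (Spec.map (B.hom.residueFieldMap b))
        (B.hom.SpecMap_residueFieldMap_fromSpecResidueField b).symm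
    have ht : t ≫ pullback.fst B.hom g = B.left.fromSpecResidueField b := pullback.lift_fst _ _ _
    have sqb : IsPullback (f.left.fiberι b) (f.left.fiberToSpecResidueField b) f.left
        (B.left.fromSpecResidueField b) := IsPullback.of_hasPullback _ _
    let u : f.left.fiber b ⟶ pullback A.hom g :=
      sq.lift (f.left.fiberι b) (f.left.fiberToSpecResidueField b ≫ t) (by
        rw [Category.assoc, ht]
        exact sqb.w)
    have hu1 : u ≫ pullback.fst A.hom g = f.left.fiberι b := sq.lift_fst _ _ _
    have hu2 : u ≫ ((Over.pullback g).map f).left = f.left.fiberToSpecResidueField b ≫ t :=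
      sq.lift_snd _ _ _
    have sqleft : IsPullback u (f.left.fiberToSpecResidueField b)
        ((Over.pullback g).map f).left t := by
      refine IsPullback.of_right ?_ hu2 sq
      rw [hu1, ht]
      exact sqb
    exact MorphismProperty.of_isPullback (P := @LocallyQuasiFinite) sqleft hfs_lqf

end Base

end Groth.Agent.H90.IsogFibre
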