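import Groth.Agent.H90.EquivProp
import Groth.Agent.H17.Chev.FieldImage
import Groth.Agent.H96.WeilDim
import Groth.Agent.H1.Descent
import Groth.Agent.H38.GrpConnIrr
import Groth.Agent.H22.GeomRedSections
import Groth.Agent.H58.ConnDim
import Mathlib.AlgebraicGeometry.ZariskisMainTheorem
import Mathlib.AlgebraicGeometry.Geometrically.Integral

/-! A surjective homomorphism of abelian varieties of the same dimension is finite and flat. -/

set_option autoImplicit false
universe u

open CategoryTheory CategoryTheory.Limits MonoidalCategory CartesianMonoidalCategory MonObj GrpObj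
  AlgebraicGeometry TopologicalSpace

namespace Groth.Agent.H90.IsogFinFlat

open Groth.Agent.H40 Groth.Agent.H90

/-- A Noetherian `T₀` space of Krull dimension `≤ 0` is finite and discrete. -/
theorem finite_discrete_of_dim_le_zero (T : Type*) [TopologicalSpace T] [NoetherianSpace T]
    [T0Space T] (h : topologicalKrullDim T ≤ 0) : Finite T ∧ DiscreteTopology T := by
  have hmax : ∀ x : IrreducibleCloseds T, IsMax x := Order.krullDim_nonpos_iff_forall_isMax.mp h
  have hmin : ∀ x : IrreducibleCloseds T, IsMin x := Order.krullDim_nonpos_iff_forall_isMin.mp h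
  have hcl : ∀ x : T, IsClosed ({x} : Set T) := by
    intro x
    let C : IrreducibleCloseds T :=
      ⟨closure {x}, isIrreducible_singleton.closure, isClosed_closure⟩
    have hsub : closure ({x} : Set T) ⊆ {x} := by
      intro y hy
      let D : IrreducibleCloseds T :=
        ⟨closure {y}, isIrreducible_singleton.closure, isClosed_closure⟩
      have hDC : D ≤ C := by
        intro z hz
        exact closure_minimal (Set.singleton_subset_iff.mpr hy) isClosed_closure hz
      have hCD : C ≤ D := hmin C hDC
      have hx : x ∈ closure ({y} : Set T) := hCD (subset_closure rfl)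
      have h1 : y ⤳ x := specializes_iff_mem_closure.mpr hx
      have h2 : x ⤳ y := specializes_iff_mem_closure.mpr hy
      exact (h2.antisymm h1).eq.symm
    have : closure ({x} : Set T) = {x} := Set.Subset.antisymm hsub subset_closure
    rw [← this]
    exact isClosed_closure
  have hT1 : T1Space T := ⟨hcl⟩
  have hirr : ∀ x : T, ({x} : Set T) ∈ irreducibleComponents T := by
    intro x
    refine ⟨isIrreducible_singleton, fun Z hZ hxZ => ?_⟩
    let C : IrreducibleCloseds T := ⟨{x}, isIrreducible_singleton, hcl x⟩
    let D : IrreducibleCloseds T := ⟨closure Z, hZ.closure, isClosed_closure⟩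
    have hCD : C ≤ D := fun y hy => subset_closure (hxZ hy)
    have hDC : D ≤ C := hmax C hCD
    exact fun z hz => hDC (subset_closure hz)
  have hfin : Finite (irreducibleComponents T) := NoetherianSpace.finite_irreducibleComponents
  have hF : Finite T :=
    Finite.of_injective (fun x => (⟨{x}, hirr x⟩ : irreducibleComponents T))
      (fun x y h => by
        have := congrArg Subtype.val h
        simpa using this)
  exact ⟨hF, inferInstance⟩

lemma le_zero_of_eq_add (a b : WithBot ℕ∞) (ha : a < ⊤) (ha0 : 0 ≤ a) (h : a = a + b) :
    b ≤ 0 := by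
  induction b with
  | bot => exact bot_le
  | coe m =>
    induction a with
    | bot => simp at ha0
    | coe n =>
      have hn : n < ⊤ := by rwa [← WithBot.coe_top, WithBot.coe_lt_coe] at ha
      rw [← WithBot.coe_add, WithBot.coe_inj] at h
      lift n to ℕ using hn.ne
      induction m using ENat.recTopCoe with
      | top => simp at h
      | coe m =>
        norm_cast at h
        have : m = 0 := by omega
        subst this
        simp

section Main

variable (k : Type u) [Field k]

/-- A surjective homomorphism of proper integral group schemes over a field, of the same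
dimension, is finite and flat. -/
theorem core
    (X Y : Over (Spec (CommRingCat.of k)))
    [GrpObj X] [IsProper X.hom] [IsIntegral X.left]
    [GrpObj Y] [IsProper Y.hom] [IsIntegral Y.left]
    (f : X ⟶ Y) [IsMonHom f] [Surjective f.left]
    (hdim : topologicalKrullDim X.left = topologicalKrullDim Y.left) :
    IsFinite f.left ∧ Flat f.left := by
  let K := AlgebraicClosure k
  have hXne : Nonempty X.left := inferInstance
  have hf_comp : f.left ≫ Y.hom = X.hom := Over.w f
  have hfprop : IsProper f.left := by
    have : IsProper (f.left ≫ Y.hom) := by rw [hf_comp]; infer_instance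
    exact IsProper.of_comp f.left Y.hom
  -- the action of X on Y through f
  let act' : X ⊗ Y ⟶ Y := (f ▷ Y) ≫ μ[Y]
  have hpt : ∀ (T : Over (Spec (CommRingCat.of k))) (g : T ⟶ X) (y : T ⟶ Y),
      lift g y ≫ act' = (g ≫ f) * y := by
    intro T g y
    have e : lift g y ≫ (f ▷ Y) = lift (g ≫ f) y := by
      apply CartesianMonoidalCategory.hom_ext <;> simp
    change lift g y ≫ (f ▷ Y) ≫ μ[Y] = _
    rw [← Category.assoc, e, Hom.mul_def]
  let b : AlgGrp.Action X Y := actionOfPoints act'
    (by
      intro T y
      rw [hpt, MonObj.one_comp, _root_.one_mul])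
    (by
      intro T g h y
      rw [hpt, hpt, hpt, MonObj.mul_comp, _root_.mul_assoc])
  have hequiv : (X ◁ f) ≫ b.act = (leftMulAction X).act ≫ f := by
    change (X ◁ f) ≫ (f ▷ Y) ≫ μ[Y] = μ[X] ≫ f
    rw [IsMonHom.mul_hom, tensorHom_def', Category.assoc]
  have htr : ∀ y y' : specOver k K ⟶ Y, ∃ g : specOver k K ⟶ X, lift g y ≫ b.act = y' := by
    intro y y'
    obtain ⟨c, hc⟩ := exists_point_lift k K X Y f (y' * y⁻¹)
    refine ⟨c, ?_⟩
    change lift c y ≫ act' = y'
    rw [hpt, hc, inv_mul_cancel_right]
  obtain ⟨hflat, -⟩ := flat_surjective_of_equivariant_of_transitive k K X X Y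
    (leftMulAction X) b f hequiv htr
  -- dimension of the generic fibre
  have hYc : CompactSpace Y.left := QuasiCompact.compactSpace_of_compactSpace Y.hom
  have hfinY : topologicalKrullDim Y.left < ⊤ :=
    Groth.Agent.H96.WeilDim.topologicalKrullDim_lt_top_of_locallyOfFiniteType k Y.hom
  have hY0 : 0 ≤ topologicalKrullDim Y.left := by
    obtain ⟨y⟩ : Nonempty Y.left := inferInstance
    have : Nonempty (IrreducibleCloseds Y.left) :=
      ⟨⟨closure {y}, isIrreducible_singleton.closure, isClosed_closure⟩⟩
    exact Order.krullDim_nonneg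
  set y₀ := f.left (genericPoint X.left) with hy₀
  have hformula := Groth.Agent.H17.Chev.topologicalKrullDim_eq_closure_range_add k X.hom Y.hom
    f.left hf_comp
  have hcl : closure (Set.range f.left.base) = Set.univ := by
    rw [Set.range_eq_univ.mpr f.left.surjective, closure_univ]
  have hdimcl : topologicalKrullDim ↥(closure (Set.range f.left.base)) =
      topologicalKrullDim Y.left := by
    rw [hcl]
    exact (Homeomorph.Set.univ Y.left).isHomeomorph.topologicalKrullDim_eq
  rw [hdimcl, hdim] at hformula
  have hF0 : topologicalKrullDim ↥(f.left.fiber y₀) ≤ 0 :=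
    le_zero_of_eq_add _ _ hfinY hY0 hformula
  have hFlft : LocallyOfFiniteType (f.left.fiberToSpecResidueField y₀) :=
    inferInstanceAs (LocallyOfFiniteType (pullback.snd _ _))
  have hFqc : QuasiCompact (f.left.fiberToSpecResidueField y₀) :=
    inferInstanceAs (QuasiCompact (pullback.snd _ _))
  have hFN : IsLocallyNoetherian (f.left.fiber y₀) :=
    LocallyOfFiniteType.isLocallyNoetherian (f.left.fiberToSpecResidueField y₀)
  have hFc : CompactSpace (f.left.fiber y₀) :=
    QuasiCompact.compactSpace_of_compactSpace (f.left.fiberToSpecResidueField y₀)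
  have hFNoe : IsNoetherian (f.left.fiber y₀) := {}
  obtain ⟨-, hFdisc⟩ := finite_discrete_of_dim_le_zero (f.left.fiber y₀) hF0
  have hqf : ∀ x : X.left, f.left x = y₀ → f.left.QuasiFiniteAt x := by
    have : ∀ y : Y.left, DiscreteTopology (f.left.fiber y) → ∀ x : X.left, f.left x = y →
        f.left.QuasiFiniteAt x := by
      rintro _ hd x rfl
      rw [Scheme.Hom.quasiFiniteAt_iff_isOpen_singleton_asFiber]
      exact isOpen_discrete _
    exact this y₀ hFdisc
  -- the open over which `f` is quasi-finite
  let Q := f.left.quasiFiniteLocus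
  have hCcl : IsClosed (f.left '' (Q : Set X.left)ᶜ) :=
    f.left.isClosedMap _ Q.2.isClosed_compl
  let U : Y.left.Opens := ⟨(f.left '' (Q : Set X.left)ᶜ)ᶜ, hCcl.isOpen_compl⟩
  have hy₀U : y₀ ∈ U := by
    rintro ⟨x, hx, hxy⟩
    exact hx (hqf x hxy)
  have hVQ : f.left ⁻¹ᵁ U ≤ Q := by
    intro x hx
    by_contra hxQ
    exact hx ⟨x, hxQ, rfl⟩
  have hU : LocallyQuasiFinite (f.left ∣_ U) := by
    have h1 : LocallyQuasiFinite ((f.left ⁻¹ᵁ U).ι ≫ f.left) := by
      have : (f.left ⁻¹ᵁ U).ι = X.left.homOfLE hVQ ≫ Q.ι := (X.left.homOfLE_ι hVQ).symm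
      rw [this, Category.assoc]
      infer_instance
    have h2 : LocallyQuasiFinite (f.left ∣_ U ≫ U.ι) := by
      rw [morphismRestrict_ι]
      exact h1
    exact LocallyQuasiFinite.of_comp (f.left ∣_ U) U.ι
  have := Groth.Agent.H1.locallyQuasiFinite_descendsAlong_fpqc.{u}
  have := descendsAlong_flat_surjective_universallyOpen @LocallyQuasiFinite.{u}
  have hLQF : LocallyQuasiFinite f.left :=
    prop_of_equivariant_of_transitive k K X X Y (leftMulAction X) b f hequiv htr
      @LocallyQuasiFinite U ⟨y₀, hy₀U⟩ hU
  exact ⟨IsFinite.of_isProper_of_locallyQuasiFinite f.left, hflat⟩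

theorem S19572_aux
    (X Y : Over (Spec (CommRingCat.of k)))
    [GrpObj X] [IsProper X.hom] [GeometricallyIntegral X.hom]
    [GrpObj Y] [IsProper Y.hom] [GeometricallyIntegral Y.hom]
    (f : X ⟶ Y) [IsMonHom f] [Surjective f.left]
    (hdim : topologicalKrullDim X.left = topologicalKrullDim Y.left) :
    IsFinite f.left ∧ Flat f.left := by
  have hsub : Subsingleton ↥(Spec (CommRingCat.of k)) :=
    inferInstanceAs (Subsingleton (PrimeSpectrum k))
  have hXint : IsIntegral X.left := GeometricallyIntegral.isIntegral_of_subsingleton X.hom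
  have hYint : IsIntegral Y.left := GeometricallyIntegral.isIntegral_of_subsingleton Y.hom
  exact core k X Y f hdim

theorem S17255_aux
    (A B : Over (Spec (CommRingCat.of k)))
    [GrpObj A] [Smooth A.hom] [IsProper A.hom] [GeometricallyConnected A.hom]
    [GrpObj B] [Smooth B.hom] [IsProper B.hom] [GeometricallyConnected B.hom]
    (f : A ⟶ B) [IsMonHom f] (hdim : topologicalKrullDim A.left = topologicalKrullDim B.left) :
    Flat f.left ↔ IsFinite f.left := by
  have hsub : Subsingleton ↥(Spec (CommRingCat.of k)) :=
    inferInstanceAs (Subsingleton (PrimeSpectrum k))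
  have hAconn : ConnectedSpace A.left :=
    GeometricallyConnected.connectedSpace_of_subsingleton (f := A.hom)
  have hBconn : ConnectedSpace B.left :=
    GeometricallyConnected.connectedSpace_of_subsingleton (f := B.hom)
  have hAirr : IrreducibleSpace A.left :=
    Groth.Agent.H38.GrpConnIrr.irreducibleSpace_of_connectedSpace k A
  have hBirr : IrreducibleSpace B.left :=
    Groth.Agent.H38.GrpConnIrr.irreducibleSpace_of_connectedSpace k B
  have hAred : IsReduced A.left :=
    Groth.Agent.H22.GeomRedSections.isReduced_of_smooth_field k A.hom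
  have hBred : IsReduced B.left :=
    Groth.Agent.H22.GeomRedSections.isReduced_of_smooth_field k B.hom
  have hAint : IsIntegral A.left := (isIntegral_iff_irreducibleSpace_and_isReduced A.left).mpr ⟨hAirr, hAred⟩
  have hBint : IsIntegral B.left := (isIntegral_iff_irreducibleSpace_and_isReduced B.left).mpr ⟨hBirr, hBred⟩
  have hf_comp : f.left ≫ B.hom = A.hom := Over.w f
  have hfprop : IsProper f.left := by
    have : IsProper (f.left ≫ B.hom) := by rw [hf_comp]; infer_instance
    exact IsProper.of_comp f.left B.hom
  constructor
  · intro hflat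
    have hBN : IsLocallyNoetherian B.left := LocallyOfFiniteType.isLocallyNoetherian B.hom
    have hlfp : LocallyOfFinitePresentation f.left := inferInstance
    have hopen : IsOpen (Set.range f.left.base) := f.left.isOpenMap.isOpen_range
    have hclosed : IsClosed (Set.range f.left.base) := f.left.isClosedMap.isClosed_range
    have hne : (Set.range f.left.base).Nonempty := Set.range_nonempty _
    have huniv : Set.range f.left.base = Set.univ := IsClopen.eq_univ ⟨hclosed, hopen⟩ hne
    have hsurj : Surjective f.left := ⟨Set.range_eq_univ.mp huniv⟩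
    exact (core k A B f hdim).1
  · intro hfin
    have hsurj : Surjective f.left := by
      by_contra hns
      have hclosed : IsClosed (Set.range f.left.base) := f.left.isClosedMap.isClosed_range
      have hss : Set.range f.left.base ⊂ Set.univ := by
        refine ⟨Set.subset_univ _, fun h => hns ⟨fun y => h (Set.mem_univ y)⟩⟩
      have hBc : CompactSpace B.left := QuasiCompact.compactSpace_of_compactSpace B.hom
      have hfinB : topologicalKrullDim B.left < ⊤ :=
        Groth.Agent.H96.WeilDim.topologicalKrullDim_lt_top_of_locallyOfFiniteType k B.hom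
      have huniv : topologicalKrullDim ↥(Set.univ : Set B.left) = topologicalKrullDim B.left :=
        (Homeomorph.Set.univ B.left).isHomeomorph.topologicalKrullDim_eq
      have hlt := Groth.Agent.H58.ConnDim.dim_lt_of_ssubset hclosed
        (IrreducibleSpace.isIrreducible_univ B.left) hss (by rw [huniv]; exact hfinB)
      rw [huniv] at hlt
      have hformula := Groth.Agent.H17.Chev.topologicalKrullDim_eq_closure_range_add k A.hom B.hom
        f.left hf_comp
      rw [hclosed.closure_eq] at hformula
      set y₀ := f.left (genericPoint A.left) with hy₀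
      have hF0 : topologicalKrullDim ↥(f.left.fiber y₀) = 0 := by
        apply le_antisymm (topologicalKrullDim_zero_of_discreteTopology _)
        have : Nonempty (IrreducibleCloseds ↥(f.left.fiber y₀)) :=
          ⟨⟨closure {f.left.asFiber (genericPoint A.left)}, isIrreducible_singleton.closure,
            isClosed_closure⟩⟩
        exact Order.krullDim_nonneg
      rw [hF0, add_zero] at hformula
      rw [← hformula, hdim] at hlt
      exact lt_irrefl _ hlt
    exact (core k A B f hdim).2

end Main

end Groth.Agent.H90.IsogFinFlat
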