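import Mathlib

set_option autoImplicit false

universe u w

namespace Groth.Agent.H90

open MvPolynomial

section
variable {R : Type u} [CommRing R]

lemma det_eq_zero_of_col_sum_eq_zero {m : ℕ} (hm : 0 < m) (M : Matrix (Fin m) (Fin m) R)
    (h : ∀ j, ∑ i, M i j = 0) : M.det = 0 := by
  have h1 : Matrix.vecMul (fun _ => (1 : R)) M = 0 := by
    ext j
    simp [Matrix.vecMul, dotProduct, h j]
  have h2 : Matrix.vecMul (Matrix.vecMul (fun _ => (1 : R)) M) M.adjugate = 0 := by
    rw [h1, Matrix.zero_vecMul]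
  rw [Matrix.vecMul_vecMul, Matrix.mul_adjugate, Matrix.vecMul_smul, Matrix.vecMul_one] at h2
  have := congrFun h2 ⟨0, hm⟩
  simpa using this

variable {m : ℕ} (σ : Type w)

/-- the Euler operators `t_j ∂/∂t_j`, packaged linearly -/
noncomputable def eulerLin :
    MvPolynomial (Fin m ⊕ σ) R →ₗ[R] (Fin m → MvPolynomial (Fin m ⊕ σ) R) :=
  LinearMap.pi fun j => (LinearMap.mulLeft R (X (Sum.inl j))).comp
    (pderiv (Sum.inl j) : Derivation R (MvPolynomial (Fin m ⊕ σ) R) (MvPolynomial (Fin m ⊕ σ) R)).toLinearMap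

noncomputable def eulerDet (ν : Fin m ⊕ σ →₀ ℕ) :
    MultilinearMap R (fun _ : Fin m => MvPolynomial (Fin m ⊕ σ) R) R :=
  (lcoeff R ν).compMultilinearMap
    (((Matrix.detRowAlternating (R := MvPolynomial (Fin m ⊕ σ) R)
      (n := Fin m)).toMultilinearMap.restrictScalars R).compLinearMap (fun _ => eulerLin σ))

lemma eulerDet_apply (ν : Fin m ⊕ σ →₀ ℕ) (f : Fin m → MvPolynomial (Fin m ⊕ σ) R) :
    eulerDet σ ν f = coeff ν (Matrix.det
      (Matrix.of fun i j => X (Sum.inl j) * pderiv (Sum.inl j) (f i))) := rfl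

lemma eulerDet_eq_zero (p : ℕ) [CharP R p] (hm : 0 < m) (ν : Fin m ⊕ σ →₀ ℕ)
    (hν : ∀ j, ν (Sum.inl j) = p) : eulerDet (R := R) σ ν = 0 := by
  classical
  apply Module.Basis.ext_multilinear (fun _ => basisMonomials (Fin m ⊕ σ) R)
  intro v
  rw [eulerDet_apply]
  show _ = (0 : R)
  simp only [coe_basisMonomials]
  have hmat : (Matrix.of fun i j => X (Sum.inl j) * pderiv (Sum.inl j) (monomial (v i) (1 : R)))
      = Matrix.of fun i j => monomial (v i) (1 : R)
          * (Matrix.of fun i j => (((v i (Sum.inl j) : ℕ) : R))).map C i j := by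
    ext i j
    simp only [Matrix.of_apply, Matrix.map_apply]
    rw [X_mul_pderiv_monomial, nsmul_eq_mul, mul_comm, map_natCast]
  rw [hmat, Matrix.det_mul_column, ← RingHom.mapMatrix_apply, ← RingHom.map_det, ← monomial_sum_one, mul_comm, C_mul_monomial,
    coeff_monomial]
  split_ifs with hE
  · rw [mul_one]
    apply det_eq_zero_of_col_sum_eq_zero hm
    intro j
    simp only [Matrix.of_apply]
    rw [← Nat.cast_sum]
    have : ∑ i, v i (Sum.inl j) = p := by
      rw [← hν j, ← hE, Finsupp.finsetSum_apply]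
    rw [this]
    exact CharP.cast_eq_zero R p
  · rfl

theorem coeff_det_jacobian_eq_zero (p : ℕ) [Fact p.Prime] [CharP R p] (hm : 0 < m)
    (f : Fin m → MvPolynomial (Fin m ⊕ σ) R) :
    coeff (Finsupp.sumElim (Finsupp.equivFunOnFinite.symm fun _ : Fin m => p - 1) (0 : σ →₀ ℕ))
      (Matrix.of fun i j : Fin m => pderiv (Sum.inl j) (f i)).det = 0 := by
  classical
  set μ : Fin m ⊕ σ →₀ ℕ :=
    Finsupp.sumElim (Finsupp.equivFunOnFinite.symm fun _ : Fin m => p - 1) (0 : σ →₀ ℕ) with hμ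
  set one_t : Fin m ⊕ σ →₀ ℕ := ∑ j : Fin m, Finsupp.single (Sum.inl j) 1 with h1t
  have hT : (∏ j : Fin m, (X (Sum.inl j) : MvPolynomial (Fin m ⊕ σ) R)) = monomial one_t 1 := by
    rw [h1t, monomial_sum_one]
    rfl
  have h1 : coeff μ (Matrix.of fun i j : Fin m => pderiv (Sum.inl j) (f i)).det
      = coeff (one_t + μ) ((∏ j : Fin m, X (Sum.inl j))
          * (Matrix.of fun i j : Fin m => pderiv (Sum.inl j) (f i)).det) := by
    rw [hT, coeff_monomial_mul, one_mul]
  rw [h1, ← Matrix.det_mul_row]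
  have hν : ∀ j : Fin m, (one_t + μ) (Sum.inl j) = p := by
    intro j
    rw [Finsupp.add_apply, h1t, Finsupp.finsetSum_apply, hμ, Finsupp.sumElim_inl]
    simp only [Finsupp.single_apply, Sum.inl.injEq, Finset.sum_ite_eq', Finset.mem_univ, if_true,
      Finsupp.coe_equivFunOnFinite_symm]
    have := (Fact.out : p.Prime).one_le
    omega
  have := eulerDet_eq_zero (R := R) σ p hm (one_t + μ) hν
  exact congrArg (fun Φ => Φ f) this

end

end Groth.Agent.H90
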