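import Groth.Agent.H90.BirGrp
import Mathlib.AlgebraicGeometry.Morphisms.Smooth

set_option autoImplicit false
set_option linter.style.haveILetI false

universe u

open CategoryTheory CategoryTheory.Limits MonoidalCategory CartesianMonoidalCategory MonObj GrpObj
  AlgebraicGeometry

namespace Groth.Agent.H90

/-- product of two smooth `S`-schemes is smooth over `S` -/
lemma smooth_tensor_hom {S : Scheme.{u}} (G H : Over S) [Smooth G.hom] [Smooth H.hom] :
    Smooth (G ⊗ H).hom := by
  have h : (G ⊗ H).hom = pullback.fst G.hom H.hom ≫ G.hom := rfl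
  rw [h]
  infer_instance

/-- Néron mapping property (injectivity half) forces an `S`-morphism which is multiplicative
over `S₀` to be a homomorphism. -/
theorem isMonHom_of_restrict_mul {S : Scheme.{u}} (S₀ : S.Opens)
    (G H : Over S) [GrpObj G] [GrpObj H] [Smooth H.hom]
    (hG : ∀ Z : Over S, Smooth Z.hom →
      Function.Injective (fun g : Z ⟶ G => (Over.pullback S₀.ι).map g))
    (f : H ⟶ G)
    (hf : (Over.pullback S₀.ι).map (μ[H] ≫ f) = (Over.pullback S₀.ι).map ((f ⊗ₘ f) ≫ μ[G])) :
    IsMonHom f := by
  have hsm : Smooth (H ⊗ H).hom := smooth_tensor_hom H H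
  exact isMonHom_of_mul_hom H G f (hG (H ⊗ H) hsm hf)

end Groth.Agent.H90
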