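import Groth.Agent.H90.NeronTorsor
import Groth.Agent.H90.GrpUnitSection
import Groth.Agent.H90.GrpTrivFibre

set_option autoImplicit false
set_option linter.style.haveILetI false

universe u

open CategoryTheory CategoryTheory.Limits MonoidalCategory CartesianMonoidalCategory MonObj GrpObj
  AlgebraicGeometry

namespace Groth.Agent.H90

section
variable {S T : Scheme.{u}} (j : T ⟶ S)

lemma map_eq_iff {Z X : Over S} (g₁ g₂ : Z ⟶ X) :
    (Over.pullback j).map g₁ = (Over.pullback j).map g₂ ↔ resι j Z ≫ g₁ = resι j Z ≫ g₂ := by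
  have h : ∀ g : Z ⟶ X, resι j Z ≫ g =
      ((Over.mapPullbackAdj j).homEquiv ((Over.pullback j).obj Z) X).symm
        ((Over.pullback j).map g) := by
    intro g
    simp only [Adjunction.homEquiv_counit]
    exact ((Over.mapPullbackAdj j).counit_naturality g).symm
  rw [h, h]
  exact (Equiv.apply_eq_iff_eq _).symm

end

/-- An aligned smooth (or just locally of finite type) subgroup of a scheme with the weak Néron
mapping property, separated over the dense open, is separated. -/
theorem isSeparated_of_aligned {S : Scheme.{u}} [IsLocallyNoetherian S] (S₀ : S.Opens)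
    (G : Over S)
    (hG : ∀ U : Over S, Etale U.hom →
      Function.Injective (fun g : U ⟶ G => (Over.pullback S₀.ι).map g))
    (H : Over S) [GrpObj H] (j : H ⟶ G) [Mono j.left]
    (hal : Etale (η[H].left.ker.subschemeι ≫ H.hom))
    (h0 : IsSeparated (pullback.snd H.hom S₀.ι)) :
    IsSeparated H.hom := by
  let e : S ⟶ H.left := η[H].left
  have he : e ≫ H.hom = 𝟙 S := Over.w η[H]
  let E : Scheme.{u} := e.image
  let ιE : E ⟶ H.left := e.imageι
  let e' : S ⟶ E := e.toImage
  have hfac : e' ≫ ιE = e := e.toImage_imageι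
  let q : E ⟶ S := ιE ≫ H.hom
  have hq : e' ≫ q = 𝟙 S := by
    simp only [q]
    rw [← Category.assoc, hfac, he]
  haveI : Etale q := hal
  have hopen : IsOpenImmersion e' := isOpenImmersion_of_section q e' hq
  haveI : IsLocallyNoetherian E := LocallyOfFiniteType.isLocallyNoetherian q
  haveI : QuasiCompact e' := inferInstance
  haveI : QuasiCompact e := by rw [← hfac]; infer_instance
  have hdense : DenseRange e'.base := (inferInstance : IsDominant e.toImage).denseRange
  -- every point of `E` over `S₀` is in the image of the unit section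
  have hkey : ∀ x : E, q.base x ∈ S₀ → x ∈ Set.range e'.base := by
    intro x hx
    let p₀ : pullback H.hom S₀.ι ⟶ (S₀ : Scheme.{u}) := pullback.snd H.hom S₀.ι
    let e₀ : (S₀ : Scheme.{u}) ⟶ pullback H.hom S₀.ι :=
      pullback.lift (S₀.ι ≫ e) (𝟙 _) (by rw [Category.assoc, he]; simp)
    have he₀ : e₀ ≫ p₀ = 𝟙 _ := pullback.lift_snd _ _ _
    have he₀f : e₀ ≫ pullback.fst H.hom S₀.ι = S₀.ι ≫ e := pullback.lift_fst _ _ _
    haveI : IsClosedImmersion e₀ := by
      haveI : IsClosedImmersion (e₀ ≫ p₀) := by rw [he₀]; infer_instance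
      exact IsClosedImmersion.of_comp e₀ p₀
    have hcl : IsClosed (Set.range e₀.base) := e₀.isClosedEmbedding.isClosed_range
    obtain ⟨z, hz, -⟩ := Scheme.Pullback.exists_preimage_pullback (f := H.hom) (g := S₀.ι)
      (ιE.base x) ⟨q.base x, hx⟩ rfl
    by_cases hzr : z ∈ Set.range e₀.base
    · obtain ⟨t₀, rfl⟩ := hzr
      refine ⟨S₀.ι.base t₀, ?_⟩
      apply ιE.isClosedEmbedding.injective
      have h1 : ιE.base (e'.base (S₀.ι.base t₀)) = e.base (S₀.ι.base t₀) := by
        rw [← Scheme.Hom.comp_apply, hfac]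
      have h2 : (pullback.fst H.hom S₀.ι).base (e₀.base t₀) = e.base (S₀.ι.base t₀) := by
        rw [← Scheme.Hom.comp_apply, he₀f, Scheme.Hom.comp_apply]
      rw [h1, ← h2, hz]
    · exfalso
      let O : Set H.left := (pullback.fst H.hom S₀.ι).base '' (Set.range e₀.base)ᶜ
      have hO : IsOpen O :=
        (pullback.fst H.hom S₀.ι).isOpenEmbedding.isOpenMap _ hcl.isOpen_compl
      have hyO : ιE.base x ∈ O := ⟨z, hzr, hz⟩
      obtain ⟨t, ht⟩ := hdense.exists_mem_open (hO.preimage ιE.continuous) ⟨x, hyO⟩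
      obtain ⟨z', hz'1, hz'2⟩ := ht
      apply hz'1
      refine ⟨p₀.base z', ?_⟩
      apply (pullback.fst H.hom S₀.ι).isOpenEmbedding.injective
      have h1 : ιE.base (e'.base t) = e.base t := by rw [← Scheme.Hom.comp_apply, hfac]
      have h2 : H.hom.base (e.base t) = t := by
        rw [← Scheme.Hom.comp_apply, he]; rfl
      have h3 : S₀.ι.base (p₀.base z') = t := by
        rw [← h2, ← h1, ← hz'2, ← Scheme.Hom.comp_apply, ← Scheme.Hom.comp_apply,
          pullback.condition]
      rw [hz'2, ← Scheme.Hom.comp_apply, he₀f, Scheme.Hom.comp_apply, h3, h1]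
  let ES : Over S := Over.mk q
  let α' : ES ⟶ H := Over.homMk ιE rfl
  let β' : ES ⟶ H := toUnit ES ≫ η[H]
  have hβ : β'.left = q ≫ e := by
    simp only [β', Over.comp_left]
    rfl
  have hres : resι S₀.ι ES ≫ α' = resι S₀.ι ES ≫ β' := by
    ext
    simp only [Over.comp_left]
    have hfst : (resι S₀.ι ES).left = pullback.fst q S₀.ι := by
      simp [resι]
      rfl
    rw [hfst, hβ]
    change pullback.fst q S₀.ι ≫ ιE = pullback.fst q S₀.ι ≫ q ≫ e
    have hrange : Set.range (pullback.fst q S₀.ι).base ⊆ Set.range e'.base := by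
      rintro _ ⟨w, rfl⟩
      apply hkey
      rw [← Scheme.Hom.comp_apply, pullback.condition, Scheme.Hom.comp_apply]
      exact ((pullback.snd q S₀.ι).base w).2
    let u := IsOpenImmersion.lift e' (pullback.fst q S₀.ι) hrange
    have hu : u ≫ e' = pullback.fst q S₀.ι := IsOpenImmersion.lift_fac _ _ _
    rw [← hu, Category.assoc, hfac, Category.assoc, reassoc_of% hq]
  have hαβ : α' ≫ j = β' ≫ j := by
    apply hG ES hal
    simp only
    rw [map_eq_iff, ← Category.assoc, hres, Category.assoc]
  haveI : Mono j := Over.mono_of_mono_left j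
  have hαβ' : α' = β' := (cancel_mono j).mp hαβ
  have hι : ιE = q ≫ e := by
    have := congrArg (fun φ => φ.left) hαβ'
    simpa [hβ, α'] using this
  haveI : IsIso e' := ⟨q, hq, by
    rw [← cancel_mono ιE, Category.assoc, hfac, ← hι, Category.id_comp]⟩
  haveI : IsClosedImmersion e := by rw [← hfac]; infer_instance
  exact (separated_iff_unit S H).1.mpr ‹_›

end Groth.Agent.H90
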