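import Groth.Agent.H90.NeronUnique
import Mathlib.AlgebraicGeometry.Sites.Fpqc

set_option autoImplicit false
set_option linter.style.haveILetI false

universe u

open CategoryTheory CategoryTheory.Limits MonoidalCategory CartesianMonoidalCategory MonObj GrpObj
  AlgebraicGeometry

namespace Groth.Agent.H90

section Restrict
variable {S T : Scheme.{u}} (j : T ⟶ S)

/-- the restriction `Z|_T`, seen as an `S`-scheme -/
noncomputable abbrev resObj (Z : Over S) : Over S := (Over.map j).obj ((Over.pullback j).obj Z)

/-- the canonical map `Z|_T ⟶ Z` -/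
noncomputable abbrev resι (Z : Over S) : resObj j Z ⟶ Z := (Over.mapPullbackAdj j).counit.app Z

/-- functoriality of restriction -/
noncomputable abbrev resMap {Z Z' : Over S} (c : Z' ⟶ Z) : resObj j Z' ⟶ resObj j Z :=
  (Over.map j).map ((Over.pullback j).map c)

@[reassoc]
lemma resMap_resι {Z Z' : Over S} (c : Z' ⟶ Z) : resMap j c ≫ resι j Z = resι j Z' ≫ c :=
  (Over.mapPullbackAdj j).counit_naturality c

lemma bijective_map_iff (Z X : Over S) :
    Function.Bijective (fun g : Z ⟶ X => (Over.pullback j).map g) ↔
      Function.Bijective (fun g : Z ⟶ X => resι j Z ≫ g) := by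
  have h : (fun g : Z ⟶ X => resι j Z ≫ g) =
      ((Over.mapPullbackAdj j).homEquiv ((Over.pullback j).obj Z) X).symm ∘
        (fun g : Z ⟶ X => (Over.pullback j).map g) := by
    funext g
    simp only [Function.comp_apply, Adjunction.homEquiv_counit]
    exact ((Over.mapPullbackAdj j).counit_naturality g).symm
  rw [h]
  exact (Equiv.comp_bijective _ _).symm

end Restrict

section Torsor
variable {S : Scheme.{u}} {G N : Over S} (act : G ⊗ N ⟶ N) [hΦ : IsIso (lift act (snd G N))]

/-- translate a point `n` of `N` by points of `G` -/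
noncomputable def torsorMap {Z : Over S} (n : Z ⟶ N) (g : Z ⟶ G) : Z ⟶ N := lift g n ≫ act

omit hΦ in
lemma comp_torsorMap {Z W : Over S} (i : W ⟶ Z) (n : Z ⟶ N) (g : Z ⟶ G) :
    i ≫ torsorMap act n g = torsorMap act (i ≫ n) (i ≫ g) := by
  simp only [torsorMap, ← Category.assoc, comp_lift]

omit hΦ in
lemma lift_comp_Φ {Z : Over S} (n : Z ⟶ N) (g : Z ⟶ G) :
    lift g n ≫ lift act (snd G N) = lift (torsorMap act n g) n := by
  apply CartesianMonoidalCategory.hom_ext <;> simp [torsorMap]

include hΦ in
lemma torsorMap_bijective {Z : Over S} (n : Z ⟶ N) : Function.Bijective (torsorMap act n) := by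
  constructor
  · intro g g' h
    have h1 : lift g n ≫ lift act (snd G N) = lift g' n ≫ lift act (snd G N) := by
      rw [lift_comp_Φ, lift_comp_Φ, h]
    have h2 : lift g n = lift g' n := (cancel_mono _).mp h1
    simpa using congrArg (· ≫ fst G N) h2
  · intro m
    let w : Z ⟶ G ⊗ N := lift m n ≫ inv (lift act (snd G N))
    have hw : w ≫ lift act (snd G N) = lift m n := by
      simp only [w]
      rw [Category.assoc, IsIso.inv_hom_id, Category.comp_id]
    have hw2 : w ≫ snd G N = n := by
      have := congrArg (· ≫ snd N N) hw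
      simpa using this
    have hw1 : w ≫ act = m := by
      have := congrArg (· ≫ fst N N) hw
      simpa using this
    refine ⟨w ≫ fst G N, ?_⟩
    have : lift (w ≫ fst G N) n = w := by
      apply CartesianMonoidalCategory.hom_ext <;> simp [hw2]
    rw [torsorMap, this, hw1]

include hΦ in
/-- if `N` has a `Z`-point, restriction of `G`-points is bijective iff restriction of `N`-points is -/
lemma bijective_comp_iff_of_point {Z W : Over S} (i : W ⟶ Z) (n : Z ⟶ N) :
    Function.Bijective (fun g : Z ⟶ G => i ≫ g) ↔ Function.Bijective (fun m : Z ⟶ N => i ≫ m) := by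
  have hsq : (fun m : Z ⟶ N => i ≫ m) ∘ torsorMap act n =
      torsorMap act (i ≫ n) ∘ (fun g : Z ⟶ G => i ≫ g) := by
    funext g
    exact comp_torsorMap act i n g
  have h1 := torsorMap_bijective act n
  have h2 := torsorMap_bijective act (i ≫ n)
  constructor
  · intro hG
    have h3 : Function.Bijective ((fun m : Z ⟶ N => i ≫ m) ∘ torsorMap act n) := by
      rw [hsq]; exact h2.comp hG
    exact (Function.Bijective.of_comp_iff _ h1).mp h3
  · intro hN
    have h3 : Function.Bijective (torsorMap act (i ≫ n) ∘ (fun g : Z ⟶ G => i ≫ g)) := by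
      rw [← hsq]; exact hN.comp h1
    exact (Function.Bijective.of_comp_iff' h2 _).mp h3

end Torsor

section Descent
variable {S T : Scheme.{u}} (j : T ⟶ S)

/-- the restriction of a cover is the base change of the cover -/
lemma isPullback_resMap {Z Z' : Over S} (c : Z' ⟶ Z) :
    IsPullback (pullback.fst Z'.hom j) ((Over.pullback j).map c).left c.left
      (pullback.fst Z.hom j) := by
  have hbig : IsPullback (pullback.fst Z'.hom j) (pullback.snd Z'.hom j) (c.left ≫ Z.hom) j := by
    convert IsPullback.of_hasPullback Z'.hom j using 1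
    exact Over.w c
  have hbot : IsPullback (pullback.fst Z.hom j) (pullback.snd Z.hom j) Z.hom j :=
    IsPullback.of_hasPullback _ _
  refine IsPullback.of_bot ?_ ?_ hbot
  · have : ((Over.pullback j).map c).left ≫ pullback.snd Z.hom j = pullback.snd Z'.hom j :=
      pullback.lift_snd _ _ _
    rw [this]
    exact hbig
  · exact (pullback.lift_fst _ _ _).symm

/-- the restriction of a flat surjective cover is an epimorphism -/
lemma epi_resMap {Z Z' : Over S} (c : Z' ⟶ Z) [Flat c.left] [Surjective c.left] :
    Epi (resMap j c) := by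
  have hpb := isPullback_resMap j c
  have h1 : Flat ((Over.pullback j).map c).left :=
    MorphismProperty.of_isPullback (P := @Flat) hpb inferInstance
  have h2 : Surjective ((Over.pullback j).map c).left :=
    MorphismProperty.of_isPullback (P := @Surjective) hpb inferInstance
  have h3 : Epi ((Over.pullback j).map c).left := Flat.epi_of_flat_of_surjective _
  have h4 : Epi (resMap j c).left := h3
  exact Over.epi_of_epi_left _

/-- descent of the restriction bijection along an fppf cover `Z' ⟶ Z` -/
lemma bijective_of_cover (X : Over S) {Z Z' : Over S} (c : Z' ⟶ Z) [Flat c.left]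
    [LocallyOfFinitePresentation c.left] [Surjective c.left]
    (h' : Function.Bijective (fun g : Z' ⟶ X => resι j Z' ≫ g))
    (h'' : Function.Injective
      (fun g : Over.mk (pullback.fst c.left c.left ≫ Z'.hom) ⟶ X => resι j _ ≫ g)) :
    Function.Bijective (fun g : Z ⟶ X => resι j Z ≫ g) := by
  have hepi : Epi c.left := Flat.epi_of_flat_of_surjective _
  have hepi' : Epi c := Over.epi_of_epi_left _
  have hepiR : Epi (resMap j c) := epi_resMap j c
  constructor
  · intro g₁ g₂ h
    simp only at h
    rw [← cancel_epi c]
    apply h'.injective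
    simp only
    rw [← resMap_resι_assoc, ← resMap_resι_assoc, h]
  · intro h
    obtain ⟨g', hg'⟩ := h'.surjective (resMap j c ≫ h)
    simp only at hg'
    let Z'' : Over S := Over.mk (pullback.fst c.left c.left ≫ Z'.hom)
    let p₁ : Z'' ⟶ Z' := Over.homMk (pullback.fst c.left c.left) rfl
    let p₂ : Z'' ⟶ Z' := Over.homMk (pullback.snd c.left c.left) (by
      change pullback.snd c.left c.left ≫ Z'.hom = pullback.fst c.left c.left ≫ Z'.hom
      rw [← Over.w c, ← Category.assoc, ← Category.assoc, pullback.condition])
    have hp : p₁ ≫ c = p₂ ≫ c := by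
      ext
      simp only [Over.comp_left, p₁, p₂, Over.homMk_left]
      exact pullback.condition
    have hkey : p₁ ≫ g' = p₂ ≫ g' := by
      apply h''
      simp only
      rw [← resMap_resι_assoc, ← resMap_resι_assoc, hg', ← Category.assoc, ← Category.assoc]
      congr 1
      simp only [resMap, ← Functor.map_comp, hp]
    have heff : EffectiveEpi c.left := inferInstance
    let gl : Z.left ⟶ X.left := EffectiveEpi.desc c.left g'.left (by
      intro W a b hab
      have h1 : pullback.lift a b hab ≫ pullback.fst c.left c.left = a := pullback.lift_fst _ _ _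
      have h2 : pullback.lift a b hab ≫ pullback.snd c.left c.left = b := pullback.lift_snd _ _ _
      have hk : pullback.fst c.left c.left ≫ g'.left = pullback.snd c.left c.left ≫ g'.left := by
        have := congrArg (fun φ => φ.left) hkey
        simpa [p₁, p₂] using this
      calc a ≫ g'.left = (pullback.lift a b hab ≫ pullback.fst c.left c.left) ≫ g'.left := by
            rw [h1]
        _ = (pullback.lift a b hab ≫ pullback.snd c.left c.left) ≫ g'.left := by
            rw [Category.assoc, hk, ← Category.assoc]
        _ = b ≫ g'.left := by rw [h2])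
    have hfac : c.left ≫ gl = g'.left := EffectiveEpi.fac _ _ _
    have hw : gl ≫ X.hom = Z.hom := by
      rw [← cancel_epi c.left, reassoc_of% hfac, Over.w g', Over.w c]
    let g : Z ⟶ X := Over.homMk gl hw
    have hcg : c ≫ g = g' := by
      ext
      simp only [Over.comp_left, g, Over.homMk_left]
      exact hfac
    refine ⟨g, ?_⟩
    simp only
    rw [← cancel_epi (resMap j c), ← hg', ← hcg, resMap_resι_assoc]

end Descent

section Main
variable {S T : Scheme.{u}} (j : T ⟶ S)

/-- transfer of the mapping property along smooth surjective `N ⟶ S`, given a transfer principle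
for test objects which have an `N`-point -/
lemma nmp_transfer (X Y N : Over S) [Smooth N.hom] [Surjective N.hom]
    (hXY : ∀ Z : Over S, Smooth Z.hom → (Z ⟶ N) →
      Function.Bijective (fun g : Z ⟶ X => resι j Z ≫ g) →
      Function.Bijective (fun g : Z ⟶ Y => resι j Z ≫ g))
    (hX : ∀ Z : Over S, Smooth Z.hom → Function.Bijective (fun g : Z ⟶ X => resι j Z ≫ g))
    (Z : Over S) (hZ : Smooth Z.hom) :
    Function.Bijective (fun g : Z ⟶ Y => resι j Z ≫ g) := by
  let c : Z ⊗ N ⟶ Z := fst Z N
  have hc : c.left = pullback.fst Z.hom N.hom := Over.fst_left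
  have hsm : Smooth c.left := by rw [hc]; infer_instance
  have hsurj : Surjective c.left := by rw [hc]; infer_instance
  have hflat : Flat c.left := inferInstance
  have hZ' : Smooth (Z ⊗ N).hom := smooth_tensor_hom Z N
  have hZ'' : Smooth (Over.mk (pullback.fst c.left c.left ≫ (Z ⊗ N).hom)).hom := by
    change Smooth (pullback.fst c.left c.left ≫ (Z ⊗ N).hom)
    infer_instance
  let p₁ : Over.mk (pullback.fst c.left c.left ≫ (Z ⊗ N).hom) ⟶ Z ⊗ N :=
    Over.homMk (pullback.fst c.left c.left) rfl
  refine bijective_of_cover j Y c (hXY _ hZ' (snd Z N) (hX _ hZ')) ?_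
  exact (hXY _ hZ'' (p₁ ≫ snd Z N) (hX _ hZ'')).injective

/-- For a pseudo-torsor `N` under `G` with `N ⟶ S` smooth surjective, `G` has the Néron mapping
property iff `N` has. -/
theorem nmp_iff_of_pseudoTorsor (G N : Over S) [Smooth G.hom] [Smooth N.hom] [Surjective N.hom]
    (act : G ⊗ N ⟶ N) [IsIso (lift act (snd G N))] :
    (∀ Z : Over S, Smooth Z.hom →
      Function.Bijective (fun g : Z ⟶ G => (Over.pullback j).map g)) ↔
    (∀ Z : Over S, Smooth Z.hom →
      Function.Bijective (fun g : Z ⟶ N => (Over.pullback j).map g)) := by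
  simp only [bijective_map_iff]
  constructor
  · intro hG Z hZ
    exact nmp_transfer j G N N
      (fun Z _ n h => (bijective_comp_iff_of_point act (resι j Z) n).mp h) hG Z hZ
  · intro hN Z hZ
    exact nmp_transfer j N G N
      (fun Z _ n h => (bijective_comp_iff_of_point act (resι j Z) n).mpr h) hN Z hZ

end Main

end Groth.Agent.H90
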