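import Groth.Agent.H90.NeronHom

set_option autoImplicit false
set_option linter.style.haveILetI false

universe u

open CategoryTheory CategoryTheory.Limits MonoidalCategory CartesianMonoidalCategory MonObj GrpObj
  AlgebraicGeometry

namespace Groth.Agent.H90

section
variable {S T : Scheme.{u}} (j : T ⟶ S)

/-- morphisms into the base change of a product are determined by their two components -/
lemma pullback_tensor_hom_ext (X Y : Over S) {W : Over T}
    (h₁ h₂ : W ⟶ (Over.pullback j).obj (X ⊗ Y))
    (hfst : h₁ ≫ (Over.pullback j).map (fst X Y) = h₂ ≫ (Over.pullback j).map (fst X Y))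
    (hsnd : h₁ ≫ (Over.pullback j).map (snd X Y) = h₂ ≫ (Over.pullback j).map (snd X Y)) :
    h₁ = h₂ := by
  apply ((Over.mapPullbackAdj j).homEquiv W (X ⊗ Y)).symm.injective
  apply CartesianMonoidalCategory.hom_ext
  · rw [← Adjunction.homEquiv_naturality_right_symm, ← Adjunction.homEquiv_naturality_right_symm,
      hfst]
  · rw [← Adjunction.homEquiv_naturality_right_symm, ← Adjunction.homEquiv_naturality_right_symm,
      hsnd]

/-- The Néron mapping property (for a class `P` of test objects) passes to products. -/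
lemma nmp_tensor (P : Over S → Prop) (X Y : Over S)
    (hX : ∀ Z : Over S, P Z → Function.Bijective (fun g : Z ⟶ X => (Over.pullback j).map g))
    (hY : ∀ Z : Over S, P Z → Function.Bijective (fun g : Z ⟶ Y => (Over.pullback j).map g))
    (Z : Over S) (hZ : P Z) :
    Function.Bijective (fun g : Z ⟶ X ⊗ Y => (Over.pullback j).map g) := by
  constructor
  · intro g₁ g₂ h
    simp only at h
    apply CartesianMonoidalCategory.hom_ext
    · apply (hX Z hZ).injective
      simp only [Functor.map_comp, h]
    · apply (hY Z hZ).injective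
      simp only [Functor.map_comp, h]
  · intro h
    obtain ⟨g₁, hg₁⟩ := (hX Z hZ).surjective (h ≫ (Over.pullback j).map (fst X Y))
    obtain ⟨g₂, hg₂⟩ := (hY Z hZ).surjective (h ≫ (Over.pullback j).map (snd X Y))
    refine ⟨lift g₁ g₂, ?_⟩
    simp only at hg₁ hg₂ ⊢
    apply pullback_tensor_hom_ext
    · rw [← Functor.map_comp, lift_fst, hg₁]
    · rw [← Functor.map_comp, lift_snd, hg₂]

/-- Uniqueness of Néron models: a morphism between two objects with the Néron mapping property
(which are themselves test objects) that restricts to an isomorphism is an isomorphism. -/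
lemma isIso_of_nmp (P : Over S → Prop) (X Y : Over S) (hPX : P X) (hPY : P Y)
    (hX : ∀ Z : Over S, P Z → Function.Bijective (fun g : Z ⟶ X => (Over.pullback j).map g))
    (hY : ∀ Z : Over S, P Z → Function.Bijective (fun g : Z ⟶ Y => (Over.pullback j).map g))
    (φ : X ⟶ Y) [IsIso ((Over.pullback j).map φ)] : IsIso φ := by
  obtain ⟨ψ, hψ⟩ := (hX Y hPY).surjective (inv ((Over.pullback j).map φ))
  simp only at hψ
  refine ⟨ψ, ?_, ?_⟩
  · apply (hX X hPX).injective
    simp only [Functor.map_comp, hψ, IsIso.hom_inv_id]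
    exact ((Over.pullback j).map_id X).symm
  · apply (hY Y hPY).injective
    simp only [Functor.map_comp, hψ, IsIso.inv_hom_id]
    exact ((Over.pullback j).map_id Y).symm

end

/-- If `G` and `N` have the Néron mapping property and an action of `G` on `N` is a pseudo-torsor
over `S₀`, it is a pseudo-torsor. -/
theorem isIso_translation_of_nmp {S : Scheme.{u}} (S₀ : S.Opens)
    (G N : Over S) [Smooth G.hom] [Smooth N.hom]
    (hG : ∀ Z : Over S, Smooth Z.hom →
      Function.Bijective (fun g : Z ⟶ G => (Over.pullback S₀.ι).map g))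
    (hN : ∀ Z : Over S, Smooth Z.hom →
      Function.Bijective (fun g : Z ⟶ N => (Over.pullback S₀.ι).map g))
    (Φ : G ⊗ N ⟶ N ⊗ N) [IsIso ((Over.pullback S₀.ι).map Φ)] : IsIso Φ := by
  refine isIso_of_nmp S₀.ι (fun Z => Smooth Z.hom) (G ⊗ N) (N ⊗ N) (smooth_tensor_hom G N)
    (smooth_tensor_hom N N) ?_ ?_ Φ
  · exact nmp_tensor S₀.ι _ G N hG hN
  · exact nmp_tensor S₀.ι _ N N hN hN

end Groth.Agent.H90
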