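import Groth.Agent.H42.Stab
import Groth.Agent.H17.Grp.GrpDim
import Groth.Agent.H17.Chev.Main
import Groth.Agent.H48.OrbitStabDim
import Groth.Agent.H48.FieldDim2
import Groth.Agent.H37.OrbitDim
import Groth.Agent.H96.WeilDim

/-! Upper semicontinuity of the stabilizer dimension; the locus of orbits of dimension `≤ r` is
closed. -/

set_option autoImplicit false
set_option linter.style.haveILetI false
universe u

open CategoryTheory CategoryTheory.Limits MonoidalCategory CartesianMonoidalCategory MonObj GrpObj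
  AlgebraicGeometry

namespace Groth.Agent.H90.OrbitDimSC

open Groth.Agent.H40 Groth.Agent.H42

section general

variable {S : Scheme.{u}} {G X : Over S} [GrpObj G]

/-- The orbit map of `x` is the base change of `(g, y) ↦ (g y, y)` along `y ↦ (y, x)`. -/
lemma isPullback_orbitMap_psi (a : AlgGrp.Action G X) (x : 𝟙_ (Over S) ⟶ X) :
    IsPullback (lift (𝟙 G) (toUnit G ≫ x)) (a.orbitMap x) (GIT.psi a (𝟙 X))
      (lift (𝟙 X) (toUnit X ≫ x)) := by
  have hpsi : ∀ {T : Over S} (u : T ⟶ G ⊗ X),
      u ≫ GIT.psi a (𝟙 X) = lift (psmul a (u ≫ fst G X) (u ≫ snd G X)) (u ≫ snd G X) := by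
    intro T u
    apply CartesianMonoidalCategory.hom_ext
    · rw [Category.assoc, Stab.psi_fst, lift_fst, psmul_def]
      congr 1
      apply CartesianMonoidalCategory.hom_ext <;> simp
    · rw [Category.assoc, Stab.psi_snd, lift_snd]
  have hcomm : lift (𝟙 G) (toUnit G ≫ x) ≫ GIT.psi a (𝟙 X) =
      a.orbitMap x ≫ lift (𝟙 X) (toUnit X ≫ x) := by
    rw [hpsi]
    apply CartesianMonoidalCategory.hom_ext
    · simp only [lift_fst, lift_snd, Category.assoc, Category.comp_id]
      rfl
    · simp only [lift_fst, lift_snd, Category.assoc]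
      rw [← Category.assoc]
      congr 1
      exact toUnit_unique _ _
  refine ⟨⟨hcomm⟩, ⟨PullbackCone.IsLimit.mk _ ?_ ?_ ?_ ?_⟩⟩
  · intro s
    exact s.fst ≫ fst G X
  · intro s
    have h := s.condition
    rw [hpsi] at h
    have h2 := congrArg (· ≫ snd X X) h
    simp only [lift_snd, Category.assoc] at h2
    apply CartesianMonoidalCategory.hom_ext
    · simp
    · simp only [Category.assoc, lift_snd]
      rw [h2]
      have hx : ∀ {T : Over S} (v w : T ⟶ 𝟙_ (Over S)), v ≫ x = w ≫ x := fun v w => by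
        rw [toUnit_unique v w]
      have e1 := hx (s.fst ≫ fst G X ≫ toUnit G) (s.snd ≫ toUnit X)
      simpa only [Category.assoc] using e1
  · intro s
    have h := s.condition
    rw [hpsi] at h
    have h1 := congrArg (· ≫ fst X X) h
    have h2 := congrArg (· ≫ snd X X) h
    simp only [lift_fst, lift_snd, Category.assoc, Category.comp_id] at h1 h2
    have e : s.fst ≫ snd G X = toUnit _ ≫ x := by
      rw [h2, ← Category.assoc]
      rw [toUnit_unique (s.snd ≫ toUnit X) (toUnit _)]
    rw [comp_orbitMap, ← e]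
    exact h1
  · intro s m hm1 hm2
    rw [← hm1]
    simp

end general

/-- Splitting a finite sum in `WithBot ℕ∞` into natural numbers. -/
lemma exists_nat_of_add_eq {A B : WithBot ℕ∞} {d : ℕ} (hA : 0 ≤ A) (hB : 0 ≤ B)
    (h : A + B = (d : WithBot ℕ∞)) : ∃ a' b' : ℕ, A = a' ∧ B = b' ∧ a' + b' = d := by
  induction A using WithBot.recBotCoe with
  | bot => exact absurd hA (by simp)
  | coe A =>
    induction B using WithBot.recBotCoe with
    | bot => exact absurd hB (by simp)
    | coe B =>
      induction A using ENat.recTopCoe with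
      | top =>
        exfalso
        have : ((⊤ : ℕ∞) : WithBot ℕ∞) + (B : WithBot ℕ∞) = ((⊤ + B : ℕ∞) : WithBot ℕ∞) := rfl
        rw [this, top_add] at h
        have h' : ((⊤ : ℕ∞) : WithBot ℕ∞) = ((d : ℕ∞) : WithBot ℕ∞) := h
        exact ENat.top_ne_natCast d (WithBot.coe_injective h')
      | coe A =>
        induction B using ENat.recTopCoe with
        | top =>
          exfalso
          have : ((A : ℕ∞) : WithBot ℕ∞) + ((⊤ : ℕ∞) : WithBot ℕ∞) =
              (((A : ℕ∞) + ⊤ : ℕ∞) : WithBot ℕ∞) := rfl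
          rw [this, add_top] at h
          have h' : ((⊤ : ℕ∞) : WithBot ℕ∞) = ((d : ℕ∞) : WithBot ℕ∞) := h
          exact ENat.top_ne_natCast d (WithBot.coe_injective h')
        | coe B =>
          refine ⟨A, B, rfl, rfl, ?_⟩
          exact_mod_cast h

section field

variable (k : Type u) [Field k]

/-- the closure of an orbit has the dimension of the orbit -/
theorem dim_closure_orbit_eq (G X : Over (Spec (CommRingCat.of k))) [GrpObj G]
    [LocallyOfFiniteType G.hom] [QuasiCompact G.hom] [LocallyOfFiniteType X.hom]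
    (a : AlgGrp.Action G X) (x : 𝟙_ (Over (Spec (CommRingCat.of k))) ⟶ X) :
    topologicalKrullDim ↥(closure (Set.range (a.orbitMap x).left.base)) =
      topologicalKrullDim ↥(Set.range (a.orbitMap x).left.base) := by
  have hlc : IsLocallyClosed (Set.range (a.orbitMap x).left.base) :=
    Groth.Agent.H37.isLocallyClosed_orbitSet' G X a x
  have hb : topologicalKrullDim ↥(closure (Set.range (a.orbitMap x).left.base) \
      Set.range (a.orbitMap x).left.base) <
      topologicalKrullDim ↥(Set.range (a.orbitMap x).left.base) :=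
    Groth.Agent.H37.topologicalKrullDim_boundary_lt G X a x
  generalize Set.range (a.orbitMap x).left.base = O at hlc hb ⊢
  have hDc : IsClosed (closure O \ O) := by
    have := hlc.isOpen_coborder
    rw [coborder] at this
    exact isOpen_compl_iff.mp this
  rw [Groth.Agent.H48.FieldDim2.topologicalKrullDim_eq_iSup_of_isLocallyClosed X.hom _
    isClosed_closure.isLocallyClosed]
  apply le_antisymm
  · apply iSup_le
    intro z
    by_cases hz : z.1 ∈ O
    · rw [Groth.Agent.H48.FieldDim2.topologicalKrullDim_eq_iSup_of_isLocallyClosed X.hom O hlc]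
      exact le_iSup (fun z : O =>
        (((Groth.Agent.H48.FieldDim.δ X.hom z.1).toNat : ℕ∞) : WithBot ℕ∞)) ⟨z.1, hz⟩
    · refine le_trans ?_ hb.le
      rw [Groth.Agent.H48.FieldDim2.topologicalKrullDim_eq_iSup_of_isLocallyClosed X.hom _
        hDc.isLocallyClosed]
      exact le_iSup (fun z : ↥(closure O \ O) =>
        (((Groth.Agent.H48.FieldDim.δ X.hom z.1).toNat : ℕ∞) : WithBot ℕ∞)) ⟨z.1, z.2, hz⟩
  · rw [Groth.Agent.H48.FieldDim2.topologicalKrullDim_eq_iSup_of_isLocallyClosed X.hom O hlc]
    apply iSup_le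
    intro z
    exact le_iSup (fun z : ↥(closure O) =>
      (((Groth.Agent.H48.FieldDim.δ X.hom z.1).toNat : ℕ∞) : WithBot ℕ∞))
      ⟨z.1, subset_closure z.2⟩

/-- **Orbit-stabilizer**: `dim G = dim closure(G·x) + dim` of the fibre of the stabilizer group
scheme over the point `x`. -/
theorem dim_eq_closure_orbit_add_stab (G X : Over (Spec (CommRingCat.of k))) [GrpObj G]
    [LocallyOfFiniteType G.hom] [QuasiCompact G.hom] [LocallyOfFiniteType X.hom]
    (a : AlgGrp.Action G X) (x : 𝟙_ (Over (Spec (CommRingCat.of k))) ⟶ X)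
    (s : (𝟙_ (Over (Spec (CommRingCat.of k)))).left) :
    topologicalKrullDim ↥G.left =
      topologicalKrullDim ↥(closure (Set.range (a.orbitMap x).left.base)) +
        topologicalKrullDim ↥((Stab.p a).base ⁻¹' {x.left.base s}) := by
  rw [dim_closure_orbit_eq k G X a x,
    Groth.Agent.H48.OrbitStabDim.topologicalKrullDim_eq_orbit_add_stabilizer G X a x]
  congr 1
  set αl := (a.orbitMap x).left with hαl
  have ho : αl ≫ X.hom = G.hom := Over.w (a.orbitMap x)
  haveI : LocallyOfFiniteType (αl ≫ X.hom) := by rw [ho]; infer_instance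
  haveI : LocallyOfFiniteType αl := locallyOfFiniteType_of_comp αl X.hom
  haveI : Subsingleton ↥(𝟙_ (Over (Spec (CommRingCat.of k)))).left :=
    Groth.Agent.H37.subsingleton_spec_field (k := k)
  -- step 1: the pullback is the fibre of the orbit map over `x`
  have h1 : topologicalKrullDim ↥(Limits.pullback αl x.left) =
      topologicalKrullDim ↑(αl.fiber (x.left.base s)) := by
    have H4 : IsPullback (pullback.fst αl x.left) (pullback.snd αl x.left) αl x.left :=
      IsPullback.of_hasPullback _ _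
    rw [← Groth.Agent.H49.FibreDimBC.topologicalKrullDim_fiber_eq αl x.left
      (pullback.snd αl x.left) (pullback.fst αl x.left) H4 s]
    exact (Groth.Agent.H48.OrbitStabDim.topologicalKrullDim_fiber_of_subsingleton _ s).symm
  -- finite type instances for `Ψ`
  haveI : LocallyOfFiniteType (G ⊗ X).hom := by
    rw [← Over.w (snd G X), Over.snd_left]; infer_instance
  haveI : LocallyOfFiniteType (X ⊗ X).hom := by
    rw [← Over.w (snd X X), Over.snd_left]; infer_instance
  haveI : LocallyOfFiniteType ((GIT.psi a (𝟙 X)).left ≫ (X ⊗ X).hom) := by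
    rw [Over.w]; infer_instance
  haveI : LocallyOfFiniteType (GIT.psi a (𝟙 X)).left :=
    locallyOfFiniteType_of_comp _ (X ⊗ X).hom
  -- step 2: the fibre of the orbit map is a fibre of `Ψ`
  have h2 : topologicalKrullDim ↑(αl.fiber (x.left.base s)) =
      topologicalKrullDim ↑((GIT.psi a (𝟙 X)).left.fiber
        ((lift (𝟙 X) (toUnit X ≫ x)).left.base (x.left.base s))) :=
    Groth.Agent.H49.FibreDimBC.topologicalKrullDim_fiber_eq (GIT.psi a (𝟙 X)).left
      (lift (𝟙 X) (toUnit X ≫ x)).left αl (lift (𝟙 G) (toUnit G ≫ x)).left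
      ((isPullback_orbitMap_psi a x).map (Over.forget _)) (x.left.base s)
  -- step 3: so is the fibre of the stabilizer
  have h3 : topologicalKrullDim ↑((Stab.p a).fiber (x.left.base s)) =
      topologicalKrullDim ↑((GIT.psi a (𝟙 X)).left.fiber
        ((lift (𝟙 X) (𝟙 X)).left.base (x.left.base s))) :=
    Groth.Agent.H49.FibreDimBC.topologicalKrullDim_fiber_eq (GIT.psi a (𝟙 X)).left
      (lift (𝟙 X) (𝟙 X)).left (Stab.p a) (Stab.q a) (IsPullback.of_hasPullback _ _)
      (x.left.base s)
  have h4 : (lift (𝟙 X) (toUnit X ≫ x)).left.base (x.left.base s) =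
      (lift (𝟙 X) (𝟙 X)).left.base (x.left.base s) := by
    have key : x ≫ lift (𝟙 X) (toUnit X ≫ x) = x ≫ lift (𝟙 X) (𝟙 X) := by
      apply CartesianMonoidalCategory.hom_ext
      · simp
      · simp only [Category.assoc, lift_snd, Category.comp_id]
        rw [← Category.assoc, toUnit_unique (x ≫ toUnit X) (𝟙 _), Category.id_comp]
    change (x ≫ lift (𝟙 X) (toUnit X ≫ x)).left.base s = (x ≫ lift (𝟙 X) (𝟙 X)).left.base s
    rw [key]
  rw [h1, h2, h4, ← h3, Groth.Agent.H17.Chev.dim_fiber_eq]

/-- **S11244.** The locus of rational points whose orbit has dimension `≤ r` is closed. -/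
theorem S11244_aux (G : Over (Spec (CommRingCat.of k))) [GrpObj G] [IsAffine G.left]
    [LocallyOfFiniteType G.hom]
    (X : Over (Spec (CommRingCat.of k))) [LocallyOfFiniteType X.hom]
    (a : AlgGrp.Action G X) (r : ℕ) :
    ∃ Z : Set ↥X.left, IsClosed Z ∧
      ∀ x : 𝟙_ (Over (Spec (CommRingCat.of k))) ⟶ X,
        topologicalKrullDim ↥(closure (Set.range ⇑(a.orbitMap x).left.base)) ≤
            (r : WithBot ℕ∞) ↔
          Set.range ⇑x.left.base ⊆ Z := by
  haveI : QuasiCompact G.hom := inferInstance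
  haveI hsub : Subsingleton ↥(𝟙_ (Over (Spec (CommRingCat.of k)))).left :=
    Groth.Agent.H37.subsingleton_spec_field (k := k)
  haveI hne : Nonempty ↥(𝟙_ (Over (Spec (CommRingCat.of k)))).left :=
    (inferInstance : Nonempty ↥(Spec (CommRingCat.of k)))
  -- `dim G` is a natural number
  obtain ⟨d, hd⟩ : ∃ d : ℕ, topologicalKrullDim ↥G.left = (d : WithBot ℕ∞) := by
    have hlt := Groth.Agent.H96.WeilDim.topologicalKrullDim_lt_top_of_locallyOfFiniteType k G.hom
    have hnn : 0 ≤ topologicalKrullDim ↥G.left :=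
      Groth.Agent.H51.topologicalKrullDim_nonneg_of_mem
        (η[G].left.base (Classical.arbitrary _))
    have hnb : topologicalKrullDim ↥G.left ≠ ⊥ := fun h => by
      rw [h] at hnn; exact absurd hnn (by simp)
    obtain ⟨e, he⟩ := WithBot.ne_bot_iff_exists.mp hnb
    rw [← he] at hlt ⊢
    have hne : e ≠ ⊤ := fun h => by rw [h] at hlt; exact lt_irrefl _ hlt
    obtain ⟨m, hm⟩ := ENat.ne_top_iff_exists.mp hne
    exact ⟨m, by rw [← hm]; rfl⟩
  -- finite type instances for `Ψ` and the stabilizer
  haveI : LocallyOfFiniteType (G ⊗ X).hom := by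
    rw [← Over.w (snd G X), Over.snd_left]; infer_instance
  haveI : LocallyOfFiniteType (X ⊗ X).hom := by
    rw [← Over.w (snd X X), Over.snd_left]; infer_instance
  haveI : LocallyOfFiniteType ((GIT.psi a (𝟙 X)).left ≫ (X ⊗ X).hom) := by
    rw [Over.w]; infer_instance
  haveI : LocallyOfFiniteType (GIT.psi a (𝟙 X)).left :=
    locallyOfFiniteType_of_comp _ (X ⊗ X).hom
  let P : Over X.left := Over.mk (Stab.p a)
  haveI : LocallyOfFiniteType P.hom := (inferInstance : LocallyOfFiniteType (Stab.p a))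
  let F : X.left → WithBot ℕ∞ := fun y => FlatMor.fibreDimAt (Stab.p a) (η[P].left.base y)
  have hF : ∀ y : X.left, topologicalKrullDim ↥((Stab.p a).base ⁻¹' {y}) = F y := fun y =>
    Groth.Agent.H17.Grp.dim_fibre_eq_fibreDimAt_unit P y
  have hF0 : ∀ y : X.left, 0 ≤ F y := by
    intro y
    rw [← hF y]
    exact (Groth.Agent.H17.Chev.zero_le_dim_fibre_iff (Stab.p a) y).mpr
      ⟨η[P].left.base y, Groth.Agent.H17.Grp.hom_unit P y⟩
  have hopen : ∀ n : ℕ, IsOpen {y : X.left | F y ≤ (n : WithBot ℕ∞)} := fun n =>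
    (Groth.Agent.H17.Chev.isOpen_setOf_fibreDimAt_le (Stab.p a) n).preimage
      η[P].left.base.hom.continuous
  -- the key identity
  have key : ∀ (x : 𝟙_ (Over (Spec (CommRingCat.of k))) ⟶ X)
      (s : (𝟙_ (Over (Spec (CommRingCat.of k)))).left),
      ∃ o f : ℕ, topologicalKrullDim ↥(closure (Set.range ⇑(a.orbitMap x).left.base)) = o ∧
        F (x.left.base s) = f ∧ o + f = d := by
    intro x s
    have h := dim_eq_closure_orbit_add_stab k G X a x s
    rw [hd, hF] at h
    refine exists_nat_of_add_eq ?_ (hF0 _) h.symm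
    exact Groth.Agent.H51.topologicalKrullDim_nonneg_of_mem
      (⟨(a.orbitMap x).left.base (η[G].left.base (Classical.arbitrary _)),
        subset_closure ⟨_, rfl⟩⟩ : ↥(closure (Set.range ⇑(a.orbitMap x).left.base)))
  have hrange : ∀ (x : 𝟙_ (Over (Spec (CommRingCat.of k))) ⟶ X)
      (s : (𝟙_ (Over (Spec (CommRingCat.of k)))).left) (Z : Set X.left),
      Set.range ⇑x.left.base ⊆ Z ↔ x.left.base s ∈ Z := by
    intro x s Z
    constructor
    · intro h
      exact h ⟨s, rfl⟩
    · rintro h _ ⟨t, rfl⟩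
      rw [Subsingleton.elim t s]
      exact h
  let s₀ : (𝟙_ (Over (Spec (CommRingCat.of k)))).left := Classical.arbitrary _
  by_cases hdr : d ≤ r
  · refine ⟨Set.univ, isClosed_univ, fun x => ?_⟩
    obtain ⟨o, f, ho, hf, hof⟩ := key x s₀
    simp only [Set.subset_univ, iff_true]
    rw [ho]
    have : o ≤ r := by omega
    exact_mod_cast this
  · refine ⟨{y : X.left | F y ≤ ((d - r - 1 : ℕ) : WithBot ℕ∞)}ᶜ,
      (hopen _).isClosed_compl, fun x => ?_⟩
    obtain ⟨o, f, ho, hf, hof⟩ := key x s₀
    rw [hrange x s₀, ho, Set.mem_compl_iff, Set.mem_ofPred_eq, hf]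
    have e1 : ((o : WithBot ℕ∞) ≤ (r : WithBot ℕ∞)) ↔ o ≤ r := by exact_mod_cast Iff.rfl
    have e2 : ((f : WithBot ℕ∞) ≤ ((d - r - 1 : ℕ) : WithBot ℕ∞)) ↔ f ≤ d - r - 1 := by
      exact_mod_cast Iff.rfl
    rw [e1, e2]
    omega

end field

end Groth.Agent.H90.OrbitDimSC
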