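import Mathlib

set_option autoImplicit false

universe u

namespace Groth.Agent.H90

open MvPolynomial

theorem pinch_jac (K : Type u) [Field K] [NeZero (2 : K)] (n : ℕ) :
    letI u : MvPolynomial (Fin (n + 3)) K := MvPolynomial.X 0
    letI v : MvPolynomial (Fin (n + 3)) K := MvPolynomial.X 1
    letI w : MvPolynomial (Fin (n + 3)) K := MvPolynomial.X 2
    letI Jac : Ideal (MvPolynomial (Fin (n + 3)) K) :=
      Ideal.span {u ^ 2 - v ^ 2 * w, 2 * u, -(2 * v * w), -(v ^ 2)}
    Ideal.span {u, v} = Jac ⊔ Ideal.span {v} ∧ Jac.colon (Ideal.span {v}) = Ideal.span {u, v, w} := by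
  set u : MvPolynomial (Fin (n + 3)) K := MvPolynomial.X 0 with hudef
  set v : MvPolynomial (Fin (n + 3)) K := MvPolynomial.X 1 with hvdef
  set w : MvPolynomial (Fin (n + 3)) K := MvPolynomial.X 2 with hwdef
  set Jac : Ideal (MvPolynomial (Fin (n + 3)) K) :=
      Ideal.span {u ^ 2 - v ^ 2 * w, 2 * u, -(2 * v * w), -(v ^ 2)} with hJdef
  have h2 : (2 : K) ≠ 0 := NeZero.ne 2
  have hC2 : (C (2⁻¹ : K) : MvPolynomial (Fin (n + 3)) K) * 2 = 1 := by
    have : (2 : MvPolynomial (Fin (n + 3)) K) = C (2 : K) :=
      (map_ofNat (C (σ := Fin (n + 3)) (R := K)) 2).symm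
    rw [this, ← C_mul, inv_mul_cancel₀ h2, C_1]
  have hu : u ∈ Jac := by
    have h : (2 * u) ∈ Jac := Ideal.subset_span (by simp)
    have := Jac.mul_mem_left (C (2⁻¹ : K)) h
    rwa [← mul_assoc, hC2, one_mul] at this
  have hvv : v ^ 2 ∈ Jac := by
    have h : -(v ^ 2) ∈ Jac := Ideal.subset_span (by simp)
    simpa using Jac.neg_mem h
  have hvw : v * w ∈ Jac := by
    have h : -(2 * v * w) ∈ Jac := Ideal.subset_span (by simp)
    have h' : 2 * (v * w) ∈ Jac := by
      have := Jac.neg_mem h
      rw [neg_neg, mul_assoc] at this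
      exact this
    have := Jac.mul_mem_left (C (2⁻¹ : K)) h'
    rwa [← mul_assoc, hC2, one_mul] at this
  constructor
  · apply le_antisymm
    · rw [Ideal.span_le]
      intro p hp
      rcases hp with rfl | rfl
      · exact Ideal.mem_sup_left hu
      · exact Ideal.mem_sup_right (Ideal.subset_span rfl)
    · apply sup_le
      · rw [Ideal.span_le]
        intro p hp
        have hu' : u ∈ Ideal.span {u, v} := Ideal.subset_span (by simp)
        have hv' : v ∈ Ideal.span {u, v} := Ideal.subset_span (by simp)
        rcases hp with rfl | rfl | rfl | rfl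
        · apply Ideal.sub_mem
          · rw [pow_two]; exact Ideal.mul_mem_left _ _ hu'
          · rw [pow_two, mul_assoc]; exact Ideal.mul_mem_left _ _ (Ideal.mul_mem_right _ _ hv')
        · exact Ideal.mul_mem_left _ _ hu'
        · apply neg_mem
          exact Ideal.mul_mem_right _ _ (Ideal.mul_mem_left _ _ hv')
        · apply neg_mem
          rw [pow_two]; exact Ideal.mul_mem_left _ _ hv'
      · rw [Ideal.span_le]
        intro p hp
        rcases hp with rfl
        exact Ideal.subset_span (by simp)
  · apply le_antisymm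
    · intro f hf
      have hf' : f * v ∈ Jac := by
        have := Submodule.mem_colon_span_singleton.mp hf
        simpa [smul_eq_mul] using this
      -- the substitution u, w ↦ 0
      let ψ : MvPolynomial (Fin (n + 3)) K →ₐ[K] MvPolynomial (Fin (n + 3)) K :=
        aeval (fun i => if i = 0 then 0 else if i = 2 then 0 else X i)
      have hψu : ψ u = 0 := by simp [ψ, hudef]
      have hψw : ψ w = 0 := by simp [ψ, hwdef]
      have hψv : ψ v = v := by
        have h10 : (1 : Fin (n + 3)) ≠ 0 := by simp
        have h12 : (1 : Fin (n + 3)) ≠ 2 := by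
          rw [Ne, Fin.ext_iff, Fin.val_one, Fin.val_two]
          omega
        simp [ψ, hvdef, h10, h12]
      have hmap : Ideal.map ψ Jac ≤ Ideal.span {v ^ 2} := by
        rw [hJdef, Ideal.map_span, Ideal.span_le]
        rintro _ ⟨p, hp, rfl⟩
        have hv2 : v ^ 2 ∈ Ideal.span {v ^ 2} := Ideal.subset_span rfl
        rcases hp with rfl | rfl | rfl | rfl
        · simp only [map_sub, map_pow, map_mul, hψu, hψw, hψv]
          simp
        · simp only [map_mul, hψu]
          simp
        · simp only [map_neg, map_mul, hψw]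
          simp
        · simp only [map_neg, map_pow, hψv]
          exact neg_mem hv2
      have h1 : ψ (f * v) ∈ Ideal.span {v ^ 2} := hmap (Ideal.mem_map_of_mem _ hf')
      rw [map_mul, hψv, Ideal.mem_span_singleton] at h1
      obtain ⟨c, hc⟩ := h1
      have hv0 : v ≠ 0 := X_ne_zero _
      have hψf : ψ f = v * c := by
        apply mul_right_cancel₀ hv0
        rw [hc]; ring
      let I : Ideal (MvPolynomial (Fin (n + 3)) K) := Ideal.span {u, v, w}
      have huI : u ∈ I := Ideal.subset_span (by simp)
      have hvI : v ∈ I := Ideal.subset_span (by simp)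
      have hwI : w ∈ I := Ideal.subset_span (by simp)
      have hcomp : (Ideal.Quotient.mkₐ K I).comp ψ = Ideal.Quotient.mkₐ K I := by
        apply MvPolynomial.algHom_ext
        intro i
        simp only [AlgHom.comp_apply, ψ, aeval_X]
        by_cases h0 : i = 0
        · subst h0
          simp only [if_true, map_zero]
          exact ((Ideal.Quotient.eq_zero_iff_mem).mpr huI).symm
        · by_cases h2 : i = 2
          · subst h2
            simp only [if_neg h0, if_true, map_zero]
            exact ((Ideal.Quotient.eq_zero_iff_mem).mpr hwI).symm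
          · simp only [if_neg h0, if_neg h2]
      have h3 : Ideal.Quotient.mkₐ K I f = 0 := by
        rw [← hcomp, AlgHom.comp_apply, hψf, map_mul]
        have : Ideal.Quotient.mkₐ K I v = 0 := (Ideal.Quotient.eq_zero_iff_mem).mpr hvI
        rw [this, zero_mul]
      exact (Ideal.Quotient.eq_zero_iff_mem).mp h3
    · rw [Ideal.span_le]
      intro p hp
      show p ∈ Jac.colon (Submodule.span _ {v} : Set _)
      rw [Submodule.mem_colon_span_singleton, smul_eq_mul]
      rcases hp with rfl | rfl | rfl
      · exact Jac.mul_mem_right _ hu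
      · rw [← pow_two]; exact hvv
      · rw [mul_comm]; exact hvw

end Groth.Agent.H90
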