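import Mathlib

set_option autoImplicit false

universe u

namespace Groth.Agent.H90

open MvPolynomial

section
variable (K : Type u) [Field K] [NeZero (2 : K)]

/-- the pinch-point ring as a subalgebra of `K[x, y]` -/
noncomputable abbrev pinchR : Subalgebra K (MvPolynomial (Fin 2) K) :=
  Algebra.adjoin K {X 0 ^ 2, X 0 * X 1, X 1}

theorem two_ne_zero_mv : (2 : MvPolynomial (Fin 2) K) ≠ 0 := by
  have h : (2 : MvPolynomial (Fin 2) K) = C (2 : K) := (map_ofNat C 2).symm
  rw [h, Ne, C_eq_zero]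
  exact NeZero.ne 2

theorem pinch_derivation_extends (δ : Derivation K (pinchR K) (MvPolynomial (Fin 2) K)) :
    ∃! D : Derivation K (MvPolynomial (Fin 2) K) (MvPolynomial (Fin 2) K),
      ∀ r : pinchR K, D (r : MvPolynomial (Fin 2) K) = δ r := by
  classical
  have h2 := two_ne_zero_mv K
  -- generators
  have hx2 : (X 0 ^ 2 : MvPolynomial (Fin 2) K) ∈ pinchR K := Algebra.subset_adjoin (by simp)
  have hxy : (X 0 * X 1 : MvPolynomial (Fin 2) K) ∈ pinchR K := Algebra.subset_adjoin (by simp)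
  have hy : (X 1 : MvPolynomial (Fin 2) K) ∈ pinchR K := Algebra.subset_adjoin (by simp)
  let rx2 : pinchR K := ⟨X 0 ^ 2, hx2⟩
  let rxy : pinchR K := ⟨X 0 * X 1, hxy⟩
  let ry : pinchR K := ⟨X 1, hy⟩
  set a := δ rx2 with ha
  set b := δ rxy with hb
  set q := δ ry with hq
  -- the relation (xy)^2 = x^2 y^2
  have hrel : rxy * rxy = rx2 * (ry * ry) := by
    apply Subtype.ext
    show (X 0 * X 1 : MvPolynomial (Fin 2) K) * (X 0 * X 1) = X 0 ^ 2 * (X 1 * X 1)
    ring
  have hδ := congrArg δ hrel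
  rw [Derivation.leibniz, Derivation.leibniz, Derivation.leibniz] at hδ
  have hsm : ∀ (r : pinchR K) (m : MvPolynomial (Fin 2) K), r • m = (r : MvPolynomial (Fin 2) K) * m :=
    fun r m => rfl
  simp only [hsm] at hδ
  have hδ' : (X 0 * X 1 : MvPolynomial (Fin 2) K) * b + (X 0 * X 1) * b
      = X 0 ^ 2 * (X 1 * q + X 1 * q) + (X 1 * X 1) * a := hδ
  -- y a = 2 x (b - x q)
  have hy0 : (X 1 : MvPolynomial (Fin 2) K) ≠ 0 := X_ne_zero _
  have hx0 : (X 0 : MvPolynomial (Fin 2) K) ≠ 0 := X_ne_zero _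
  have h1 : (X 1 : MvPolynomial (Fin 2) K) * a = 2 * X 0 * (b - X 0 * q) := by
    apply mul_left_cancel₀ hy0
    linear_combination (-1 : MvPolynomial (Fin 2) K) * hδ'
  -- x divides a
  have hdvd : (X 0 : MvPolynomial (Fin 2) K) ∣ a := by
    have hd : (X 0 : MvPolynomial (Fin 2) K) ∣ X 1 * a := ⟨2 * (b - X 0 * q), by rw [h1]; ring⟩
    rcases (X_prime (R := K) (σ := Fin 2) (i := 0)).dvd_or_dvd hd with h | h
    · exfalso
      rw [X_dvd_X] at h
      exact absurd h (by decide)
    · exact h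
  obtain ⟨a', ha'⟩ := hdvd
  -- y a' = 2 (b - x q)
  have h3 : (X 1 : MvPolynomial (Fin 2) K) * a' = 2 * (b - X 0 * q) := by
    apply mul_left_cancel₀ hx0
    rw [ha'] at h1
    linear_combination h1
  have hC : (C (2⁻¹ : K) : MvPolynomial (Fin 2) K) * 2 = 1 := by
    have h : (2 : MvPolynomial (Fin 2) K) = C (2 : K) := (map_ofNat C 2).symm
    rw [h, ← C_mul, inv_mul_cancel₀ (NeZero.ne (2 : K)), C_1]
  let P : MvPolynomial (Fin 2) K := C (2⁻¹ : K) * a'
  have hP : 2 * P = a' := by
    show 2 * (C (2⁻¹ : K) * a') = a'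
    rw [← mul_assoc, mul_comm 2, hC, one_mul]
  let D : Derivation K (MvPolynomial (Fin 2) K) (MvPolynomial (Fin 2) K) :=
    mkDerivation K ![P, q]
  have hDx : D (X 0) = P := by
    show mkDerivation K ![P, q] (X 0) = P
    rw [mkDerivation_X]; rfl
  have hDy : D (X 1) = q := by
    show mkDerivation K ![P, q] (X 1) = q
    rw [mkDerivation_X]; rfl
  have hDx2 : D (X 0 ^ 2) = a := by
    rw [pow_two, Derivation.leibniz, hDx, smul_eq_mul, ha', ← hP]
    ring
  have hDxy : D (X 0 * X 1) = b := by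
    rw [Derivation.leibniz, hDx, hDy, smul_eq_mul, smul_eq_mul]
    have : X 1 * P = b - X 0 * q := by
      apply mul_left_cancel₀ h2
      rw [← h3, ← hP]; ring
    rw [this]; ring
  -- agreement on `R`
  have hagree : ∀ r : pinchR K, D (r : MvPolynomial (Fin 2) K) = δ r := by
    have hext : D.compAlgebraMap (pinchR K) = δ := by
      apply Derivation.ext_of_adjoin_eq_top _ (Algebra.adjoin_adjoin_coe_preimage
        (R := K) (s := ({X 0 ^ 2, X 0 * X 1, X 1} : Set (MvPolynomial (Fin 2) K))))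
      rintro ⟨r, hr⟩ hrs
      rcases hrs with h | h | h
      · have : (⟨r, hr⟩ : pinchR K) = rx2 := Subtype.ext h
        rw [this]; exact hDx2
      · have : (⟨r, hr⟩ : pinchR K) = rxy := Subtype.ext h
        rw [this]; exact hDxy
      · have : (⟨r, hr⟩ : pinchR K) = ry := Subtype.ext h
        rw [this]; exact hDy
    intro r
    exact congrArg (fun d : Derivation K (pinchR K) (MvPolynomial (Fin 2) K) => d r) hext
  refine ⟨D, hagree, ?_⟩
  intro D' hD'
  apply derivation_ext
  intro i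
  fin_cases i
  · -- D' x = P
    have e1 : D' (X 0 ^ 2) = a := hD' rx2
    rw [pow_two, Derivation.leibniz, smul_eq_mul] at e1
    show D' (X 0) = D (X 0)
    rw [hDx]
    apply mul_left_cancel₀ hx0
    apply mul_left_cancel₀ h2
    rw [ha'] at e1
    linear_combination e1 - (X 0 : MvPolynomial (Fin 2) K) * hP
  · show D' (X 1) = D (X 1)
    rw [hDy]
    exact hD' ry

end

end Groth.Agent.H90
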