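import Mathlib
import Groth.Agent.H90.PinchDer

set_option autoImplicit false

universe u

namespace Groth.Agent.H90

open MvPolynomial

section
variable (K : Type u) [Field K]

/-- evaluation at `y = 0` -/
noncomputable def ev0 : MvPolynomial (Fin 2) K →ₐ[K] Polynomial K :=
  MvPolynomial.aeval ![Polynomial.X, 0]

@[simp] lemma ev0_X0 : ev0 K (X 0) = Polynomial.X := by simp [ev0]
@[simp] lemma ev0_X1 : ev0 K (X 1) = 0 := by simp [ev0]

/-- the section `T ↦ x` -/
noncomputable def sec0 : Polynomial K →ₐ[K] MvPolynomial (Fin 2) K := Polynomial.aeval (X 0)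

@[simp] lemma sec0_X : sec0 K Polynomial.X = X 0 := by simp [sec0]

lemma sub_sec0_ev0_mem (F : MvPolynomial (Fin 2) K) :
    F - sec0 K (ev0 K F) ∈ Ideal.span {(X 1 : MvPolynomial (Fin 2) K)} := by
  induction F using MvPolynomial.induction_on with
  | C a =>
    have : sec0 K (ev0 K (C a)) = C a := by
      simp [ev0, sec0]
    rw [this, sub_self]; exact zero_mem _
  | add p q hp hq =>
    have : p + q - sec0 K (ev0 K (p + q)) = (p - sec0 K (ev0 K p)) + (q - sec0 K (ev0 K q)) := by
      rw [map_add, map_add]; ring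
    rw [this]; exact add_mem hp hq
  | mul_X p i hp =>
    have : p * X i - sec0 K (ev0 K (p * X i)) = (p - sec0 K (ev0 K p)) * X i
        + sec0 K (ev0 K p) * (X i - sec0 K (ev0 K (X i))) := by
      rw [map_mul, map_mul]; ring
    rw [this]
    refine add_mem (Ideal.mul_mem_right _ _ hp) (Ideal.mul_mem_left _ _ ?_)
    fin_cases i
    · simp
    · simp only [Fin.mk_one, ev0_X1, map_zero, sub_zero]
      exact Ideal.subset_span rfl

lemma mem_span_of_ev0_eq_zero {F : MvPolynomial (Fin 2) K} (h : ev0 K F = 0) :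
    F ∈ Ideal.span {(X 1 : MvPolynomial (Fin 2) K)} := by
  have := sub_sec0_ev0_mem K F
  rwa [h, map_zero, sub_zero] at this

lemma ev0_eq_zero_of_mem_span {F : MvPolynomial (Fin 2) K}
    (h : F ∈ Ideal.span {(X 1 : MvPolynomial (Fin 2) K)}) : ev0 K F = 0 := by
  rw [Ideal.mem_span_singleton] at h
  obtain ⟨c, rfl⟩ := h
  rw [map_mul, ev0_X1, zero_mul]

/-- `y • S ⊆ R` -/
lemma y_mul_mem_pinchR (H : MvPolynomial (Fin 2) K) :
    X 1 * H ∈ pinchR K ∧ X 0 * X 1 * H ∈ pinchR K := by
  have hx2 : (X 0 ^ 2 : MvPolynomial (Fin 2) K) ∈ pinchR K := Algebra.subset_adjoin (by simp)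
  have hxy : (X 0 * X 1 : MvPolynomial (Fin 2) K) ∈ pinchR K := Algebra.subset_adjoin (by simp)
  have hy : (X 1 : MvPolynomial (Fin 2) K) ∈ pinchR K := Algebra.subset_adjoin (by simp)
  induction H using MvPolynomial.induction_on with
  | C a =>
    constructor
    · have : (X 1 : MvPolynomial (Fin 2) K) * C a = a • X 1 := by
        rw [smul_eq_C_mul, mul_comm]
      rw [this]; exact Subalgebra.smul_mem _ hy a
    · have : (X 0 * X 1 : MvPolynomial (Fin 2) K) * C a = a • (X 0 * X 1) := by
        rw [smul_eq_C_mul, mul_comm]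
      rw [this]; exact Subalgebra.smul_mem _ hxy a
  | add p q hp hq =>
    constructor
    · rw [mul_add]; exact add_mem hp.1 hq.1
    · rw [mul_add]; exact add_mem hp.2 hq.2
  | mul_X p i hp =>
    fin_cases i
    · constructor
      · have : (X 1 : MvPolynomial (Fin 2) K) * (p * X 0) = X 0 * X 1 * p := by ring
        show (X 1 : MvPolynomial (Fin 2) K) * (p * X 0) ∈ pinchR K
        rw [this]; exact hp.2
      · have : (X 0 * X 1 : MvPolynomial (Fin 2) K) * (p * X 0) = X 0 ^ 2 * (X 1 * p) := by ring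
        show (X 0 * X 1 : MvPolynomial (Fin 2) K) * (p * X 0) ∈ pinchR K
        rw [this]; exact mul_mem hx2 hp.1
    · constructor
      · have : (X 1 : MvPolynomial (Fin 2) K) * (p * X 1) = (X 1 * p) * X 1 := by ring
        show (X 1 : MvPolynomial (Fin 2) K) * (p * X 1) ∈ pinchR K
        rw [this]; exact mul_mem hp.1 hy
      · have : (X 0 * X 1 : MvPolynomial (Fin 2) K) * (p * X 1) = (X 0 * X 1 * p) * X 1 := by ring
        show (X 0 * X 1 : MvPolynomial (Fin 2) K) * (p * X 1) ∈ pinchR K
        rw [this]; exact mul_mem hp.2 hy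

lemma sec0_expand (p : Polynomial K) :
    sec0 K (Polynomial.expand K 2 p) = Polynomial.aeval (X 0 ^ 2 : MvPolynomial (Fin 2) K) p := by
  unfold sec0
  rw [Polynomial.expand_aeval]

lemma aeval_sq_mem_pinchR (p : Polynomial K) :
    Polynomial.aeval (X 0 ^ 2 : MvPolynomial (Fin 2) K) p ∈ pinchR K := by
  have h := Polynomial.aeval_mem_adjoin_singleton K (X 0 ^ 2 : MvPolynomial (Fin 2) K) (p := p)
  exact Algebra.adjoin_mono (by simp) h

lemma mem_pinchR_iff (F : MvPolynomial (Fin 2) K) :
    F ∈ pinchR K ↔ ∃ p : Polynomial K, ev0 K F = Polynomial.expand K 2 p := by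
  constructor
  · intro hF
    have hle : pinchR K ≤ Subalgebra.comap (ev0 K) (Polynomial.expand K 2).range := by
      apply Algebra.adjoin_le
      intro g hg
      rcases hg with h | h | h
      · rw [h]
        refine ⟨Polynomial.X, ?_⟩
        simp
      · rw [h]
        refine ⟨0, ?_⟩
        simp
      · have h' : g = X 1 := h
        rw [h']
        refine ⟨0, ?_⟩
        simp
    obtain ⟨p, hp⟩ := hle hF
    exact ⟨p, hp.symm⟩
  · rintro ⟨p, hp⟩
    have h1 := sub_sec0_ev0_mem K F
    rw [Ideal.mem_span_singleton] at h1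
    obtain ⟨H, hH⟩ := h1
    have : F = sec0 K (ev0 K F) + X 1 * H := by rw [← hH]; ring
    rw [this, hp, sec0_expand]
    exact add_mem (aeval_sq_mem_pinchR K p) (y_mul_mem_pinchR K H).1

/-- parity: an even polynomial equal to `T` times an even polynomial vanishes. -/
lemma expand_eq_X_mul_expand {e e' : Polynomial K}
    (h : Polynomial.expand K 2 e = Polynomial.X * Polynomial.expand K 2 e') : e' = 0 := by
  ext n
  have := congrArg (fun f => Polynomial.coeff f (2 * n + 1)) h
  simp only [Polynomial.coeff_X_mul] at this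
  rw [Polynomial.coeff_expand (by norm_num), Polynomial.coeff_expand (by norm_num)] at this
  rw [if_neg (by omega), if_pos (by omega)] at this
  rw [Polynomial.coeff_zero, this]
  congr 1
  omega

/-- parity: if `T g` is even then `g = T · even`. -/
lemma X_mul_eq_expand {g e : Polynomial K}
    (h : Polynomial.X * g = Polynomial.expand K 2 e) :
    ∃ p : Polynomial K, g = Polynomial.X * Polynomial.expand K 2 p := by
  refine ⟨e.divX, ?_⟩
  ext n
  have hg : ∀ m, g.coeff m = (Polynomial.expand K 2 e).coeff (m + 1) := by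
    intro m
    rw [← h, Polynomial.coeff_X_mul]
  rcases n with _ | m
  · rw [Polynomial.coeff_X_mul_zero, hg, Polynomial.coeff_expand (by norm_num), if_neg (by omega)]
  · rw [Polynomial.coeff_X_mul, hg, Polynomial.coeff_expand (by norm_num),
      Polynomial.coeff_expand (by norm_num)]
    by_cases hm : 2 ∣ m
    · rw [if_pos hm, if_pos (by omega), Polynomial.coeff_divX]
      congr 1
      omega
    · rw [if_neg hm, if_neg (by omega)]

end

section
variable (K : Type u) [Field K] [NeZero (2 : K)]

theorem pinch_derivation_preserves_iff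
    (D : Derivation K (MvPolynomial (Fin 2) K) (MvPolynomial (Fin 2) K)) :
    (∀ r ∈ pinchR K, D r ∈ pinchR K) ↔
      (D (X 1) ∈ Ideal.span {(X 1 : MvPolynomial (Fin 2) K)} ∧
        ∃ (s : MvPolynomial (Fin 2) K) (p : Polynomial K),
          D (X 0) = X 1 * s + X 0 * Polynomial.aeval (X 0 ^ 2 : MvPolynomial (Fin 2) K) p) := by
  have hx2 : (X 0 ^ 2 : MvPolynomial (Fin 2) K) ∈ pinchR K := Algebra.subset_adjoin (by simp)
  have hxy : (X 0 * X 1 : MvPolynomial (Fin 2) K) ∈ pinchR K := Algebra.subset_adjoin (by simp)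
  have hy : (X 1 : MvPolynomial (Fin 2) K) ∈ pinchR K := Algebra.subset_adjoin (by simp)
  have hC : (C (2⁻¹ : K) : MvPolynomial (Fin 2) K) * 2 = 1 := by
    have h : (2 : MvPolynomial (Fin 2) K) = C (2 : K) := (map_ofNat C 2).symm
    rw [h, ← C_mul, inv_mul_cancel₀ (NeZero.ne (2 : K)), C_1]
  constructor
  · intro h
    constructor
    · -- D y ∈ (y)
      obtain ⟨e, he⟩ := (mem_pinchR_iff K _).1 (h _ hy)
      obtain ⟨e', he'⟩ := (mem_pinchR_iff K _).1 (h _ hxy)
      rw [Derivation.leibniz, smul_eq_mul, smul_eq_mul, map_add, map_mul, map_mul, ev0_X0, ev0_X1,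
        zero_mul, add_zero, he] at he'
      have := expand_eq_X_mul_expand K he'.symm
      rw [this, map_zero] at he
      exact mem_span_of_ev0_eq_zero K he
    · -- D x
      have h1 : X 0 * D (X 0) ∈ pinchR K := by
        have h2 := h _ hx2
        rw [pow_two, Derivation.leibniz, smul_eq_mul] at h2
        have h3 := Subalgebra.smul_mem _ h2 (2⁻¹ : K)
        have : (2⁻¹ : K) • ((X 0 : MvPolynomial (Fin 2) K) * D (X 0) + X 0 * D (X 0))
            = X 0 * D (X 0) := by
          rw [smul_eq_C_mul]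
          calc C (2⁻¹ : K) * ((X 0 : MvPolynomial (Fin 2) K) * D (X 0) + X 0 * D (X 0))
              = (C (2⁻¹ : K) * 2) * (X 0 * D (X 0)) := by ring
            _ = X 0 * D (X 0) := by rw [hC, one_mul]
        rwa [this] at h3
      obtain ⟨e, he⟩ := (mem_pinchR_iff K _).1 h1
      rw [map_mul, ev0_X0] at he
      obtain ⟨p, hp⟩ := X_mul_eq_expand K he
      have h4 := sub_sec0_ev0_mem K (D (X 0))
      rw [hp, map_mul, sec0_X, sec0_expand, Ideal.mem_span_singleton] at h4
      obtain ⟨s, hs⟩ := h4
      refine ⟨s, p, ?_⟩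
      rw [← hs]; ring
  · rintro ⟨hDy, s, p, hDx⟩
    rw [Ideal.mem_span_singleton] at hDy
    obtain ⟨c, hc⟩ := hDy
    intro r hr
    induction hr using Algebra.adjoin_induction with
    | mem g hg =>
      rcases hg with h | h | h
      · rw [h, pow_two, Derivation.leibniz, smul_eq_mul, hDx]
        have : (X 0 : MvPolynomial (Fin 2) K) * (X 1 * s + X 0 * Polynomial.aeval (X 0 ^ 2) p)
            + X 0 * (X 1 * s + X 0 * Polynomial.aeval (X 0 ^ 2) p)
            = X 1 * (2 * X 0 * s) + (X 0 ^ 2 * Polynomial.aeval (X 0 ^ 2) p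
              + X 0 ^ 2 * Polynomial.aeval (X 0 ^ 2) p) := by ring
        rw [this]
        exact add_mem (y_mul_mem_pinchR K _).1
          (add_mem (mul_mem hx2 (aeval_sq_mem_pinchR K p)) (mul_mem hx2 (aeval_sq_mem_pinchR K p)))
      · rw [h, Derivation.leibniz, smul_eq_mul, smul_eq_mul, hc]
        have : (X 0 : MvPolynomial (Fin 2) K) * (X 1 * c) + X 1 * D (X 0)
            = X 1 * (X 0 * c + D (X 0)) := by ring
        rw [this]
        exact (y_mul_mem_pinchR K _).1
      · have h' : g = X 1 := h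
        rw [h', hc]
        exact (y_mul_mem_pinchR K _).1
    | algebraMap a =>
      rw [Derivation.map_algebraMap]; exact zero_mem _
    | add a b _ _ ha hb =>
      rw [map_add]; exact add_mem ha hb
    | mul a b ha' hb' ha hb =>
      rw [Derivation.leibniz, smul_eq_mul, smul_eq_mul]
      exact add_mem (mul_mem ha' hb) (mul_mem hb' ha)

end

end Groth.Agent.H90
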