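import Mathlib

set_option autoImplicit false

universe u

namespace Groth.Agent.H90

open Polynomial

section
variable {B : Type u} [CommRing B] (b : B)

/-- the pinching map `B[u,v] → B'[t]`, `u ↦ z t`, `v ↦ t`. -/
noncomputable abbrev pinchPsi :
    MvPolynomial (Fin 2) B →ₐ[B] Polynomial (AdjoinRoot (X ^ 2 - C b : B[X])) :=
  MvPolynomial.aeval ![C (AdjoinRoot.root (X ^ 2 - C b : B[X])) * X, X]

lemma pinch_root_sq :
    (AdjoinRoot.root (X ^ 2 - C b : B[X])) ^ 2 = AdjoinRoot.of (X ^ 2 - C b : B[X]) b := by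
  have := AdjoinRoot.eval₂_root (X ^ 2 - C b : B[X])
  simp only [eval₂_sub, eval₂_pow, eval₂_X, eval₂_C] at this
  exact sub_eq_zero.1 this

lemma pinch_exists_decomp [Nontrivial B] (a : AdjoinRoot (X ^ 2 - C b : B[X])) :
    ∃ a0 c0 : B, a = AdjoinRoot.of (X ^ 2 - C b : B[X]) a0
      + AdjoinRoot.of (X ^ 2 - C b : B[X]) c0 * AdjoinRoot.root (X ^ 2 - C b : B[X]) := by
  obtain ⟨p, rfl⟩ := AdjoinRoot.mk_surjective a
  have hm : (X ^ 2 - C b : B[X]).Monic := monic_X_pow_sub_C b (by norm_num)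
  have h1 : AdjoinRoot.mk (X ^ 2 - C b : B[X]) p
      = AdjoinRoot.mk (X ^ 2 - C b : B[X]) (p %ₘ (X ^ 2 - C b : B[X])) := by
    conv_lhs => rw [← modByMonic_add_div p (X ^ 2 - C b : B[X])]
    rw [map_add, map_mul, AdjoinRoot.mk_self, zero_mul, add_zero]
  have hdeg : (p %ₘ (X ^ 2 - C b : B[X])).degree ≤ 1 := by
    have h2 := degree_modByMonic_lt p hm
    rw [degree_X_pow_sub_C (by norm_num) b] at h2
    rw [degree_le_iff_coeff_zero]
    intro m hm'
    refine (degree_lt_iff_coeff_zero _ 2).1 (by exact_mod_cast h2) m ?_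
    have : 1 < m := by exact_mod_cast hm'
    omega
  have h2 := eq_X_add_C_of_degree_le_one hdeg
  refine ⟨(p %ₘ (X ^ 2 - C b : B[X])).coeff 0, (p %ₘ (X ^ 2 - C b : B[X])).coeff 1, ?_⟩
  rw [h1]
  conv_lhs => rw [h2]
  rw [map_add, map_mul, AdjoinRoot.mk_C, AdjoinRoot.mk_C, AdjoinRoot.mk_X]
  ring

lemma pinch_decomp_eq_zero [Nontrivial B] {a0 c0 : B}
    (h : AdjoinRoot.of (X ^ 2 - C b : B[X]) a0
      + AdjoinRoot.of (X ^ 2 - C b : B[X]) c0 * AdjoinRoot.root (X ^ 2 - C b : B[X]) = 0) :
    a0 = 0 ∧ c0 = 0 := by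
  have hm : (X ^ 2 - C b : B[X]).Monic := monic_X_pow_sub_C b (by norm_num)
  have h1 : AdjoinRoot.mk (X ^ 2 - C b : B[X]) (C c0 * X + C a0) = 0 := by
    rw [map_add, map_mul, AdjoinRoot.mk_C, AdjoinRoot.mk_C, AdjoinRoot.mk_X, add_comm]
    exact h
  rw [AdjoinRoot.mk_eq_zero] at h1
  by_contra hne
  have h0 : (C c0 * X + C a0 : B[X]) ≠ 0 := by
    intro h0
    apply hne
    constructor
    · have := congrArg (fun f => coeff f 0) h0
      simpa using this
    · have := congrArg (fun f => coeff f 1) h0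
      simpa using this
  refine hm.not_dvd_of_degree_lt h0 ?_ h1
  rw [degree_X_pow_sub_C (by norm_num) b]
  calc degree (C c0 * X + C a0 : B[X]) ≤ 1 := degree_linear_le
    _ < ((2 : ℕ) : WithBot ℕ) := by exact_mod_cast one_lt_two

lemma pinchPsi_X0 : pinchPsi b (MvPolynomial.X 0)
    = C (AdjoinRoot.root (X ^ 2 - C b : B[X])) * X := by
  simp [pinchPsi]

lemma pinchPsi_X1 : pinchPsi b (MvPolynomial.X 1) = X := by
  simp [pinchPsi]

lemma pinchPsi_C (c : B) : pinchPsi b (MvPolynomial.C c)
    = C (AdjoinRoot.of (X ^ 2 - C b : B[X]) c) := by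
  rw [← MvPolynomial.algebraMap_eq, AlgHom.commutes]
  rfl

lemma pinchPsi_aeval (P : B[X]) :
    pinchPsi b (aeval (MvPolynomial.X 1 : MvPolynomial (Fin 2) B) P)
      = P.map (AdjoinRoot.of (X ^ 2 - C b : B[X])) := by
  rw [← aeval_algHom_apply, pinchPsi_X1, aeval_X_left_eq_map]
  rfl

/-- reduction modulo `u^2 - b v^2` -/
lemma pinch_exists_reduce (F : MvPolynomial (Fin 2) B) :
    ∃ P Q : B[X], F - (aeval (MvPolynomial.X 1 : MvPolynomial (Fin 2) B) P
        + MvPolynomial.X 0 * aeval (MvPolynomial.X 1 : MvPolynomial (Fin 2) B) Q)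
      ∈ Ideal.span {(MvPolynomial.X 0 ^ 2 - MvPolynomial.C b * MvPolynomial.X 1 ^ 2 :
          MvPolynomial (Fin 2) B)} := by
  induction F using MvPolynomial.induction_on with
  | C a =>
    refine ⟨C a, 0, ?_⟩
    have : (MvPolynomial.C a : MvPolynomial (Fin 2) B)
        - (aeval (MvPolynomial.X 1 : MvPolynomial (Fin 2) B) (C a)
          + MvPolynomial.X 0 * aeval (MvPolynomial.X 1 : MvPolynomial (Fin 2) B) (0 : B[X])) = 0 := by
      rw [aeval_C, map_zero, mul_zero, add_zero, MvPolynomial.algebraMap_eq, sub_self]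
    rw [this]; exact zero_mem _
  | add F G hF hG =>
    obtain ⟨P1, Q1, h1⟩ := hF
    obtain ⟨P2, Q2, h2⟩ := hG
    refine ⟨P1 + P2, Q1 + Q2, ?_⟩
    have : F + G - (aeval (MvPolynomial.X 1 : MvPolynomial (Fin 2) B) (P1 + P2)
          + MvPolynomial.X 0 * aeval (MvPolynomial.X 1 : MvPolynomial (Fin 2) B) (Q1 + Q2))
        = (F - (aeval (MvPolynomial.X 1 : MvPolynomial (Fin 2) B) P1
            + MvPolynomial.X 0 * aeval (MvPolynomial.X 1 : MvPolynomial (Fin 2) B) Q1))
          + (G - (aeval (MvPolynomial.X 1 : MvPolynomial (Fin 2) B) P2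
            + MvPolynomial.X 0 * aeval (MvPolynomial.X 1 : MvPolynomial (Fin 2) B) Q2)) := by
      rw [map_add, map_add]; ring
    rw [this]; exact add_mem h1 h2
  | mul_X F i hF =>
    obtain ⟨P, Q, h⟩ := hF
    fin_cases i
    · refine ⟨C b * X ^ 2 * Q, P, ?_⟩
      have : F * MvPolynomial.X 0 - (aeval (MvPolynomial.X 1 : MvPolynomial (Fin 2) B) (C b * X ^ 2 * Q)
            + MvPolynomial.X 0 * aeval (MvPolynomial.X 1 : MvPolynomial (Fin 2) B) P)
          = (F - (aeval (MvPolynomial.X 1 : MvPolynomial (Fin 2) B) P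
              + MvPolynomial.X 0 * aeval (MvPolynomial.X 1 : MvPolynomial (Fin 2) B) Q))
              * MvPolynomial.X 0
            + (MvPolynomial.X 0 ^ 2 - MvPolynomial.C b * MvPolynomial.X 1 ^ 2)
              * aeval (MvPolynomial.X 1 : MvPolynomial (Fin 2) B) Q := by
        rw [map_mul, map_mul, map_pow, aeval_C, aeval_X, MvPolynomial.algebraMap_eq]; ring
      show F * MvPolynomial.X 0 - _ ∈ _
      rw [this]
      exact add_mem (Ideal.mul_mem_right _ _ h)
        (Ideal.mul_mem_right _ _ (Ideal.subset_span rfl))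
    · refine ⟨P * X, Q * X, ?_⟩
      have : F * MvPolynomial.X 1 - (aeval (MvPolynomial.X 1 : MvPolynomial (Fin 2) B) (P * X)
            + MvPolynomial.X 0 * aeval (MvPolynomial.X 1 : MvPolynomial (Fin 2) B) (Q * X))
          = (F - (aeval (MvPolynomial.X 1 : MvPolynomial (Fin 2) B) P
              + MvPolynomial.X 0 * aeval (MvPolynomial.X 1 : MvPolynomial (Fin 2) B) Q))
              * MvPolynomial.X 1 := by
        rw [map_mul, map_mul, aeval_X]; ring
      show F * MvPolynomial.X 1 - _ ∈ _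
      rw [this]
      exact Ideal.mul_mem_right _ _ h

theorem pinch_ker_range :
    RingHom.ker (pinchPsi b).toRingHom =
        Ideal.span {(MvPolynomial.X 0 ^ 2 - MvPolynomial.C b * MvPolynomial.X 1 ^ 2 :
          MvPolynomial (Fin 2) B)} ∧
      ∀ G : Polynomial (AdjoinRoot (X ^ 2 - C b : B[X])),
        (∃ c : B, G.coeff 0 = algebraMap B (AdjoinRoot (X ^ 2 - C b : B[X])) c) →
          G ∈ (pinchPsi b).range := by
  rcases subsingleton_or_nontrivial B with hB | hB
  · constructor
    · exact Subsingleton.elim _ _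
    · intro G _
      have : Subsingleton (AdjoinRoot (X ^ 2 - C b : B[X])) := by
        refine ⟨fun x y => ?_⟩
        obtain ⟨p, rfl⟩ := AdjoinRoot.mk_surjective x
        obtain ⟨q, rfl⟩ := AdjoinRoot.mk_surjective y
        rw [Subsingleton.elim p q]
      rw [Subsingleton.elim G 0]
      exact zero_mem _
  have hgen : pinchPsi b (MvPolynomial.X 0 ^ 2 - MvPolynomial.C b * MvPolynomial.X 1 ^ 2) = 0 := by
    rw [map_sub, map_mul, map_pow, map_pow, pinchPsi_X0, pinchPsi_X1, pinchPsi_C, mul_pow,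
      ← C_pow, pinch_root_sq, sub_self]
  constructor
  · apply le_antisymm
    · intro F hF
      have hF' : pinchPsi b F = 0 := hF
      obtain ⟨P, Q, hPQ⟩ := pinch_exists_reduce b F
      have h0 : pinchPsi b (F - (aeval (MvPolynomial.X 1 : MvPolynomial (Fin 2) B) P
          + MvPolynomial.X 0 * aeval (MvPolynomial.X 1 : MvPolynomial (Fin 2) B) Q)) = 0 := by
        have hle : Ideal.span {(MvPolynomial.X 0 ^ 2 - MvPolynomial.C b * MvPolynomial.X 1 ^ 2 :
            MvPolynomial (Fin 2) B)} ≤ RingHom.ker (pinchPsi b).toRingHom := by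
          rw [Ideal.span_le, Set.singleton_subset_iff]
          exact hgen
        exact hle hPQ
      rw [map_sub, hF', zero_sub, neg_eq_zero, map_add, map_mul, pinchPsi_aeval, pinchPsi_aeval,
        pinchPsi_X0] at h0
      -- coefficients
      have hcoef : ∀ n, P.coeff (n + 1) = 0 ∧ Q.coeff n = 0 := by
        intro n
        have := congrArg (fun f => coeff f (n + 1)) h0
        simp only [coeff_add, coeff_map, mul_assoc, coeff_C_mul, coeff_X_mul, coeff_zero] at this
        apply pinch_decomp_eq_zero b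
        rw [← this]; ring
      have hP0 : P.coeff 0 = 0 := by
        have := congrArg (fun f => coeff f 0) h0
        simp only [coeff_add, coeff_map, mul_assoc, coeff_C_mul, coeff_X_mul_zero, coeff_zero,
          mul_zero, add_zero] at this
        have h := pinch_decomp_eq_zero b (a0 := P.coeff 0) (c0 := 0) (by rw [map_zero, zero_mul, add_zero]; exact this)
        exact h.1
      have hP : P = 0 := by
        ext n
        rcases n with _ | n
        · simpa using hP0
        · simpa using (hcoef n).1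
      have hQ : Q = 0 := by
        ext n
        simpa using (hcoef n).2
      rw [hP, hQ, map_zero, mul_zero, add_zero, sub_zero] at hPQ
      exact hPQ
    · rw [Ideal.span_le, Set.singleton_subset_iff]
      exact hgen
  · rintro G ⟨c, hc⟩
    have hX : ∀ H : Polynomial (AdjoinRoot (X ^ 2 - C b : B[X])), H * X ∈ (pinchPsi b).range := by
      intro H
      induction H using Polynomial.induction_on' with
      | add p q hp hq => rw [add_mul]; exact add_mem hp hq
      | monomial n a =>
        obtain ⟨a0, c0, rfl⟩ := pinch_exists_decomp b a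
        refine ⟨MvPolynomial.C a0 * MvPolynomial.X 1 ^ (n + 1)
          + MvPolynomial.C c0 * MvPolynomial.X 0 * MvPolynomial.X 1 ^ n, ?_⟩
        show pinchPsi b _ = _
        rw [map_add, map_mul, map_mul, map_mul, map_pow, map_pow, pinchPsi_X0, pinchPsi_X1,
          pinchPsi_C, pinchPsi_C, ← C_mul_X_pow_eq_monomial, C_add, C_mul]
        ring
    rw [← divX_mul_X_add G, hc]
    refine add_mem (hX _) ?_
    exact ⟨MvPolynomial.C c, pinchPsi_C b c⟩

end

end Groth.Agent.H90
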