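import Mathlib

set_option autoImplicit false
universe u
open CategoryTheory CategoryTheory.Limits AlgebraicGeometry

namespace Groth.Agent.H90

/-- A `k`-algebra that is a directed union of finite products of copies of `k` is
surjective on stalks over `k`. -/
theorem surjectiveOnStalks_of_profinite (k : Type u) [Field k] (A : Type u) [CommRing A] [Algebra k A]
    (hA : ∀ s : Finset A, ∃ (B : Subalgebra k A) (n : ℕ), (↑s : Set A) ⊆ (B : Set A) ∧
      Nonempty (B ≃ₐ[k] (Fin n → k))) :
    (algebraMap k A).SurjectiveOnStalks := by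
  intro P hP
  rw [RingHom.surjective_localRingHom_iff]
  intro s
  obtain ⟨B, n, hsB, ⟨φ⟩⟩ := hA {s}
  have hs : s ∈ B := hsB (by simp)
  -- orthogonal idempotents
  let e : Fin n → A := fun i => ((φ.symm (Pi.single i 1) : B) : A)
  have hsum : ∑ i, e i = 1 := by
    have h1 : (∑ i, Pi.single i (1 : k) : Fin n → k) = 1 := by
      ext j
      simp [Finset.sum_apply, Pi.single_apply]
    have : (∑ i, φ.symm (Pi.single i 1) : B) = 1 := by
      rw [← map_sum, h1, map_one]
    have h2 := congrArg (fun b : B => (b : A)) this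
    simpa [e] using h2
  obtain ⟨j, hj⟩ : ∃ j, e j ∉ P := by
    by_contra hcon
    push Not at hcon
    have : (1 : A) ∈ P := by
      rw [← hsum]
      exact Ideal.sum_mem _ fun i _ => hcon i
    exact hP.ne_top ((Ideal.eq_top_iff_one _).mpr this)
  refine ⟨φ ⟨s, hs⟩ j, 1, e j, hj, ?_, ?_⟩
  · rw [map_one]
    exact fun h => hP.ne_top ((Ideal.eq_top_iff_one _).mpr h)
  · rw [map_one, mul_one]
    have hB : (φ.symm (Pi.single j 1) * ⟨s, hs⟩ : B) =
        φ.symm (Pi.single j 1) * algebraMap k B (φ ⟨s, hs⟩ j) := by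
      apply φ.injective
      rw [map_mul, map_mul, φ.apply_symm_apply, AlgEquiv.commutes]
      ext i
      by_cases hij : i = j
      · subst hij
        simp
      · simp [Pi.single_apply, hij]
    have h2 := congrArg (fun b : B => (b : A)) hB
    simpa [e] using h2

/-- symmetric version of `SurjectiveOnStalks.isEmbedding_pullback`. -/
theorem isEmbedding_pullback_left {X Y S : Scheme.{u}} (g : Y ⟶ S) (f : X ⟶ S)
    [SurjectiveOnStalks g] :
    Topology.IsEmbedding fun p : ↑(pullback g f) => (pullback.fst g f p, pullback.snd g f p) := by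
  have h1 := SurjectiveOnStalks.isEmbedding_pullback f g
  have h2 := ((Homeomorph.prodComm X Y).isEmbedding.comp h1).comp
    (Scheme.homeoOfIso (pullbackSymmetry g f)).isEmbedding
  convert h2 using 1
  ext p : 1
  simp only [Function.comp_apply, Scheme.homeoOfIso_apply, ← Scheme.Hom.comp_apply,
    pullbackSymmetry_hom_comp_fst, pullbackSymmetry_hom_comp_snd]
  rfl

theorem isHomeomorph_pullback_prod_of_profinite (k : Type u) [Field k] (A : Type u) [CommRing A]
    [Algebra k A]
    (hA : ∀ s : Finset A, ∃ (B : Subalgebra k A) (n : ℕ), (↑s : Set A) ⊆ (B : Set A) ∧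
      Nonempty (B ≃ₐ[k] (Fin n → k)))
    (X : Scheme.{u}) (f : X ⟶ Spec (CommRingCat.of k)) :
    IsHomeomorph (fun p : ↑(pullback (Spec.map (CommRingCat.ofHom (algebraMap k A))) f) =>
      (pullback.fst (Spec.map (CommRingCat.ofHom (algebraMap k A))) f p,
        pullback.snd (Spec.map (CommRingCat.ofHom (algebraMap k A))) f p)) := by
  haveI : SurjectiveOnStalks (Spec.map (CommRingCat.ofHom (algebraMap k A))) := by
    rw [SurjectiveOnStalks.Spec_iff]
    exact surjectiveOnStalks_of_profinite k A hA
  rw [isHomeomorph_iff_isEmbedding_surjective]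
  refine ⟨isEmbedding_pullback_left _ f, ?_⟩
  rintro ⟨a, x⟩
  obtain ⟨z, hz1, hz2⟩ := Scheme.Pullback.exists_preimage_pullback
    (f := Spec.map (CommRingCat.ofHom (algebraMap k A))) (g := f) a x (Subsingleton.elim _ _)
  exact ⟨z, Prod.ext hz1 hz2⟩

end Groth.Agent.H90
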