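import Groth.Agent.H90.HomogMisc

/-! The quotient of a group scheme by its reduced identity component is finite. -/

set_option autoImplicit false
universe u

open CategoryTheory CategoryTheory.Limits MonoidalCategory CartesianMonoidalCategory MonObj
  AlgebraicGeometry MorphismProperty

namespace Groth.Agent.H90

open Groth.Agent.H40

/-- A scheme locally of finite type over a field with finitely many points is finite. -/
theorem isFinite_of_finite {k : Type u} [Field k] {X : Scheme.{u}}
    (f : X ⟶ Spec (CommRingCat.of k)) [LocallyOfFiniteType f] [Finite X] : IsFinite f := by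
  have h1 : LocallyQuasiFinite f := .of_finite_preimage_singleton f (fun x => Set.toFinite _)
  have h2 : CompactSpace X := inferInstance
  have h3 : QuasiCompact f := inferInstance
  have h4 : IsLocallyArtinian (Spec (CommRingCat.of k)) := by
    rw [Scheme.isLocallyArtinianScheme_Spec]
    infer_instance
  exact IsFinite.of_locallyQuasiFinite f

section Quot

variable {S : Scheme.{u}} {G H X : Over S} [GrpObj G]

/-- Right-invariance of the orbit map of a quotient. -/
lemma orbitMap_mul_right (i : H ⟶ G) (a : AlgGrp.Action G X) (o : 𝟙_ (Over S) ⟶ X)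
    (sq : IsPullback (fst G H) ((G ◁ i) ≫ μ[G]) (a.orbitMap o) (a.orbitMap o))
    {T : Over S} (c : T ⟶ G) (h : T ⟶ H) :
    (c * (h ≫ i)) ≫ a.orbitMap o = c ≫ a.orbitMap o := by
  have e : lift c h ≫ (G ◁ i) ≫ μ[G] = c * (h ≫ i) := by
    rw [Hom.mul_def, ← Category.assoc]
    congr 1
    apply CartesianMonoidalCategory.hom_ext <;> simp
  have w := sq.w
  simp only [Category.assoc] at w
  rw [← e, Category.assoc, Category.assoc, ← w, ← Category.assoc, lift_fst]

/-- A point of `G` with the same image as the unit under the orbit map comes from `H`. -/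
lemma exists_of_orbitMap_eq (i : H ⟶ G) (a : AlgGrp.Action G X) (o : 𝟙_ (Over S) ⟶ X)
    (sq : IsPullback (fst G H) ((G ◁ i) ≫ μ[G]) (a.orbitMap o) (a.orbitMap o))
    {T : Over S} (v : T ⟶ G) (hv : v ≫ a.orbitMap o = toUnit T ≫ o) :
    ∃ g : T ⟶ H, g ≫ i = v := by
  have hu : (1 : T ⟶ G) ≫ a.orbitMap o = toUnit T ≫ o := by
    rw [comp_orbitMap, one_psmul]
  obtain ⟨w, hw1, hw2⟩ := sq.exists_lift (1 : T ⟶ G) v (by rw [hu, hv])
  refine ⟨w ≫ snd G H, ?_⟩
  have e : w = lift (1 : T ⟶ G) (w ≫ snd G H) := by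
    apply CartesianMonoidalCategory.hom_ext
    · rw [hw1, lift_fst]
    · rw [lift_snd]
  have e2 : lift (1 : T ⟶ G) (w ≫ snd G H) ≫ (G ◁ i) ≫ μ[G] = 1 * ((w ≫ snd G H) ≫ i) := by
    rw [Hom.mul_def, ← Category.assoc]
    congr 1
    apply CartesianMonoidalCategory.hom_ext <;> simp
  rw [e, e2, _root_.one_mul] at hw2
  exact hw2

end Quot

section Main

variable (k : Type u) [Field k]

lemma unit_comp_orbitMap {S : Scheme.{u}} {G X : Over S} [GrpObj G] (a : AlgGrp.Action G X)
    (o : 𝟙_ (Over S) ⟶ X) : η[G] ≫ a.orbitMap o = o := by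
  have h1 : η[G] = (1 : 𝟙_ (Over S) ⟶ G) := by
    rw [Hom.one_def, toUnit_unique (toUnit (𝟙_ (Over S))) (𝟙 _), Category.id_comp]
  rw [h1, comp_orbitMap, one_psmul, toUnit_unique (toUnit (𝟙_ (Over S))) (𝟙 _), Category.id_comp]

theorem factor_of_quotient_finite (G G₀ H X : Over (Spec (CommRingCat.of k))) [GrpObj G]
    [GrpObj G₀] [GrpObj H] (r₀ : G₀ ⟶ G) [IsReduced G₀.left]
    (t : ↥((𝟙_ (Over (Spec (CommRingCat.of k)))).left))
    (hr₀ : Set.range ⇑r₀.left.base = connectedComponent ((η[G]).left.base t))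
    (h : H ⟶ G) (a : AlgGrp.Action G X) (o : 𝟙_ (Over (Spec (CommRingCat.of k))) ⟶ X)
    (hq : AGF.IsQuotient h X a o) (hfin : IsFinite X.hom) : ∃ g : G₀ ⟶ H, g ≫ h = r₀ := by
  obtain ⟨hft, hflat, hsurj, sq⟩ := hq
  apply exists_of_orbitMap_eq h a o sq r₀
  set π := a.orbitMap o with hπ
  have hdisc : DiscreteTopology X.left := by
    have h4 : IsLocallyArtinian (Spec (CommRingCat.of k)) := by
      rw [Scheme.isLocallyArtinianScheme_Spec]
      infer_instance
    have : IsLocallyArtinian X.left := IsLocallyArtinian.of_locallyQuasiFinite X.hom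
    infer_instance
  have hpre : _root_.IsPreconnected (Set.range r₀.left) := by
    rw [hr₀]
    exact isPreconnected_connectedComponent
  have himg : _root_.IsPreconnected (π.left '' Set.range r₀.left) :=
    hpre.image _ π.left.continuous.continuousOn
  have he : (η[G]).left t ∈ Set.range r₀.left := by
    rw [hr₀]
    exact mem_connectedComponent
  have hπe : π.left ((η[G]).left t) = o.left t := by
    rw [← Scheme.Hom.comp_apply, ← Over.comp_left, unit_comp_orbitMap]
  have hrange : Set.range (r₀ ≫ π).left ⊆ Set.range o.left := by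
    rintro _ ⟨z, rfl⟩
    refine ⟨t, ?_⟩
    rw [← hπe]
    apply himg.subsingleton
    · exact ⟨_, he, rfl⟩
    · rw [Over.comp_left, Scheme.Hom.comp_apply]
      exact ⟨_, ⟨z, rfl⟩, rfl⟩
  have hocl : IsClosedImmersion o.left :=
    isClosedImmersion_of_comp_eq_id (Y := Spec (CommRingCat.of k)) X.hom o.left
      (CategoryTheory.Over.w o)
  obtain ⟨l, hl⟩ := exists_lift_of_isReduced_of_range_subset o.left (r₀ ≫ π).left hrange
  let l' : G₀ ⟶ 𝟙_ (Over (Spec (CommRingCat.of k))) := Over.homMk l (by
    have h1 : o.left ≫ X.hom = (𝟙_ (Over (Spec (CommRingCat.of k)))).hom :=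
      CategoryTheory.Over.w o
    rw [← h1, ← Category.assoc, hl, CategoryTheory.Over.w])
  have hl' : l' ≫ o = r₀ ≫ π := Over.OverMorphism.ext hl
  rw [← hl', toUnit_unique l' (toUnit G₀)]

theorem isFinite_quotient_of_reduced_identity_component
    (G G₀ X : Over (Spec (CommRingCat.of k))) [GrpObj G] [GrpObj G₀]
    [LocallyOfFiniteType G.hom] [QuasiCompact G.hom] (r₀ : G₀ ⟶ G) [IsClosedImmersion r₀.left]
    (t : ↥((𝟙_ (Over (Spec (CommRingCat.of k)))).left))
    (hr₀ : Set.range ⇑r₀.left.base = connectedComponent ((η[G]).left.base t))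
    (a : AlgGrp.Action G X) (o : 𝟙_ (Over (Spec (CommRingCat.of k))) ⟶ X)
    (hq : AGF.IsQuotient r₀ X a o) : IsFinite X.hom := by
  obtain ⟨hft, hflat, hsurj, sq⟩ := hq
  set π := a.orbitMap o with hπ
  let K := AlgebraicClosure k
  set T := specOver k K with hT
  set pt : T.left := IsLocalRing.closedPoint K with hpt
  -- the base change
  have hTsurj : Surjective T.hom := by
    refine ⟨fun y => ⟨IsLocalRing.closedPoint K, ?_⟩⟩
    exact Subsingleton.elim (α := PrimeSpectrum k) _ _
  have hpX_surj : Surjective (snd T X).left := by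
    rw [Over.snd_left]
    infer_instance
  have hπK_surj : Surjective (T ◁ π).left :=
    MorphismProperty.of_isPullback (P := @Surjective) (isPullback_whiskerLeft_snd T π).flip hsurj
  let φ : (T ⊗ G).left ⟶ Spec (CommRingCat.of K) := (fst T G).left
  have hφ : LocallyOfFiniteType φ := locallyOfFiniteType_fst_specOver k K G
  have hφqc : QuasiCompact φ := by
    change QuasiCompact (fst T G).left
    rw [Over.fst_left]
    infer_instance
  have hJ : JacobsonSpace (T ⊗ G).left := LocallyOfFiniteType.jacobsonSpace φ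
  have hNoeth : IsNoetherian (T ⊗ G).left :=
    { toIsLocallyNoetherian := LocallyOfFiniteType.isLocallyNoetherian φ
      toCompactSpace := QuasiCompact.compactSpace_of_compactSpace φ }
  have hNS : TopologicalSpace.NoetherianSpace (T ⊗ G).left := inferInstance
  -- points
  have hπpt : ∀ c : T ⟶ G, (T ◁ π).left ((lift (𝟙 T) c).left pt) = (lift (𝟙 T) (c ≫ π)).left pt := by
    intro c
    have e : lift (𝟙 T) (c ≫ π) = lift (𝟙 T) c ≫ (T ◁ π) := by
      apply CartesianMonoidalCategory.hom_ext <;> simp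
    rw [e, Over.comp_left, Scheme.Hom.comp_apply]
  -- each irreducible component maps to a point
  have key : ∀ Z ∈ irreducibleComponents (T ⊗ G).left,
      ∃ x : (T ⊗ X).left, (T ◁ π).left '' Z ⊆ {x} := by
    intro Z hZ
    have hZcl : IsClosed Z := isClosed_of_mem_irreducibleComponents Z hZ
    have hZirr : IsIrreducible Z := hZ.1
    obtain ⟨w, hwZ, hwc⟩ := nonempty_inter_closedPoints hZirr.nonempty hZcl.isLocallyClosed
    obtain ⟨cw, hcw⟩ := exists_section_of_closed k K G w hwc
    refine ⟨(T ◁ π).left w, ?_⟩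
    have hxcl : IsClosed {(T ◁ π).left w} := by
      rw [← hcw, hπpt]
      exact isClosed_section k K X (cw ≫ π)
    have hFcl : IsClosed ((T ◁ π).left ⁻¹' {(T ◁ π).left w}) :=
      hxcl.preimage (T ◁ π).left.continuous
    -- the translation
    let σ : T ⊗ G ⟶ T ⊗ G := lift (fst T G) ((fst T G ≫ cw⁻¹) * snd T G)
    have hσ : ∀ c' : T ⟶ G, lift (𝟙 T) c' ≫ σ = lift (𝟙 T) (cw⁻¹ * c') := by
      intro c'
      apply CartesianMonoidalCategory.hom_ext
      · simp [σ]
      · simp [σ, MonObj.comp_mul]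
    have hσpt : ∀ c' : T ⟶ G,
        σ.left ((lift (𝟙 T) c').left pt) = (lift (𝟙 T) (cw⁻¹ * c')).left pt := by
      intro c'
      rw [← hσ, Over.comp_left, Scheme.Hom.comp_apply]
    have hP : _root_.IsPreconnected ((snd T G).left '' (σ.left '' Z)) :=
      (hZirr.isConnected.isPreconnected.image _ σ.left.continuous.continuousOn).image _
        (snd T G).left.continuous.continuousOn
    have hunit : (1 : T ⟶ G).left pt = (η[G]).left.base t := by
      rw [Hom.one_def, Over.comp_left, Scheme.Hom.comp_apply]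
      congr 1
      exact Subsingleton.elim (α := PrimeSpectrum k) _ _
    have hsndpt : ∀ c' : T ⟶ G, (snd T G).left ((lift (𝟙 T) c').left pt) = c'.left pt := by
      intro c'
      rw [← Scheme.Hom.comp_apply, ← Over.comp_left, lift_snd]
    have hPe : (η[G]).left.base t ∈ (snd T G).left '' (σ.left '' Z) := by
      refine ⟨_, ⟨w, hwZ, rfl⟩, ?_⟩
      rw [← hcw, hσpt, hsndpt, inv_mul_cancel, hunit]
    have hPsub : (snd T G).left '' (σ.left '' Z) ⊆ Set.range ⇑r₀.left.base := by
      rw [hr₀]
      exact hP.subset_connectedComponent hPe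
    -- closed points of `Z` lie in the fibre
    have hclosed : ∀ z ∈ Z, IsClosed {z} → (T ◁ π).left z = (T ◁ π).left w := by
      intro z hzZ hzc
      obtain ⟨cz, hcz⟩ := exists_section_of_closed k K G z hzc
      have hδ : (cw⁻¹ * cz).left pt ∈ Set.range ⇑r₀.left.base := by
        apply hPsub
        refine ⟨_, ⟨z, hzZ, rfl⟩, ?_⟩
        rw [← hcz, hσpt, hsndpt]
      have hδrange : Set.range (cw⁻¹ * cz).left ⊆ Set.range r₀.left := by
        rintro _ ⟨p, rfl⟩
        have : p = pt := Subsingleton.elim (α := PrimeSpectrum K) _ _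
        rw [this]
        exact hδ
      have hTred : IsReduced T.left := by
        change IsReduced (Spec (CommRingCat.of K))
        infer_instance
      obtain ⟨h₀, hh₀⟩ := exists_lift_of_isReduced_of_range_subset r₀.left (cw⁻¹ * cz).left hδrange
      let h : T ⟶ G₀ := Over.homMk h₀ (by
        rw [← CategoryTheory.Over.w r₀, ← Category.assoc, hh₀, CategoryTheory.Over.w])
      have hh : h ≫ r₀ = cw⁻¹ * cz := Over.OverMorphism.ext hh₀
      have hcz' : cz = cw * (h ≫ r₀) := by rw [hh, mul_inv_cancel_left]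
      rw [← hcz, ← hcw, hπpt, hπpt, hcz', orbitMap_mul_right r₀ a o sq]
    -- conclude
    rintro _ ⟨z, hzZ, rfl⟩
    by_contra hne
    have hlc : IsLocallyClosed (Z ∩ ((T ◁ π).left ⁻¹' {(T ◁ π).left w})ᶜ) :=
      hZcl.isLocallyClosed.inter hFcl.isOpen_compl.isLocallyClosed
    obtain ⟨z', ⟨hz'Z, hz'F⟩, hz'c⟩ := nonempty_inter_closedPoints
      (Z := Z ∩ ((T ◁ π).left ⁻¹' {(T ◁ π).left w})ᶜ) ⟨z, hzZ, hne⟩ hlc
    exact hz'F (hclosed z' hz'Z hz'c)
  -- finiteness
  have hne : Nonempty (T ⊗ X).left := ⟨(lift (𝟙 T) (toUnit T ≫ o)).left pt⟩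
  choose! x hx using key
  have hfinK : Finite (T ⊗ X).left := by
    have hfin : (x '' irreducibleComponents (T ⊗ G).left).Finite :=
      (TopologicalSpace.NoetherianSpace.finite_irreducibleComponents).image x
    refine Set.finite_univ_iff.mp (hfin.subset ?_)
    intro y _
    obtain ⟨z, rfl⟩ := (T ◁ π).left.surjective y
    refine ⟨irreducibleComponent z, irreducibleComponent_mem_irreducibleComponents z, ?_⟩
    exact (hx _ (irreducibleComponent_mem_irreducibleComponents z)
      ⟨z, mem_irreducibleComponent, rfl⟩).symm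
  have hfinX : Finite X.left := Finite.of_surjective _ (snd T X).left.surjective
  exact isFinite_of_finite X.hom

end Main

end Groth.Agent.H90
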