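import Groth.Agent.H90.QuotRedAlg
import Groth.Agent.H90.GrpdRestrict
import Groth.Agent.H90.GrpImage
import Groth.Agent.H13.NoethDescent

set_option autoImplicit false
universe u

open CategoryTheory CategoryTheory.Limits MonoidalCategory CartesianMonoidalCategory MonObj GrpObj
  AlgebraicGeometry

namespace Groth.Agent.H90.QuotRed

section
variable {C : Type*} [Category C] [CartesianMonoidalCategory C] (G : C) [GrpObj G]

/-- `(a, b) ↦ (a b, b)` -/
def sigma : G ⊗ G ⟶ G ⊗ G := lift μ[G] (snd G G)

/-- `(a, b) ↦ (a b⁻¹, b)` -/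
def tau : G ⊗ G ⟶ G ⊗ G := lift (fst G G * (snd G G)⁻¹) (snd G G)

lemma tau_sigma : tau G ≫ sigma G = 𝟙 _ := by
  apply CartesianMonoidalCategory.hom_ext
  · rw [Category.assoc, sigma, lift_fst, Category.id_comp]
    have : μ[G] = fst G G * snd G G := by rw [Hom.mul_def, lift_fst_snd, Category.id_comp]
    rw [this, MonObj.comp_mul, tau, lift_fst, lift_snd, inv_mul_cancel_right]
  · rw [Category.assoc, sigma, lift_snd, tau, lift_snd, Category.id_comp]

end

section
variable {S : Scheme.{u}} {F G X : Over S} [GrpObj G]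

lemma surjective_sigma : Surjective (sigma G).left := by
  have h : (tau G).left ≫ (sigma G).left = 𝟙 _ := by
    rw [← Over.comp_left, tau_sigma]; rfl
  constructor
  intro z
  exact ⟨(tau G).left z, by rw [← Scheme.Hom.comp_apply, h]; rfl⟩

lemma surjective_whiskerRight (u : F ⟶ G) [Surjective u.left] : Surjective (u ▷ G).left :=
  MorphismProperty.of_isPullback (P := @Surjective) (isPullback_whiskerRight_fst G u).flip
    inferInstance

lemma lift_eq (u : F ⟶ G) :
    lift ((u ▷ G) ≫ μ[G]) (snd F G) = (u ▷ G) ≫ sigma G := by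
  apply CartesianMonoidalCategory.hom_ext
  · rw [lift_fst, Category.assoc, sigma, lift_fst]
  · rw [lift_snd, Category.assoc, sigma, lift_snd, whiskerRight_snd]

lemma eq_of_points [Subsingleton S] (u : F ⟶ G) [Surjective u.left] (p : G ⟶ X)
    (hw : ((u ▷ G) ≫ μ[G]) ≫ p = snd F G ≫ p) (g1 g2 : G.left) : p.left g1 = p.left g2 := by
  obtain ⟨z, hz1, hz2⟩ := Scheme.Pullback.exists_preimage_pullback
    (f := G.hom) (g := G.hom) g1 g2 (Subsingleton.elim _ _)
  have hz1' : (fst G G).left z = g1 := hz1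
  have hz2' : (snd G G).left z = g2 := hz2
  have hs1 := surjective_sigma (G := G)
  have hs2 := surjective_whiskerRight (G := G) u
  have hs : Surjective (lift ((u ▷ G) ≫ μ[G]) (snd F G)).left := by
    rw [lift_eq, Over.comp_left]; infer_instance
  obtain ⟨w, hw'⟩ := hs.surj z
  have e1 : g1 = ((u ▷ G) ≫ μ[G]).left w := by
    rw [← hz1', ← hw', ← Scheme.Hom.comp_apply, ← Over.comp_left, lift_fst]
  have e2 : g2 = (snd F G).left w := by
    rw [← hz2', ← hw', ← Scheme.Hom.comp_apply, ← Over.comp_left, lift_snd]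
  rw [e1, e2, ← Scheme.Hom.comp_apply, ← Scheme.Hom.comp_apply, ← Over.comp_left, ← Over.comp_left,
    hw]

end

end Groth.Agent.H90.QuotRed
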