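import Mathlib

set_option autoImplicit false
universe u

namespace Groth.Agent.H90.QuotRed

/-- A Noetherian ring with at most one prime ideal, which is an algebra over a field `k` with a
`k`-rational point, is finite over `k`. -/
theorem finite_of_noeth_one_prime {k A : Type u} [Field k] [CommRing A] [IsNoetherianRing A]
    (φ : k →+* A) (ψ : A →+* k) (hψ : ψ.comp φ = RingHom.id k)
    (h1 : ∀ I J : Ideal A, I.IsPrime → J.IsPrime → I = J) : φ.Finite := by
  algebraize [φ]
  show Module.Finite k A
  have hsurj : Function.Surjective ψ := fun c => ⟨φ c, by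
    have := congrArg (fun f => f c) hψ
    simpa using this⟩
  have hmax : (RingHom.ker ψ).IsMaximal := RingHom.ker_isMaximal_of_surjective ψ hsurj
  have hdim : Ring.KrullDimLE 0 A := by
    rw [Ring.krullDimLE_zero_iff]
    intro I hI
    rw [h1 I (RingHom.ker ψ) hI hmax.isPrime]
    exact hmax
  have hart : IsArtinianRing A :=
    isArtinianRing_iff_isNoetherianRing_krullDimLE_zero.mpr ⟨inferInstance, hdim⟩
  have hjac : RingHom.ker ψ ≤ Ring.jacobson A := by
    rw [Ring.jacobson_eq_sInf_isMaximal]
    refine le_sInf ?_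
    intro I hI
    have hI' : I.IsMaximal := hI
    rw [h1 I (RingHom.ker ψ) hI'.isPrime hmax.isPrime]
  have hfin : Module.Finite k (A ⧸ Ring.jacobson A) := by
    let l : k →ₗ[k] (A ⧸ Ring.jacobson A) :=
      (Algebra.linearMap k (A ⧸ Ring.jacobson A))
    refine Module.Finite.of_surjective l ?_
    intro y
    obtain ⟨a, rfl⟩ := Ideal.Quotient.mk_surjective y
    refine ⟨ψ a, ?_⟩
    show algebraMap k (A ⧸ Ring.jacobson A) (ψ a) = _
    rw [IsScalarTower.algebraMap_apply k A (A ⧸ Ring.jacobson A)]
    show Ideal.Quotient.mk _ (φ (ψ a)) = Ideal.Quotient.mk _ a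
    rw [Ideal.Quotient.eq]
    apply hjac
    rw [RingHom.mem_ker, map_sub]
    have := congrArg (fun f => f (ψ a)) hψ
    simp only [RingHom.comp_apply, RingHom.id_apply] at this
    rw [this, sub_self]
  exact IsSemiprimaryRing.finite_of_isArtinian k A A

end Groth.Agent.H90.QuotRed
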