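import Groth.Agent.H90.QuotRed

set_option autoImplicit false
universe u

open CategoryTheory CategoryTheory.Limits MonoidalCategory CartesianMonoidalCategory MonObj GrpObj
  AlgebraicGeometry

namespace Groth.Agent.H90.QuotRed

theorem S6084_aux (k : Type u) [Field k]
    (F G : Over (Spec (CommRingCat.of k))) [GrpObj G] [LocallyOfFiniteType G.hom]
    (u : F ⟶ G) [Surjective u.left]
    (X : Over (Spec (CommRingCat.of k))) (p : G ⟶ X) [Flat p.left] [Surjective p.left]
    (hw : ((u ▷ G) ≫ μ[G]) ≫ p = snd F G ≫ p) :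
    IsAffine X.left ∧ (∃ x : X.left, (Set.univ : Set X.left) = {x} ∧
        IsIso (X.hom.residueFieldMap x)) ∧
      ((Scheme.ΓSpecIso (CommRingCat.of k)).inv ≫ X.hom.appTop).hom.Finite := by
  have hsub : Subsingleton ↥(Spec (CommRingCat.of k)) :=
    inferInstanceAs (Subsingleton (PrimeSpectrum k))
  let pt : Spec (CommRingCat.of k) := IsLocalRing.closedPoint k
  let g0 : G.left := η[G].left pt
  let x0 : X.left := p.left g0
  have hall : ∀ x : X.left, x = x0 := by
    intro x
    obtain ⟨g, rfl⟩ := p.left.surjective x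
    exact eq_of_points u p hw g g0
  have hsubX : Subsingleton X.left := ⟨fun a b => (hall a).trans (hall b).symm⟩
  have haff : IsAffine X.left := inferInstance
  let s : Spec (CommRingCat.of k) ⟶ X.left := (η[G] ≫ p).left
  have hs : s ≫ X.hom = 𝟙 _ := Over.w (η[G] ≫ p)
  refine ⟨haff, ⟨s pt, ?_, ?_⟩, ?_⟩
  · ext x
    simp only [Set.mem_univ, Set.mem_singleton_iff, true_iff]
    exact Subsingleton.elim _ _
  · have : IsIso (s ≫ X.hom) := by rw [hs]; infer_instance
    exact isIso_residueFieldMap_of_isIso_comp s X.hom pt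
  · obtain ⟨_, ⟨U₀, hU, rfl⟩, hgU, -⟩ := G.left.isBasis_affineOpens.exists_subset_of_mem_open
      (Set.mem_univ g0) isOpen_univ
    let U : G.left.Opens := U₀
    have hgU : g0 ∈ U := hgU
    have hU : IsAffineOpen U := hU
    have hUaff : IsAffine U := hU
    have : IsLocallyNoetherian G.left := LocallyOfFiniteType.isLocallyNoetherian G.hom
    have : IsLocallyNoetherian U := isLocallyNoetherian_of_isOpenImmersion U.ι
    have : Surjective (U.ι ≫ p.left) := ⟨fun x => ⟨⟨g0, hgU⟩, Subsingleton.elim _ _⟩⟩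
    have hN : IsNoetherianRing Γ(X.left, ⊤) :=
      Groth.Agent.H13.isNoetherianRing_of_flat_surjective_quasiCompact' (U.ι ≫ p.left)
    have hsubSpec : Subsingleton (Spec Γ(X.left, ⊤)) :=
      (X.left.isoSpec.inv.homeomorph).injective.subsingleton
    have hone : ∀ I J : Ideal Γ(X.left, ⊤), I.IsPrime → J.IsPrime → I = J := by
      intro I J hI hJ
      have hsubP : Subsingleton (PrimeSpectrum Γ(X.left, ⊤)) := hsubSpec
      have := Subsingleton.elim (⟨I, hI⟩ : PrimeSpectrum Γ(X.left, ⊤)) ⟨J, hJ⟩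
      exact congrArg PrimeSpectrum.asIdeal this
    refine finite_of_noeth_one_prime _
      (s.appTop ≫ (Scheme.ΓSpecIso (CommRingCat.of k)).hom).hom ?_ hone
    have e : ((Scheme.ΓSpecIso (CommRingCat.of k)).inv ≫ X.hom.appTop) ≫
        (s.appTop ≫ (Scheme.ΓSpecIso (CommRingCat.of k)).hom) = 𝟙 _ := by
      rw [Category.assoc, ← Category.assoc X.hom.appTop, ← Scheme.Hom.comp_appTop, hs,
        Scheme.Hom.id_appTop, Category.id_comp, Iso.inv_hom_id]
    have e' := congrArg CommRingCat.Hom.hom e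
    rw [CommRingCat.hom_comp, CommRingCat.hom_id] at e'
    exact e'

end Groth.Agent.H90.QuotRed
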