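import Groth.Agent.H90.RatDenseAlg
import Groth.Agent.H13.ReducedBC

set_option autoImplicit false
universe u

open CategoryTheory CategoryTheory.Limits AlgebraicGeometry TensorProduct

namespace Groth.Agent.H90.RatDense

variable (k : Type u) [Field k]

/-- Affine case: a reduced affine `k`-scheme with a dense set of `k`-rational points stays reduced
after any field extension. -/
theorem isReduced_pullback_of_dense_sections_affine (K : Type u) [Field K] [Algebra k K]
    {W : Scheme.{u}} [IsAffine W] [IsReduced W] (a : W ⟶ Spec (CommRingCat.of k))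
    (Sg : Set (Spec (CommRingCat.of k) ⟶ W)) (hSg : ∀ σ ∈ Sg, σ ≫ a = 𝟙 _)
    (hd : Dense ((fun σ : Spec (CommRingCat.of k) ⟶ W => σ (IsLocalRing.closedPoint k)) '' Sg)) :
    IsReduced (pullback a (Spec.map (CommRingCat.ofHom (algebraMap k K)))) := by
  rw [Groth.Agent.H13.isReduced_pullback_iff_isReduced_tensor k a K]
  let _ := Groth.Agent.H13.algebraOfHom k a
  have hcomp : ∀ σ ∈ Sg, ((Scheme.ΓSpecIso (CommRingCat.of k)).inv ≫ a.appTop) ≫
      (σ.appTop ≫ (Scheme.ΓSpecIso (CommRingCat.of k)).hom) = 𝟙 _ := by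
    intro σ hσ
    rw [Category.assoc, ← Category.assoc a.appTop, ← Scheme.Hom.comp_appTop, hSg σ hσ,
      Scheme.Hom.id_appTop, Category.id_comp, Iso.inv_hom_id]
  let ev : Sg → (Γ(W, ⊤) →ₐ[k] k) := fun σ =>
    { toRingHom := (σ.1.appTop ≫ (Scheme.ΓSpecIso (CommRingCat.of k)).hom).hom
      commutes' := by
        intro c
        have h := congrArg (fun f => f.hom c) (hcomp σ.1 σ.2)
        change (σ.1.appTop ≫ (Scheme.ΓSpecIso (CommRingCat.of k)).hom).hom
          (((Scheme.ΓSpecIso (CommRingCat.of k)).inv ≫ a.appTop).hom c) = c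
        simpa using h }
  refine isReduced_tensor_of_jointly_injective k Γ(W, ⊤) K ev ?_
  intro s hs
  rw [← basicOpen_eq_bot_iff]
  by_contra hne
  have hne' : (W.basicOpen s : Set W).Nonempty := by
    rw [Set.nonempty_iff_ne_empty]
    intro h
    exact hne (TopologicalSpace.Opens.ext h)
  obtain ⟨x, hx, ⟨σ, hσ, rfl⟩⟩ := hd.inter_open_nonempty _ (W.basicOpen s).2 hne'
  have h1 : IsLocalRing.closedPoint k ∈ σ ⁻¹ᵁ W.basicOpen s := hx
  rw [Scheme.preimage_basicOpen_top] at h1
  have h2 : σ.appTop s = 0 := by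
    have h3 : (σ.appTop ≫ (Scheme.ΓSpecIso (CommRingCat.of k)).hom) s = 0 := hs ⟨σ, hσ⟩
    have h4 := congrArg (Scheme.ΓSpecIso (CommRingCat.of k)).inv h3
    simpa using h4
  rw [h2, Scheme.basicOpen_zero] at h1
  exact h1

/-- A reduced `k`-scheme with a dense set of `k`-rational points is geometrically reduced. -/
theorem geometricallyReduced_of_dense_sections {Z : Scheme.{u}} [IsReduced Z]
    (f : Z ⟶ Spec (CommRingCat.of k))
    (Sg : Set (Spec (CommRingCat.of k) ⟶ Z)) (hSg : ∀ σ ∈ Sg, σ ≫ f = 𝟙 _)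
    (hd : Dense ((fun σ : Spec (CommRingCat.of k) ⟶ Z => σ (IsLocalRing.closedPoint k)) '' Sg)) :
    GeometricallyReduced f := by
  rw [geometricallyReduced_iff]
  intro K _ y Z' fst snd hpb
  obtain ⟨φ, rfl⟩ := Spec.map_surjective y
  algebraize [φ.hom]
  have hφ : φ = CommRingCat.ofHom (algebraMap k K) := rfl
  suffices h : IsReduced (pullback f (Spec.map φ)) from
    isReduced_of_isOpenImmersion hpb.isoPullback.hom
  rw [hφ]
  apply +allowSynthFailures @IsReduced.of_openCover
    (𝒰 := Scheme.Pullback.openCoverOfLeft Z.affineCover f _)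
  intro i
  have : IsReduced (Z.affineCover.X i) := isReduced_of_isOpenImmersion (Z.affineCover.f i)
  -- sections through the `i`-th chart
  let j := Z.affineCover.f i
  let Sgi : Set (Spec (CommRingCat.of k) ⟶ Z.affineCover.X i) := {τ | τ ≫ j ∈ Sg}
  refine isReduced_pullback_of_dense_sections_affine k K (j ≫ f) Sgi ?_ ?_
  · intro τ hτ
    rw [← Category.assoc]
    exact hSg _ hτ
  · rw [dense_iff_inter_open]
    intro V hV hVne
    have hjV : IsOpen (j '' V) := j.isOpenEmbedding.isOpenMap V hV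
    obtain ⟨x, hxV, ⟨σ, hσ, rfl⟩⟩ := hd.inter_open_nonempty _ hjV (hVne.image _)
    obtain ⟨v, hvV, hv⟩ := hxV
    -- lift σ through j
    have hrange : Set.range σ ⊆ Set.range j := by
      rintro _ ⟨p, rfl⟩
      have : p = IsLocalRing.closedPoint k := Subsingleton.elim (α := PrimeSpectrum k) _ _
      rw [this]
      exact ⟨v, hv⟩
    let τ := IsOpenImmersion.lift j σ hrange
    have hτ : τ ≫ j = σ := IsOpenImmersion.lift_fac j σ hrange
    refine ⟨v, hvV, ⟨τ, ?_, ?_⟩⟩
    · change τ ≫ j ∈ Sg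
      rw [hτ]; exact hσ
    · apply j.isOpenEmbedding.injective
      change j (τ (IsLocalRing.closedPoint k)) = j v
      rw [← Scheme.Hom.comp_apply, hτ, hv]

end Groth.Agent.H90.RatDense
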