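import Mathlib

set_option autoImplicit false
universe u v w

open TensorProduct

namespace Groth.Agent.H90.RatDense

/-- If the `k`-points `ev i : A →ₐ[k] k` of a `k`-algebra `A` are jointly injective, then
`A ⊗[k] K` is reduced for every field extension `K` of `k`. -/
theorem isReduced_tensor_of_jointly_injective (k : Type u) (A : Type v) (K : Type w)
    [Field k] [CommRing A] [Algebra k A] [Field K] [Algebra k K]
    {I : Type*} (ev : I → (A →ₐ[k] k)) (hev : ∀ a : A, (∀ i, ev i a = 0) → a = 0) :
    IsReduced (A ⊗[k] K) := by
  classical
  let b := Module.Free.chooseBasis k K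
  let B : Module.Basis _ A (A ⊗[k] K) := Algebra.TensorProduct.basis A b
  let φ : I → (A ⊗[k] K →ₐ[k] K) := fun i =>
    Algebra.TensorProduct.productMap ((Algebra.ofId k K).comp (ev i)) (AlgHom.id k K)
  have hφsmul : ∀ (i : I) (a : A) (x : A ⊗[k] K), φ i (a • x) = (ev i a) • φ i x := by
    intro i a x
    have : a • x = (a ⊗ₜ[k] (1 : K)) * x := by
      induction x using TensorProduct.induction_on with
      | zero => simp
      | tmul a' c => simp [TensorProduct.smul_tmul', Algebra.TensorProduct.tmul_mul_tmul]
      | add x y hx hy => rw [smul_add, mul_add, hx, hy]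
    rw [this, map_mul]
    simp only [φ, Algebra.TensorProduct.productMap_apply_tmul, AlgHom.comp_apply, map_one,
      mul_one, Algebra.ofId_apply, Algebra.smul_def]
  have hφB : ∀ (i : I) j, φ i (B j) = b j := by
    intro i j
    simp [φ, B, Algebra.TensorProduct.basis_apply]
  have hφ : ∀ (i : I) (t : A ⊗[k] K),
      φ i t = Finsupp.linearCombination k b ((B.repr t).mapRange (ev i) (map_zero _)) := by
    intro i t
    conv_lhs => rw [← B.linearCombination_repr t]
    rw [Finsupp.linearCombination_apply, Finsupp.linearCombination_apply, map_finsuppSum,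
      Finsupp.sum_mapRange_index (fun j => zero_smul k (b j))]
    refine Finsupp.sum_congr fun j _ => ?_
    rw [hφsmul, hφB]
  constructor
  intro t ht
  have hzero : ∀ i, φ i t = 0 := fun i => (ht.map (φ i)).eq_zero
  have hrepr : B.repr t = 0 := by
    ext j
    apply hev
    intro i
    have h1 := hzero i
    rw [hφ] at h1
    have h2 := (linearIndependent_iff.mp b.linearIndependent) _ h1
    have h3 := DFunLike.congr_fun h2 j
    simpa using h3
  exact (B.repr.map_eq_zero_iff).mp hrepr

end Groth.Agent.H90.RatDense
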