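import Mathlib

set_option autoImplicit false

universe u v

namespace Groth.Agent.H90

open IsLocalRing

/-- descent of linear independence in cotangent spaces along a local homomorphism -/
theorem cotangent_linearIndependent_of_map {B A : Type*} [CommRing B] [CommRing A]
    [IsLocalRing B] [IsLocalRing A] (ψ : B →+* A) (hψ : ∀ x : B, IsUnit (ψ x) → IsUnit x)
    {ι : Type*} [Fintype ι] (x : ι → maximalIdeal B) (y : ι → maximalIdeal A)
    (hxy : ∀ i, ψ (x i : B) = (y i : A))
    (hy : LinearIndependent (ResidueField A) (⇑(maximalIdeal A).toCotangent ∘ y)) :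
    LinearIndependent (ResidueField B) (⇑(maximalIdeal B).toCotangent ∘ x) := by
  classical
  rw [Fintype.linearIndependent_iff] at hy ⊢
  intro g hg
  -- lift the coefficients
  have hlift : ∀ i, ∃ α : B, residue B α = g i := fun i => residue_surjective (g i)
  choose α hα using hlift
  have hψmem : ∀ b : B, b ∈ maximalIdeal B → ψ b ∈ maximalIdeal A := by
    intro b hb
    rw [mem_maximalIdeal, mem_nonunits_iff] at hb ⊢
    exact fun h => hb (hψ b h)
  -- the relation in `B`
  have h1 : (maximalIdeal B).toCotangent (∑ i, α i • x i) = 0 := by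
    rw [map_sum, ← hg]
    apply Finset.sum_congr rfl
    intro i _
    rw [Function.comp_apply, map_smul, ← hα i]
    rfl
  rw [Ideal.toCotangent_eq_zero] at h1
  -- push to `A`
  have h2 : ψ ((∑ i, α i • x i : maximalIdeal B) : B) ∈ (maximalIdeal A) ^ 2 := by
    have hmap : ((maximalIdeal B) ^ 2).map ψ ≤ (maximalIdeal A) ^ 2 := by
      rw [Ideal.map_pow]
      apply Ideal.pow_right_mono
      rw [Ideal.map_le_iff_le_comap]
      intro b hb
      exact hψmem b hb
    exact hmap (Ideal.mem_map_of_mem ψ h1)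
  have h3 : ψ ((∑ i, α i • x i : maximalIdeal B) : B)
      = ((∑ i, ψ (α i) • y i : maximalIdeal A) : A) := by
    rw [Submodule.coe_sum, Submodule.coe_sum, map_sum]
    apply Finset.sum_congr rfl
    intro i _
    rw [Submodule.coe_smul, Submodule.coe_smul, smul_eq_mul, smul_eq_mul, map_mul, hxy]
  rw [h3, ← Ideal.toCotangent_eq_zero, map_sum] at h2
  have h4 : ∑ i, residue A (ψ (α i)) • (⇑(maximalIdeal A).toCotangent ∘ y) i = 0 := by
    rw [← h2]
    apply Finset.sum_congr rfl
    intro i _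
    rw [Function.comp_apply, map_smul]
    rfl
  intro i
  have h5 := hy _ h4 i
  rw [residue_eq_zero_iff] at h5
  rw [← hα i, residue_eq_zero_iff]
  by_contra hni
  rw [mem_maximalIdeal, mem_nonunits_iff, not_not] at hni
  rw [mem_maximalIdeal, mem_nonunits_iff] at h5
  exact h5 (hni.map ψ)

section colim

variable {A : Type u} [CommRing A]
    {ι : Type v} [Preorder ι] [IsDirected ι (· ≤ ·)]
    (B : ι → Type u) [∀ j, CommRing (B j)]
    (φ : ∀ i j, i ≤ j → (B i →+* B j)) (hφloc : ∀ i j (h : i ≤ j), IsLocalHom (φ i j h))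
    (hφ : ∀ i j l (hij : i ≤ j) (hjl : j ≤ l), (φ j l hjl).comp (φ i j hij) = φ i l (hij.trans hjl))
    (ψ : ∀ j, B j →+* A) (hψ : ∀ i j (h : i ≤ j), (ψ j).comp (φ i j h) = ψ i)
    (hsurj : ∀ a : A, ∃ j, ∃ x : B j, ψ j x = a)
    (hker : ∀ j (x : B j), ψ j x = 0 → ∃ l, ∃ h : j ≤ l, φ j l h x = 0)

include hφloc hφ hψ hsurj hker in
/-- the maps to the colimit reflect units -/
theorem isUnit_of_isUnit_colim (j : ι) (x : B j) (hx : IsUnit (ψ j x)) : IsUnit x := by
  obtain ⟨a, ha⟩ := hx.exists_right_inv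
  obtain ⟨l, y, hy⟩ := hsurj a
  obtain ⟨m, hjm, hlm⟩ := exists_ge_ge j l
  have h1 : ψ m (φ j m hjm x * φ l m hlm y - 1) = 0 := by
    have e1 : ψ m (φ j m hjm x) = ψ j x := by rw [← RingHom.comp_apply, hψ]
    have e2 : ψ m (φ l m hlm y) = ψ l y := by rw [← RingHom.comp_apply, hψ]
    rw [map_sub, map_mul, map_one, e1, e2, hy, ha, sub_self]
  obtain ⟨n, hmn, hz⟩ := hker m _ h1
  rw [map_sub, map_mul, map_one, sub_eq_zero] at hz
  have e3 : φ m n hmn (φ j m hjm x) = φ j n (hjm.trans hmn) x := by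
    rw [← RingHom.comp_apply, hφ]
  rw [e3] at hz
  have hu : IsUnit (φ j n (hjm.trans hmn) x) := IsUnit.of_mul_eq_one _ hz
  exact (hφloc j n (hjm.trans hmn)).map_nonunit x hu

variable [IsLocalRing A] [Nonempty ι] [∀ j, IsLocalRing (B j)]

include hφloc hφ hψ hsurj hker in
theorem regColim
    (c d : ℕ) (f : Fin c → maximalIdeal A) (g : Fin d → maximalIdeal A)
    (hind : LinearIndependent (ResidueField A)
      (⇑(maximalIdeal A).toCotangent ∘ Sum.elim f g)) :
    ∃ j₀ : ι, ∃ (P : ∀ j, j₀ ≤ j → Ideal (B j)) (Q : ∀ j, j₀ ≤ j → Ideal (B j)),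
      (∀ j (hj : j₀ ≤ j), ∃ (F : Fin c → maximalIdeal (B j)) (E : Fin d → maximalIdeal (B j)),
        LinearIndependent (ResidueField (B j))
          (⇑(maximalIdeal (B j)).toCotangent ∘ Sum.elim F E) ∧
        P j hj = Ideal.span (Set.range (fun s => (F s : B j))) ∧
        Q j hj = P j hj ⊔ Ideal.span (Set.range (fun t => (E t : B j)))) ∧
      (∀ i j (hi : j₀ ≤ i) (hij : i ≤ j),
        (P i hi).map (φ i j hij) = P j (le_trans hi hij) ∧
          (Q i hi).map (φ i j hij) = Q j (le_trans hi hij)) ∧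
      (∀ j (hj : j₀ ≤ j),
        (P j hj).map (ψ j) = Ideal.span (Set.range (fun s => (f s : A))) ∧
        (Q j hj).map (ψ j) = Ideal.span (Set.range (fun s => (f s : A))) ⊔
          Ideal.span (Set.range (fun t => (g t : A)))) := by
  classical
  have hunit := isUnit_of_isUnit_colim B φ hφloc hφ ψ hψ hsurj hker
  -- lifts of all the elements
  let y : Fin c ⊕ Fin d → maximalIdeal A := Sum.elim f g
  have hl : ∀ k : Fin c ⊕ Fin d, ∃ j, ∃ x : B j, ψ j x = (y k : A) :=
    fun k => hsurj _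
  choose jk xk hxk using hl
  obtain ⟨j₀, hj₀⟩ := Finset.exists_le (Finset.univ.image jk)
  have hjk : ∀ k, jk k ≤ j₀ := fun k => hj₀ _ (Finset.mem_image_of_mem jk (Finset.mem_univ k))
  let X0 : Fin c ⊕ Fin d → B j₀ := fun k => φ (jk k) j₀ (hjk k) (xk k)
  have hX0 : ∀ k, ψ j₀ (X0 k) = (y k : A) := by
    intro k
    show ψ j₀ (φ (jk k) j₀ (hjk k) (xk k)) = _
    rw [← RingHom.comp_apply, hψ, hxk]
  let X : ∀ j, j₀ ≤ j → Fin c ⊕ Fin d → B j := fun j hj k => φ j₀ j hj (X0 k)
  have hX : ∀ j (hj : j₀ ≤ j) k, ψ j (X j hj k) = (y k : A) := by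
    intro j hj k
    show ψ j (φ j₀ j hj (X0 k)) = _
    rw [← RingHom.comp_apply, hψ, hX0]
  have hXmem : ∀ j (hj : j₀ ≤ j) k, X j hj k ∈ maximalIdeal (B j) := by
    intro j hj k
    rw [mem_maximalIdeal, mem_nonunits_iff]
    intro hu
    have h1 : IsUnit (ψ j (X j hj k)) := hu.map (ψ j)
    rw [hX] at h1
    have h2 : (y k : A) ∈ maximalIdeal A := (y k).2
    rw [mem_maximalIdeal, mem_nonunits_iff] at h2
    exact h2 h1
  have hXφ : ∀ i j (hi : j₀ ≤ i) (hij : i ≤ j) k,
      φ i j hij (X i hi k) = X j (le_trans hi hij) k := by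
    intro i j hi hij k
    show φ i j hij (φ j₀ i hi (X0 k)) = φ j₀ j (le_trans hi hij) (X0 k)
    rw [← RingHom.comp_apply, hφ]
  refine ⟨j₀, fun j hj => Ideal.span (Set.range (fun s => X j hj (Sum.inl s))),
    fun j hj => Ideal.span (Set.range (fun s => X j hj (Sum.inl s))) ⊔
      Ideal.span (Set.range (fun t => X j hj (Sum.inr t))), ?_, ?_, ?_⟩
  · intro j hj
    refine ⟨fun s => ⟨X j hj (Sum.inl s), hXmem j hj _⟩,
      fun t => ⟨X j hj (Sum.inr t), hXmem j hj _⟩, ?_, rfl, rfl⟩
    apply cotangent_linearIndependent_of_map (ψ j) (hunit j) _ (Sum.elim f g) _ hind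
    intro k
    cases k with
    | inl s => exact hX j hj (Sum.inl s)
    | inr t => exact hX j hj (Sum.inr t)
  · intro i j hi hij
    have e1 : (Ideal.span (Set.range (fun s => X i hi (Sum.inl s)))).map (φ i j hij)
        = Ideal.span (Set.range (fun s => X j (le_trans hi hij) (Sum.inl s))) := by
      rw [Ideal.map_span, ← Set.range_comp]
      congr 2
      funext s
      exact hXφ i j hi hij _
    have e2 : (Ideal.span (Set.range (fun t => X i hi (Sum.inr t)))).map (φ i j hij)
        = Ideal.span (Set.range (fun t => X j (le_trans hi hij) (Sum.inr t))) := by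
      rw [Ideal.map_span, ← Set.range_comp]
      congr 2
      funext t
      exact hXφ i j hi hij _
    refine ⟨e1, ?_⟩
    rw [Ideal.map_sup, e1, e2]
  · intro j hj
    have e1 : (Ideal.span (Set.range (fun s => X j hj (Sum.inl s)))).map (ψ j)
        = Ideal.span (Set.range (fun s => (f s : A))) := by
      rw [Ideal.map_span, ← Set.range_comp]
      congr 2
      funext s
      exact hX j hj (Sum.inl s)
    have e2 : (Ideal.span (Set.range (fun t => X j hj (Sum.inr t)))).map (ψ j)
        = Ideal.span (Set.range (fun t => (g t : A))) := by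
      rw [Ideal.map_span, ← Set.range_comp]
      congr 2
      funext t
      exact hX j hj (Sum.inr t)
    refine ⟨e1, ?_⟩
    rw [Ideal.map_sup, e1, e2]

end colim

end Groth.Agent.H90
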