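import Groth.Agent.H90.SchDenseHom
import Groth.Agent.H90.SchDenseEq
import Groth.Agent.H19.SchDense
import Mathlib.AlgebraicGeometry.Morphisms.FlatMono

set_option autoImplicit false
set_option linter.style.haveILetI false

universe u

open CategoryTheory CategoryTheory.Limits AlgebraicGeometry

namespace Groth.Agent.H90

/-- If `V ⊆ f⁻¹ U` is a dense open with `V ⟶ U` an isomorphism and `f` separated,
then `V = f⁻¹ U`. -/
theorem preimage_le_of_isIso_resLE {X S : Scheme.{u}} (f : X ⟶ S) [IsSeparated f]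
    (U : S.Opens) (V : X.Opens) (hdense : Dense (V : Set X))
    (hle : V ≤ f ⁻¹ᵁ U) [hiso : IsIso (f.resLE U V hle)] : f ⁻¹ᵁ U ≤ V := by
  let fU : (f ⁻¹ᵁ U).toScheme ⟶ U.toScheme := f ∣_ U
  let j : V.toScheme ⟶ (f ⁻¹ᵁ U).toScheme := X.homOfLE hle
  have hj : j ≫ fU = f.resLE U V hle := rfl
  let σ : U.toScheme ⟶ (f ⁻¹ᵁ U).toScheme := inv (f.resLE U V hle) ≫ j
  have hσ : σ ≫ fU = 𝟙 _ := by
    simp only [σ, Category.assoc, hj, IsIso.inv_hom_id]
  have hsep : IsSeparated fU := inferInstance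
  have hci : IsClosedImmersion σ := by
    have : IsClosedImmersion (σ ≫ fU) := by rw [hσ]; infer_instance
    exact IsClosedImmersion.of_comp σ fU
  have hcl : IsClosed (Set.range σ.base) := σ.isClosedEmbedding.isClosed_range
  have hrange : Set.range σ.base = Set.range j.base := by
    apply le_antisymm
    · rintro _ ⟨u, rfl⟩
      exact ⟨(inv (f.resLE U V hle)).base u, by simp only [σ, Scheme.Hom.comp_apply]⟩
    · rintro _ ⟨v, rfl⟩
      refine ⟨(f.resLE U V hle).base v, ?_⟩
      simp only [σ]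
      rw [← Scheme.Hom.comp_apply, ← Category.assoc, IsIso.hom_inv_id, Category.id_comp]
  have hjι : j ≫ (f ⁻¹ᵁ U).ι = V.ι := X.homOfLE_ι hle
  intro x hx
  by_contra hxV
  let x' : (f ⁻¹ᵁ U).toScheme := ⟨x, hx⟩
  have hx' : x' ∉ Set.range σ.base := by
    rw [hrange]
    rintro ⟨v, hv⟩
    apply hxV
    have h1 : (f ⁻¹ᵁ U).ι.base (j.base v) = x := by rw [hv]; rfl
    rw [← Scheme.Hom.comp_apply, hjι] at h1
    rw [← h1]
    exact v.2
  let O : Set X := (f ⁻¹ᵁ U).ι.base '' (Set.range σ.base)ᶜ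
  have hO : IsOpen O := (f ⁻¹ᵁ U).ι.isOpenEmbedding.isOpenMap _ hcl.isOpen_compl
  have hxO : x ∈ O := ⟨x', hx', rfl⟩
  obtain ⟨y, hyO, hyV⟩ := hdense.inter_open_nonempty O hO ⟨x, hxO⟩
  obtain ⟨y', hy', rfl⟩ := hyO
  apply hy'
  rw [hrange]
  refine ⟨⟨_, hyV⟩, ?_⟩
  apply (f ⁻¹ᵁ U).ι.isOpenEmbedding.injective
  rw [← Scheme.Hom.comp_apply, hjι]
  rfl

/-- A faithfully flat, quasi-compact, separated morphism which is an isomorphism from a
retrocompact schematically dense open onto an open of the target is an isomorphism. -/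
theorem isIso_of_flat_of_schematically_birational {X S : Scheme.{u}} (f : X ⟶ S)
    [Flat f] [Surjective f] [QuasiCompact f] [IsSeparated f]
    (U : S.Opens) (V : X.Opens) [QuasiCompact V.ι]
    (hV : CInt.IsSchematicallyDense V)
    (hle : V ≤ f ⁻¹ᵁ U) [hiso : IsIso (f.resLE U V hle)] : IsIso f := by
  have hdense : Dense (V : Set X) := dense_of_isSchematicallyDense V hV
  have hUV : f ⁻¹ᵁ U ≤ V := preimage_le_of_isIso_resLE f U V hdense hle
  let W : (pullback f f).Opens := (pullback.fst f f) ⁻¹ᵁ V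
  have hW : CInt.IsSchematicallyDense W :=
    Groth.Agent.H19.isSchematicallyDense_preimage_of_flat (pullback.fst f f) V hV
  have hab : W.ι ≫ pullback.fst f f = W.ι ≫ pullback.snd f f := by
    have ha : Set.range (W.ι ≫ pullback.fst f f).base ⊆ Set.range V.ι.base := by
      rintro _ ⟨w, rfl⟩
      rw [Scheme.Opens.range_ι]
      exact w.2
    have hb : Set.range (W.ι ≫ pullback.snd f f).base ⊆ Set.range V.ι.base := by
      rintro _ ⟨w, rfl⟩
      rw [Scheme.Opens.range_ι]
      apply hUV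
      change f.base ((W.ι ≫ pullback.snd f f).base w) ∈ U
      rw [← Scheme.Hom.comp_apply, Category.assoc, ← pullback.condition, ← Category.assoc,
        Scheme.Hom.comp_apply]
      exact hle w.2
    let a' := IsOpenImmersion.lift V.ι (W.ι ≫ pullback.fst f f) ha
    let b' := IsOpenImmersion.lift V.ι (W.ι ≫ pullback.snd f f) hb
    have hfa : a' ≫ V.ι = W.ι ≫ pullback.fst f f := IsOpenImmersion.lift_fac _ _ ha
    have hfb : b' ≫ V.ι = W.ι ≫ pullback.snd f f := IsOpenImmersion.lift_fac _ _ hb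
    have h' : a' = b' := by
      rw [← cancel_mono (f.resLE U V hle), ← cancel_mono U.ι]
      simp only [Category.assoc, Scheme.Hom.resLE_comp_ι]
      rw [← Category.assoc, ← Category.assoc, hfa, hfb, Category.assoc, Category.assoc,
        pullback.condition]
    rw [← hfa, ← hfb, h']
  have hΔ : IsIso (pullback.diagonal f) := by
    refine isIso_of_isClosedImmersion_of_isSchematicallyDense (pullback.diagonal f) W hW
      (W.ι ≫ pullback.fst f f) ?_
    apply pullback.hom_ext
    · simp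
    · simp [hab]
  have : Mono f := (pullback.isIso_diagonal_iff f).mp hΔ
  exact Flat.isIso_of_surjective_of_mono f

end Groth.Agent.H90
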