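import Mathlib
import Groth.Agent.H90.EquivFlat
import Groth.Agent.H90.ImageSmooth
import Groth.Agent.H11.SepPointsSch
import Groth.Agent.H25.SmoothDense
import Groth.Agent.H53.ReducedSm

/-!
`K`-points of `k`-schemes for a field extension `K/k`: density (for `K` separably closed and smooth
or geometrically reduced schemes) and consequences (factorisation through closed subschemes).
-/

set_option autoImplicit false

universe u

namespace Groth.Agent.H90

open CategoryTheory MonoidalCategory CartesianMonoidalCategory MonObj GrpObj AlgebraicGeometry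
open Limits

namespace SepClosedDense

variable (k K : Type u) [Field k] [Field K] [Algebra k K]

lemma flat_specOver_hom : Flat (specOver k K).hom := by
  change Flat (Spec.map (CommRingCat.ofHom (algebraMap k K)))
  rw [HasRingHomProperty.Spec_iff (P := @Flat)]
  change (algebraMap k K).Flat
  rw [RingHom.flat_algebraMap_iff]
  infer_instance

lemma surjective_specOver_hom : Surjective (specOver k K).hom := by
  refine ⟨fun y => ⟨IsLocalRing.closedPoint K, ?_⟩⟩
  exact Subsingleton.elim (α := PrimeSpectrum k) _ _

lemma quasiCompact_specOver_hom : QuasiCompact (specOver k K).hom := by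
  change QuasiCompact (Spec.map (CommRingCat.ofHom (algebraMap k K)))
  infer_instance

variable (W : Over (Spec (CommRingCat.of k)))

lemma fpqc_snd : (@Surjective ⊓ @Flat ⊓ @QuasiCompact : MorphismProperty Scheme.{u})
    (snd (specOver k K) W).left := by
  have h1 := flat_specOver_hom k K
  have h2 := surjective_specOver_hom k K
  have h3 := quasiCompact_specOver_hom k K
  rw [Over.snd_left]
  exact ⟨⟨inferInstance, inferInstance⟩, inferInstance⟩

/-- The points of the base change `W_K` underlying the `K`-points of `W`. -/
def ratPts : Set (specOver k K ⊗ W).left :=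
  {p | ∃ ζ : specOver k K ⟶ W, (lift (𝟙 _) ζ).left (IsLocalRing.closedPoint K) = p}

variable {W}

/-- If the `K`-points of `W` are dense in the reduced scheme `W_K` and all of them are carried
into the closed subscheme `Z` of `Y` by `f : W ⟶ Y`, then `f` factors through `Z`. -/
theorem exists_fac_of_dense {Y Z : Over (Spec (CommRingCat.of k))} (f : W ⟶ Y) (c : Z ⟶ Y)
    [IsClosedImmersion c.left] [IsReduced (specOver k K ⊗ W).left]
    (hD : Dense (ratPts k K W))
    (h : ∀ ζ : specOver k K ⟶ W, ∃ z : specOver k K ⟶ Z, z ≫ c = ζ ≫ f) :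
    ∃ g : W ⟶ Z, g ≫ c = f := by
  set T := specOver k K with hT
  let q : (T ⊗ W).left ⟶ W.left := (snd T W).left
  let g₀ : pullback f.left c.left ⟶ W.left := pullback.fst f.left c.left
  have hq := fpqc_snd k K W
  -- the base change of `g₀` is a surjective closed immersion
  have hci : IsClosedImmersion (pullback.fst q g₀) := inferInstance
  have hsurj : Surjective (pullback.fst q g₀) := by
    have hcl : IsClosed (Set.range (pullback.fst q g₀)) :=
      (pullback.fst q g₀).isClosedEmbedding.isClosed_range
    have hsub : ratPts k K W ⊆ Set.range (pullback.fst q g₀) := by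
      rintro p ⟨ζ, rfl⟩
      obtain ⟨z, hz⟩ := h ζ
      have e1 : ζ.left ≫ f.left = z.left ≫ c.left := by
        rw [← Over.comp_left, ← Over.comp_left, hz]
      let a : T.left ⟶ pullback f.left c.left := pullback.lift ζ.left z.left e1
      have e2 : (lift (𝟙 T) ζ).left ≫ q = a ≫ g₀ := by
        simp only [q, a, g₀]
        rw [← Over.comp_left, lift_snd, pullback.lift_fst]
      refine ⟨(pullback.lift (lift (𝟙 T) ζ).left a e2) (IsLocalRing.closedPoint K), ?_⟩
      rw [← Scheme.Hom.comp_apply, pullback.lift_fst]
    have : Set.range (pullback.fst q g₀) = Set.univ :=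
      Set.eq_univ_of_univ_subset (by
        rw [← hD.closure_eq]
        exact closure_minimal hsub hcl)
    exact ⟨fun x => by
      have hx : x ∈ Set.range (pullback.fst q g₀) := by rw [this]; trivial
      exact hx⟩
  have hiso : IsIso (pullback.fst q g₀) := isIso_of_isClosedImmersion_of_surjective _
  have hg₀ : IsIso g₀ :=
    MorphismProperty.of_pullback_fst_of_descendsAlong (P := MorphismProperty.isomorphisms Scheme.{u})
      (Q := @Surjective ⊓ @Flat ⊓ @QuasiCompact) (f := q) (g := g₀) hq hiso
  let g₁ : W.left ⟶ Z.left := inv g₀ ≫ pullback.snd f.left c.left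
  have hg₁ : g₁ ≫ c.left = f.left := by
    simp only [g₁, Category.assoc]
    rw [← pullback.condition, ← Category.assoc, IsIso.inv_hom_id, Category.id_comp]
  refine ⟨Over.homMk g₁ ?_, Over.OverMorphism.ext hg₁⟩
  rw [← Over.w c, ← Category.assoc, hg₁, Over.w f]

section Sections

variable {K}

/-- The composite of `Spec κ(x) ⟶ X` with the structure morphism of a `K`-scheme. -/
lemma fromSpecResidueField_comp_over (X : Scheme.{u}) [X.Over (Spec (CommRingCat.of K))] (x : X) :
    X.fromSpecResidueField x ≫ (X ↘ Spec (CommRingCat.of K)) =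
      Spec.map (CommRingCat.ofHom
        (letI := Curv2.resAlgebra K X x; algebraMap K (X.residueField x))) := by
  have h1 : (X ↘ Spec (CommRingCat.of K)) = X.toSpecΓ ≫
      Spec.map (X ↘ Spec (CommRingCat.of K)).appTop ≫
        Spec.map (Scheme.ΓSpecIso (CommRingCat.of K)).inv := by
    rw [← Scheme.toSpecΓ_naturality_assoc]
    rw [toSpecΓ_SpecMap_ΓSpecIso_inv]
    simp
  rw [h1, Scheme.fromSpecResidueField, Category.assoc, Scheme.fromSpecStalk_toSpecΓ_assoc]
  simp_rw [← Spec.map_comp]
  rfl

/-- A point with finite separable residue field over a separably closed field is the image of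
a section. -/
theorem exists_section_of_sep [IsSepClosed K] (X : Scheme.{u}) [X.Over (Spec (CommRingCat.of K))]
    (x : X)
    (hfin : letI := Curv2.resAlgebra K X x; Module.Finite K (X.residueField x))
    (hsep : letI := Curv2.resAlgebra K X x; Algebra.IsSeparable K (X.residueField x)) :
    ∃ s : Spec (CommRingCat.of K) ⟶ X, s ≫ (X ↘ Spec (CommRingCat.of K)) = 𝟙 _ ∧
      ∀ p, s p = x := by
  letI := Curv2.resAlgebra K X x
  haveI : Algebra.IsSeparable K (X.residueField x) := hsep
  haveI : Module.Finite K (X.residueField x) := hfin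
  have hbij : Function.Bijective (algebraMap K (X.residueField x)) :=
    IsSepClosed.algebraMap_bijective K _
  let e : K ≃+* X.residueField x := RingEquiv.ofBijective _ hbij
  refine ⟨Spec.map (CommRingCat.ofHom (e.symm : X.residueField x →+* K)) ≫
    X.fromSpecResidueField x, ?_, ?_⟩
  · rw [Category.assoc, fromSpecResidueField_comp_over, ← Spec.map_comp, ← Spec.map_id]
    congr 1
    ext a
    exact e.symm_apply_apply a
  · intro p
    rw [Scheme.Hom.comp_apply, Scheme.fromSpecResidueField_apply]

end Sections

section Density

variable (W)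

/-- A section of `W_K ⟶ Spec K` gives a `K`-point of `W`. -/
lemma mem_ratPts_of_section (s : Spec (CommRingCat.of K) ⟶ (specOver k K ⊗ W).left)
    (hs : s ≫ (fst (specOver k K) W).left = 𝟙 _) (p : Spec (CommRingCat.of K)) :
    s p ∈ ratPts k K W := by
  have hp : p = IsLocalRing.closedPoint K := Subsingleton.elim (α := PrimeSpectrum K) _ _
  subst hp
  have hw : (s ≫ (snd (specOver k K) W).left) ≫ W.hom = (specOver k K).hom := by
    rw [Category.assoc, Over.w (snd (specOver k K) W), ← Over.w (fst (specOver k K) W),
      ← Category.assoc, hs, Category.id_comp]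
  let ζ : specOver k K ⟶ W := Over.homMk (s ≫ (snd (specOver k K) W).left) hw
  have hw' : s ≫ (specOver k K ⊗ W).hom = (specOver k K).hom := by
    rw [← Over.w (fst (specOver k K) W), ← Category.assoc, hs, Category.id_comp]
  let σ : specOver k K ⟶ specOver k K ⊗ W := Over.homMk s hw'
  have e : lift (𝟙 (specOver k K)) ζ = σ := by
    apply CartesianMonoidalCategory.hom_ext
    · rw [lift_fst]
      exact (Over.OverMorphism.ext hs).symm
    · rw [lift_snd]
      exact Over.OverMorphism.ext rfl
  exact ⟨ζ, by rw [e]; rfl⟩

theorem isReduced_bc_of_geometricallyReduced [LocallyOfFiniteType W.hom]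
    [GeometricallyReduced W.hom] : IsReduced (specOver k K ⊗ W).left := by
  have hsubK : Subsingleton ↥(specOver k K).left :=
    inferInstanceAs (Subsingleton (PrimeSpectrum K))
  have hintK : IsIntegral (specOver k K).left :=
    inferInstanceAs (IsIntegral (Spec (CommRingCat.of K)))
  have hnoeth : IsLocallyNoetherian (specOver k K).left :=
    inferInstanceAs (IsLocallyNoetherian (Spec (CommRingCat.of K)))
  have hgr : GeometricallyReduced (fst (specOver k K) W).left := by
    rw [Over.fst_left]
    infer_instance
  have hflat : Flat (fst (specOver k K) W).left := inferInstance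
  exact GeometricallyReduced.isReduced_of_flat_of_isLocallyNoetherian (fst (specOver k K) W).left

variable [IsSepClosed K]

theorem dense_ratPts_of_smooth [Smooth W.hom] :
    Dense (ratPts k K W) ∧ IsReduced (specOver k K ⊗ W).left := by
  have hsm : Smooth (fst (specOver k K) W).left := by
    rw [Over.fst_left]
    infer_instance
  have : IsReduced (specOver k K).left := inferInstanceAs (IsReduced (Spec (CommRingCat.of K)))
  refine ⟨?_, Groth.Agent.H53.isReduced_of_smooth_scheme (fst (specOver k K) W).left⟩
  letI : (specOver k K ⊗ W).left.Over (Spec (CommRingCat.of K)) := ⟨(fst (specOver k K) W).left⟩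
  have : Smooth ((specOver k K ⊗ W).left ↘ Spec (CommRingCat.of K)) := hsm
  refine (Groth.Agent.H11.SepPointsSch.dense_sep K (specOver k K ⊗ W).left).mono ?_
  rintro x ⟨-, hfin, hsep⟩
  obtain ⟨s, hs, hsx⟩ := exists_section_of_sep (specOver k K ⊗ W).left x hfin hsep
  rw [← hsx (IsLocalRing.closedPoint K)]
  exact mem_ratPts_of_section k K W s hs _

theorem dense_ratPts_of_geometricallyReduced [LocallyOfFiniteType W.hom]
    [GeometricallyReduced W.hom] :
    Dense (ratPts k K W) ∧ IsReduced (specOver k K ⊗ W).left := by
  have hsubK : Subsingleton ↥(specOver k K).left :=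
    inferInstanceAs (Subsingleton (PrimeSpectrum K))
  have hintK : IsIntegral (specOver k K).left :=
    inferInstanceAs (IsIntegral (Spec (CommRingCat.of K)))
  have hnoeth : IsLocallyNoetherian (specOver k K).left :=
    inferInstanceAs (IsLocallyNoetherian (Spec (CommRingCat.of K)))
  have hgr : GeometricallyReduced (fst (specOver k K) W).left := by
    rw [Over.fst_left]
    infer_instance
  have hft : LocallyOfFiniteType (fst (specOver k K) W).left := by
    rw [Over.fst_left]
    infer_instance
  have hflat : Flat (fst (specOver k K) W).left := inferInstance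
  have hred : IsReduced (specOver k K ⊗ W).left :=
    GeometricallyReduced.isReduced_of_flat_of_isLocallyNoetherian (fst (specOver k K) W).left
  refine ⟨?_, hred⟩
  letI : (specOver k K ⊗ W).left.Over (Spec (CommRingCat.of K)) := ⟨(fst (specOver k K) W).left⟩
  have h1 : LocallyOfFiniteType ((specOver k K ⊗ W).left ↘ Spec (CommRingCat.of K)) := hft
  have h2 : GeometricallyReduced ((specOver k K ⊗ W).left ↘ Spec (CommRingCat.of K)) := hgr
  obtain ⟨U, hUd, hUs⟩ :=
    (Groth.Agent.H25.SmoothDense.geometricallyReduced_iff_dense_smooth K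
      (specOver k K ⊗ W).left).mp h2
  letI : (U : Scheme.{u}).Over (Spec (CommRingCat.of K)) :=
    ⟨U.ι ≫ ((specOver k K ⊗ W).left ↘ Spec (CommRingCat.of K))⟩
  have hUs' : Smooth ((U : Scheme.{u}) ↘ Spec (CommRingCat.of K)) := hUs
  have hdU := Groth.Agent.H11.SepPointsSch.dense_sep K (U : Scheme.{u})
  have hdX := hUd.denseRange_val.dense_image continuous_subtype_val hdU
  refine hdX.mono ?_
  rintro _ ⟨u, ⟨-, hfin, hsep⟩, rfl⟩
  obtain ⟨s, hs, hsx⟩ := exists_section_of_sep (U : Scheme.{u}) u hfin hsep
  have hs' : (s ≫ U.ι) ≫ (fst (specOver k K) W).left = 𝟙 _ := by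
    rw [Category.assoc]
    exact hs
  have := mem_ratPts_of_section k K W (s ≫ U.ι) hs' (IsLocalRing.closedPoint K)
  rw [Scheme.Hom.comp_apply, hsx] at this
  exact this

end Density

end SepClosedDense

end Groth.Agent.H90
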