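import Mathlib
import Groth.Prelude.Def_CurvBase
import Groth.Agent.H90.GrpStalkTranslate
import Groth.Agent.H97.FibCount

/-!
A group scheme of finite type over an algebraically closed field with zero tangent space at the
unit is a finite disjoint union of copies of `Spec k`.
-/

set_option autoImplicit false

universe u

namespace Groth.Agent.H90

open CategoryTheory MonoidalCategory CartesianMonoidalCategory MonObj GrpObj AlgebraicGeometry
open Limits

namespace TangentZero

/-- A point whose local ring is a field has no proper generization. -/
lemma eq_of_specializes_of_isField {X : Scheme.{u}} {x y : X} (h : y ⤳ x)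
    (hf : IsField (X.presheaf.stalk x)) : y = x := by
  have hy : y ∈ Set.range (X.fromSpecStalk x) := by
    rw [Scheme.range_fromSpecStalk]
    exact h
  obtain ⟨p, rfl⟩ := hy
  letI := hf.toField
  have hp : p = IsLocalRing.closedPoint (X.presheaf.stalk x) :=
    Subsingleton.elim (α := PrimeSpectrum (X.presheaf.stalk x)) _ _
  rw [hp, Scheme.fromSpecStalk_closedPoint]

variable (k : Type u) [Field k] [IsAlgClosed k] (G : Over (Spec (CommRingCat.of k))) [GrpObj G]
  [LocallyOfFiniteType G.hom]

/-- If the local ring at the unit is a field, so is the local ring at every closed point. -/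
lemma isField_stalk_of_closed (pt : ↥(𝟙_ (Over (Spec (CommRingCat.of k)))).left)
    (hf : IsField (G.left.presheaf.stalk (η[G].left pt))) (x : G.left)
    (hx : IsClosed ({x} : Set G.left)) : IsField (G.left.presheaf.stalk x) := by
  obtain ⟨iso⟩ := stalk_unit_iso_stalk_closed k G pt x hx
  exact MulEquiv.isField hf iso.commRingCatIsoToRingEquiv.symm.toMulEquiv

include k in
lemma all_closed_of_isField (pt : ↥(𝟙_ (Over (Spec (CommRingCat.of k)))).left)
    (hf : IsField (G.left.presheaf.stalk (η[G].left pt))) (y : G.left) :
    IsClosed ({y} : Set G.left) := by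
  have hJ : JacobsonSpace G.left := LocallyOfFiniteType.jacobsonSpace G.hom
  obtain ⟨x, hxy, hxc⟩ := nonempty_inter_closedPoints (Z := closure {y})
    ⟨y, subset_closure rfl⟩ isClosed_closure.isLocallyClosed
  have hsp : y ⤳ x := specializes_iff_mem_closure.mpr hxy
  have := eq_of_specializes_of_isField hsp (isField_stalk_of_closed k G pt hf x hxc)
  rw [this]
  exact hxc

include k in
theorem finite_discrete_of_isField [QuasiCompact G.hom]
    (pt : ↥(𝟙_ (Over (Spec (CommRingCat.of k)))).left)
    (hf : IsField (G.left.presheaf.stalk (η[G].left pt))) :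
    Finite G.left ∧ DiscreteTopology G.left := by
  have hcl := all_closed_of_isField k G pt hf
  have hT1 : T1Space G.left := ⟨hcl⟩
  have hN : IsLocallyNoetherian G.left := LocallyOfFiniteType.isLocallyNoetherian G.hom
  have hC : CompactSpace G.left := QuasiCompact.compactSpace_of_compactSpace G.hom
  have hNoe : IsNoetherian G.left := {}
  have hirr : ∀ x : G.left, ({x} : Set G.left) ∈ irreducibleComponents G.left := by
    intro x
    refine ⟨isIrreducible_singleton, fun Z hZ hxZ => ?_⟩
    have hZc : IsIrreducible (closure Z) := hZ.closure
    have hη : IsGenericPoint hZc.genericPoint (closure Z) :=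
      hZc.isGenericPoint_genericPoint isClosed_closure
    have hx : x ∈ closure Z := subset_closure (hxZ rfl)
    have hsp : hZc.genericPoint ⤳ x := hη.specializes hx
    have heq := eq_of_specializes_of_isField hsp
      (isField_stalk_of_closed k G pt hf x (hcl x))
    intro z hz
    have hz' : z ∈ closure Z := subset_closure hz
    rw [← hη.def, heq, (hcl x).closure_eq] at hz'
    exact hz'
  have hfin : Finite (irreducibleComponents G.left) :=
    TopologicalSpace.NoetherianSpace.finite_irreducibleComponents
  have hF : Finite G.left :=
    Finite.of_injective (fun x => (⟨{x}, hirr x⟩ : irreducibleComponents G.left))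
      (fun x y h => by
        have := congrArg Subtype.val h
        simpa using this)
  exact ⟨hF, inferInstance⟩

attribute [local instance] Curv2.resAlgebra in
include k in
theorem bijective_stalkMap_of_isField
    (pt : ↥(𝟙_ (Over (Spec (CommRingCat.of k)))).left)
    (hf : IsField (G.left.presheaf.stalk (η[G].left pt))) (g : G.left) :
    letI : G.left.Over (Spec (CommRingCat.of k)) := ⟨G.hom⟩
    Function.Bijective (Curv2.stalkMap k G.left g) := by
  letI : G.left.Over (Spec (CommRingCat.of k)) := ⟨G.hom⟩
  have hft : LocallyOfFiniteType (G.left ↘ Spec (CommRingCat.of k)) := ‹LocallyOfFiniteType G.hom›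
  have hg := all_closed_of_isField k G pt hf g
  have hfg := isField_stalk_of_closed k G pt hf g hg
  have hfin : Module.Finite k (G.left.residueField g) :=
    Groth.Agent.H97.FibCount.finite_residueField_of_isClosed k G.left g hg
  have hint : Algebra.IsIntegral k (G.left.residueField g) := Algebra.IsIntegral.of_finite _ _
  have hbij : Function.Bijective (algebraMap k (G.left.residueField g)) :=
    IsAlgClosed.algebraMap_bijective_of_isIntegral
  have hres : algebraMap k (G.left.residueField g) =
      (G.left.residue g).hom.comp (Curv2.stalkMap k G.left g) := rfl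
  letI := hfg.toField
  have hinj : Function.Injective (G.left.residue g).hom := (G.left.residue g).hom.injective
  refine ⟨(Curv2.stalkMap k G.left g).injective, fun s => ?_⟩
  obtain ⟨c, hc⟩ := hbij.2 ((G.left.residue g).hom s)
  refine ⟨c, hinj ?_⟩
  rw [← hc, hres]
  rfl

theorem S14059_aux [QuasiCompact G.hom]
    (e : G.left) (he : e ∈ Set.range (η[G]).left.base) :
    letI : G.left.Over (Spec (CommRingCat.of k)) := ⟨G.hom⟩
    Subsingleton (IsLocalRing.CotangentSpace (G.left.presheaf.stalk e)) ↔
      (Finite G.left ∧ DiscreteTopology G.left ∧
        ∀ g : G.left, Function.Bijective (Curv2.stalkMap k G.left g)) := by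
  letI : G.left.Over (Spec (CommRingCat.of k)) := ⟨G.hom⟩
  have hN : IsLocallyNoetherian G.left := LocallyOfFiniteType.isLocallyNoetherian G.hom
  obtain ⟨pt, rfl⟩ := he
  rw [IsLocalRing.subsingleton_cotangentSpace_iff]
  constructor
  · intro hf
    obtain ⟨h1, h2⟩ := finite_discrete_of_isField k G pt hf
    exact ⟨h1, h2, fun g => bijective_stalkMap_of_isField k G pt hf g⟩
  · rintro ⟨-, -, h3⟩
    exact MulEquiv.isField (Field.toIsField k)
      (RingEquiv.ofBijective _ (h3 _)).symm.toMulEquiv

end TangentZero

end Groth.Agent.H90
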