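import Mathlib
import Groth.Prelude.Def_RedSub

/-!
A closed stable subset of a principal bundle is the preimage of a closed subset of the base.
-/

set_option autoImplicit false

universe u

namespace Groth.Agent.H90

open CategoryTheory MonoidalCategory CartesianMonoidalCategory MonObj GrpObj AlgebraicGeometry
open Limits

theorem torsor_closed_stable {S : Scheme.{u}}
    {G X : Over S} [GrpObj G] (a : AlgGrp.Action G X) (ha : RedSub.IsTorsor a)
    (P : Set X.left) (hP : IsClosed P)
    (hstab : ∀ w : (G ⊗ X).left, (snd G X).left.base w ∈ P → a.act.left.base w ∈ P) :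
    IsClosed (X.hom.base '' P) ∧ X.hom.base ⁻¹' (X.hom.base '' P) = P := by
  obtain ⟨hsurj, hflat, hlfp, hiso⟩ := ha
  have hsat : X.hom.base ⁻¹' (X.hom.base '' P) = P := by
    apply Set.Subset.antisymm
    · rintro x ⟨p, hp, hpx⟩
      obtain ⟨z, hz1, hz2⟩ := Scheme.Pullback.exists_preimage_pullback (f := X.hom) (g := X.hom)
        x p hpx.symm
      have hz1' : (fst X X).left z = x := hz1
      have hz2' : (snd X X).left z = p := hz2
      obtain ⟨w, hw⟩ : ∃ w : (G ⊗ X).left, (lift a.act (snd G X)).left w = z := by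
        refine ⟨(inv (lift a.act (snd G X))).left z, ?_⟩
        rw [← Scheme.Hom.comp_apply, ← Over.comp_left, IsIso.inv_hom_id]
        rfl
      have h1 : a.act.left w = x := by
        rw [← hz1', ← hw, ← Scheme.Hom.comp_apply, ← Over.comp_left, lift_fst]
      have h2 : (snd G X).left w = p := by
        rw [← hz2', ← hw, ← Scheme.Hom.comp_apply, ← Over.comp_left, lift_snd]
      rw [← h1]
      apply hstab w
      change (snd G X).left w ∈ P
      rw [h2]
      exact hp
    · exact Set.subset_preimage_image _ _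
  refine ⟨?_, hsat⟩
  have hopen : IsOpenMap X.hom := isOpenMap_of_generalizingMap X.hom (Flat.generalizingMap _)
  rw [← isOpen_compl_iff]
  have hcompl : (X.hom.base '' P)ᶜ = X.hom.base '' Pᶜ := by
    ext s
    constructor
    · intro hs
      obtain ⟨x, rfl⟩ := hsurj.surj s
      exact ⟨x, fun hx => hs ⟨x, hx, rfl⟩, rfl⟩
    · rintro ⟨x, hx, rfl⟩ ⟨p, hp, hpx⟩
      apply hx
      rw [← hsat]
      exact ⟨p, hp, hpx⟩
  rw [hcompl]
  exact hopen _ hP.isOpen_compl

end Groth.Agent.H90
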