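import Mathlib
import Groth.Agent.H90.GrpStalkTranslate

/-!
Avoiding two translates of a proper closed subset of an irreducible group scheme locally of
finite type over an algebraically closed field.
-/

set_option autoImplicit false

universe u

namespace Groth.Agent.H90

open CategoryTheory MonoidalCategory CartesianMonoidalCategory MonObj GrpObj AlgebraicGeometry
open Limits

namespace TranslateAvoid

variable (K : Type u) [Field K] [IsAlgClosed K] (A : Over (Spec (CommRingCat.of K))) [GrpObj A]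
  [LocallyOfFiniteType A.hom]

/-- Every nonempty open of `A` contains the image of a `K`-point. -/
lemma exists_point_mem_open (U : Set A.left) (hU : IsOpen U) (hne : U.Nonempty) :
    ∃ x : 𝟙_ (Over (Spec (CommRingCat.of K))) ⟶ A, ∀ p, x.left p ∈ U := by
  have hJ : JacobsonSpace A.left := LocallyOfFiniteType.jacobsonSpace A.hom
  obtain ⟨v, hvU, hvc⟩ := nonempty_inter_closedPoints (Z := U) hne hU.isLocallyClosed
  refine ⟨ratPoint K A v hvc, fun p => ?_⟩
  rw [ratPoint_left_apply]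
  exact hvU

lemma point_comp_toUnit (z : 𝟙_ (Over (Spec (CommRingCat.of K))) ⟶ A) :
    z ≫ toUnit A = 𝟙 _ := toUnit_unique _ _

/-- `z ≫ (𝟙 * (toUnit ≫ x)) = z * x`. -/
lemma point_comp_translate (z x : 𝟙_ (Over (Spec (CommRingCat.of K))) ⟶ A) :
    z ≫ (𝟙 A * (toUnit A ≫ x)) = z * x := by
  rw [MonObj.comp_mul, Category.comp_id, ← Category.assoc, point_comp_toUnit, Category.id_comp]

lemma point_comp_translate_inv (z x : 𝟙_ (Over (Spec (CommRingCat.of K))) ⟶ A) :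
    z ≫ (𝟙 A * (toUnit A ≫ x)⁻¹) = z * x⁻¹ := by
  rw [MonObj.comp_mul, GrpObj.comp_inv, Category.comp_id, ← Category.assoc, point_comp_toUnit,
    Category.id_comp]

lemma translate_comp_translate_inv (x : 𝟙_ (Over (Spec (CommRingCat.of K))) ⟶ A) :
    (𝟙 A * (toUnit A ≫ x)) ≫ (𝟙 A * (toUnit A ≫ x)⁻¹) = 𝟙 A := by
  rw [MonObj.comp_mul, GrpObj.comp_inv, Category.comp_id, ← Category.assoc,
    toUnit_unique ((𝟙 A * (toUnit A ≫ x)) ≫ toUnit A) (toUnit A), mul_inv_cancel_right]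

lemma translate_inv_comp_translate (x : 𝟙_ (Over (Spec (CommRingCat.of K))) ⟶ A) :
    (𝟙 A * (toUnit A ≫ x)⁻¹) ≫ (𝟙 A * (toUnit A ≫ x)) = 𝟙 A := by
  rw [MonObj.comp_mul, Category.comp_id, ← Category.assoc,
    toUnit_unique ((𝟙 A * (toUnit A ≫ x)⁻¹) ≫ toUnit A) (toUnit A), inv_mul_cancel_right]

theorem exists_point_avoiding [IrreducibleSpace A.left]
    (Z : Set A.left) (hZ : IsClosed Z) (hZne : Z ≠ Set.univ)
    (z : 𝟙_ (Over (Spec (CommRingCat.of K))) ⟶ A) :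
    ∃ x : 𝟙_ (Over (Spec (CommRingCat.of K))) ⟶ A,
      Disjoint (Set.range z.left.base)
        ((𝟙 A * (toUnit A ≫ x)).left.base '' Z ∪ (𝟙 A * (toUnit A ≫ x)⁻¹).left.base '' Z) := by
  classical
  have hUo : IsOpen Zᶜ := hZ.isOpen_compl
  have hUne : (Zᶜ).Nonempty := by
    rw [Set.nonempty_compl]; exact hZne
  obtain ⟨u, hu⟩ := exists_point_mem_open K A Zᶜ hUo hUne
  -- the two maps
  let m₁ : A ⟶ A := (toUnit A ≫ z) * (𝟙 A)⁻¹
  let m₂ : A ⟶ A := (toUnit A ≫ z) * 𝟙 A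
  have hm₁ : ∀ x : 𝟙_ (Over (Spec (CommRingCat.of K))) ⟶ A, x ≫ m₁ = z * x⁻¹ := by
    intro x
    simp only [m₁]
    rw [MonObj.comp_mul, GrpObj.comp_inv, Category.comp_id, ← Category.assoc, point_comp_toUnit,
      Category.id_comp]
  have hm₂ : ∀ x : 𝟙_ (Over (Spec (CommRingCat.of K))) ⟶ A, x ≫ m₂ = z * x := by
    intro x
    simp only [m₂]
    rw [MonObj.comp_mul, Category.comp_id, ← Category.assoc, point_comp_toUnit,
      Category.id_comp]
  have hV₁o : IsOpen (m₁.left ⁻¹' Zᶜ) := hUo.preimage m₁.left.continuous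
  have hV₂o : IsOpen (m₂.left ⁻¹' Zᶜ) := hUo.preimage m₂.left.continuous
  obtain ⟨p0⟩ : Nonempty ↥(𝟙_ (Over (Spec (CommRingCat.of K)))).left :=
    ⟨IsLocalRing.closedPoint K⟩
  have hV₁ne : (m₁.left ⁻¹' Zᶜ).Nonempty := by
    refine ⟨(u⁻¹ * z).left p0, ?_⟩
    change m₁.left ((u⁻¹ * z).left p0) ∈ Zᶜ
    rw [← Scheme.Hom.comp_apply, ← Over.comp_left, hm₁]
    have : z * (u⁻¹ * z)⁻¹ = u := by group
    rw [this]
    exact hu p0
  have hV₂ne : (m₂.left ⁻¹' Zᶜ).Nonempty := by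
    refine ⟨(z⁻¹ * u).left p0, ?_⟩
    change m₂.left ((z⁻¹ * u).left p0) ∈ Zᶜ
    rw [← Scheme.Hom.comp_apply, ← Over.comp_left, hm₂]
    have : z * (z⁻¹ * u) = u := by group
    rw [this]
    exact hu p0
  have hVne : (m₁.left ⁻¹' Zᶜ ∩ m₂.left ⁻¹' Zᶜ).Nonempty :=
    nonempty_preirreducible_inter hV₁o hV₂o hV₁ne hV₂ne
  obtain ⟨x, hx⟩ := exists_point_mem_open K A _ (hV₁o.inter hV₂o) hVne
  refine ⟨x, ?_⟩
  rw [Set.disjoint_left]
  rintro _ ⟨p, rfl⟩ hmem
  rcases hmem with ⟨a, haZ, ha⟩ | ⟨a, haZ, ha⟩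
  · -- a · x = z, so a = z · x⁻¹ = m₁ (x)
    have h1 : a = (z * x⁻¹).left p := by
      rw [← point_comp_translate_inv, Over.comp_left, Scheme.Hom.comp_apply]
      change a = (𝟙 A * (toUnit A ≫ x)⁻¹).left (z.left.base p)
      rw [← ha]
      change a = (𝟙 A * (toUnit A ≫ x)⁻¹).left ((𝟙 A * (toUnit A ≫ x)).left a)
      rw [← Scheme.Hom.comp_apply, ← Over.comp_left, translate_comp_translate_inv]
      rfl
    have h2 : m₁.left (x.left p) ∈ Zᶜ := (hx p).1
    rw [← Scheme.Hom.comp_apply, ← Over.comp_left, hm₁, ← h1] at h2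
    exact h2 haZ
  · have h1 : a = (z * x).left p := by
      rw [← point_comp_translate, Over.comp_left, Scheme.Hom.comp_apply]
      change a = (𝟙 A * (toUnit A ≫ x)).left (z.left.base p)
      rw [← ha]
      change a = (𝟙 A * (toUnit A ≫ x)).left ((𝟙 A * (toUnit A ≫ x)⁻¹).left a)
      rw [← Scheme.Hom.comp_apply, ← Over.comp_left, translate_inv_comp_translate]
      rfl
    have h2 : m₂.left (x.left p) ∈ Zᶜ := (hx p).2
    rw [← Scheme.Hom.comp_apply, ← Over.comp_left, hm₂, ← h1] at h2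
    exact h2 haZ

end TranslateAvoid

end Groth.Agent.H90
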