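import Mathlib
import Groth.Prelude.Def_HTop
import Groth.Agent.H90.ValLift

set_option autoImplicit false

universe w u

namespace Groth.Agent.H90

open CategoryTheory CategoryTheory.Limits AlgebraicGeometry IsLocalRing

/-- an fpqc covering is a V covering -/
theorem isVCover_of_fpqc {T : Scheme.{u}} (𝒰 : Scheme.Cover.{w} Scheme.fpqcPrecoverage T) :
    HTop.IsVCover 𝒰.toPreZeroHypercover := by
  intro U
  have hUaff : IsAffine ((U : T.Opens) : Scheme.{u}) := U.2
  have hqc : QuasiCompactCover 𝒰.toPreZeroHypercover := by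
    rw [← Scheme.presieve₀_mem_qcPrecoverage_iff]
    exact 𝒰.mem₀.1
  have hflat : ∀ i, Flat (𝒰.f i) := by
    intro i
    have h2 : 𝒰.toPreZeroHypercover.presieve₀ ∈ Scheme.precoverage @Flat T := 𝒰.mem₀.2
    let 𝒱 : Scheme.Cover.{w} (Scheme.precoverage @Flat) T :=
      { toPreZeroHypercover := 𝒰.toPreZeroHypercover, mem₀ := h2 }
    exact 𝒱.map_prop i
  obtain ⟨n, a, V, hV, hcov⟩ :=
    QuasiCompactCover.exists_isAffineOpen_of_isCompact 𝒰.toPreZeroHypercover
      (U := (U : T.Opens)) U.2.isCompact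
  have hrange : ∀ i : Fin n, Set.range ((V i).ι ≫ 𝒰.f (a i)) ⊆ Set.range (U : T.Opens).ι := by
    intro i
    rintro _ ⟨y, rfl⟩
    rw [Scheme.Opens.range_ι, ← hcov]
    refine Set.mem_iUnion.2 ⟨i, y.1, y.2, ?_⟩
    rw [Scheme.Hom.comp_apply]
    rfl
  let F : PreZeroHypercover.{0} ((U : T.Opens) : Scheme.{u}) :=
    { I₀ := Fin n
      X := fun i => ((V i : (𝒰.X (a i)).Opens) : Scheme.{u})
      f := fun i => IsOpenImmersion.lift (U : T.Opens).ι ((V i).ι ≫ 𝒰.f (a i)) (hrange i) }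
  have hfac : ∀ i : Fin n, F.f i ≫ (U : T.Opens).ι = (V i).ι ≫ 𝒰.f (a i) :=
    fun i => IsOpenImmersion.lift_fac _ _ _
  refine ⟨F, ?_, ?_⟩
  · apply isStandardV_of_standard_fpqc F
    · exact inferInstanceAs (Finite (Fin n))
    · intro i
      exact hV i
    · intro i
      have := hflat (a i)
      have h1 : Flat ((V i).ι ≫ 𝒰.f (a i)) := inferInstance
      have h2 : Flat (F.f i ≫ (U : T.Opens).ι) := by rw [hfac]; exact h1
      exact MorphismProperty.of_postcomp (W := @Flat) (W' := MorphismProperty.monomorphisms _)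
        (F.f i) (U : T.Opens).ι (MorphismProperty.monomorphisms.infer_property _) h2
    · intro t
      have ht : (U : T.Opens).ι t ∈ Set.range (U : T.Opens).ι := ⟨t, rfl⟩
      rw [Scheme.Opens.range_ι, ← hcov] at ht
      obtain ⟨i, y, hy, hyt⟩ := Set.mem_iUnion.1 ht
      refine ⟨i, ⟨y, hy⟩, ?_⟩
      apply (U : T.Opens).ι.injective
      rw [← Scheme.Hom.comp_apply, hfac, Scheme.Hom.comp_apply]
      exact hyt
  · intro i
    exact ⟨a i, (V i).ι, (hfac i).symm⟩

end Groth.Agent.H90
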