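import Mathlib
import Groth.Prelude.Def_HTop
import Groth.Agent.H90.ValLift3
import Groth.Agent.H37.VCover3

set_option autoImplicit false

universe w u

namespace Groth.Agent.H90

open CategoryTheory CategoryTheory.Limits AlgebraicGeometry IsLocalRing

/-- a family is a V covering iff the induced morphism from the coproduct is -/
theorem isVCover_iff_sigmaDesc {T : Scheme.{u}} (E : PreZeroHypercover.{u} T) :
    HTop.IsVCover E ↔ HTop.IsVCover (PreZeroHypercover.singleton.{w} (Sigma.desc E.f)) := by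
  constructor
  · intro hE
    refine H37.isVCover_of_hom E _ hE (fun i => ⟨PUnit.unit, Sigma.ι E.X i, ?_⟩)
    exact Sigma.ι_desc E.f i
  · intro hS U
    obtain ⟨F, hF1, hF2⟩ := hS U
    have hFaff := hF1.isAffine_obj
    let 𝒞 := AlgebraicGeometry.sigmaOpenCover E.X
    have hopen : ∀ i, IsOpenImmersion (𝒞.toPreZeroHypercover.f i) := fun i => 𝒞.map_prop i
    have hsurj : ∀ t : ↑(∐ E.X), ∃ i, t ∈ Set.range (𝒞.toPreZeroHypercover.f i) :=
      fun t => ⟨𝒞.idx t, 𝒞.covers t⟩
    -- the maps to the coproduct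
    have hk : ∀ j : F.I₀, ∃ k : F.X j ⟶ ∐ E.X, k ≫ Sigma.desc E.f = F.f j ≫ (U : T.Opens).ι := by
      intro j
      obtain ⟨_, k, hk⟩ := hF2 j
      exact ⟨k, hk⟩
    choose k hk using hk
    have hH : ∀ j : F.I₀, ∃ H : PreZeroHypercover.{0} (F.X j), HTop.IsStandardV H ∧
        HTop.RefinesOver (k j) H 𝒞.toPreZeroHypercover := by
      intro j
      have := hFaff j
      exact H37.exists_standardV_refinesOver_of_openImmersions (k j) 𝒞.toPreZeroHypercover
        hopen hsurj
    choose H hH1 hH2 using hH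
    refine ⟨F.bind H, H37.standardV_bind F hF1 H hH1, ?_⟩
    rintro ⟨j, l⟩
    obtain ⟨i, m, hm⟩ := hH2 j l
    let m' : (H j).X l ⟶ E.X i := m
    have hm' : m' ≫ Sigma.ι E.X i = (H j).f l ≫ k j := hm
    refine ⟨i, m', ?_⟩
    show m' ≫ E.f i = ((H j).f l ≫ F.f j) ≫ (U : T.Opens).ι
    rw [Category.assoc, ← hk j, ← Category.assoc, ← hm', Category.assoc, Sigma.ι_desc]

theorem isHCover_iff_sigmaDesc {T : Scheme.{u}} (E : PreZeroHypercover.{u} T)
    (hE : ∀ i, LocallyOfFinitePresentation (E.f i)) :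
    HTop.IsHCover E ↔ HTop.IsHCover (PreZeroHypercover.singleton.{w} (Sigma.desc E.f)) := by
  constructor
  · rintro ⟨_, h2⟩
    refine ⟨fun _ => ?_, (isVCover_iff_sigmaDesc E).1 h2⟩
    exact IsZariskiLocalAtSource.sigmaDesc (P := @LocallyOfFinitePresentation) hE
  · rintro ⟨_, h2⟩
    exact ⟨hE, (isVCover_iff_sigmaDesc E).2 h2⟩

end Groth.Agent.H90
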