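import Mathlib
import Groth.Prelude.Def_HTop
import Groth.Prelude.Def_SGA1
import Groth.Agent.H90.ValLift3
import Groth.Agent.H37.VCover3
import Groth.Agent.H73.QcClosed

set_option autoImplicit false

universe w u

namespace Groth.Agent.H90

open CategoryTheory CategoryTheory.Limits AlgebraicGeometry IsLocalRing Topology

/-- a quasi-compact morphism along which specializations lift is a quotient map -/
theorem isQuotientMap_of_quasiCompact_of_specializes {X Y : Scheme.{u}} (f : X ⟶ Y)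
    [QuasiCompact f]
    (H : ∀ ⦃y y' : Y⦄, y' ⤳ y → ∃ x x' : X, x' ⤳ x ∧ f x = y ∧ f x' = y') :
    IsQuotientMap f := by
  have hsurj : Function.Surjective f := by
    intro y
    obtain ⟨x, _, _, hx, _⟩ := H (specializes_rfl : y ⤳ y)
    exact ⟨x, hx⟩
  rw [isQuotientMap_iff_isClosed]
  refine ⟨hsurj, fun s => ⟨fun hs => hs.preimage f.continuous, fun hs => ?_⟩⟩
  have himg : f '' (f ⁻¹' s) = s := Set.image_preimage_eq s hsurj
  rw [← himg]
  apply H73.isClosed_image_of_stableUnderSpecialization f _ hs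
  rw [himg]
  intro y' y hy hy'
  obtain ⟨x, x', hxx, hx, hx'⟩ := H hy
  have h1 : x' ∈ f ⁻¹' s := by
    show f x' ∈ s
    rw [hx']
    exact hy'
  have h2 : x ∈ f ⁻¹' s := hxx.mem_closed hs h1
  rw [← hx]
  exact h2

/-- being a quotient map is local on the target, and can be tested after precomposition -/
theorem isQuotientMap_of_local {X' Y' : Scheme.{u}} (f' : X' ⟶ Y')
    (H : ∀ y : Y', ∃ (W : Y'.Opens) (R : Scheme.{u}) (r : R ⟶ (W : Scheme.{u})) (ρ : R ⟶ X'),
      y ∈ W ∧ IsQuotientMap r ∧ ρ ≫ f' = r ≫ W.ι) : IsQuotientMap f' := by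
  rw [isQuotientMap_iff]
  refine ⟨isCoinducing_iff.2 fun s => ⟨fun hs => ?_, fun hs => hs.preimage f'.continuous⟩, ?_⟩
  · rw [isOpen_iff_forall_mem_open]
    intro y hy
    obtain ⟨W, R, r, ρ, hyW, hr, hρ⟩ := H y
    refine ⟨s ∩ W, Set.inter_subset_left, ?_, ⟨hy, hyW⟩⟩
    have h1 : IsOpen (r ⁻¹' (W.ι ⁻¹' s)) := by
      have : r ⁻¹' (W.ι ⁻¹' s) = ρ ⁻¹' (f' ⁻¹' s) := by
        ext z
        show W.ι (r z) ∈ s ↔ f' (ρ z) ∈ s
        rw [← Scheme.Hom.comp_apply, ← Scheme.Hom.comp_apply, hρ]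
      rw [this]
      exact hs.preimage ρ.continuous
    have h2 : IsOpen (W.ι ⁻¹' s) := hr.isOpen_preimage.1 h1
    have h3 := W.ι.isOpenEmbedding.isOpenMap _ h2
    rw [Set.image_preimage_eq_inter_range, Scheme.Opens.range_ι] at h3
    exact h3
  · intro y
    obtain ⟨W, R, r, ρ, hyW, hr, hρ⟩ := H y
    obtain ⟨z, hz⟩ := hr.surjective ⟨y, hyW⟩
    refine ⟨ρ z, ?_⟩
    rw [← Scheme.Hom.comp_apply, hρ, Scheme.Hom.comp_apply, hz]
    rfl

theorem univSubmersive_sigmaDesc_of_isVCover {X : Scheme.{u}} (E : PreZeroHypercover.{u} X)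
    (hE : HTop.IsVCover E) : SGA1.UnivSubmersive (Sigma.desc E.f) := by
  intro X' Y' i₁ i₂ f' hsq
  show IsQuotientMap f'
  apply isQuotientMap_of_local
  intro y
  obtain ⟨_, ⟨W₀, hW, rfl⟩, hyW, -⟩ := Y'.isBasis_affineOpens.exists_subset_of_mem_open
    (Set.mem_univ y) isOpen_univ
  let W : Y'.Opens := W₀
  have hWaff : IsAffine (W : Scheme.{u}) := hW
  obtain ⟨H, hH1, hH2⟩ := H37.exists_standardV_refinesOver (W.ι ≫ i₂) E hE
  choose a m hm using hH2
  have hfin := hH1.finite_index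
  let r : ∐ H.X ⟶ (W : Scheme.{u}) := Sigma.desc H.f
  let ρj : ∀ j, H.X j ⟶ X' := fun j =>
    hsq.lift (H.f j ≫ W.ι) (m j ≫ Sigma.ι E.X (a j))
      (by rw [Category.assoc, Category.assoc, Sigma.ι_desc, hm j])
  let ρ : ∐ H.X ⟶ X' := Sigma.desc ρj
  refine ⟨W, ∐ H.X, r, ρ, hyW, ?_, ?_⟩
  · have hcomp : CompactSpace ↥(∐ H.X) := by
      have haff := hH1.isAffine_obj
      have : ∀ i : (sigmaOpenCover H.X).I₀, CompactSpace ↥((sigmaOpenCover H.X).X i) := by
        intro i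
        have := haff i
        exact inferInstanceAs (CompactSpace ↥(H.X i))
      have : Finite (sigmaOpenCover H.X).I₀ := hfin
      exact Scheme.OpenCover.compactSpace (sigmaOpenCover H.X)
    have hqc : QuasiCompact r :=
      (HasAffineProperty.iff_of_isAffine (P := @QuasiCompact)).mpr hcomp
    apply isQuotientMap_of_quasiCompact_of_specializes r
    have hvl : VL r := by
      intro V _ _ g
      obtain ⟨W', hW1, hW2, φ, hφ, j, g', hg'⟩ := hH1.lift V g
      exact ⟨W', hW1, hW2, φ, hφ, g' ≫ Sigma.ι H.X j, by rw [Category.assoc, Sigma.ι_desc, hg']⟩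
    intro y y' hyy
    obtain ⟨w', w, hww, hw', hw⟩ := (vl_iff_specializes r).1 hvl (W : Scheme.{u}) (𝟙 _) y' y hyy
    refine ⟨pullback.snd (𝟙 _) r w, pullback.snd (𝟙 _) r w',
      hww.map (pullback.snd (𝟙 _) r).continuous, ?_, ?_⟩
    · rw [← Scheme.Hom.comp_apply, ← pullback.condition, Scheme.Hom.comp_apply, hw]
      rfl
    · rw [← Scheme.Hom.comp_apply, ← pullback.condition, Scheme.Hom.comp_apply, hw']
      rfl
  · apply Sigma.hom_ext
    intro j
    show Sigma.ι H.X j ≫ Sigma.desc ρj ≫ f' = Sigma.ι H.X j ≫ Sigma.desc H.f ≫ W.ι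
    rw [Sigma.ι_desc_assoc, Sigma.ι_desc_assoc]
    exact hsq.lift_fst _ _ _

end Groth.Agent.H90
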