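import Mathlib

/-!
Solvability and nilpotency classes through commutator words: the `n`-th term of the derived
series (lower central series) is trivial iff all iterated commutators of the corresponding shape
are trivial.
-/

set_option autoImplicit false

namespace Groth.Agent.H90.WordLaw

open scoped commutatorElement

variable {Γ : Type*} [Group Γ]

/-- values of the iterated commutator words `w₀ = x`, `w_{n+1} = ⁅w_n, w_n'⁆`. -/
def dvals : ℕ → Set Γ
  | 0 => Set.univ
  | n + 1 => {g | ∃ a ∈ dvals n, ∃ b ∈ dvals n, ⁅a, b⁆ = g}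

/-- values of the left-normed commutator words `c₀ = x`, `c_{n+1} = ⁅c_n, y⁆`. -/
def lvals : ℕ → Set Γ
  | 0 => Set.univ
  | n + 1 => {g | ∃ a ∈ lvals n, ∃ b : Γ, ⁅a, b⁆ = g}

lemma dvals_conj (n : ℕ) (g : Γ) {a : Γ} (ha : a ∈ dvals n) : g * a * g⁻¹ ∈ dvals n := by
  induction n generalizing a with
  | zero => trivial
  | succ n ih =>
    obtain ⟨x, hx, y, hy, rfl⟩ := ha
    exact ⟨g * x * g⁻¹, ih hx, g * y * g⁻¹, ih hy, (conjugate_commutatorElement x y g).symm⟩

lemma lvals_conj (n : ℕ) (g : Γ) {a : Γ} (ha : a ∈ lvals n) : g * a * g⁻¹ ∈ lvals n := by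
  induction n generalizing a with
  | zero => trivial
  | succ n ih =>
    obtain ⟨x, hx, y, rfl⟩ := ha
    exact ⟨g * x * g⁻¹, ih hx, g * y * g⁻¹, (conjugate_commutatorElement x y g).symm⟩

lemma dvals_subset_derivedSeries (n : ℕ) : dvals n ⊆ (derivedSeries Γ n : Set Γ) := by
  induction n with
  | zero => intro x _; trivial
  | succ n ih =>
    rintro _ ⟨a, ha, b, hb, rfl⟩
    rw [derivedSeries_succ]
    exact Subgroup.commutator_mem_commutator (ih ha) (ih hb)

lemma lvals_subset_lowerCentralSeries (n : ℕ) :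
    lvals n ⊆ ((⊤ : Subgroup Γ).lowerCentralSeries n : Set Γ) := by
  induction n with
  | zero => intro x _; trivial
  | succ n ih =>
    rintro _ ⟨a, ha, b, rfl⟩
    rw [Subgroup.lowerCentralSeries_succ]
    exact Subgroup.commutator_mem_commutator (ih ha) (Subgroup.mem_top b)

lemma conjugatesOfSet_dvals_subset (n : ℕ) :
    Group.conjugatesOfSet (dvals n : Set Γ) ⊆ dvals n := by
  intro x hx
  rw [Group.mem_conjugatesOfSet_iff] at hx
  obtain ⟨a, ha, hconj⟩ := hx
  obtain ⟨c, rfl⟩ := isConj_iff.mp hconj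
  exact dvals_conj n c ha

lemma conjugatesOfSet_lvals_subset (n : ℕ) :
    Group.conjugatesOfSet (lvals n : Set Γ) ⊆ lvals n := by
  intro x hx
  rw [Group.mem_conjugatesOfSet_iff] at hx
  obtain ⟨a, ha, hconj⟩ := hx
  obtain ⟨c, rfl⟩ := isConj_iff.mp hconj
  exact lvals_conj n c ha

theorem derivedSeries_le_of_dvals_subset (n : ℕ) (N : Subgroup Γ) [N.Normal]
    (h : dvals n ⊆ (N : Set Γ)) : derivedSeries Γ n ≤ N := by
  induction n generalizing N with
  | zero =>
    intro x _
    exact h (Set.mem_univ x)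
  | succ n ih =>
    let S : Set Γ := Group.conjugatesOfSet (dvals n : Set Γ)
    let M : Subgroup Γ := Subgroup.normalClosure (dvals n : Set Γ)
    have hM : derivedSeries Γ n ≤ M := ih M Subgroup.subset_normalClosure
    rw [derivedSeries_succ]
    refine (Subgroup.commutator_mono hM hM).trans ?_
    rw [Subgroup.commutator_le]
    intro m₁ hm₁ m₂ hm₂
    let π : Γ →* Γ ⧸ N := QuotientGroup.mk' N
    have hcomm : ∀ x ∈ π '' S, ∀ y ∈ π '' S, x * y = y * x := by
      rintro _ ⟨a, ha, rfl⟩ _ ⟨b, hb, rfl⟩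
      have hab : ⁅a, b⁆ ∈ N := h ⟨a, conjugatesOfSet_dvals_subset n ha, b,
        conjugatesOfSet_dvals_subset n hb, rfl⟩
      have : π ⁅a, b⁆ = 1 := (QuotientGroup.eq_one_iff _).mpr hab
      rw [map_commutatorElement, commutatorElement_eq_one_iff_commute] at this
      exact this.eq
    have hmap : ∀ m ∈ M, π m ∈ Subgroup.closure (π '' S) := by
      intro m hm
      rw [← MonoidHom.map_closure]
      exact Subgroup.mem_map_of_mem π hm
    have hI := Subgroup.isMulCommutative_closure hcomm
    have hc : π m₁ * π m₂ = π m₂ * π m₁ := by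
      have := hI.is_comm.comm (⟨π m₁, hmap m₁ hm₁⟩ : Subgroup.closure (π '' S))
        ⟨π m₂, hmap m₂ hm₂⟩
      exact congrArg Subtype.val this
    have : π ⁅m₁, m₂⁆ = 1 := by
      rw [map_commutatorElement, commutatorElement_eq_one_iff_commute]
      exact hc
    exact (QuotientGroup.eq_one_iff _).mp this

theorem lowerCentralSeries_le_of_lvals_subset (n : ℕ) (N : Subgroup Γ) [N.Normal]
    (h : lvals n ⊆ (N : Set Γ)) : (⊤ : Subgroup Γ).lowerCentralSeries n ≤ N := by
  induction n generalizing N with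
  | zero =>
    intro x _
    exact h (Set.mem_univ x)
  | succ n ih =>
    let S : Set Γ := Group.conjugatesOfSet (lvals n : Set Γ)
    let M : Subgroup Γ := Subgroup.normalClosure (lvals n : Set Γ)
    have hM : (⊤ : Subgroup Γ).lowerCentralSeries n ≤ M := ih M Subgroup.subset_normalClosure
    rw [Subgroup.lowerCentralSeries_succ]
    refine (Subgroup.commutator_mono hM le_rfl).trans ?_
    rw [Subgroup.commutator_le]
    intro m₁ hm₁ m₂ _
    let π : Γ →* Γ ⧸ N := QuotientGroup.mk' N
    have hcen : π '' S ⊆ (Subgroup.center (Γ ⧸ N) : Set (Γ ⧸ N)) := by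
      rintro _ ⟨a, ha, rfl⟩
      rw [SetLike.mem_coe, Subgroup.mem_center_iff]
      intro q
      obtain ⟨b, rfl⟩ := QuotientGroup.mk'_surjective N q
      have hab : ⁅a, b⁆ ∈ N := h ⟨a, conjugatesOfSet_lvals_subset n ha, b, rfl⟩
      have : π ⁅a, b⁆ = 1 := (QuotientGroup.eq_one_iff _).mpr hab
      rw [map_commutatorElement, commutatorElement_eq_one_iff_commute] at this
      exact this.eq.symm
    have hmap : π m₁ ∈ Subgroup.center (Γ ⧸ N) := by
      have h1 : π m₁ ∈ Subgroup.closure (π '' S) := by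
        rw [← MonoidHom.map_closure]
        exact Subgroup.mem_map_of_mem π hm₁
      exact (Subgroup.closure_le _).mpr hcen h1
    have : π ⁅m₁, m₂⁆ = 1 := by
      rw [map_commutatorElement, commutatorElement_eq_one_iff_commute]
      exact ((Subgroup.mem_center_iff.mp hmap) (π m₂)).symm
    exact (QuotientGroup.eq_one_iff _).mp this

theorem derivedSeries_eq_bot_iff (n : ℕ) :
    derivedSeries Γ n = ⊥ ↔ ∀ g ∈ (dvals n : Set Γ), g = 1 := by
  constructor
  · intro h g hg
    have := dvals_subset_derivedSeries n hg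
    rw [h] at this
    exact this
  · intro h
    rw [eq_bot_iff]
    exact derivedSeries_le_of_dvals_subset n ⊥ (fun g hg => h g hg)

theorem lowerCentralSeries_eq_bot_iff (n : ℕ) :
    (⊤ : Subgroup Γ).lowerCentralSeries n = ⊥ ↔ ∀ g ∈ (lvals n : Set Γ), g = 1 := by
  constructor
  · intro h g hg
    have := lvals_subset_lowerCentralSeries n hg
    rw [h] at this
    exact this
  · intro h
    rw [eq_bot_iff]
    exact lowerCentralSeries_le_of_lvals_subset n ⊥ (fun g hg => h g hg)

end Groth.Agent.H90.WordLaw
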