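import Mathlib
import Groth.Agent.H90.WordLaw
import Groth.Agent.H90.SepClosedApps

/-!
Solvability / nilpotency class of a smooth group scheme over a field can be tested on points with
values in a separably closed extension field.
-/

set_option autoImplicit false

universe u

namespace Groth.Agent.H90

open CategoryTheory MonoidalCategory CartesianMonoidalCategory MonObj GrpObj AlgebraicGeometry
open Limits
open scoped commutatorElement

namespace WordLawGeom

open WordLaw SepClosedDense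

variable (k : Type u) [Field k] (G : Over (Spec (CommRingCat.of k))) [GrpObj G]

lemma comp_commutatorElement {T T' : Over (Spec (CommRingCat.of k))} (t : T' ⟶ T)
    (a b : T ⟶ G) : t ≫ ⁅a, b⁆ = ⁅t ≫ a, t ≫ b⁆ := by
  simp only [commutatorElement_def, MonObj.comp_mul, GrpObj.comp_inv]

/-- The parameter schemes of the iterated commutator words. -/
noncomputable def dV : ℕ → Over (Spec (CommRingCat.of k))
  | 0 => G
  | n + 1 => dV n ⊗ dV n

/-- The universal iterated commutators. -/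
noncomputable def dU : (n : ℕ) → (dV k G n ⟶ G)
  | 0 => 𝟙 G
  | n + 1 => (⁅fst (dV k G n) (dV k G n) ≫ dU n, snd (dV k G n) (dV k G n) ≫ dU n⁆ :
      dV k G n ⊗ dV k G n ⟶ G)

/-- The parameter schemes of the left-normed commutator words. -/
noncomputable def lV : ℕ → Over (Spec (CommRingCat.of k))
  | 0 => G
  | n + 1 => lV n ⊗ G

/-- The universal left-normed commutators. -/
noncomputable def lU : (n : ℕ) → (lV k G n ⟶ G)
  | 0 => 𝟙 G
  | n + 1 => (⁅fst (lV k G n) G ≫ lU n, snd (lV k G n) G⁆ : lV k G n ⊗ G ⟶ G)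

lemma smooth_dV [Smooth G.hom] (n : ℕ) : Smooth (dV k G n).hom := by
  induction n with
  | zero => exact ‹Smooth G.hom›
  | succ n ih => exact smooth_tensor_hom k (dV k G n) (dV k G n)

lemma smooth_lV [Smooth G.hom] (n : ℕ) : Smooth (lV k G n).hom := by
  induction n with
  | zero => exact ‹Smooth G.hom›
  | succ n ih => exact smooth_tensor_hom k (lV k G n) G

lemma dvals_eq (T : Over (Spec (CommRingCat.of k))) (n : ℕ) :
    (dvals n : Set (T ⟶ G)) = {g | ∃ t : T ⟶ dV k G n, t ≫ dU k G n = g} := by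
  induction n with
  | zero =>
    ext g
    simp only [dvals, Set.mem_univ, Set.mem_ofPred_eq, true_iff]
    exact ⟨g, Category.comp_id g⟩
  | succ n ih =>
    ext g
    constructor
    · rintro ⟨a, ha, b, hb, rfl⟩
      rw [ih] at ha hb
      obtain ⟨ta, rfl⟩ := ha
      obtain ⟨tb, rfl⟩ := hb
      refine ⟨lift ta tb, ?_⟩
      change lift ta tb ≫ (⁅fst (dV k G n) (dV k G n) ≫ dU k G n,
        snd (dV k G n) (dV k G n) ≫ dU k G n⁆ : dV k G n ⊗ dV k G n ⟶ G) = _
      rw [comp_commutatorElement, lift_fst_assoc, lift_snd_assoc]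
    · rintro ⟨t₀, rfl⟩
      let t : T ⟶ dV k G n ⊗ dV k G n := t₀
      refine ⟨(t ≫ fst (dV k G n) (dV k G n)) ≫ dU k G n, ?_,
        (t ≫ snd (dV k G n) (dV k G n)) ≫ dU k G n, ?_, ?_⟩
      · rw [ih]; exact ⟨_, rfl⟩
      · rw [ih]; exact ⟨_, rfl⟩
      · change _ = t ≫ (⁅fst (dV k G n) (dV k G n) ≫ dU k G n,
          snd (dV k G n) (dV k G n) ≫ dU k G n⁆ : dV k G n ⊗ dV k G n ⟶ G)
        rw [comp_commutatorElement, Category.assoc, Category.assoc]

lemma lvals_eq (T : Over (Spec (CommRingCat.of k))) (n : ℕ) :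
    (lvals n : Set (T ⟶ G)) = {g | ∃ t : T ⟶ lV k G n, t ≫ lU k G n = g} := by
  induction n with
  | zero =>
    ext g
    simp only [lvals, Set.mem_univ, Set.mem_ofPred_eq, true_iff]
    exact ⟨g, Category.comp_id g⟩
  | succ n ih =>
    ext g
    constructor
    · rintro ⟨a, ha, b, rfl⟩
      rw [ih] at ha
      obtain ⟨ta, rfl⟩ := ha
      refine ⟨lift ta b, ?_⟩
      change lift ta b ≫ (⁅fst (lV k G n) G ≫ lU k G n, snd (lV k G n) G⁆ :
        lV k G n ⊗ G ⟶ G) = _
      rw [comp_commutatorElement, lift_fst_assoc, lift_snd]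
    · rintro ⟨t₀, rfl⟩
      let t : T ⟶ lV k G n ⊗ G := t₀
      refine ⟨(t ≫ fst (lV k G n) G) ≫ lU k G n, ?_, t ≫ snd (lV k G n) G, ?_⟩
      · rw [ih]; exact ⟨_, rfl⟩
      · change _ = t ≫ (⁅fst (lV k G n) G ≫ lU k G n, snd (lV k G n) G⁆ : lV k G n ⊗ G ⟶ G)
        rw [comp_commutatorElement, Category.assoc]

variable (K : Type u) [Field K] [Algebra k K] [IsSepClosed K]

/-- A morphism from a smooth `k`-scheme to a `k`-group scheme which is trivial on `K`-points is
trivial. -/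
lemma eq_one_of_points (W : Over (Spec (CommRingCat.of k))) [Smooth W.hom] (f : W ⟶ G)
    (h : ∀ ζ : specOver k K ⟶ W, ζ ≫ f = 1) : f = 1 := by
  obtain ⟨hD, hred⟩ := dense_ratPts_of_smooth k K W
  have hη : IsClosedImmersion η[G].left :=
    (separated_iff_unit _ G).1.mp (isSeparated_of_field k G)
  obtain ⟨u, hu⟩ := exists_fac_of_dense k K (f := f) (c := η[G]) hD (fun ζ => by
    refine ⟨toUnit _, ?_⟩
    rw [h ζ, Hom.one_def])
  rw [← hu, toUnit_unique u (toUnit _), ← Hom.one_def]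

theorem derivedSeries_eq_bot_of_points [Smooth G.hom] (n : ℕ)
    (h : derivedSeries (specOver k K ⟶ G) n = ⊥) (T : Over (Spec (CommRingCat.of k))) :
    derivedSeries (T ⟶ G) n = ⊥ := by
  have hsm := smooth_dV k G n
  have hU : dU k G n = 1 := by
    apply eq_one_of_points k G K
    intro ζ
    have h1 := (derivedSeries_eq_bot_iff n).mp h (ζ ≫ dU k G n)
    apply h1
    rw [dvals_eq]
    exact ⟨ζ, rfl⟩
  rw [derivedSeries_eq_bot_iff]
  intro g hg
  rw [dvals_eq] at hg
  obtain ⟨t, rfl⟩ := hg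
  rw [hU, MonObj.comp_one]

theorem lowerCentralSeries_eq_bot_of_points [Smooth G.hom] (n : ℕ)
    (h : Subgroup.lowerCentralSeries (⊤ : Subgroup (specOver k K ⟶ G)) n = ⊥)
    (T : Over (Spec (CommRingCat.of k))) :
    Subgroup.lowerCentralSeries (⊤ : Subgroup (T ⟶ G)) n = ⊥ := by
  have hsm := smooth_lV k G n
  have hU : lU k G n = 1 := by
    apply eq_one_of_points k G K
    intro ζ
    have h1 := (lowerCentralSeries_eq_bot_iff n).mp h (ζ ≫ lU k G n)
    apply h1
    rw [lvals_eq]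
    exact ⟨ζ, rfl⟩
  rw [lowerCentralSeries_eq_bot_iff]
  intro g hg
  rw [lvals_eq] at hg
  obtain ⟨t, rfl⟩ := hg
  rw [hU, MonObj.comp_one]

theorem S5366_aux [Smooth G.hom] (n : ℕ) :
    ((∀ T : Over (Spec (CommRingCat.of k)), derivedSeries (T ⟶ G) n = ⊥) ↔ derivedSeries ((Over.mk (Spec.map (CommRingCat.ofHom (algebraMap k K))) : Over (Spec (CommRingCat.of k))) ⟶ G) n = ⊥) ∧
    ((∀ T : Over (Spec (CommRingCat.of k)), Subgroup.lowerCentralSeries (⊤ : Subgroup (T ⟶ G)) n = ⊥) ↔ Subgroup.lowerCentralSeries (⊤ : Subgroup (((Over.mk (Spec.map (CommRingCat.ofHom (algebraMap k K))) : Over (Spec (CommRingCat.of k))) ⟶ G))) n = ⊥) :=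
  ⟨⟨fun h => h _, fun h T => derivedSeries_eq_bot_of_points k G K n h T⟩,
    ⟨fun h => h _, fun h T => lowerCentralSeries_eq_bot_of_points k G K n h T⟩⟩

end WordLawGeom

end Groth.Agent.H90
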