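import Mathlib

set_option autoImplicit false
universe u

open CategoryTheory CategoryTheory.Limits MonoidalCategory CartesianMonoidalCategory MonObj GrpObj
  AlgebraicGeometry

namespace Groth.Agent.H90.WordPts

section Cat
variable {C : Type*} [Category C] [CartesianMonoidalCategory C] {T T' X G : C} [GrpObj G]

/-- the word `f(x_1)^{±1} ⋯ f(x_n)^{±1}` -/
def word (f : X ⟶ G) {n : ℕ} (x : Fin n → (T ⟶ X)) (ε : Fin n → Bool) : T ⟶ G :=
  (List.ofFn fun j : Fin n => if ε j then x j ≫ f else (x j ≫ f)⁻¹).prod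

lemma comp_list_prod (c : T' ⟶ T) (l : List (T ⟶ G)) :
    c ≫ l.prod = (l.map (c ≫ ·)).prod := by
  induction l with
  | nil => simp [MonObj.comp_one]
  | cons a l ih => rw [List.prod_cons, MonObj.comp_mul, ih, List.map_cons, List.prod_cons]

lemma comp_word (c : T' ⟶ T) (f : X ⟶ G) {n : ℕ} (x : Fin n → (T ⟶ X)) (ε : Fin n → Bool) :
    c ≫ word f x ε = word f (fun j => c ≫ x j) ε := by
  rw [word, word, comp_list_prod, List.map_ofFn]
  congr 2
  funext j
  simp only [Function.comp]
  split_ifs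
  · rw [Category.assoc]
  · rw [GrpObj.comp_inv, Category.assoc]

end Cat

section Sch
variable {S : Scheme.{u}}

lemma exists_pow (X : Over S) [LocallyOfFiniteType X.hom] (n : ℕ) :
    ∃ (P : Over S) (_ : LocallyOfFiniteType P.hom) (pr : Fin n → (P ⟶ X)),
      ∀ (T : Over S) (x : Fin n → (T ⟶ X)), ∃ c : T ⟶ P, ∀ j, c ≫ pr j = x j := by
  induction n with
  | zero =>
    refine ⟨𝟙_ _, ?_, Fin.elim0, fun T x => ⟨toUnit T, fun j => j.elim0⟩⟩
    change LocallyOfFiniteType (𝟙 S)
    infer_instance
  | succ n ih =>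
    obtain ⟨P, hP, pr, hpr⟩ := ih
    refine ⟨X ⊗ P, ?_, Fin.cons (fst X P) (fun j => snd X P ≫ pr j), ?_⟩
    · rw [← CategoryTheory.Over.w (snd X P), Over.snd_left]
      infer_instance
    · intro T x
      obtain ⟨c, hc⟩ := hpr T (fun j => x j.succ)
      refine ⟨lift (x 0) c, ?_⟩
      intro j
      refine Fin.cases ?_ (fun i => ?_) j
      · rw [Fin.cons_zero, lift_fst]
      · rw [Fin.cons_succ, lift_snd_assoc, hc]

end Sch

section Field
variable {k : Type u} [Field k] [IsAlgClosed k]

/-- A nonempty scheme locally of finite type over an algebraically closed field has a rational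
point. -/
lemma exists_section_of_nonempty {Z : Scheme.{u}} (φ : Z ⟶ Spec (.of k)) [LocallyOfFiniteType φ]
    (z : Z) : ∃ s : Spec (.of k) ⟶ Z, s ≫ φ = 𝟙 _ := by
  have : JacobsonSpace Z := LocallyOfFiniteType.jacobsonSpace φ
  obtain ⟨v, -, hvc⟩ := nonempty_inter_closedPoints (X := Z) (Z := Set.univ) ⟨z, trivial⟩
    isOpen_univ.isLocallyClosed
  exact ⟨pointOfClosedPoint φ v hvc, pointOfClosedPoint_comp φ v hvc⟩

lemma exists_lift_point (Y G : Over (Spec (CommRingCat.of k))) [LocallyOfFiniteType Y.hom]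
    (w : Y ⟶ G) (g : 𝟙_ (Over (Spec (CommRingCat.of k))) ⟶ G) (q : Y.left)
    (p₀ : (𝟙_ (Over (Spec (CommRingCat.of k)))).left) (h : w.left q = g.left p₀) :
    ∃ t : 𝟙_ (Over (Spec (CommRingCat.of k))) ⟶ Y, t ≫ w = g := by
  have hwlft : LocallyOfFiniteType w.left := by
    have : LocallyOfFiniteType (w.left ≫ G.hom) := by rw [CategoryTheory.Over.w w]; infer_instance
    exact locallyOfFiniteType_of_comp w.left G.hom
  obtain ⟨z, -, -⟩ := Scheme.Pullback.exists_preimage_pullback (f := w.left) (g := g.left) q p₀ h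
  have hsnd : LocallyOfFiniteType (pullback.snd w.left g.left) := inferInstance
  let φ : pullback w.left g.left ⟶ Spec (CommRingCat.of k) := pullback.snd w.left g.left
  have hφ : LocallyOfFiniteType φ := hsnd
  obtain ⟨s, hs⟩ := exists_section_of_nonempty φ z
  have hg : g.left ≫ G.hom = 𝟙 _ := CategoryTheory.Over.w g
  refine ⟨Over.homMk (s ≫ pullback.fst w.left g.left) ?_, ?_⟩
  · change (s ≫ pullback.fst w.left g.left) ≫ Y.hom = 𝟙 _
    rw [← CategoryTheory.Over.w w, Category.assoc, ← Category.assoc (pullback.fst _ _),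
      pullback.condition, Category.assoc, hg, Category.comp_id]
    exact hs
  · ext
    change (s ≫ pullback.fst w.left g.left) ≫ w.left = g.left
    rw [Category.assoc, pullback.condition, ← Category.assoc]
    change (s ≫ φ) ≫ g.left = g.left
    rw [hs, Category.id_comp]

end Field

end Groth.Agent.H90.WordPts
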