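import Groth.Agent.H90.WordPts

set_option autoImplicit false
universe u

open CategoryTheory CategoryTheory.Limits MonoidalCategory CartesianMonoidalCategory MonObj GrpObj
  AlgebraicGeometry

namespace Groth.Agent.H90.WordPts

theorem S6075_aux (k : Type u) [Field k] [IsAlgClosed k]
    (G X : Over (Spec (CommRingCat.of k))) [GrpObj G]
    [LocallyOfFiniteType X.hom] (f : X ⟶ G) :
    {g : 𝟙_ (Over (Spec (CommRingCat.of k))) ⟶ G | ∃ (n : ℕ) (T : Over (Spec (CommRingCat.of k))) (p : T.left) (p₀ : (𝟙_ (Over (Spec (CommRingCat.of k)))).left)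
        (x : Fin n → (T ⟶ X)) (ε : Fin n → Bool), ((List.ofFn fun j : Fin n => if ε j then x j ≫ f else (x j ≫ f)⁻¹).prod : T ⟶ G).left.base p = g.left.base p₀} =
      ((Subgroup.closure {g : 𝟙_ (Over (Spec (CommRingCat.of k))) ⟶ G | ∃ p₀ : (𝟙_ (Over (Spec (CommRingCat.of k)))).left, g.left.base p₀ ∈ Set.range f.left.base} :
        Subgroup (𝟙_ (Over (Spec (CommRingCat.of k))) ⟶ G)) : Set (𝟙_ (Over (Spec (CommRingCat.of k))) ⟶ G)) := by
  ext g
  simp only [Set.mem_ofPred_eq, SetLike.mem_coe]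
  constructor
  · rintro ⟨n, T, p, p₀, x, ε, h⟩
    obtain ⟨P, hP, pr, hpr⟩ := exists_pow X n
    obtain ⟨c, hc⟩ := hpr T x
    have hcw : c ≫ word f pr ε = word f x ε := by
      rw [comp_word]
      congr 1
      funext j
      exact hc j
    have h' : (word f pr ε).left (c.left p) = g.left p₀ := by
      rw [← Scheme.Hom.comp_apply, ← Over.comp_left, hcw]
      exact h
    obtain ⟨t, ht⟩ := exists_lift_point P G (word f pr ε) g (c.left p) p₀ h'
    rw [← ht, comp_word]
    unfold word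
    apply Subgroup.list_prod_mem
    intro y hy
    rw [List.mem_ofFn] at hy
    obtain ⟨j, rfl⟩ := hy
    have hmem : ((t ≫ pr j) ≫ f) ∈ Subgroup.closure {g : 𝟙_ (Over (Spec (CommRingCat.of k))) ⟶ G |
        ∃ p₀ : (𝟙_ (Over (Spec (CommRingCat.of k)))).left,
          g.left.base p₀ ∈ Set.range f.left.base} :=
      Subgroup.subset_closure ⟨p₀, ⟨(t ≫ pr j).left p₀, rfl⟩⟩
    split_ifs
    · exact hmem
    · exact inv_mem hmem
  · intro hg
    rw [← Subgroup.mem_toSubmonoid, Subgroup.closure_toSubmonoid] at hg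
    obtain ⟨l, hl, rfl⟩ := Submonoid.exists_list_of_mem_closure hg
    have hex : ∀ j : Fin l.length, ∃ xe : (𝟙_ (Over (Spec (CommRingCat.of k))) ⟶ X) × Bool,
        (if xe.2 then xe.1 ≫ f else (xe.1 ≫ f)⁻¹) = l.get j := by
      intro j
      have := hl (l.get j) (List.get_mem l j)
      rcases this with ⟨p₀, q, hq⟩ | ⟨p₀, q, hq⟩
      · obtain ⟨t, ht⟩ := exists_lift_point X G f (l.get j) q p₀ hq
        exact ⟨(t, true), by simpa using ht⟩
      · obtain ⟨t, ht⟩ := exists_lift_point X G f (l.get j)⁻¹ q p₀ hq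
        exact ⟨(t, false), by simp [ht]⟩
    choose xe hxe using hex
    let p₀ : (𝟙_ (Over (Spec (CommRingCat.of k)))).left := IsLocalRing.closedPoint k
    refine ⟨l.length, 𝟙_ _, p₀, p₀, fun j => (xe j).1, fun j => (xe j).2, ?_⟩
    have : (List.ofFn fun j : Fin l.length =>
        if (xe j).2 then (xe j).1 ≫ f else ((xe j).1 ≫ f)⁻¹) = l := by
      simp_rw [hxe]
      exact List.ofFn_get l
    rw [this]

end Groth.Agent.H90.WordPts
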