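import Groth.Agent.H90.RatDense
import Groth.Agent.H90.GeomRedSubgroup
import Groth.Agent.H90.OrbitSmooth
import Groth.Agent.H22.RedImm

set_option autoImplicit false
universe u

open CategoryTheory CategoryTheory.Limits MonoidalCategory CartesianMonoidalCategory MonObj GrpObj
  AlgebraicGeometry

namespace Groth.Agent.H90.ZarClosure

variable (k : Type u) [Field k]

/-- A morphism from a reduced scheme landing (set-theoretically) in the image of a section of a
`k`-scheme is constant. -/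
lemma eq_const_of_range_subset {X : Scheme.{u}} (f : X ⟶ Spec (CommRingCat.of k))
    (σ : Spec (CommRingCat.of k) ⟶ X) (hσ : σ ≫ f = 𝟙 _)
    {W : Scheme.{u}} [IsReduced W] (ω : W ⟶ X) (h : Set.range ω ⊆ Set.range σ) :
    ω = (ω ≫ f) ≫ σ := by
  have h1 : IsImmersion (σ ≫ f) := by rw [hσ]; infer_instance
  have h2 : IsImmersion σ := IsImmersion.of_comp σ f
  obtain ⟨ω', hω'⟩ := Groth.Agent.H90.OrbitSmooth.exists_lift_of_isReduced_of_range_subset_of_isImmersion σ ω h
  rw [← hω']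
  simp only [Category.assoc]
  rw [reassoc_of% hσ]

/-- To check that a morphism from `Z × Z` lands in a closed set it suffices to check it on the
slices `{σ} × Z` for a dense set of rational points `σ`. -/
lemma range_subset_of_slices {Z Y : Over (Spec (CommRingCat.of k))} [UniversallyOpen Z.hom]
    (Φ : Z ⊗ Z ⟶ Y) (C : Set Y.left) (hC : IsClosed C)
    (Sg : Set (𝟙_ (Over (Spec (CommRingCat.of k))) ⟶ Z))
    (hd : Dense ((fun σ : 𝟙_ (Over (Spec (CommRingCat.of k))) ⟶ Z =>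
      σ.left (IsLocalRing.closedPoint k)) '' Sg))
    (hsl : ∀ σ ∈ Sg, Set.range (lift (toUnit Z ≫ σ) (𝟙 Z) ≫ Φ).left ⊆ C) :
    Set.range Φ.left ⊆ C := by
  by_contra hne
  have hO : IsOpen (Φ.left ⁻¹' Cᶜ) := hC.isOpen_compl.preimage Φ.left.continuous
  obtain ⟨o, ho⟩ : (Φ.left ⁻¹' Cᶜ).Nonempty := by
    rw [Set.not_subset] at hne
    obtain ⟨y, ⟨o, rfl⟩, hy⟩ := hne
    exact ⟨o, hy⟩
  have hfst_open : IsOpenMap (fst Z Z).left := by
    have : UniversallyOpen (fst Z Z).left := by rw [Over.fst_left]; infer_instance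
    exact (fst Z Z).left.isOpenMap
  have hO' : IsOpen ((fst Z Z).left '' (Φ.left ⁻¹' Cᶜ)) := hfst_open _ hO
  obtain ⟨x, hx, ⟨σ, hσ, rfl⟩⟩ := hd.inter_open_nonempty _ hO' ⟨_, ⟨o, ho, rfl⟩⟩
  obtain ⟨o', ho', ho'σ⟩ := hx
  apply ho'
  let ω := (Z ⊗ Z).left.fromSpecResidueField o'
  let T : Over (Spec (CommRingCat.of k)) := Over.mk (ω ≫ (Z ⊗ Z).hom)
  let ω' : T ⟶ Z ⊗ Z := Over.homMk ω rfl
  have hσw : σ.left ≫ Z.hom = 𝟙 _ := CategoryTheory.Over.w σ
  have h1 : ω' ≫ fst Z Z = toUnit T ≫ σ := by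
    apply Over.OverMorphism.ext
    have hr : Set.range (ω ≫ (fst Z Z).left) ⊆ Set.range σ.left := by
      rintro _ ⟨p, rfl⟩
      rw [Scheme.Hom.comp_apply, Scheme.fromSpecResidueField_apply, ho'σ]
      exact ⟨_, rfl⟩
    have h := eq_const_of_range_subset k Z.hom σ.left hσw (ω ≫ (fst Z Z).left) hr
    rw [Over.comp_left, Over.comp_left]
    change ω ≫ (fst Z Z).left = (toUnit T).left ≫ σ.left
    rw [h]
    congr 1
  have h2 : ω' = (ω' ≫ snd Z Z) ≫ lift (toUnit Z ≫ σ) (𝟙 Z) := by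
    apply CartesianMonoidalCategory.hom_ext
    · rw [Category.assoc, lift_fst, h1, ← Category.assoc]
      congr 1
      exact toUnit_unique _ _
    · rw [Category.assoc, lift_snd, Category.comp_id]
  have h3 : Φ.left o' = ((ω' ≫ snd Z Z) ≫ lift (toUnit Z ≫ σ) (𝟙 Z) ≫ Φ).left
      (IsLocalRing.closedPoint _) := by
    rw [← Category.assoc, ← h2, Over.comp_left, Scheme.Hom.comp_apply]
    change _ = Φ.left (ω _)
    rw [Scheme.fromSpecResidueField_apply]
  rw [h3, Over.comp_left, Scheme.Hom.comp_apply]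
  exact hsl σ hσ ⟨_, rfl⟩

end Groth.Agent.H90.ZarClosure
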