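import Groth.Agent.H90.ZarClosure

set_option autoImplicit false
universe u

open CategoryTheory CategoryTheory.Limits MonoidalCategory CartesianMonoidalCategory MonObj GrpObj
  AlgebraicGeometry

namespace Groth.Agent.H90.ZarClosure

open Groth.Agent.H90 Groth.Agent.H90.GeomRedSubgroup Groth.Agent.H90.SepClosedDense

theorem S15608_aux (k : Type u) [Field k]
    (G : Over (Spec (CommRingCat.of k))) [GrpObj G] [Smooth G.hom]
    (S : Subgroup (𝟙_ (Over (Spec (CommRingCat.of k))) ⟶ G)) :
    ∃ (H : Over (Spec (CommRingCat.of k))) (_ : GrpObj H) (i : H ⟶ G), IsMonHom i ∧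
      IsClosedImmersion i.left ∧ Smooth H.hom ∧
      Set.range i.left.base =
        closure ((fun s : (𝟙_ (Over (Spec (CommRingCat.of k))) ⟶ G) =>
          s.left.base (IsLocalRing.closedPoint k)) '' (S : Set _)) := by
  set pt : (𝟙_ (Over (Spec (CommRingCat.of k)))).left := IsLocalRing.closedPoint k with hpt
  set P : Set G.left := (fun s : (𝟙_ (Over (Spec (CommRingCat.of k))) ⟶ G) =>
          s.left.base (IsLocalRing.closedPoint k)) '' (S : Set _) with hP
  have hPmem : ∀ s ∈ S, s.left pt ∈ P := fun s hs => ⟨s, hs, rfl⟩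
  let T : TopologicalSpace.Closeds G.left := ⟨closure P, isClosed_closure⟩
  let I := Scheme.IdealSheafData.vanishingIdeal T
  have hred : IsReduced I.subscheme := Groth.Agent.H22.isReduced_subscheme_vanishingIdeal T
  let Z : Over (Spec (CommRingCat.of k)) := Over.mk (I.subschemeι ≫ G.hom)
  let z : Z ⟶ G := Over.homMk I.subschemeι rfl
  have hci : IsClosedImmersion z.left := inferInstanceAs (IsClosedImmersion I.subschemeι)
  have hZred : IsReduced Z.left := hred
  have hrange : Set.range z.left = closure P := by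
    change Set.range I.subschemeι = closure P
    rw [Scheme.IdealSheafData.range_subschemeι]
    rfl
  have hmono : Mono z := mono_of_isClosedImmersion_left k z
  have hZft : LocallyOfFiniteType Z.hom := by
    rw [← CategoryTheory.Over.w z]
    infer_instance
  -- lifting the points of `S`
  have hsub : ∀ p : (𝟙_ (Over (Spec (CommRingCat.of k)))).left, p = pt :=
    fun p => Subsingleton.elim (α := PrimeSpectrum k) _ _
  have hlift : ∀ s ∈ S, ∃ σ : 𝟙_ (Over (Spec (CommRingCat.of k))) ⟶ Z, σ ≫ z = s := by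
    intro s hs
    have hr : Set.range s.left ⊆ Set.range z.left := by
      rintro _ ⟨p, rfl⟩
      rw [hrange, hsub p]
      exact subset_closure (hPmem s hs)
    have : IsReduced (𝟙_ (Over (Spec (CommRingCat.of k)))).left :=
      inferInstanceAs (IsReduced (Spec (CommRingCat.of k)))
    obtain ⟨σ₀, hσ₀⟩ := exists_lift_of_isReduced_of_range_subset z.left s.left hr
    refine ⟨Over.homMk σ₀ ?_, Over.OverMorphism.ext hσ₀⟩
    rw [← CategoryTheory.Over.w z, ← Category.assoc, hσ₀]
    exact CategoryTheory.Over.w s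
  let Sg : Set (𝟙_ (Over (Spec (CommRingCat.of k))) ⟶ Z) := {σ | σ ≫ z ∈ S}
  have himage : z.left '' ((fun σ : 𝟙_ (Over (Spec (CommRingCat.of k))) ⟶ Z => σ.left pt) '' Sg)
      = P := by
    ext y
    constructor
    · rintro ⟨_, ⟨σ, hσ, rfl⟩, rfl⟩
      exact ⟨σ ≫ z, hσ, rfl⟩
    · rintro ⟨s, hs, rfl⟩
      obtain ⟨σ, hσ⟩ := hlift s hs
      refine ⟨σ.left pt, ⟨σ, ?_, rfl⟩, ?_⟩
      · change σ ≫ z ∈ S
        rw [hσ]; exact hs
      · change z.left (σ.left pt) = s.left pt
        rw [← Scheme.Hom.comp_apply, ← Over.comp_left, hσ]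
  have hdense : Dense ((fun σ : 𝟙_ (Over (Spec (CommRingCat.of k))) ⟶ Z => σ.left pt) '' Sg) := by
    rw [dense_iff_closure_eq,
      z.left.isClosedEmbedding.isInducing.closure_eq_preimage_closure_image, himage, ← hrange]
    exact Set.preimage_range _
  -- geometric reducedness
  have hgr : GeometricallyReduced Z.hom := by
    refine Groth.Agent.H90.RatDense.geometricallyReduced_of_dense_sections k Z.hom
      ((fun σ : 𝟙_ (Over (Spec (CommRingCat.of k))) ⟶ Z => σ.left) '' Sg) ?_ ?_
    · rintro _ ⟨σ, -, rfl⟩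
      exact CategoryTheory.Over.w σ
    · rw [Set.image_image]
      exact hdense
  have hZZgr : GeometricallyReduced (Z ⊗ Z).hom := geometricallyReduced_tensor k Z Z
  have hZZred : IsReduced (Z ⊗ Z).left :=
    (GeometricallyReduced.geometrically_isReduced (f := (Z ⊗ Z).hom))
      (𝟙 (Spec (CommRingCat.of k))) (𝟙 _) (Z ⊗ Z).hom (IsPullback.of_horiz_isIso ⟨by simp⟩)
  have hflat : Flat Z.hom := inferInstance
  have hlfp : LocallyOfFinitePresentation Z.hom := inferInstance
  have huo : UniversallyOpen Z.hom := inferInstance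
  -- stability of the closure under continuous maps preserving `P`
  have hstab : ∀ L : G ⟶ G, (∀ t ∈ S, t ≫ L ∈ S) →
      Set.range (z ≫ L).left ⊆ Set.range z.left := by
    intro L hL
    rw [Over.comp_left, Scheme.Hom.comp_base, TopCat.coe_comp, Set.range_comp, hrange]
    refine (image_closure_subset_closure_image L.left.continuous).trans (closure_mono ?_)
    rintro _ ⟨_, ⟨t, ht, rfl⟩, rfl⟩
    refine ⟨t ≫ L, hL t ht, ?_⟩
    change (t ≫ L).left pt = L.left (t.left pt)
    rw [Over.comp_left, Scheme.Hom.comp_apply]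
  -- multiplication
  obtain ⟨m, hm⟩ : ∃ m : Z ⊗ Z ⟶ Z, m ≫ z = (z ⊗ₘ z) ≫ μ[G] := by
    have hr : Set.range ((z ⊗ₘ z) ≫ μ[G]).left ⊆ Set.range z.left := by
      refine range_subset_of_slices k ((z ⊗ₘ z) ≫ μ[G]) _
        z.left.isClosedEmbedding.isClosed_range Sg hdense ?_
      intro σ hσ
      have e : lift (toUnit Z ≫ σ) (𝟙 Z) ≫ (z ⊗ₘ z) ≫ μ[G] =
          z ≫ (lift (toUnit G ≫ (σ ≫ z)) (𝟙 G) ≫ μ[G]) := by
        rw [← Category.assoc, ← Category.assoc]
        congr 1
        apply CartesianMonoidalCategory.hom_ext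
        · simp only [Category.assoc, tensorHom_fst, lift_fst_assoc, lift_fst]
          rw [← Category.assoc z]
          congr 1
        · simp
      rw [e]
      refine hstab _ ?_
      intro t ht
      have e2 : t ≫ lift (toUnit G ≫ σ ≫ z) (𝟙 G) ≫ μ[G] = (σ ≫ z) * t := by
        rw [Hom.mul_def, ← Category.assoc]
        congr 1
        apply CartesianMonoidalCategory.hom_ext
        · simp only [Category.assoc, lift_fst]
          rw [← Category.assoc t]
          have : t ≫ toUnit G = 𝟙 _ := toUnit_unique _ _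
          rw [this, Category.id_comp]
        · simp
      rw [e2]
      exact S.mul_mem hσ ht
    obtain ⟨m₀, hm₀⟩ := exists_lift_of_isReduced_of_range_subset z.left
      ((z ⊗ₘ z) ≫ μ[G]).left hr
    refine ⟨Over.homMk m₀ ?_, Over.OverMorphism.ext hm₀⟩
    rw [← CategoryTheory.Over.w z, ← Category.assoc, hm₀]
    exact CategoryTheory.Over.w _
  -- inverse
  obtain ⟨i, hi⟩ : ∃ i : Z ⟶ Z, i ≫ z = z ≫ ι[G] := by
    have hr : Set.range (z ≫ ι[G]).left ⊆ Set.range z.left := by
      refine hstab _ ?_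
      intro t ht
      have : t ≫ ι[G] = t⁻¹ := (Hom.inv_def t).symm
      rw [this]
      exact S.inv_mem ht
    obtain ⟨i₀, hi₀⟩ := exists_lift_of_isReduced_of_range_subset z.left (z ≫ ι[G]).left hr
    refine ⟨Over.homMk i₀ ?_, Over.OverMorphism.ext hi₀⟩
    rw [← CategoryTheory.Over.w z, ← Category.assoc, hi₀]
    exact CategoryTheory.Over.w _
  -- unit
  obtain ⟨e, he⟩ : ∃ e : 𝟙_ (Over (Spec (CommRingCat.of k))) ⟶ Z, e ≫ z = η[G] :=
    hlift η[G] S.one_mem
  let inst : GrpObj Z := grpObjOfMono' z e he m hm i hi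
  have hmon : IsMonHom z := ⟨he, hm⟩
  refine ⟨Z, inst, z, hmon, hci, ?_, hrange⟩
  have h2 : GrpObj (Over.mk Z.hom) := inst
  exact smooth_of_grpObj Z.hom

end Groth.Agent.H90.ZarClosure
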