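import Groth.Agent.H90.IsogFinFlat
import Groth.Agent.H90.OrbitSmooth
import Groth.Agent.H53.ReducedSm
import Mathlib.AlgebraicGeometry.Artinian

/-! A smooth connected group acts trivially on a reduced zero-dimensional scheme. -/

set_option autoImplicit false
universe u

open CategoryTheory CategoryTheory.Limits MonoidalCategory CartesianMonoidalCategory MonObj GrpObj
  AlgebraicGeometry TopologicalSpace

namespace Groth.Agent.H90.ZeroDimAct

open Groth.Agent.H40 Groth.Agent.H90

variable (k : Type u) [Field k]

theorem S14633_aux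
    (G Z : Over (Spec (CommRingCat.of k))) [GrpObj G] [Smooth G.hom]
    [ConnectedSpace ↥G.left]
    [LocallyOfFiniteType Z.hom] [IsReduced Z.left]
    (hdim : topologicalKrullDim ↥Z.left ≤ 0)
    (a : AlgGrp.Action G Z) : a.act = snd G Z := by
  have hZN : IsLocallyNoetherian Z.left := LocallyOfFiniteType.isLocallyNoetherian Z.hom
  have hZart : IsLocallyArtinian Z.left := .of_topologicalKrullDim_le_zero hdim
  have hZlqf : LocallyQuasiFinite Z.hom :=
    locallyQuasiFinite_iff_isDiscrete_preimage_singleton.mpr fun x =>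
      isDiscrete_iff_discreteTopology.mpr inferInstance
  have hfst : LocallyQuasiFinite (fst Z Z).left := by rw [Over.fst_left]; infer_instance
  have hZZlqf : LocallyQuasiFinite (Z ⊗ Z).hom := by
    rw [← CategoryTheory.Over.w (fst Z Z)]
    infer_instance
  have hkart : IsLocallyArtinian (Spec (CommRingCat.of k)) := inferInstance
  have hZZart : IsLocallyArtinian (Z ⊗ Z).left := .of_locallyQuasiFinite (Z ⊗ Z).hom
  have hZZdisc : DiscreteTopology (Z ⊗ Z).left := inferInstance
  -- the graph morphism and the unit section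
  let Φ : G ⊗ Z ⟶ Z ⊗ Z := lift a.act (snd G Z)
  let s : Z ⟶ G ⊗ Z := lift (toUnit Z ≫ η[G]) (𝟙 Z)
  let Δ : Z ⟶ Z ⊗ Z := lift (𝟙 Z) (𝟙 Z)
  have hsΦ : s ≫ Φ = Δ := by
    apply CartesianMonoidalCategory.hom_ext
    · rw [Category.assoc, lift_fst, lift_fst]
      have : (toUnit Z ≫ η[G] : Z ⟶ G) = 1 := (Hom.one_def).symm
      change lift (toUnit Z ≫ η[G]) (𝟙 Z) ≫ a.act = 𝟙 Z
      rw [this, ← psmul_def, one_psmul]
    · rw [Category.assoc, lift_snd, lift_snd, lift_snd]
  have hs_snd : s ≫ snd G Z = 𝟙 Z := lift_snd _ _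
  -- fibres of the projection are connected
  have hgc : GeometricallyConnected G.hom :=
    Groth.Agent.H38.GrpConnIrr.geometricallyConnected_of_connectedSpace k G
  have hgc' : GeometricallyConnected (snd G Z).left := by rw [Over.snd_left]; infer_instance
  have hrange : Set.range Φ.left ⊆ Set.range Δ.left := by
    rintro _ ⟨w, rfl⟩
    set z := (snd G Z).left w with hz
    have hconn := (snd G Z).left.isConnected_preimage_singleton z
    have hw : w ∈ (snd G Z).left ⁻¹' {z} := rfl
    have hsz : s.left z ∈ (snd G Z).left ⁻¹' {z} := by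
      change (s ≫ snd G Z).left z = z
      rw [hs_snd]
      rfl
    have himg : _root_.IsPreconnected (Φ.left '' ((snd G Z).left ⁻¹' {z})) :=
      hconn.isPreconnected.image _ Φ.left.continuous.continuousOn
    have hsub := himg.subsingleton
    have heq : Φ.left w = Φ.left (s.left z) := hsub ⟨w, hw, rfl⟩ ⟨s.left z, hsz, rfl⟩
    refine ⟨z, ?_⟩
    rw [heq]
    change Δ.left z = (s ≫ Φ).left z
    rw [hsΦ]
  -- the source is reduced
  have hsm : Smooth (snd G Z).left := by rw [Over.snd_left]; infer_instance
  have hWred : IsReduced (G ⊗ Z).left :=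
    Groth.Agent.H53.isReduced_of_smooth_scheme (snd G Z).left
  -- the diagonal is an immersion
  have hΔfst : Δ ≫ fst Z Z = 𝟙 Z := lift_fst _ _
  have hΔsnd : Δ ≫ snd Z Z = 𝟙 Z := lift_snd _ _
  have hΔimm : IsImmersion Δ.left := by
    have : IsImmersion (Δ.left ≫ (fst Z Z).left) := by
      rw [← Over.comp_left, hΔfst]
      change IsImmersion (𝟙 Z.left)
      infer_instance
    exact IsImmersion.of_comp Δ.left (fst Z Z).left
  obtain ⟨l, hl⟩ := OrbitSmooth.exists_lift_of_isReduced_of_range_subset_of_isImmersion Δ.left Φ.left hrange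
  have h1 : a.act.left = l := by
    have : a.act.left = Φ.left ≫ (fst Z Z).left := by
      rw [← Over.comp_left, lift_fst]
    rw [this, ← hl, Category.assoc, ← Over.comp_left, hΔfst]
    exact Category.comp_id _
  have h2 : (snd G Z).left = l := by
    have : (snd G Z).left = Φ.left ≫ (snd Z Z).left := by
      rw [← Over.comp_left, lift_snd]
    rw [this, ← hl, Category.assoc, ← Over.comp_left, hΔsnd]
    exact Category.comp_id _
  exact Over.OverMorphism.ext (h1.trans h2.symm)

end Groth.Agent.H90.ZeroDimAct
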